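import Groth.Agent.H22.RedSub
import Mathlib.AlgebraicGeometry.Morphisms.Immersion
import Mathlib.AlgebraicGeometry.PullbackCarrier

set_option autoImplicit false
universe u

namespace Groth.Agent.H22

open AlgebraicGeometry CategoryTheory TopologicalSpace

theorem ker_eq_vanishingIdeal_of_isReduced {Z X : Scheme.{u}} (i : Z ⟶ X) [IsClosedImmersion i]
    [IsReduced Z] :
    i.ker = Scheme.IdealSheafData.vanishingIdeal ⟨Set.range i, i.isClosedEmbedding.isClosed_range⟩ := by
  have : IsReduced i.ker.subscheme := by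
    have e : Z ≅ i.ker.subscheme := asIso i.toImage
    exact isReduced_of_isOpenImmersion e.inv
  have h1 := radical_eq_self_of_isReduced i.ker
  rw [← h1, ← Scheme.IdealSheafData.vanishingIdeal_support]
  congr 1
  apply TopologicalSpace.Closeds.ext
  rw [Scheme.Hom.support_ker]
  exact i.isClosedEmbedding.isClosed_range.closure_eq

theorem ker_eq_ker_of_range_eq {Z₁ Z₂ X : Scheme.{u}} (i₁ : Z₁ ⟶ X) (i₂ : Z₂ ⟶ X)
    [IsClosedImmersion i₁] [IsClosedImmersion i₂] [IsReduced Z₁] [IsReduced Z₂]
    (h : Set.range i₁ = Set.range i₂) : i₁.ker = i₂.ker := by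
  rw [ker_eq_vanishingIdeal_of_isReduced, ker_eq_vanishingIdeal_of_isReduced]
  congr 1
  exact TopologicalSpace.Closeds.ext h

theorem isReduced_subscheme_vanishingIdeal {X : Scheme.{u}} (T : Closeds X) :
    IsReduced (Scheme.IdealSheafData.vanishingIdeal T).subscheme := by
  rw [isReduced_subscheme_iff]
  intro U
  rw [Scheme.IdealSheafData.vanishingIdeal_ideal]
  exact PrimeSpectrum.isRadical_vanishingIdeal _

theorem exists_factor_of_isImmersion_of_isReduced {Z X : Scheme.{u}} (h : Z ⟶ X) [IsImmersion h]
    [IsReduced Z] :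
    ∃ (W : Scheme.{u}) (j : Z ⟶ W) (i : W ⟶ X), IsOpenImmersion j ∧ IsClosedImmersion i ∧
      IsReduced W ∧ Set.range i = closure (Set.range h) ∧ j ≫ i = h := by
  let T : Closeds X := ⟨closure (Set.range h), isClosed_closure⟩
  let I := Scheme.IdealSheafData.vanishingIdeal T
  have hW : IsReduced I.subscheme := isReduced_subscheme_vanishingIdeal T
  have hrange : Set.range I.subschemeι = closure (Set.range h) := by
    rw [Scheme.IdealSheafData.range_subschemeι]
    rfl
  -- lift `h` through the closed immersion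
  have H : I.subschemeι.ker ≤ h.ker := by
    rw [Scheme.IdealSheafData.ker_subschemeι]
    show I ≤ Scheme.IdealSheafData.ofIdeals _
    rw [Scheme.IdealSheafData.le_ofIdeals_iff]
    intro U s hs
    rw [RingHom.mem_ker, ← basicOpen_eq_bot_iff, ← Scheme.preimage_basicOpen, eq_bot_iff]
    intro x hx
    have hx' : h.base x ∈ X.basicOpen s := hx
    have hxU : h.base x ∈ U.1 := X.basicOpen_le s hx'
    have hs' : s ∈ PrimeSpectrum.vanishingIdeal (U.2.fromSpec ⁻¹' (T : Set X)) := by
      simpa [I, Scheme.IdealSheafData.vanishingIdeal_ideal] using hs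
    -- the point `h x` lies in `T ∩ U`
    obtain ⟨p, hp⟩ : ∃ p, U.2.fromSpec p = h.base x := by
      have : h.base x ∈ Set.range U.2.fromSpec := by rw [U.2.range_fromSpec]; exact hxU
      exact this
    have hpT : p ∈ U.2.fromSpec ⁻¹' (T : Set X) := by
      show U.2.fromSpec p ∈ closure (Set.range h)
      rw [hp]
      exact subset_closure ⟨x, rfl⟩
    have hsp : s ∈ p.asIdeal := (PrimeSpectrum.mem_vanishingIdeal _ _).mp hs' p hpT
    have : U.2.fromSpec p ∈ X.basicOpen s := hp ▸ hx'
    rw [← U.2.fromSpec_image_basicOpen] at this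
    obtain ⟨q, hq, hqp⟩ := this
    have hqp' : q = p := U.2.fromSpec.isOpenEmbedding.injective hqp
    subst hqp'
    exact (hq hsp).elim
  let j : Z ⟶ I.subscheme := IsClosedImmersion.lift I.subschemeι h H
  have hj : j ≫ I.subschemeι = h := IsClosedImmersion.lift_fac _ _ _
  refine ⟨I.subscheme, j, I.subschemeι, ?_, inferInstance, hW, hrange, hj⟩
  -- `j` is an open immersion
  let U := h.coborderRange
  let c := h.liftCoborder
  have hc : c ≫ U.ι = h := h.liftCoborder_ι
  let P := Limits.pullback I.subschemeι U.ι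
  have hP : IsReduced P := isReduced_of_isOpenImmersion (Limits.pullback.fst I.subschemeι U.ι)
  let ψ : Z ⟶ P := Limits.pullback.lift j c (by rw [hj, hc])
  have hψ : ψ ≫ Limits.pullback.snd I.subschemeι U.ι = c := Limits.pullback.lift_snd _ _ _
  have hrg : Set.range c = Set.range (Limits.pullback.snd I.subschemeι U.ι) := by
    rw [Scheme.Pullback.range_snd, hrange]
    have h0 : Set.range h = U.ι '' (Set.range c) := by
      have := congrArg (fun f : Z ⟶ X => Set.range f) hc.symm
      simpa [Set.range_comp] using this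
    have h1 : Set.range c = U.ι ⁻¹' (Set.range h) := by
      rw [h0, Set.preimage_image_eq _ U.ι.isOpenEmbedding.injective]
    have h2 : IsClosed (Set.range c) := c.isClosedEmbedding.isClosed_range
    rw [U.ι.isOpenEmbedding.isOpenMap.preimage_closure_eq_closure_preimage U.ι.continuous,
      ← h1, h2.closure_eq]
  have hker : c.ker = (Limits.pullback.snd I.subschemeι U.ι).ker := ker_eq_ker_of_range_eq _ _ hrg
  have : IsIso ψ := IsClosedImmersion.isIso_of_ker_eq c
    (Limits.pullback.snd I.subschemeι U.ι) ψ hψ hker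
  have hj' : j = ψ ≫ Limits.pullback.fst I.subschemeι U.ι :=
    (Limits.pullback.lift_fst _ _ _).symm
  rw [hj']
  infer_instance

end Groth.Agent.H22
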