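import Mathlib.RingTheory.Valuation.LocalSubring
import Mathlib.RingTheory.Valuation.Discrete.Basic
import Mathlib.RingTheory.DedekindDomain.AdicValuation
import Mathlib.RingTheory.Ideal.KrullsHeightTheorem
import Mathlib.RingTheory.KrullDimension.Basic
import Mathlib.RingTheory.FiniteType
import Mathlib.RingTheory.Polynomial.Ideal
import Groth.Agent.H9.KADedekind

/-!
# Discrete valuation rings dominating Noetherian local domains (helper22)

Stacks 00PH / EGA II 7.1.7: a Noetherian local domain `A` which is not a field is dominated by a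
discrete valuation ring of any finitely generated field extension `L` of its fraction field.
Uses helper9's Krull–Akizuki.
-/

set_option autoImplicit false

open IsDedekindDomain

namespace Groth.Agent.H22.DVRDom

/-- A height-one prime of a Noetherian domain `B` with fraction field `L` is the centre of a
discrete valuation ring of `L` containing `B`. -/
theorem exists_dvr_of_height_le_one {B : Type*} [CommRing B] [IsDomain B] [IsNoetherianRing B]
    {L : Type*} [Field L] [Algebra B L] [IsFractionRing B L]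
    (𝔭 : Ideal B) [𝔭.IsPrime] (h1 : 𝔭.height ≤ 1) (h0 : 𝔭 ≠ ⊥) :
    ∃ R : ValuationSubring L, IsDiscreteValuationRing R ∧ (∀ b : B, algebraMap B L b ∈ R) ∧
      ∀ b ∈ 𝔭, R.valuation (algebraMap B L b) < 1 := by
  let B' := Localization.AtPrime 𝔭
  have hunit : ∀ y : 𝔭.primeCompl, IsUnit (algebraMap B L y) := by
    intro y
    apply IsUnit.mk0
    rw [Ne, FaithfulSMul.algebraMap_eq_zero_iff]
    rintro h
    exact y.2 (h ▸ 𝔭.zero_mem)
  let φ : B' →+* L := IsLocalization.lift (M := 𝔭.primeCompl) (g := algebraMap B L) hunit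
  letI : Algebra B' L := φ.toAlgebra
  have : IsScalarTower B B' L :=
    IsScalarTower.of_algebraMap_eq (fun b => (IsLocalization.lift_eq hunit b).symm)
  have hfr : IsFractionRing B' L :=
    IsFractionRing.isFractionRing_of_isDomain_of_isLocalization 𝔭.primeCompl B' L
  have hN : IsNoetherianRing B' := IsLocalization.isNoetherianRing 𝔭.primeCompl B' inferInstance
  have hdim : Ring.KrullDimLE 1 B' := by
    rw [Ring.krullDimLE_iff, IsLocalization.AtPrime.ringKrullDim_eq_height 𝔭 B']
    exact_mod_cast h1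
  have hB'nf : ¬ IsField B' := by
    rw [IsLocalRing.isField_iff_maximalIdeal_eq]
    intro h
    obtain ⟨b, hb, hb0⟩ := Submodule.exists_mem_ne_zero_of_ne_bot h0
    have : algebraMap B B' b ∈ IsLocalRing.maximalIdeal B' := by
      rw [← Localization.AtPrime.map_eq_maximalIdeal]
      exact Ideal.mem_map_of_mem _ hb
    rw [h, Ideal.mem_bot, FaithfulSMul.algebraMap_eq_zero_iff] at this
    exact hb0 this
  let C := integralClosure B' L
  have hC : IsDedekindDomain C := Groth.Agent.H9.KA.isDedekindDomain_integralClosure B' L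
  have hCfr : IsFractionRing C L := Groth.Agent.H9.KA.isFractionRing_integralClosure B' L
  have hinjC : Function.Injective (algebraMap B' C) := by
    intro x y hxy
    apply IsFractionRing.injective B' L
    exact congrArg (fun z : C => (z : L)) hxy
  obtain ⟨𝔮, h𝔮max, h𝔮⟩ := Ideal.exists_ideal_over_maximal_of_isIntegral (S := C)
    (IsLocalRing.maximalIdeal B') (by
      rw [(RingHom.injective_iff_ker_eq_bot _).mp hinjC]; exact bot_le)
  have h𝔮ne : 𝔮 ≠ ⊥ := by
    rintro rfl
    apply hB'nf
    rw [IsLocalRing.isField_iff_maximalIdeal_eq, ← h𝔮, Ideal.comap_bot_of_injective _ hinjC]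
  let v : HeightOneSpectrum C := ⟨𝔮, h𝔮max.isPrime, h𝔮ne⟩
  let w := v.valuation L
  refine ⟨w.valuationSubring, inferInstance, ?_, ?_⟩
  · intro b
    have : algebraMap B L b = algebraMap C L (algebraMap B' C (algebraMap B B' b)) := by
      rw [IsScalarTower.algebraMap_apply B B' L]; rfl
    rw [this, Valuation.mem_valuationSubring_iff]
    exact v.valuation_le_one _
  · intro b hb
    have : algebraMap B L b = algebraMap C L (algebraMap B' C (algebraMap B B' b)) := by
      rw [IsScalarTower.algebraMap_apply B B' L]; rfl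
    rw [this, ← (Valuation.isEquiv_valuation_valuationSubring w).lt_one_iff_lt_one]
    rw [HeightOneSpectrum.valuation_lt_one_iff_mem]
    change algebraMap B' C (algebraMap B B' b) ∈ 𝔮
    rw [← Ideal.mem_comap, h𝔮, ← Localization.AtPrime.map_eq_maximalIdeal]
    exact Ideal.mem_map_of_mem _ hb

/-- **Stacks 00PH / EGA II 7.1.7.** A Noetherian local domain `A`, not a field, contained in a
field `L` generated (as a field) by `A` and finitely many elements, is dominated by a discrete
valuation ring of `L`. -/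
theorem exists_dvr_dominating {A : Type*} [CommRing A] [IsDomain A] [IsNoetherianRing A]
    [IsLocalRing A] (hA : ¬ IsField A) {L : Type*} [Field L] [Algebra A L] [FaithfulSMul A L]
    (s : Finset L) (hs : Subfield.closure (Set.range (algebraMap A L) ∪ s) = ⊤) :
    ∃ R : ValuationSubring L, IsDiscreteValuationRing R ∧ (∀ a : A, algebraMap A L a ∈ R) ∧
      ∀ a ∈ IsLocalRing.maximalIdeal A, R.valuation (algebraMap A L a) < 1 := by
  classical
  obtain ⟨V, hV⟩ := (LocalSubring.range (algebraMap A L)).exists_le_valuationSubring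
  obtain ⟨hle, hloc⟩ := LocalSubring.le_def.mp hV
  have hAV : ∀ a : A, algebraMap A L a ∈ V := fun a => hle ⟨a, rfl⟩
  have hmV : ∀ a ∈ IsLocalRing.maximalIdeal A, V.valuation (algebraMap A L a) < 1 := by
    intro a ha
    have h1 : ¬ IsUnit (⟨algebraMap A L a, hAV a⟩ : V) := by
      intro hu
      have h2 : IsUnit (⟨algebraMap A L a, ⟨a, rfl⟩⟩ :
          (LocalSubring.range (algebraMap A L)).toSubring) := hloc.map_nonunit _ hu
      obtain ⟨u, hu⟩ := h2
      obtain ⟨b, hb⟩ := (u⁻¹ : _ˣ).1.2
      have h3 : algebraMap A L (a * b) = algebraMap A L 1 := by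
        rw [map_mul, map_one, hb]
        have := congrArg Subtype.val (u.mul_inv)
        rw [hu] at this
        exact this
      have h4 : a * b = 1 := FaithfulSMul.algebraMap_injective A L h3
      exact (IsLocalRing.mem_maximalIdeal _).mp ha (IsUnit.of_mul_eq_one _ h4)
    exact (V.valuation_lt_one_iff ⟨_, hAV a⟩).mp ((IsLocalRing.mem_maximalIdeal _).mpr h1)
  obtain ⟨G, hG⟩ := (IsNoetherian.noetherian (IsLocalRing.maximalIdeal A))
  have hGne : ∃ g ∈ G, g ≠ 0 := by
    by_contra h
    push Not at h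
    apply hA
    rw [IsLocalRing.isField_iff_maximalIdeal_eq, ← hG, Submodule.span_eq_bot]
    exact h
  have hGnonempty : G.Nonempty := let ⟨g, hg, _⟩ := hGne; ⟨g, hg⟩
  obtain ⟨x, hxG, hxmax⟩ :=
    Finset.exists_max_image G (fun g => V.valuation (algebraMap A L g)) hGnonempty
  have hx0 : x ≠ 0 := by
    rintro rfl
    obtain ⟨g, hg, hg0⟩ := hGne
    have := hxmax g hg
    rw [map_zero, map_zero, le_zero_iff, map_eq_zero, FaithfulSMul.algebraMap_eq_zero_iff] at this
    exact hg0 this
  set xL := algebraMap A L x with hxL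
  have hxL0 : xL ≠ 0 := by
    rw [hxL, Ne, FaithfulSMul.algebraMap_eq_zero_iff]; exact hx0
  have hxm : x ∈ IsLocalRing.maximalIdeal A := by
    rw [← hG]; exact Submodule.subset_span hxG
  let T : Finset L := s.image (fun z => if z ∈ V then z else z⁻¹) ∪
    G.image (fun g => algebraMap A L g / xL)
  have hTV : ∀ t ∈ T, t ∈ V := by
    intro t ht
    rcases Finset.mem_union.mp ht with h | h
    · obtain ⟨z, -, rfl⟩ := Finset.mem_image.mp h
      split_ifs with hz
      · exact hz
      · exact (V.mem_or_inv_mem z).resolve_left hz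
    · obtain ⟨g, hg, rfl⟩ := Finset.mem_image.mp h
      rw [← V.valuation_le_one_iff, map_div₀]
      have hpos : 0 < V.valuation xL := by
        rw [pos_iff_ne_zero, Ne, map_eq_zero]; exact hxL0
      exact (div_le_one₀ hpos).mpr (hxmax g hg)
  let B := Algebra.adjoin A (T : Set L)
  have hBV : ∀ b ∈ B, b ∈ V := by
    intro b hb
    induction hb using Algebra.adjoin_induction with
    | mem t ht => exact hTV t ht
    | algebraMap a => exact hAV a
    | add _ _ _ _ h1 h2 => exact V.add_mem _ _ h1 h2
    | mul _ _ _ _ h1 h2 => exact V.mul_mem _ _ h1 h2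
  have hBN : IsNoetherianRing B := by
    have : Algebra.FiniteType A B :=
      (Subalgebra.fg_iff_finiteType _).mp (Subalgebra.fg_adjoin_finset T)
    exact Algebra.FiniteType.isNoetherianRing A B
  have hBfr : IsFractionRing B L := by
    apply IsFractionRing.of_field
    intro z
    have hz : z ∈ Subfield.closure (Set.range (algebraMap A L) ∪ ↑s) := hs ▸ Subfield.mem_top z
    have hsub : Subfield.closure (Set.range (algebraMap A L) ∪ ↑s) ≤
        Subfield.closure (B : Set L) := by
      rw [Subfield.closure_le]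
      rintro y (⟨a, rfl⟩ | hy)
      · exact Subfield.subset_closure (B.algebraMap_mem a)
      · by_cases hyV : y ∈ V
        · exact Subfield.subset_closure (Algebra.subset_adjoin
            (Finset.mem_union_left _ (Finset.mem_image.mpr ⟨y, hy, by simp [hyV]⟩)))
        · have h1 : y⁻¹ ∈ B := Algebra.subset_adjoin
            (Finset.mem_union_left _ (Finset.mem_image.mpr ⟨y, hy, by simp [hyV]⟩))
          have h2 := (Subfield.closure (B : Set L)).inv_mem (Subfield.subset_closure h1)
          simpa using h2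
    obtain ⟨y, hy, w, hw, rfl⟩ := Subfield.mem_closure_iff.mp (hsub hz)
    have hcl : Subring.closure (B : Set L) = B.toSubring := Subring.closure_eq B.toSubring
    rw [hcl] at hy hw
    exact ⟨⟨y, hy⟩, ⟨w, hw⟩, rfl⟩
  let xB : B := ⟨xL, B.algebraMap_mem x⟩
  have hxB0 : xB ≠ 0 := fun h => hxL0 (congrArg Subtype.val h)
  have hxBnu : ¬ IsUnit xB := by
    rintro ⟨u, hu⟩
    have h1 : ((u⁻¹ : Bˣ) : B).1 * xL = 1 := by
      have := congrArg Subtype.val (u.inv_mul)
      rw [hu] at this
      exact this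
    have h2 : xL⁻¹ ∈ V := by
      have : xL⁻¹ = ((u⁻¹ : Bˣ) : B).1 := (eq_inv_of_mul_eq_one_left h1).symm
      rw [this]
      exact hBV _ ((u⁻¹ : Bˣ) : B).2
    have h3 := (V.valuation_le_one_iff _).mpr h2
    rw [map_inv₀] at h3
    have h4 := hmV x hxm
    have hpos : 0 < V.valuation xL := by
      rw [pos_iff_ne_zero, Ne, map_eq_zero]; exact hxL0
    rw [inv_le_one₀ hpos] at h3
    exact absurd h4 (not_lt.mpr h3)
  have hspan_ne : Ideal.span {xB} ≠ ⊤ := by
    rwa [Ne, Ideal.span_singleton_eq_top]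
  obtain ⟨𝔭, h𝔭⟩ := Ideal.nonempty_minimalPrimes hspan_ne
  have h𝔭prime : 𝔭.IsPrime := h𝔭.1.1
  have hxp : xB ∈ 𝔭 := h𝔭.1.2 (Ideal.mem_span_singleton_self _)
  have hht : 𝔭.height ≤ 1 := Ideal.height_le_one_of_isPrincipal_of_mem_minimalPrimes _ 𝔭 h𝔭
  have hp0 : 𝔭 ≠ ⊥ := by
    rintro rfl
    exact hxB0 (by simpa using hxp)
  obtain ⟨R, hR, hBR, hpR⟩ := exists_dvr_of_height_le_one (L := L) 𝔭 hht hp0
  refine ⟨R, hR, fun a => hBR (algebraMap A B a), fun a ha => ?_⟩
  have hmp : IsLocalRing.maximalIdeal A ≤ 𝔭.comap (algebraMap A B) := by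
    rw [← hG, Ideal.span_le]
    intro g hg
    have hmem : algebraMap A L g / xL ∈ B := Algebra.subset_adjoin
      (Finset.mem_union_right _ (Finset.mem_image.mpr ⟨g, hg, rfl⟩))
    have hgx : (⟨algebraMap A L g / xL, hmem⟩ : B) * xB = algebraMap A B g :=
      Subtype.ext (div_mul_cancel₀ _ hxL0)
    change algebraMap A B g ∈ 𝔭
    rw [← hgx]
    exact 𝔭.mul_mem_left _ hxp
  exact hpR _ (hmp ha)

/-- Non-local version: a nonzero prime `𝔫` of a Noetherian domain `B` is the centre on `B` of a
discrete valuation ring of any field `L` generated by `B` and finitely many elements. -/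
theorem exists_dvr_of_prime' {B : Type*} [CommRing B] [IsDomain B] [IsNoetherianRing B]
    (𝔫 : Ideal B) [𝔫.IsPrime] (h0 : 𝔫 ≠ ⊥)
    {L : Type*} [Field L] [Algebra B L] [FaithfulSMul B L] (s : Finset L)
    (hs : Subfield.closure (Set.range (algebraMap B L) ∪ s) = ⊤) :
    ∃ R : ValuationSubring L, IsDiscreteValuationRing R ∧ (∀ b : B, algebraMap B L b ∈ R) ∧
      ∀ b : B, b ∈ 𝔫 ↔ R.valuation (algebraMap B L b) < 1 := by
  let B' := Localization.AtPrime 𝔫
  have hunit : ∀ y : 𝔫.primeCompl, IsUnit (algebraMap B L y) := by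
    intro y
    apply IsUnit.mk0
    rw [Ne, FaithfulSMul.algebraMap_eq_zero_iff]
    rintro h
    exact y.2 (h ▸ 𝔫.zero_mem)
  let φ : B' →+* L := IsLocalization.lift (M := 𝔫.primeCompl) (g := algebraMap B L) hunit
  letI : Algebra B' L := φ.toAlgebra
  have : IsScalarTower B B' L :=
    IsScalarTower.of_algebraMap_eq (fun b => (IsLocalization.lift_eq hunit b).symm)
  have hφinj : Function.Injective φ := by
    rw [IsLocalization.lift_injective_iff]
    intro x y
    rw [(FaithfulSMul.algebraMap_injective B L).eq_iff,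
      (IsLocalization.injective B' 𝔫.primeCompl_le_nonZeroDivisors).eq_iff]
  have : FaithfulSMul B' L := (faithfulSMul_iff_algebraMap_injective B' L).mpr hφinj
  have hN : IsNoetherianRing B' := IsLocalization.isNoetherianRing 𝔫.primeCompl B' inferInstance
  have hB'nf : ¬ IsField B' := by
    rw [IsLocalRing.isField_iff_maximalIdeal_eq]
    intro h
    obtain ⟨b, hb, hb0⟩ := Submodule.exists_mem_ne_zero_of_ne_bot h0
    have : algebraMap B B' b ∈ IsLocalRing.maximalIdeal B' := by
      rw [← Localization.AtPrime.map_eq_maximalIdeal]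
      exact Ideal.mem_map_of_mem _ hb
    rw [h, Ideal.mem_bot, FaithfulSMul.algebraMap_eq_zero_iff] at this
    exact hb0 this
  have hs' : Subfield.closure (Set.range (algebraMap B' L) ∪ s) = ⊤ := by
    rw [eq_top_iff, ← hs, Subfield.closure_le]
    rintro y (⟨b, rfl⟩ | hy)
    · refine Subfield.subset_closure (Or.inl ⟨algebraMap B B' b, ?_⟩)
      rw [← IsScalarTower.algebraMap_apply]
    · exact Subfield.subset_closure (Or.inr hy)
  obtain ⟨R, hR, hBR, hmR⟩ := exists_dvr_dominating (A := B') hB'nf s hs'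
  refine ⟨R, hR, fun b => ?_, fun b => ⟨fun hb => ?_, fun hb => ?_⟩⟩
  · rw [IsScalarTower.algebraMap_apply B B' L]
    exact hBR _
  · rw [IsScalarTower.algebraMap_apply B B' L]
    apply hmR
    rw [← Localization.AtPrime.map_eq_maximalIdeal]
    exact Ideal.mem_map_of_mem _ hb
  · by_contra hbn
    have hu : IsUnit (algebraMap B B' b) := IsLocalization.map_units B' (⟨b, hbn⟩ : 𝔫.primeCompl)
    obtain ⟨u, hu⟩ := hu
    have h1 : algebraMap B' L (algebraMap B B' b) * algebraMap B' L ((u⁻¹ : B'ˣ) : B') = 1 := by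
      rw [← map_mul, ← hu, Units.mul_inv, map_one]
    have h2 : R.valuation (algebraMap B' L ((u⁻¹ : B'ˣ) : B')) ≤ 1 :=
      (R.valuation_le_one_iff _).mpr (hBR _)
    have h3 := congrArg R.valuation h1
    rw [map_mul, map_one, ← IsScalarTower.algebraMap_apply B B' L] at h3
    have h4 : R.valuation (algebraMap B L b) *
        R.valuation (algebraMap B' L ((u⁻¹ : B'ˣ) : B')) < 1 := by
      calc _ ≤ R.valuation (algebraMap B L b) * 1 := mul_le_mul_right h2 _
        _ = R.valuation (algebraMap B L b) := mul_one _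
        _ < 1 := hb
    exact absurd h3 (ne_of_lt h4)

theorem exists_dvr_of_prime {B : Type*} [CommRing B] [IsDomain B] [IsNoetherianRing B]
    (𝔫 : Ideal B) [𝔫.IsPrime] (h0 : 𝔫 ≠ ⊥)
    {L : Type*} [Field L] [Algebra B L] [FaithfulSMul B L] (s : Finset L)
    (hs : Subfield.closure (Set.range (algebraMap B L) ∪ s) = ⊤) :
    ∃ R : ValuationSubring L, IsDiscreteValuationRing R ∧ (∀ b : B, algebraMap B L b ∈ R) ∧
      ∀ b ∈ 𝔫, R.valuation (algebraMap B L b) < 1 := by
  obtain ⟨R, hR, h1, h2⟩ := exists_dvr_of_prime' 𝔫 h0 s hs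
  exact ⟨R, hR, h1, fun b hb => (h2 b).mp hb⟩

/-- Elements integral over a subring contained in a valuation subring lie in it. -/
theorem mem_valuationSubring_of_isIntegral {A L : Type*} [CommRing A] [Field L] [Algebra A L]
    (R : ValuationSubring L) (hAR : ∀ a : A, algebraMap A L a ∈ R) {x : L} (hx : IsIntegral A x) :
    x ∈ R := by
  let ψ : A →+* R := (algebraMap A L).codRestrict R.toSubring hAR
  obtain ⟨p, hp, hp0⟩ := hx
  have hint : IsIntegral R x := by
    refine ⟨p.map ψ, hp.map ψ, ?_⟩
    rw [Polynomial.eval₂_map]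
    exact hp0
  obtain ⟨y, rfl⟩ := IsIntegrallyClosed.isIntegral_iff.mp hint
  exact y.2

/-- An element of `L` which is not integral over the Noetherian domain `A` is excluded by some
discrete valuation ring of `L` containing `A` (EGA II 7.1.8). -/
theorem exists_dvr_not_mem_of_not_isIntegral {A : Type*} [CommRing A] [IsDomain A]
    [IsNoetherianRing A] {L : Type*} [Field L] [Algebra A L] [FaithfulSMul A L] (s : Finset L)
    (hs : Subfield.closure (Set.range (algebraMap A L) ∪ s) = ⊤) {x : L}
    (hx : ¬ IsIntegral A x) :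
    ∃ R : ValuationSubring L, IsDiscreteValuationRing R ∧ (∀ a : A, algebraMap A L a ∈ R) ∧
      x ∉ R := by
  classical
  have hx0 : x ≠ 0 := by
    rintro rfl
    exact hx isIntegral_zero
  set y := x⁻¹ with hy
  have hy0 : y ≠ 0 := inv_ne_zero hx0
  letI := invertibleOfNonzero hy0
  let B := Algebra.adjoin A ({y} : Set L)
  let yB : B := ⟨y, Algebra.subset_adjoin rfl⟩
  have hspan : Ideal.span {yB} ≠ ⊤ := by
    intro h
    have h' : (⊥ : Ideal A).map (algebraMap A (Algebra.adjoin A ({y} : Set L))) ⊔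
        Ideal.span {⟨y, Algebra.subset_adjoin rfl⟩} = ⊤ := by
      rw [Ideal.map_bot, bot_sup_eq]
      exact h
    obtain ⟨p, hp, hpx⟩ :=
      Algebra.exists_aeval_invOf_eq_zero_of_idealMap_adjoin_sup_span_eq_top y (⊥ : Ideal A)
        bot_ne_top h'
    apply hx
    refine ⟨p, ?_, ?_⟩
    · rw [Ideal.mem_bot, sub_eq_zero] at hp
      exact hp
    · have : ⅟y = x := by
        rw [invOf_eq_inv, hy, inv_inv]
      rw [← this]
      exact hpx
  obtain ⟨𝔫, h𝔫max, h𝔫⟩ := Ideal.exists_le_maximal _ hspan
  have hy𝔫 : yB ∈ 𝔫 := h𝔫 (Ideal.mem_span_singleton_self _)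
  have h𝔫0 : 𝔫 ≠ ⊥ := by
    rintro rfl
    exact hy0 (congrArg Subtype.val (by simpa using hy𝔫 : yB = 0))
  have hBN : IsNoetherianRing B := by
    have : Algebra.FiniteType A B := by
      have := (Subalgebra.fg_iff_finiteType _).mp
        (Subalgebra.fg_adjoin_finset (R := A) ({y} : Finset L))
      rwa [Finset.coe_singleton] at this
    exact Algebra.FiniteType.isNoetherianRing A B
  have hs' : Subfield.closure (Set.range (algebraMap B L) ∪ s) = ⊤ := by
    rw [eq_top_iff, ← hs, Subfield.closure_le]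
    rintro z (⟨a, rfl⟩ | hz)
    · exact Subfield.subset_closure (Or.inl ⟨algebraMap A B a, rfl⟩)
    · exact Subfield.subset_closure (Or.inr hz)
  have : 𝔫.IsPrime := h𝔫max.isPrime
  obtain ⟨R, hR, hBR, hnR⟩ := exists_dvr_of_prime 𝔫 h𝔫0 s hs'
  refine ⟨R, hR, fun a => hBR (algebraMap A B a), fun hxR => ?_⟩
  have h1 : R.valuation y < 1 := hnR yB hy𝔫
  have h2 : R.valuation x ≤ 1 := (R.valuation_le_one_iff x).mpr hxR
  have h3 : R.valuation x * R.valuation y = 1 := by
    rw [← map_mul, hy, mul_inv_cancel₀ hx0, map_one]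
  have h4 : R.valuation x * R.valuation y < 1 := by
    calc R.valuation x * R.valuation y ≤ 1 * R.valuation y := mul_le_mul_left h2 _
      _ = R.valuation y := one_mul _
      _ < 1 := h1
  exact absurd h3 (ne_of_lt h4)

end Groth.Agent.H22.DVRDom
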