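import Mathlib.AlgebraicGeometry.FunctionField
import Mathlib.AlgebraicGeometry.Morphisms.Integral
import Mathlib.AlgebraicGeometry.Morphisms.IsIso
import Mathlib.RingTheory.IntegralClosure.IntegrallyClosed
import Mathlib.RingTheory.Ideal.GoingUp
import Mathlib.RingTheory.LocalProperties.IntegrallyClosed

set_option autoImplicit false
universe u
open CategoryTheory CategoryTheory.Limits AlgebraicGeometry

namespace Groth.Agent.H22.IntegralSection

/-- An integral extension `A → B` of domains with `A` integrally closed, which admits a retraction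
into the fraction field of `A`, is bijective. -/
theorem bijective_of_isIntegral_of_retract_fractionRing
    {A B K : Type*} [CommRing A] [IsDomain A] [IsIntegrallyClosed A] [CommRing B] [IsDomain B]
    [CommRing K] [Algebra A K] [IsFractionRing A K]
    (φ : A →+* B) (hφ : φ.IsIntegral) (ψ : B →+* K) (h : ψ.comp φ = algebraMap A K) :
    Function.Bijective φ := by
  have hinjA : Function.Injective (algebraMap A K) := IsFractionRing.injective A K
  have hφinj : Function.Injective φ := by
    intro a b hab
    apply hinjA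
    rw [← h]
    simp [hab]
  letI : Algebra A B := φ.toAlgebra
  have hint : Algebra.IsIntegral A B := ⟨hφ⟩
  have hker : RingHom.ker ψ = ⊥ := by
    apply Ideal.eq_bot_of_comap_eq_bot (R := A)
    rw [eq_bot_iff]
    intro a ha
    rw [Ideal.mem_comap, RingHom.mem_ker] at ha
    have : algebraMap A K a = 0 := by rw [← h]; exact ha
    rw [Ideal.mem_bot]
    exact hinjA (this.trans (map_zero _).symm)
  have hψinj : Function.Injective ψ := (RingHom.injective_iff_ker_eq_bot ψ).mpr hker
  refine ⟨hφinj, fun b => ?_⟩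
  have hb : IsIntegral A (ψ b) := by
    obtain ⟨p, hp, hpb⟩ := hφ b
    refine ⟨p, hp, ?_⟩
    rw [← h, ← Polynomial.hom_eval₂, hpb, map_zero]
  obtain ⟨a, ha⟩ := IsIntegrallyClosed.algebraMap_eq_of_integral hb
  refine ⟨a, hψinj ?_⟩
  rw [← ha, ← h]
  rfl


lemma isFractionRing_stalk_of_eq_genericPoint {X : Scheme.{u}} [IsIntegral X] (x : X)
    (hx : x = genericPoint X) (V : X.Opens) (hV : IsAffineOpen V) (hxV : x ∈ V) :
    @IsFractionRing Γ(X, V) _ (X.presheaf.stalk x) _ (X.presheaf.germ V x hxV).hom.toAlgebra := by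
  subst hx
  have : Nonempty V := ⟨⟨_, hxV⟩⟩
  exact functionField_isFractionRing_of_isAffineOpen X V hV

/-- Sections of an integral morphism over an affine open with integrally closed coordinate ring
are the same as the sections of the base, provided there is a rational section. -/
theorem isIso_app_of_section {X X' U' : Scheme.{u}} [IsIntegral X] [IsIntegral X'] (g : X' ⟶ X)
    [IsIntegralHom g] (s : U' ⟶ X') [IsOpenImmersion (s ≫ g)] (u : U')
    (hu : (s ≫ g).base u = genericPoint X)
    (V : X.Opens) (hV : IsAffineOpen V) (hVne : (V : Set X).Nonempty)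
    [IsIntegrallyClosed Γ(X, V)] : IsIso (g.app V) := by
  have hxV : (s ≫ g).base u ∈ V := by
    rw [hu]
    exact ((genericPoint_spec X).mem_open_set_iff V.isOpen).mpr (by simpa using hVne)
  have hy : s.base u ∈ g ⁻¹ᵁ V := hxV
  have hne : Nonempty V := ⟨⟨_, hxV⟩⟩
  have hne' : Nonempty (g ⁻¹ᵁ V) := ⟨⟨_, hy⟩⟩
  letI : Algebra Γ(X, V) (X.presheaf.stalk ((s ≫ g).base u)) :=
    (X.presheaf.germ V _ hxV).hom.toAlgebra
  have hfr : IsFractionRing Γ(X, V) (X.presheaf.stalk ((s ≫ g).base u)) :=
    isFractionRing_stalk_of_eq_genericPoint _ hu V hV hxV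
  let ψ : Γ(X', g ⁻¹ᵁ V) ⟶ X.presheaf.stalk ((s ≫ g).base u) :=
    X'.presheaf.germ (g ⁻¹ᵁ V) (s.base u) hy ≫ s.stalkMap u ≫ inv ((s ≫ g).stalkMap u)
  have hψ : g.app V ≫ ψ = X.presheaf.germ V _ hxV := by
    rw [← cancel_mono ((s ≫ g).stalkMap u)]
    simp only [ψ, Category.assoc, IsIso.inv_hom_id, Category.comp_id]
    have e1 := Scheme.Hom.germ_stalkMap s (g ⁻¹ᵁ V) u hy
    have e2 := Scheme.Hom.germ_stalkMap (s ≫ g) V u hxV
    rw [e1, e2, Scheme.Hom.comp_app]
    exact (Category.assoc _ _ _).symm
  have hbij := bijective_of_isIntegral_of_retract_fractionRing (g.app V).hom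
    (IsIntegralHom.isIntegral_app g V hV) ψ.hom (by
      rw [← CommRingCat.hom_comp, hψ]; rfl)
  exact (ConcreteCategory.isIso_iff_bijective _).mpr hbij


/-- On an integral scheme with integrally closed local rings, the coordinate ring of a nonempty
affine open is integrally closed. -/
theorem isIntegrallyClosed_of_stalk {X : Scheme.{u}} [IsIntegral X]
    (hX : ∀ x : X, IsIntegrallyClosed (X.presheaf.stalk x))
    (U : X.Opens) (hU : IsAffineOpen U) (hne : (U : Set X).Nonempty) :
    IsIntegrallyClosed Γ(X, U) := by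
  have : Nonempty U := ⟨⟨_, hne.some_mem⟩⟩
  have : IsDomain Γ(X, U) := inferInstance
  refine IsIntegrallyClosed.of_localization_maximal fun p hp hpm => ?_
  let y : PrimeSpectrum Γ(X, U) := ⟨p, hpm.isPrime⟩
  have hy : hU.fromSpec y ∈ U := by
    have : hU.fromSpec y ∈ Set.range hU.fromSpec := Set.mem_range_self y
    rwa [hU.range_fromSpec] at this
  let _ := TopCat.Presheaf.algebra_section_stalk X.presheaf ⟨hU.fromSpec y, hy⟩
  have hloc : IsLocalization p.primeCompl (X.presheaf.stalk (hU.fromSpec y)) :=
    hU.isLocalization_stalk' y hy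
  have hic : IsIntegrallyClosed (X.presheaf.stalk (hU.fromSpec y)) := hX _
  exact hic.of_equiv
    (IsLocalization.algEquiv p.primeCompl (X.presheaf.stalk (hU.fromSpec y))
      (Localization.AtPrime p)).toRingEquiv

/-- An integral morphism of integral schemes with normal target which has a rational section
is an isomorphism. -/
theorem isIso_of_isIntegralHom_of_section {X X' U' : Scheme.{u}} [IsIntegral X] [IsIntegral X']
    (hX : ∀ x : X, IsIntegrallyClosed (X.presheaf.stalk x))
    (g : X' ⟶ X) [IsIntegralHom g] (s : U' ⟶ X') [IsOpenImmersion (s ≫ g)] (u : U')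
    (hu : (s ≫ g).base u = genericPoint X) : IsIso g := by
  change MorphismProperty.isomorphisms Scheme g
  rw [HasAffineProperty.eq_targetAffineLocally (P := MorphismProperty.isomorphisms Scheme)]
  intro V
  refine ⟨IsAffineHom.isAffine_preimage _ V.2, ?_⟩
  by_cases hne : (V.1 : Set X).Nonempty
  · have hV' : IsAffineOpen (V.1.ι ''ᵁ ⊤) := by rw [Scheme.Opens.ι_image_top]; exact V.2
    have hne' : ((V.1.ι ''ᵁ ⊤ : X.Opens) : Set X).Nonempty := by
      rw [Scheme.Opens.ι_image_top]; exact hne
    have hic : IsIntegrallyClosed Γ(X, V.1.ι ''ᵁ ⊤) := isIntegrallyClosed_of_stalk hX _ hV' hne'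
    have : IsIso (g.app (V.1.ι ''ᵁ ⊤)) := isIso_app_of_section g s u hu _ hV' hne'
    rw [morphismRestrict_appTop]
    refine IsIso.comp_isIso' this ?_
    have : IsIso (eqToHom (image_morphismRestrict_preimage g V.1 ⊤)).op := inferInstance
    exact Functor.map_isIso _ _
  · have : IsEmpty V.1.toScheme := by
      rw [Set.not_nonempty_iff_eq_empty] at hne
      exact ⟨fun x => by
        have : x.1 ∈ (V.1 : Set X) := x.2
        rw [hne] at this; exact this⟩
    have : IsIso (g ∣_ V.1) := isIso_of_isEmpty _
    exact inferInstanceAs (IsIso ((g ∣_ V.1).app ⊤))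

end Groth.Agent.H22.IntegralSection
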