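import Mathlib
import Groth.Agent.S0503

/-!
# The finite part of a quasi-finite separated scheme over a henselian local ring
-/

set_option autoImplicit false
universe u
open CategoryTheory CategoryTheory.Limits AlgebraicGeometry IsLocalRing

namespace Groth.Agent.H22.FinitePart

theorem henselianLocalRing_of_isAdicComplete (A : Type*) [CommRing A] [IsLocalRing A]
    [IsAdicComplete (maximalIdeal A) A] : HenselianLocalRing A where
  is_henselian f hf a₀ h₁ h₂ :=
    HenselianRing.is_henselian (I := maximalIdeal A) f hf a₀ h₁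
      (h₂.map (Ideal.Quotient.mk (maximalIdeal A)))

lemma zeroLocus_one_sub_eq_basicOpen {S : Type*} [CommRing S] {e : S} (he : IsIdempotentElem e) :
    PrimeSpectrum.zeroLocus {1 - e} = (PrimeSpectrum.basicOpen e : Set (PrimeSpectrum S)) := by
  ext p
  simp only [PrimeSpectrum.mem_zeroLocus, Set.singleton_subset_iff, SetLike.mem_coe,
    PrimeSpectrum.mem_basicOpen]
  constructor
  · intro h1 h2
    have : (1 : S) ∈ p.asIdeal := by
      have := p.asIdeal.add_mem h1 h2
      simpa using this
    exact p.isPrime.ne_top ((Ideal.eq_top_iff_one _).mpr this)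
  · intro h
    have h0 : e * (1 - e) ∈ p.asIdeal := by
      have : e * (1 - e) = 0 := by rw [mul_sub, mul_one, he.eq, sub_self]
      rw [this]; exact p.asIdeal.zero_mem
    exact (p.isPrime.mem_or_mem h0).resolve_left h

/-- The finite part over an affine open. -/
theorem exists_finite_part_affine (A : Type u) [CommRing A] [HenselianLocalRing A]
    (X : Scheme.{u}) (f : X ⟶ Spec (CommRingCat.of A)) [LocallyOfFiniteType f]
    [LocallyQuasiFinite f] {U : X.Opens} (hU : IsAffineOpen U) :
    ∃ (Q : CommRingCat.{u}) (j : Spec Q ⟶ X), IsFinite (j ≫ f) ∧ IsOpen (Set.range j) ∧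
      ∀ x ∈ U, f.base x = closedPoint A → x ∈ Set.range j := by
  classical
  let S := Γ(X, U)
  let ψ : CommRingCat.of A ⟶ Γ(X, U) :=
    (Scheme.ΓSpecIso (CommRingCat.of A)).inv ≫ f.appLE ⊤ U le_top
  have hfs : hU.fromSpec ≫ f = Spec.map ψ := by
    rw [← IsAffineOpen.SpecMap_appLE_fromSpec f (isAffineOpen_top _) hU le_top,
      IsAffineOpen.fromSpec_top, Scheme.isoSpec_Spec_inv, ← Spec.map_comp]
  have hsurj : Function.Surjective (Scheme.ΓSpecIso (CommRingCat.of A)).inv.hom :=
    (ConcreteCategory.bijective_of_isIso (Scheme.ΓSpecIso (CommRingCat.of A)).inv).2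
  have hft : ψ.hom.FiniteType := by
    rw [CommRingCat.hom_comp]
    exact (f.finiteType_appLE (isAffineOpen_top _) hU le_top).comp
      (RingHom.FiniteType.of_surjective _ hsurj)
  have hqf : ψ.hom.QuasiFinite := by
    rw [CommRingCat.hom_comp]
    exact (LocallyQuasiFinite.quasiFinite_appLE (f := f) (isAffineOpen_top _) hU le_top).comp
      (RingHom.QuasiFinite.of_finite (RingHom.Finite.of_surjective _ hsurj))
  letI : Algebra A S := ψ.hom.toAlgebra
  haveI : Algebra.FiniteType A S := hft
  haveI : Algebra.QuasiFinite A S := hqf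
  obtain ⟨e, he, hfin, htop⟩ := Groth.Agent.S0503.result A S
  let q : Γ(X, U) ⟶ CommRingCat.of (S ⧸ Ideal.span ({1 - e} : Set S)) :=
    CommRingCat.ofHom (Ideal.Quotient.mk _)
  have hrange : Set.range (Spec.map q ≫ hU.fromSpec) =
      hU.fromSpec '' (PrimeSpectrum.basicOpen e : Set (PrimeSpectrum S)) := by
    rw [Scheme.Hom.comp_base, TopCat.coe_comp, Set.range_comp]
    congr 1
    change Set.range (PrimeSpectrum.comap (Ideal.Quotient.mk (Ideal.span ({1 - e} : Set S)))) = _
    rw [range_comap_of_surjective _ _ Ideal.Quotient.mk_surjective,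
      Ideal.mk_ker, PrimeSpectrum.zeroLocus_span, zeroLocus_one_sub_eq_basicOpen he]
  refine ⟨_, Spec.map q ≫ hU.fromSpec, ?_, ?_, ?_⟩
  · rw [Category.assoc, hfs, ← Spec.map_comp, IsFinite.SpecMap_iff]
    exact hfin
  · rw [hrange]
    exact hU.fromSpec.isOpenEmbedding.isOpenMap _ (PrimeSpectrum.basicOpen e).isOpen
  · intro x hxU hx
    let p := hU.primeIdealOf ⟨x, hxU⟩
    have hp : hU.fromSpec p = x := hU.fromSpec_primeIdealOf ⟨x, hxU⟩
    have hpm : ∀ m ∈ maximalIdeal A, ψ.hom m ∈ p.asIdeal := by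
      intro m hm
      have h1 : (hU.fromSpec ≫ f) p = closedPoint A := by
        rw [Scheme.Hom.comp_apply, hp]; exact hx
      rw [hfs] at h1
      have h2 : (Spec.map ψ p).asIdeal = maximalIdeal A := congrArg PrimeSpectrum.asIdeal h1
      have h3 : m ∈ (Spec.map ψ p).asIdeal := by rw [h2]; exact hm
      exact h3
    have hep : e ∉ p.asIdeal := by
      intro hep
      -- the prime `p/(e)` of `S/(e)` contains the image of the maximal ideal
      have hle : Ideal.span ({e} : Set S) ≤ p.asIdeal := by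
        rw [Ideal.span_le, Set.singleton_subset_iff]; exact hep
      let P : Ideal (S ⧸ Ideal.span ({e} : Set S)) :=
        p.asIdeal.map (Ideal.Quotient.mk (Ideal.span ({e} : Set S)))
      have hPne : P ≠ ⊤ := by
        intro hP
        have h1 : (1 : S ⧸ Ideal.span ({e} : Set S)) ∈ P := by rw [hP]; trivial
        rw [Ideal.mem_map_iff_of_surjective _ Ideal.Quotient.mk_surjective] at h1
        obtain ⟨s, hs, hs1⟩ := h1
        have h2 : s - 1 ∈ Ideal.span ({e} : Set S) := by
          rw [← Ideal.Quotient.eq_zero_iff_mem, map_sub, hs1, map_one, sub_self]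
        have h3 : (1 : S) ∈ p.asIdeal := by
          have := p.asIdeal.sub_mem hs (hle h2)
          simpa using this
        exact p.isPrime.ne_top ((Ideal.eq_top_iff_one _).mpr h3)
      apply hPne
      rw [eq_top_iff, ← htop, Ideal.map_le_iff_le_comap]
      intro m hm
      exact Ideal.mem_map_of_mem _ (hpm m hm)
    rw [hrange]
    exact ⟨p, hep, hp⟩

/-- A separated, locally quasi-finite morphism locally of finite type receiving a surjection from a
scheme finite over the base is finite. -/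
theorem isFinite_of_surjective {W' W Y : Scheme.{u}} (g : W' ⟶ W) (h : W ⟶ Y) [Surjective g]
    [IsFinite (g ≫ h)] [IsSeparated h] [LocallyOfFiniteType h] [LocallyQuasiFinite h] :
    IsFinite h := by
  have : UniversallyClosed h := .of_comp_surjective g h
  have : IsProper h := {}
  exact .of_isProper_of_locallyQuasiFinite h

theorem isFinite_sup {X Y : Scheme.{u}} (f : X ⟶ Y) [IsSeparated f] [LocallyOfFiniteType f]
    [LocallyQuasiFinite f] (V₁ V₂ : X.Opens) [IsFinite (V₁.ι ≫ f)] [IsFinite (V₂.ι ≫ f)] :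
    IsFinite ((V₁ ⊔ V₂).ι ≫ f) := by
  let g : (V₁ : Scheme) ⨿ (V₂ : Scheme) ⟶ ((V₁ ⊔ V₂ : X.Opens) : Scheme) :=
    coprod.desc (X.homOfLE le_sup_left) (X.homOfLE le_sup_right)
  have hg : g ≫ (V₁ ⊔ V₂).ι ≫ f = coprod.desc (V₁.ι ≫ f) (V₂.ι ≫ f) := by
    apply coprod.hom_ext <;> simp [g]
  have hs : Surjective g := by
    refine ⟨fun x => ?_⟩
    rcases x.2 with h | h
    · refine ⟨(coprod.inl : (V₁ : Scheme) ⟶ (V₁ : Scheme) ⨿ (V₂ : Scheme)) ⟨x.1, h⟩, ?_⟩
      rw [← Scheme.Hom.comp_apply, coprod.inl_desc]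
      exact Subtype.ext (by simp)
    · refine ⟨(coprod.inr : (V₂ : Scheme) ⟶ (V₁ : Scheme) ⨿ (V₂ : Scheme)) ⟨x.1, h⟩, ?_⟩
      rw [← Scheme.Hom.comp_apply, coprod.inr_desc]
      exact Subtype.ext (by simp)
  have : IsFinite (g ≫ (V₁ ⊔ V₂).ι ≫ f) := by rw [hg]; infer_instance
  exact isFinite_of_surjective g _

theorem isFinite_opensRange {X Y W : Scheme.{u}} (f : X ⟶ Y) [IsSeparated f]
    [LocallyOfFiniteType f] [LocallyQuasiFinite f] (j : W ⟶ X) [IsFinite (j ≫ f)] (V : X.Opens)
    (hV : (V : Set X) = Set.range j) : IsFinite (V.ι ≫ f) := by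
  let g : W ⟶ V := IsOpenImmersion.lift V.ι j (by rw [Scheme.Opens.range_ι, hV])
  have hg : g ≫ V.ι = j := IsOpenImmersion.lift_fac _ _ _
  have hs : Surjective g := by
    refine ⟨fun x => ?_⟩
    have hx : x.1 ∈ Set.range j := hV ▸ x.2
    obtain ⟨w, hw⟩ := hx
    refine ⟨w, Subtype.ext ?_⟩
    rw [← hw, ← hg, Scheme.Hom.comp_apply]
    rfl
  have : IsFinite (g ≫ V.ι ≫ f) := by rw [← Category.assoc, hg]; infer_instance
  exact isFinite_of_surjective g _

/-- **The finite part.** A separated, quasi-compact, locally quasi-finite morphism locally of finite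
type to the spectrum of a henselian local ring has an open and closed finite part containing the
closed fibre. -/
theorem exists_finite_part (A : Type u) [CommRing A] [HenselianLocalRing A]
    (X : Scheme.{u}) (f : X ⟶ Spec (CommRingCat.of A)) [LocallyOfFiniteType f] [QuasiCompact f]
    [IsSeparated f] [LocallyQuasiFinite f] :
    ∃ U : X.Opens, IsClosed (U : Set X) ∧ IsFinite (U.ι ≫ f) ∧
      ∀ x : X, f.base x = closedPoint A → x ∈ U := by
  have hc : CompactSpace X := (HasAffineProperty.iff_of_isAffine (P := @QuasiCompact)).mp ‹_›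
  obtain ⟨s, hs, hcov⟩ := (isCompact_and_isOpen_iff_finite_and_eq_biUnion_affineOpens (X := X)
    (U := Set.univ)).mp ⟨isCompact_univ, isOpen_univ⟩
  have key : ∀ t : Set X.affineOpens, t.Finite → ∃ V : X.Opens, IsFinite (V.ι ≫ f) ∧
      ∀ U ∈ t, ∀ x ∈ (U : X.Opens), f.base x = closedPoint A → x ∈ V := by
    intro t ht
    induction t, ht using Set.Finite.induction_on with
    | empty =>
      have h0 : IsEmpty ((⊥ : X.Opens) : Scheme) := ⟨fun x => x.2⟩
      have h1 : IsClosedImmersion ((⊥ : X.Opens).ι ≫ f) := inferInstance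
      exact ⟨⊥, inferInstance, by simp⟩
    | @insert U t _ _ ih =>
      obtain ⟨V, hV, hVt⟩ := ih
      obtain ⟨Q, j, hj, hjo, hjU⟩ := exists_finite_part_affine A X f U.2
      let W : X.Opens := ⟨Set.range j, hjo⟩
      have hW : IsFinite (W.ι ≫ f) := isFinite_opensRange f j W rfl
      refine ⟨V ⊔ W, isFinite_sup f V W, ?_⟩
      intro U' hU' x hx hfx
      rcases hU' with rfl | hU'
      · exact Or.inr (hjU x hx hfx)
      · exact Or.inl (hVt U' hU' x hx hfx)
  obtain ⟨V, hV, hVs⟩ := key s hs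
  refine ⟨V, ?_, hV, ?_⟩
  · have : IsFinite V.ι := .of_comp V.ι f
    have := V.ι.isClosedMap.isClosed_range
    rwa [Scheme.Opens.range_ι] at this
  · intro x hx
    have h1 : x ∈ ⋃ i ∈ s, ((i : X.Opens) : Set X) := hcov ▸ Set.mem_univ x
    simp only [Set.mem_iUnion] at h1
    obtain ⟨U, hU, hxU⟩ := h1
    exact hVs U hU x hxU hx

end Groth.Agent.H22.FinitePart
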