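import Mathlib.AlgebraicGeometry.Morphisms.FiniteType
import Mathlib.AlgebraicGeometry.Noetherian
import Mathlib.AlgebraicGeometry.ResidueField
import Mathlib.RingTheory.EssentialFiniteness
import Groth.Agent.H22.DVRDom

/-!
# Discrete valuation rings through specializations (helper22), EGA II 7.1.9
-/

set_option autoImplicit false
universe u
open CategoryTheory CategoryTheory.Limits AlgebraicGeometry

namespace Groth.Agent.H22.DVRSpec

/-- If `R → S` is essentially of finite type and `π : S → L` is a surjection onto a field, then `L`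
is generated as a field by the image of `R` and finitely many elements. -/
theorem exists_finset_closure_eq_top {R S L : Type*} [CommRing R] [CommRing S] [Field L]
    (f : R →+* S) (hf : f.EssFiniteType) (π : S →+* L) (hπ : Function.Surjective π) :
    ∃ s : Finset L, Subfield.closure (Set.range (π.comp f) ∪ s) = ⊤ := by
  classical
  algebraize [f]
  obtain ⟨σ, hσ⟩ := (Algebra.essFiniteType_iff R S).mp hf
  refine ⟨σ.image π, ?_⟩
  rw [eq_top_iff]
  intro l _
  have hadj : ∀ e ∈ Algebra.adjoin R (σ : Set S),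
      π e ∈ Subfield.closure (Set.range (π.comp f) ∪ ↑(σ.image π)) := by
    intro e he
    induction he using Algebra.adjoin_induction with
    | mem t ht =>
      exact Subfield.subset_closure (Or.inr (Finset.mem_coe.mpr (Finset.mem_image_of_mem π ht)))
    | algebraMap r => exact Subfield.subset_closure (Or.inl ⟨r, rfl⟩)
    | add _ _ _ _ h1 h2 => rw [map_add]; exact add_mem h1 h2
    | mul _ _ _ _ h1 h2 => rw [map_mul]; exact mul_mem h1 h2
  obtain ⟨t, rfl⟩ := hπ l
  obtain ⟨d, hd, hdu, hde⟩ := hσ t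
  have hd0 : π d ≠ 0 := (hdu.map π).ne_zero
  have : π t = π (t * d) / π d := by
    rw [map_mul, mul_div_assoc, div_self hd0, mul_one]
  rw [this]
  exact div_mem (hadj _ hde) (hadj _ hd)

/-- membership in the prime ideal of a point of an affine open. -/
lemma mem_primeIdealOf_iff {Y : Scheme.{u}} {V : Y.Opens} (hV : IsAffineOpen V) (z : V)
    (b : Γ(Y, V)) : b ∈ (hV.primeIdealOf z).asIdeal ↔ (z : Y) ∉ Y.basicOpen b := by
  have h1 : (z : Y) ∈ Y.basicOpen b ↔ hV.primeIdealOf z ∈ hV.fromSpec ⁻¹ᵁ Y.basicOpen b := by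
    change _ ↔ hV.fromSpec (hV.primeIdealOf z) ∈ Y.basicOpen b
    rw [hV.fromSpec_primeIdealOf]
  rw [h1, hV.fromSpec_preimage_basicOpen]
  change _ ↔ ¬ (b ∉ (hV.primeIdealOf z).asIdeal)
  rw [not_not]

set_option maxHeartbeats 400000 in
/-- **EGA II 7.1.9.** -/
theorem exists_dvr_through_specialization {X Y : Scheme.{u}} [IsLocallyNoetherian Y]
    (p : X ⟶ Y) [LocallyOfFiniteType p] (x : X) (y' : Y) (hsp : p.base x ⤳ y')
    (hne : y' ≠ p.base x) :
    ∃ (A : ValuationSubring (X.residueField x)) (h : Spec (CommRingCat.of A) ⟶ Y),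
      IsDiscreteValuationRing A ∧ h.base (IsLocalRing.closedPoint A) = y' ∧
      Spec.map (CommRingCat.ofHom A.subtype) ≫ h = X.fromSpecResidueField x ≫ p := by
  classical
  obtain ⟨V, hV, hy'V, -⟩ := exists_isAffineOpen_mem_and_subset (x := y') (U := ⊤) trivial
  have hyV : p.base x ∈ V := hsp.mem_open V.2 hy'V
  have hN : IsNoetherianRing Γ(Y, V) := IsLocallyNoetherian.component_noetherian ⟨V, hV⟩
  let ev : Γ(Y, V) ⟶ Y.residueField (p.base x) := Y.evaluation V (p.base x) hyV
  let ρ : Y.residueField (p.base x) ⟶ X.residueField x := p.residueFieldMap x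
  let ψ : Γ(Y, V) →+* X.residueField x := (ev ≫ ρ).hom
  have hψ0 : ∀ b : Γ(Y, V), ψ b = 0 ↔ p.base x ∉ Y.basicOpen b := by
    intro b
    change ρ.hom (ev.hom b) = 0 ↔ _
    rw [map_eq_zero]
    exact Y.evaluation_eq_zero_iff_notMem_basicOpen (p.base x) hyV b
  let 𝔮' : Ideal Γ(Y, V) := (hV.primeIdealOf ⟨y', hy'V⟩).asIdeal
  have hker𝔮' : RingHom.ker ψ ≤ 𝔮' := by
    intro b hb
    rw [RingHom.mem_ker, hψ0] at hb
    rw [mem_primeIdealOf_iff]
    exact fun h => hb (hsp.mem_open (Y.basicOpen b).2 h)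
  obtain ⟨b₀, hb₀𝔮', hb₀ψ⟩ : ∃ b₀ ∈ 𝔮', ψ b₀ ≠ 0 := by
    by_contra hcon
    push Not at hcon
    apply hne
    have h1 : hV.primeIdealOf ⟨y', hy'V⟩ = hV.primeIdealOf ⟨p.base x, hyV⟩ := by
      ext b
      rw [mem_primeIdealOf_iff, mem_primeIdealOf_iff]
      constructor
      · intro hb
        have := hcon b ((mem_primeIdealOf_iff hV ⟨y', hy'V⟩ b).mpr hb)
        exact (hψ0 b).mp this
      · intro hb h
        exact hb (hsp.mem_open (Y.basicOpen b).2 h)
    have h2 := congrArg (fun q => hV.fromSpec q) h1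
    simp only [hV.fromSpec_primeIdealOf] at h2
    exact h2
  -- the ring B = range ψ
  let B : Subring (X.residueField x) := ψ.range
  have hBN : IsNoetherianRing B :=
    isNoetherianRing_of_surjective Γ(Y, V) B ψ.rangeRestrict ψ.rangeRestrict_surjective
  let 𝔫 : Ideal B := 𝔮'.map ψ.rangeRestrict
  have hkerR : RingHom.ker ψ.rangeRestrict ≤ 𝔮' := by
    intro b hb
    apply hker𝔮'
    rw [RingHom.mem_ker] at hb ⊢
    exact congrArg Subtype.val hb
  have h𝔫prime : 𝔫.IsPrime := Ideal.map_isPrime_of_surjective ψ.rangeRestrict_surjective hkerR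
  have h𝔫comap : 𝔫.comap ψ.rangeRestrict = 𝔮' := by
    rw [Ideal.comap_map_of_surjective _ ψ.rangeRestrict_surjective, sup_eq_left]
    exact hkerR
  have h𝔫0 : 𝔫 ≠ ⊥ := by
    intro h
    have : ψ.rangeRestrict b₀ ∈ 𝔫 := Ideal.mem_map_of_mem _ hb₀𝔮'
    rw [h, Ideal.mem_bot] at this
    exact hb₀ψ (congrArg Subtype.val this)
  -- field generation
  obtain ⟨s, hs⟩ := exists_finset_closure_eq_top (p.stalkMap x).hom
    (LocallyOfFiniteType.stalkMap p x) (X.residue x).hom IsLocalRing.residue_surjective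
  have hs' : Subfield.closure (Set.range (algebraMap B (X.residueField x)) ∪ s) = ⊤ := by
    rw [eq_top_iff, ← hs, Subfield.closure_le]
    rintro l (⟨t, rfl⟩ | hl)
    · -- t in the stalk of Y at y
      letI := TopCat.Presheaf.algebra_section_stalk Y.presheaf (⟨p.base x, hyV⟩ : V)
      have hloc := hV.isLocalization_stalk ⟨p.base x, hyV⟩
      obtain ⟨a, d, rfl⟩ := IsLocalization.exists_mk'_eq
        (hV.primeIdealOf ⟨p.base x, hyV⟩).asIdeal.primeCompl t
      have hcomp : ∀ c : Γ(Y, V), ((X.residue x).hom.comp (p.stalkMap x).hom)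
          (algebraMap Γ(Y, V) (Y.presheaf.stalk (p.base x)) c) = ψ c := by
        intro c
        have := congr($(Scheme.residue_residueFieldMap p x) (Y.presheaf.germ V (p.base x) hyV c))
        exact this.symm
      have hd0 : ψ d.1 ≠ 0 := by
        rw [Ne, hψ0, not_not, ← not_not (a := p.base x ∈ Y.basicOpen d.1),
          ← mem_primeIdealOf_iff hV ⟨p.base x, hyV⟩]
        exact fun h => d.2 h
      have hmk : ((X.residue x).hom.comp (p.stalkMap x).hom) (IsLocalization.mk' _ a d) =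
          ψ a / ψ d.1 := by
        rw [eq_div_iff hd0, ← hcomp, ← hcomp, ← map_mul, IsLocalization.mk'_spec]
      rw [hmk]
      exact div_mem (Subfield.subset_closure (Or.inl ⟨⟨ψ a, a, rfl⟩, rfl⟩))
        (Subfield.subset_closure (Or.inl ⟨⟨ψ d.1, d.1, rfl⟩, rfl⟩))
    · exact Subfield.subset_closure (Or.inr hl)
  obtain ⟨R, hR, hBR, h𝔫R⟩ := DVRDom.exists_dvr_of_prime' 𝔫 h𝔫0 s hs'
  let g : Γ(Y, V) →+* R := ψ.codRestrict R.toSubring (fun b => hBR ⟨ψ b, b, rfl⟩)
  refine ⟨R, Spec.map (CommRingCat.ofHom g) ≫ hV.fromSpec, hR, ?_, ?_⟩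
  · -- closed point
    have h1 : (Spec.map (CommRingCat.ofHom g)).base (IsLocalRing.closedPoint R) =
        hV.primeIdealOf ⟨y', hy'V⟩ := by
      apply PrimeSpectrum.ext
      ext b
      change g b ∈ IsLocalRing.maximalIdeal R ↔ b ∈ 𝔮'
      rw [R.valuation_lt_one_iff, ← h𝔫comap, Ideal.mem_comap]
      exact (h𝔫R (ψ.rangeRestrict b)).symm
    rw [Scheme.Hom.comp_base, TopCat.comp_app, h1, hV.fromSpec_primeIdealOf]
  · have h2 : CommRingCat.ofHom g ≫ CommRingCat.ofHom R.subtype = ev ≫ ρ := by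
      ext b
      rfl
    rw [← Category.assoc, ← Spec.map_comp, h2, Spec.map_comp, Category.assoc]
    have h3 : Spec.map ev ≫ hV.fromSpec = Y.fromSpecResidueField (p.base x) := by
      change Spec.map (Y.presheaf.germ V (p.base x) hyV ≫ Y.residue _) ≫ hV.fromSpec = _
      rw [Spec.map_comp, Category.assoc]
      change _ ≫ hV.fromSpecStalk hyV = _
      rw [hV.fromSpecStalk_eq_fromSpecStalk]
      rfl
    rw [h3]
    exact Scheme.Hom.SpecMap_residueFieldMap_fromSpecResidueField p x

end Groth.Agent.H22.DVRSpec
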