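import Mathlib.AlgebraicGeometry.Modules.Tilde
import Mathlib.AlgebraicGeometry.Morphisms.QuasiSeparated

/-!
# Sections of quasi-coherent modules over `X_f` (helper22)

The first three lemmas are adapted from helper8's `H8/QCohStalk.lean`.

* `exists_pow_smul_eq_zero_of_isCompact`: `U` quasi-compact open, `s ∈ Γ(F, U)` with `s|_{U_f} = 0`
  ⇒ `f ^ n • s = 0`.
* `exists_pow_smul_eq_res_of_qcqs`: `U` qcqs open, `t ∈ Γ(F, U_f)` ⇒ `f ^ n • t` extends to `U`.
-/

set_option autoImplicit false
universe u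
open CategoryTheory CategoryTheory.Limits AlgebraicGeometry TopologicalSpace Opposite

namespace Groth.Agent.H22

set_option backward.isDefEq.respectTransparency false in
lemma appIso_inv_ΓSpecIso_inv {X : Scheme.{u}} {V : X.Opens} (hV : IsAffineOpen V) (r : Γ(X, V)) :
    (hV.fromSpec.appIso ⊤).inv ((Scheme.ΓSpecIso Γ(X, V)).inv r) =
      X.presheaf.map (eqToHom (by simp)).op r := by
  apply (ConcreteCategory.bijective_of_isIso (hV.fromSpec.appIso ⊤).hom).1
  rw [← ConcreteCategory.comp_apply, Iso.inv_hom_id, Scheme.Hom.appIso_hom]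
  simp only [CommRingCat.id_apply, CommRingCat.comp_apply]
  rw [← ConcreteCategory.comp_apply, ← ConcreteCategory.comp_apply]
  rw [hV.fromSpec.naturality_assoc, hV.fromSpec_app_self]
  simp only [Category.assoc, ← Functor.map_comp]
  have : ∀ (i : (op (⊤ : (Spec Γ(X, V)).Opens)) ⟶ op ⊤), (Spec Γ(X, V)).presheaf.map i = 𝟙 _ := by
    intro i
    rw [Subsingleton.elim i (𝟙 _), CategoryTheory.Functor.map_id]
  erw [this]
  simp

set_option backward.isDefEq.respectTransparency false in
lemma appIso_inv_res_ΓSpecIso_inv {X : Scheme.{u}} {V : X.Opens} (hV : IsAffineOpen V)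
    (W : (Spec Γ(X, V)).Opens) (r : Γ(X, V)) :
    (hV.fromSpec.appIso W).inv ((Spec Γ(X, V)).presheaf.map W.leTop.op
        ((Scheme.ΓSpecIso Γ(X, V)).inv r)) =
      X.presheaf.map (homOfLE (show hV.fromSpec ''ᵁ W ≤ V by
        conv_rhs => rw [← hV.opensRange_fromSpec]
        exact Scheme.Hom.image_le_opensRange _ _)).op r := by
  have h := hV.fromSpec.appIso_inv_naturality (W.leTop.op)
  have h2 := congr($h ((Scheme.ΓSpecIso Γ(X, V)).inv r))
  simp only [CommRingCat.comp_apply] at h2
  rw [h2, appIso_inv_ΓSpecIso_inv hV r, ← ConcreteCategory.comp_apply, ← Functor.map_comp]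
  rfl

open AlgebraicGeometry.Scheme.Modules in
/-- The localizing property of a quasi-coherent module on `Spec R`. -/
theorem isLocalizedModule_of_isQuasicoherent_Spec {R : CommRingCat.{u}} (G : (Spec R).Modules)
    [G.IsQuasicoherent] (f : R) :
    IsLocalizedModule (.powers f)
      ((modulesSpecToSheaf.obj G).obj.map (PrimeSpectrum.basicOpen f).leTop.op).hom :=
  (isIso_fromTildeΓ_iff_isLocalizing G).mp inferInstance f

set_option backward.isDefEq.respectTransparency false in
/-- Affine case, uniqueness (adapted from helper8). -/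
theorem exists_pow_smul_eq_zero_of_isAffineOpen {X : Scheme.{u}} (F : X.Modules)
    [F.IsQuasicoherent] {V : X.Opens} (hV : IsAffineOpen V) (g : Γ(X, V)) (s : Γ(F, V))
    (hs : F.presheaf.map (homOfLE (X.basicOpen_le g)).op s = 0) :
    ∃ n : ℕ, g ^ n • s = 0 := by
  let R : CommRingCat.{u} := Γ(X, V)
  let j : Spec R ⟶ X := hV.fromSpec
  let G : (Spec R).Modules := F.restrict j
  have hloc := isLocalizedModule_of_isQuasicoherent_Spec G g
  have e1 : j ''ᵁ ⊤ = V := by
    simp [j]
  have e2 : j ''ᵁ (PrimeSpectrum.basicOpen g) = X.basicOpen g := hV.fromSpec_image_basicOpen g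
  let s' : Γ(G, ⊤) := F.presheaf.map (eqToHom e1).op s
  have h0 : ((modulesSpecToSheaf.obj G).obj.map (PrimeSpectrum.basicOpen g).leTop.op).hom s' = 0 := by
    have h1 : ((modulesSpecToSheaf.obj G).obj.map (PrimeSpectrum.basicOpen g).leTop.op).hom s' =
        F.presheaf.map (eqToHom e2).op (F.presheaf.map (homOfLE (X.basicOpen_le g)).op s) := by
      change F.presheaf.map _ (F.presheaf.map _ s) = _
      rw [← ConcreteCategory.comp_apply, ← ConcreteCategory.comp_apply, ← Functor.map_comp,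
        ← Functor.map_comp]
      rfl
    rw [h1, hs, map_zero]
  obtain ⟨m, hm⟩ := (IsLocalizedModule.eq_zero_iff (.powers g) _).mp h0
  obtain ⟨m, n, rfl⟩ := m
  refine ⟨n, ?_⟩
  have hinj : Function.Injective (F.presheaf.map (eqToHom e1).op) :=
    (ConcreteCategory.bijective_of_isIso _).1
  apply hinj
  rw [map_zero]
  have h2 := Scheme.Modules.map_smul F (eqToHom e1) (g ^ n) s
  rw [h2]
  have h3 : ((fun x => g ^ x) n) = g ^ n := rfl
  rw [← appIso_inv_ΓSpecIso_inv hV (g ^ n)]
  exact hm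

set_option backward.isDefEq.respectTransparency false in
/-- Affine case, existence. -/
theorem exists_pow_smul_eq_res_of_isAffineOpen {X : Scheme.{u}} (F : X.Modules)
    [F.IsQuasicoherent] {V : X.Opens} (hV : IsAffineOpen V) (g : Γ(X, V))
    (t : Γ(F, X.basicOpen g)) :
    ∃ (n : ℕ) (s : Γ(F, V)), F.presheaf.map (homOfLE (X.basicOpen_le g)).op s =
      (X.presheaf.map (homOfLE (X.basicOpen_le g)).op g) ^ n • t := by
  let R : CommRingCat.{u} := Γ(X, V)
  let j : Spec R ⟶ X := hV.fromSpec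
  let G : (Spec R).Modules := F.restrict j
  have hloc := isLocalizedModule_of_isQuasicoherent_Spec G g
  have e1 : j ''ᵁ ⊤ = V := by
    simp [j]
  have e2 : j ''ᵁ (PrimeSpectrum.basicOpen g) = X.basicOpen g := hV.fromSpec_image_basicOpen g
  let t' : Γ(G, PrimeSpectrum.basicOpen g) := F.presheaf.map (eqToHom e2).op t
  obtain ⟨⟨x, ⟨_, n, rfl⟩⟩, hx⟩ := hloc.surj t'
  refine ⟨n, F.presheaf.map (eqToHom e1.symm).op x, ?_⟩
  have hinj : Function.Injective (F.presheaf.map (eqToHom e2).op) :=
    (ConcreteCategory.bijective_of_isIso _).1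
  apply hinj
  have h2 := Scheme.Modules.map_smul F (eqToHom e2)
    ((X.presheaf.map (homOfLE (X.basicOpen_le g)).op g) ^ n) t
  rw [h2]
  have hx' : ((modulesSpecToSheaf.obj G).obj.map (PrimeSpectrum.basicOpen g).leTop.op).hom x =
      F.presheaf.map (eqToHom e2).op (F.presheaf.map (homOfLE (X.basicOpen_le g)).op
        (F.presheaf.map (eqToHom e1.symm).op x)) := by
    change F.presheaf.map _ x = _
    rw [← ConcreteCategory.comp_apply, ← ConcreteCategory.comp_apply, ← Functor.map_comp,
      ← Functor.map_comp]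
    rfl
  rw [← hx', ← hx]
  have h4 := appIso_inv_res_ΓSpecIso_inv hV (PrimeSpectrum.basicOpen g) (g ^ n)
  change (show Γ(F, j ''ᵁ PrimeSpectrum.basicOpen g) from
    ((hV.fromSpec.appIso (PrimeSpectrum.basicOpen g)).inv
    ((Spec Γ(X, V)).presheaf.map (PrimeSpectrum.basicOpen g).leTop.op
      ((Scheme.ΓSpecIso Γ(X, V)).inv (g ^ n)))) •
      (show Γ(F, j ''ᵁ PrimeSpectrum.basicOpen g) from t')) = _
  rw [h4]
  rw [← map_pow, ← ConcreteCategory.comp_apply, ← Functor.map_comp]
  rfl

/-- Quasi-compact case, uniqueness: a section of a quasi-coherent module over a quasi-compact open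
`U` vanishing on `U_f` is killed by a power of `f`. -/
theorem exists_pow_smul_eq_zero_of_isCompact {X : Scheme.{u}} (F : X.Modules)
    [F.IsQuasicoherent] {U : X.Opens} (hU : IsCompact (U : Set X)) (f : Γ(X, U)) (s : Γ(F, U))
    (hs : F.presheaf.map (homOfLE (X.basicOpen_le f)).op s = 0) :
    ∃ n : ℕ, f ^ n • s = 0 := by
  obtain ⟨S, hS, e⟩ := isCompact_and_isOpen_iff_finite_and_eq_biUnion_affineOpens.mp ⟨hU, U.2⟩
  replace e : U = iSup fun i : S => (i : X.Opens) := by
    ext1; simpa using e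
  have h₁ (i : S) : i.1.1 ≤ U := by
    rw [e]
    exact le_iSup (fun (i : S) => (i : X.Opens)) _
  have H' : ∀ i : S, ∃ n : ℕ, (X.presheaf.map (homOfLE (h₁ i)).op f) ^ n •
      F.presheaf.map (homOfLE (h₁ i)).op s = 0 := by
    intro i
    apply exists_pow_smul_eq_zero_of_isAffineOpen F i.1.2
    have hle : X.basicOpen (X.presheaf.map (homOfLE (h₁ i)).op f) ≤ X.basicOpen f := by
      rw [Scheme.basicOpen_res]; exact inf_le_right
    have : F.presheaf.map (homOfLE (X.basicOpen_le (X.presheaf.map (homOfLE (h₁ i)).op f))).op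
        (F.presheaf.map (homOfLE (h₁ i)).op s) =
        F.presheaf.map (homOfLE hle).op (F.presheaf.map (homOfLE (X.basicOpen_le f)).op s) := by
      rw [← ConcreteCategory.comp_apply, ← ConcreteCategory.comp_apply, ← Functor.map_comp,
        ← Functor.map_comp]
      rfl
    rw [this, hs, map_zero]
  choose n hn using H'
  have := hS.to_subtype
  cases nonempty_fintype S
  refine ⟨Finset.univ.sup n, ?_⟩
  apply TopCat.Sheaf.eq_of_locally_eq' ⟨_, F.isSheaf⟩ (fun i : S => (i : X.Opens)) U
    (fun i => homOfLE (h₁ i)) (le_of_eq e)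
  intro i
  change F.presheaf.map (homOfLE (h₁ i)).op (f ^ Finset.univ.sup n • s) =
    F.presheaf.map (homOfLE (h₁ i)).op 0
  rw [map_zero, Scheme.Modules.map_smul, map_pow,
    ← tsub_add_cancel_of_le (Finset.le_sup (f := n) (Finset.mem_univ i)), pow_add, mul_smul, hn i,
    smul_zero]

lemma map_map_apply {X : Scheme.{u}} (F : X.Modules) {U V W : X.Opens} (h1 : V ≤ U) (h2 : W ≤ V)
    (x : Γ(F, U)) :
    F.presheaf.map (homOfLE h2).op (F.presheaf.map (homOfLE h1).op x) =
      F.presheaf.map (homOfLE (h2.trans h1)).op x := by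
  rw [← ConcreteCategory.comp_apply, ← Functor.map_comp]; rfl

lemma pmap_map_apply {X : Scheme.{u}} {U V W : X.Opens} (h1 : V ≤ U) (h2 : W ≤ V)
    (x : Γ(X, U)) :
    X.presheaf.map (homOfLE h2).op (X.presheaf.map (homOfLE h1).op x) =
      X.presheaf.map (homOfLE (h2.trans h1)).op x := by
  rw [← ConcreteCategory.comp_apply, ← Functor.map_comp]; rfl

/-- qcqs case, existence: for `U` a quasi-compact quasi-separated open and `t ∈ Γ(F, U_f)`, some
`f ^ n • t` extends to `U`. -/
theorem exists_pow_smul_eq_res_of_qcqs {X : Scheme.{u}} (F : X.Modules)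
    [F.IsQuasicoherent] {U : X.Opens} (hU : IsCompact (U : Set X))
    (hU' : IsQuasiSeparated (U : Set X)) (f : Γ(X, U)) (t : Γ(F, X.basicOpen f)) :
    ∃ (n : ℕ) (s : Γ(F, U)), F.presheaf.map (homOfLE (X.basicOpen_le f)).op s =
      (X.presheaf.map (homOfLE (X.basicOpen_le f)).op f) ^ n • t := by
  obtain ⟨S, hS, e⟩ := isCompact_and_isOpen_iff_finite_and_eq_biUnion_affineOpens.mp ⟨hU, U.2⟩
  replace e : U = iSup fun i : S => (i : X.Opens) := by
    ext1; simpa using e
  have h₁ (i : S) : i.1.1 ≤ U := by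
    rw [e]
    exact le_iSup (fun (i : S) => (i : X.Opens)) _
  have := hS.to_subtype
  cases nonempty_fintype S
  let fi (i : S) : Γ(X, i.1.1) := X.presheaf.map (homOfLE (h₁ i)).op f
  have hfi (i : S) : X.basicOpen (fi i) = i.1.1 ⊓ X.basicOpen f := Scheme.basicOpen_res _ _ _
  have hle (i : S) : X.basicOpen (fi i) ≤ X.basicOpen f := by
    rw [hfi]; exact inf_le_right
  -- Step 1: local extensions
  have H1 : ∀ i : S, ∃ (n : ℕ) (si : Γ(F, i.1.1)),
      F.presheaf.map (homOfLE (X.basicOpen_le (fi i))).op si =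
        (X.presheaf.map (homOfLE (X.basicOpen_le (fi i))).op (fi i)) ^ n •
          F.presheaf.map (homOfLE (hle i)).op t :=
    fun i => exists_pow_smul_eq_res_of_isAffineOpen F i.1.2 (fi i) _
  choose n s hs using H1
  let N := Finset.univ.sup n
  let s' (i : S) : Γ(F, i.1.1) := (fi i) ^ (N - n i) • s i
  have hs' (i : S) : F.presheaf.map (homOfLE (X.basicOpen_le (fi i))).op (s' i) =
        (X.presheaf.map (homOfLE (X.basicOpen_le (fi i))).op (fi i)) ^ N •
          F.presheaf.map (homOfLE (hle i)).op t := by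
    simp only [s']
    rw [Scheme.Modules.map_smul, map_pow, hs i, ← mul_smul, ← pow_add,
      tsub_add_cancel_of_le (Finset.le_sup (f := n) (Finset.mem_univ i))]
  have claim (i : S) (W : X.Opens) (hWi : W ≤ i.1.1) (hWf : W ≤ X.basicOpen f) :
      F.presheaf.map (homOfLE hWi).op (s' i) =
        (X.presheaf.map (homOfLE (hWf.trans (X.basicOpen_le f))).op f) ^ N •
          F.presheaf.map (homOfLE hWf).op t := by
    have hW : W ≤ X.basicOpen (fi i) := by
      rw [hfi]; exact le_inf hWi hWf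
    rw [← map_map_apply F (X.basicOpen_le (fi i)) hW, hs' i, Scheme.Modules.map_smul, map_pow,
      map_map_apply, pmap_map_apply, pmap_map_apply]
  -- Step 2: overlaps
  have hc (i j : S) : IsCompact ((i.1.1 ⊓ j.1.1 : X.Opens) : Set X) :=
    hU' _ _ (h₁ i) i.1.1.2 i.1.2.isCompact (h₁ j) j.1.1.2 j.1.2.isCompact
  let fij (i j : S) : Γ(X, i.1.1 ⊓ j.1.1) :=
    X.presheaf.map (homOfLE (inf_le_left.trans (h₁ i))).op f
  have hfij (i j : S) : X.basicOpen (fij i j) = (i.1.1 ⊓ j.1.1) ⊓ X.basicOpen f :=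
    Scheme.basicOpen_res _ _ _
  have H2 : ∀ i j : S, ∃ m : ℕ, (fij i j) ^ m •
      (F.presheaf.map (homOfLE inf_le_left).op (s' i) -
        F.presheaf.map (homOfLE inf_le_right).op (s' j)) = 0 := by
    intro i j
    apply exists_pow_smul_eq_zero_of_isCompact F (hc i j)
    have hWf : X.basicOpen (fij i j) ≤ X.basicOpen f := by
      rw [hfij]; exact inf_le_right
    rw [map_sub, sub_eq_zero, map_map_apply, map_map_apply, claim i _ _ hWf, claim j _ _ hWf]
  choose m hm using H2
  let M := Finset.univ.sup (fun i => Finset.univ.sup (m i))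
  have hmM (i j : S) : m i j ≤ M :=
    le_trans (Finset.le_sup (f := m i) (Finset.mem_univ j))
      (Finset.le_sup (f := fun i => Finset.univ.sup (m i)) (Finset.mem_univ i))
  -- Step 3: glue
  have hglue := TopCat.Sheaf.existsUnique_gluing' ⟨_, F.isSheaf⟩ (fun i : S => (i : X.Opens)) U
    (fun i => homOfLE (h₁ i)) (le_of_eq e) (fun i => (fi i) ^ M • s' i) ?_
  · obtain ⟨a, ha, -⟩ := hglue
    refine ⟨N + M, a, ?_⟩
    apply TopCat.Sheaf.eq_of_locally_eq' ⟨_, F.isSheaf⟩ (fun i : S => X.basicOpen (fi i)) _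
      (fun i => homOfLE (hle i))
    · intro x hx
      have hxU : x ∈ U := X.basicOpen_le f hx
      rw [e] at hxU
      obtain ⟨i, hi⟩ := Opens.mem_iSup.mp hxU
      refine Opens.mem_iSup.mpr ⟨i, ?_⟩
      rw [hfi]
      exact ⟨hi, hx⟩
    · intro i
      have ha' : F.presheaf.map (homOfLE (h₁ i)).op a = (fi i) ^ M • s' i := ha i
      change F.presheaf.map (homOfLE (hle i)).op
          (F.presheaf.map (homOfLE (X.basicOpen_le f)).op a) =
        F.presheaf.map (homOfLE (hle i)).op
          ((X.presheaf.map (homOfLE (X.basicOpen_le f)).op f) ^ (N + M) • t)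
      rw [map_map_apply, ← map_map_apply F (h₁ i) (X.basicOpen_le (fi i)), ha',
        Scheme.Modules.map_smul, map_pow, claim i _ _ (hle i), Scheme.Modules.map_smul, map_pow,
        pmap_map_apply, pmap_map_apply, ← mul_smul, ← pow_add, add_comm]
  · intro i j
    change F.presheaf.map (homOfLE inf_le_left).op ((fi i) ^ M • s' i) =
      F.presheaf.map (homOfLE inf_le_right).op ((fi j) ^ M • s' j)
    have e1 : F.presheaf.map (homOfLE (inf_le_left : i.1.1 ⊓ j.1.1 ≤ i.1.1)).op
          ((fi i) ^ M • s' i) =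
        (fij i j) ^ M •
          F.presheaf.map (homOfLE (inf_le_left : i.1.1 ⊓ j.1.1 ≤ i.1.1)).op (s' i) := by
      rw [Scheme.Modules.map_smul, map_pow, pmap_map_apply]
    have e2 : F.presheaf.map (homOfLE (inf_le_right : i.1.1 ⊓ j.1.1 ≤ j.1.1)).op
          ((fi j) ^ M • s' j) =
        (fij i j) ^ M •
          F.presheaf.map (homOfLE (inf_le_right : i.1.1 ⊓ j.1.1 ≤ j.1.1)).op (s' j) := by
      rw [Scheme.Modules.map_smul, map_pow, pmap_map_apply]
    rw [e1, e2, ← sub_eq_zero, ← smul_sub, ← tsub_add_cancel_of_le (hmM i j), pow_add, mul_smul,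
      hm i j, smul_zero]

end Groth.Agent.H22
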