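import Mathlib.AlgebraicGeometry.ValuativeCriterion
import Mathlib.AlgebraicGeometry.Morphisms.Immersion
import Mathlib.AlgebraicGeometry.Morphisms.QuasiCompact
import Groth.Agent.H22.DVRSpec

/-!
# DVR criteria tested at a "dense" family of points (helper22), Stacks 0CM3-0CM5 style
-/

set_option autoImplicit false
universe u
open CategoryTheory CategoryTheory.Limits AlgebraicGeometry

namespace Groth.Agent.H22.DVRGen

/-- The ring map `κ → Frac A` for a valuation subring `A` of a field `κ`, and the factorisation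
`Spec (Frac A) → Spec κ → Spec A`. -/
lemma specMap_algebraMap_fractionRing {κ : Type u} [Field κ] (A : ValuationSubring κ) :
    Spec.map (CommRingCat.ofHom (algebraMap A (FractionRing A))) =
      Spec.map (CommRingCat.ofHom
        ((FractionRing.algEquiv A κ).symm : κ →+* FractionRing A)) ≫
        Spec.map (CommRingCat.ofHom A.subtype) := by
  rw [← Spec.map_comp]
  congr 1
  ext a
  exact ((FractionRing.algEquiv A κ).symm.commutes a).symm

set_option maxHeartbeats 400000 in
/-- Separatedness from uniqueness of DVR-lifts tested on DVRs of the residue fields of points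
`u ∈ P` of a scheme `U → X` such that every point of `X` is a specialization of some `p u`,
`u ∈ P`. -/
theorem isSeparated_of_dvr_uniqueness_of_dense {X Y U : Scheme.{u}} [IsLocallyNoetherian Y]
    (f : X ⟶ Y) [LocallyOfFiniteType f] (p : U ⟶ X) [LocallyOfFiniteType p] (P : U → Prop)
    (hP : ∀ z : X, ∃ u, P u ∧ p.base u ⤳ z)
    (H : ∀ u, P u → ∀ (A : ValuationSubring (U.residueField u)), IsDiscreteValuationRing A →
      ∀ l₁ l₂ : Spec (CommRingCat.of A) ⟶ X, l₁ ≫ f = l₂ ≫ f →
        Spec.map (CommRingCat.ofHom A.subtype) ≫ l₁ = U.fromSpecResidueField u ≫ p →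
        Spec.map (CommRingCat.ofHom A.subtype) ≫ l₂ = U.fromSpecResidueField u ≫ p → l₁ = l₂) :
    IsSeparated f := by
  have hX : IsLocallyNoetherian X := LocallyOfFiniteType.isLocallyNoetherian f
  have hXX : IsLocallyNoetherian (pullback f f) :=
    LocallyOfFiniteType.isLocallyNoetherian (pullback.fst f f)
  have hqs : QuasiSeparated f := inferInstance
  have hqc : QuasiCompact (pullback.diagonal f) := hqs.1
  have hlft : LocallyOfFiniteType (pullback.diagonal f) := by
    have : LocallyOfFiniteType (pullback.diagonal f ≫ pullback.fst f f) := by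
      rw [pullback.diagonal_fst]; infer_instance
    exact locallyOfFiniteType_of_comp (pullback.diagonal f) (pullback.fst f f)
  have hrange : ∀ z w, (pullback.diagonal f).base z ⤳ w →
      w ∈ Set.range (pullback.diagonal f).base := by
    intro z w hzw
    obtain ⟨u, hu, huz⟩ := hP z
    have huw : (p ≫ pullback.diagonal f).base u ⤳ w := by
      rw [Scheme.Hom.comp_apply]
      exact (huz.map (pullback.diagonal f).continuous).trans hzw
    by_cases hw : w = (p ≫ pullback.diagonal f).base u
    · exact ⟨p.base u, by rw [hw, Scheme.Hom.comp_apply]⟩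
    obtain ⟨A, h, hA, hcl, hcomm⟩ :=
      DVRSpec.exists_dvr_through_specialization (p ≫ pullback.diagonal f) u w huw hw
    let g₁ := h ≫ pullback.fst f f
    let g₂ := h ≫ pullback.snd f f
    have e1 : g₁ ≫ f = g₂ ≫ f := by
      simp only [g₁, g₂, Category.assoc, pullback.condition]
    have hj1 : Spec.map (CommRingCat.ofHom A.subtype) ≫ g₁ = U.fromSpecResidueField u ≫ p := by
      change Spec.map (CommRingCat.ofHom A.subtype) ≫ h ≫ pullback.fst f f = _
      rw [← Category.assoc, hcomm, Category.assoc, Category.assoc, pullback.diagonal_fst,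
        Category.comp_id]
    have hj2 : Spec.map (CommRingCat.ofHom A.subtype) ≫ g₂ = U.fromSpecResidueField u ≫ p := by
      change Spec.map (CommRingCat.ofHom A.subtype) ≫ h ≫ pullback.snd f f = _
      rw [← Category.assoc, hcomm, Category.assoc, Category.assoc, pullback.diagonal_snd,
        Category.comp_id]
    have h12 : g₁ = g₂ := H u hu A hA g₁ g₂ e1 hj1 hj2
    have hh : h = g₁ ≫ pullback.diagonal f := by
      apply pullback.hom_ext
      · simp [g₁]
      · simp only [Category.assoc, pullback.diagonal_snd, Category.comp_id]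
        exact h12.symm
    refine ⟨g₁.base (IsLocalRing.closedPoint A), ?_⟩
    rw [← hcl, hh]
    rfl
  have hspec : SpecializingMap (pullback.diagonal f).base := by
    intro z w hzw
    obtain ⟨z', rfl⟩ := hrange z w hzw
    refine ⟨z', ?_, rfl⟩
    exact (pullback.diagonal f).isEmbedding.specializes_iff.mp hzw
  have hclosed : IsClosedMap (pullback.diagonal f).base :=
    (isClosedMap_iff_specializingMap (pullback.diagonal f)).mpr hspec
  exact ⟨.of_isPreimmersion _ hclosed.isClosed_range⟩


/-- If `h : U ⟶ X` is quasi-compact with dense range, every point of `X` is a specialization of a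
point in the image of `h`. -/
theorem exists_specializes_of_denseRange {U X : Scheme.{u}} (h : U ⟶ X) [QuasiCompact h]
    (hd : DenseRange h.base) (z : X) : ∃ u : U, h.base u ⤳ z := by
  obtain ⟨V, hV, hzV, -⟩ := exists_isAffineOpen_mem_and_subset (x := z) (U := ⊤) trivial
  have hc : IsCompact ((h ⁻¹ᵁ V : U.Opens) : Set U) :=
    QuasiCompact.isCompact_preimage (f := h) _ V.2 hV.isCompact
  have hcs : CompactSpace (h ⁻¹ᵁ V : U.Opens) := isCompact_iff_compactSpace.mp hc
  obtain ⟨R', g, hg⟩ := compactSpace_iff_exists.mp hcs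
  let g' : Spec R' ⟶ X := g ≫ (h ⁻¹ᵁ V).ι ≫ h
  have hg'V : ∀ y, g'.base y ∈ V := by
    intro y
    have : ((h ⁻¹ᵁ V).ι.base (g.base y)) ∈ h ⁻¹ᵁ V := (g.base y).2
    exact this
  have hrange : Set.range g'.base ⊆ Set.range hV.fromSpec.base := by
    rintro _ ⟨y, rfl⟩
    rw [hV.range_fromSpec]
    exact hg'V y
  let ψ : Spec R' ⟶ Spec Γ(X, V) := IsOpenImmersion.lift hV.fromSpec g' hrange
  have hψ : ψ ≫ hV.fromSpec = g' := IsOpenImmersion.lift_fac _ _ _
  let φ : Γ(X, V) ⟶ R' := Spec.preimage ψ
  have hφ : Spec.map φ = ψ := Spec.map_preimage ψ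
  let 𝔭 := hV.primeIdealOf ⟨z, hzV⟩
  have hker : RingHom.ker φ.hom ≤ 𝔭.asIdeal := by
    intro s hs
    by_contra hns
    have hzs : z ∈ X.basicOpen s := by
      by_contra hcon
      exact hns ((DVRSpec.mem_primeIdealOf_iff hV ⟨z, hzV⟩ s).mpr hcon)
    obtain ⟨u, hu⟩ := hd.exists_mem_open (X.basicOpen s).2 ⟨z, hzs⟩
    have huV : u ∈ h ⁻¹ᵁ V := X.basicOpen_le s hu
    obtain ⟨y, hy⟩ := hg ⟨u, huV⟩
    have hgy : g'.base y = h.base u := by
      change h.base ((h ⁻¹ᵁ V).ι.base (g.base y)) = _
      rw [hy]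
      rfl
    have h1 : ψ.base y ∈ hV.fromSpec ⁻¹ᵁ X.basicOpen s := by
      change hV.fromSpec.base (ψ.base y) ∈ X.basicOpen s
      rw [← Scheme.Hom.comp_apply, hψ, hgy]
      exact hu
    rw [hV.fromSpec_preimage_basicOpen, ← hφ] at h1
    apply h1
    change φ.hom s ∈ y.asIdeal
    rw [RingHom.mem_ker.mp hs]
    exact Ideal.zero_mem _
  have hdisj : Disjoint ((⊥ : Ideal R') : Set R')
      (𝔭.asIdeal.primeCompl.map φ.hom : Submonoid R') := by
    rw [Set.disjoint_left]
    rintro _ h0 ⟨s, hs, rfl⟩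
    exact hs (hker h0)
  obtain ⟨𝔮, h𝔮, -, h𝔮d⟩ := Ideal.exists_le_prime_disjoint _ _ hdisj
  have hle : 𝔮.comap φ.hom ≤ 𝔭.asIdeal := Ideal.disjoint_map_primeCompl_iff_comap_le.mp h𝔮d
  let y : Spec R' := ⟨𝔮, h𝔮⟩
  have hsp : (Spec.map φ).base y ⤳ 𝔭 := by
    exact (PrimeSpectrum.le_iff_specializes
      (PrimeSpectrum.comap φ.hom (⟨𝔮, h𝔮⟩ : PrimeSpectrum R')) 𝔭).mp hle
  refine ⟨(h ⁻¹ᵁ V).ι.base (g.base y), ?_⟩
  have h2 := hsp.map hV.fromSpec.continuous
  rw [hφ, ← Scheme.Hom.comp_apply, hψ] at h2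
  have h3 : hV.fromSpec.base 𝔭 = z := hV.fromSpec_primeIdealOf ⟨z, hzV⟩
  rw [h3] at h2
  exact h2

end Groth.Agent.H22.DVRGen
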