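import Mathlib.LinearAlgebra.TensorProduct.RightExactness
import Mathlib.RingTheory.Ideal.Maps
import Mathlib.RingTheory.Adjoin.FG
import Mathlib.RingTheory.TensorProduct.Basic

/-!
# Spreading out "a point is not in the image of a closed set" to a finitely generated subalgebra
(helper22).  Algebraic core of Stacks 05JX.
-/

set_option autoImplicit false
universe u
open TensorProduct

namespace Groth.Agent.H22.UCAlg

variable {A B C : Type u} [CommRing A] [CommRing B] [CommRing C] [Algebra A B] [Algebra A C]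

/-- The map `B ⊗[A] C₁ → B ⊗[A] C` for a subalgebra `C₁ ≤ C`. -/
noncomputable abbrev inc (B : Type u) [CommRing B] [Algebra A B] (C₁ : Subalgebra A C) :
    B ⊗[A] C₁ →ₐ[A] B ⊗[A] C :=
  Algebra.TensorProduct.map (AlgHom.id A B) C₁.val

/-- `includeRight : C → B ⊗[A] C` as an algebra map -/
noncomputable abbrev incR (B C : Type u) [CommRing B] [CommRing C] [Algebra A B] [Algebra A C] :
    C →ₐ[A] B ⊗[A] C :=
  Algebra.TensorProduct.includeRight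

lemma exists_finset_of_tensor (𝔭 : Ideal C)
    (w : B ⊗[A] (𝔭.restrictScalars A : Submodule A C)) :
    ∃ t : Finset C, ∀ C₁ : Subalgebra A C, (t : Set C) ⊆ C₁ →
      ∃ y₁ ∈ (𝔭.comap (C₁.val : C₁ →+* C)).map (incR (A := A) B C₁ : C₁ →+* B ⊗[A] C₁),
        inc B C₁ y₁ = LinearMap.lTensor B (Submodule.subtype (𝔭.restrictScalars A)) w := by
  classical
  induction w using TensorProduct.induction_on with
  | zero => exact ⟨∅, fun C₁ _ => ⟨0, Ideal.zero_mem _, by simp⟩⟩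
  | tmul b q =>
    refine ⟨{(q : C)}, fun C₁ h => ?_⟩
    have hq : (q : C) ∈ C₁ := h (by simp)
    refine ⟨b ⊗ₜ[A] (⟨q, hq⟩ : C₁), ?_, ?_⟩
    · have : b ⊗ₜ[A] (⟨q, hq⟩ : C₁) = (b ⊗ₜ[A] (1 : C₁)) * (incR (A := A) B C₁ ⟨q, hq⟩) := by
        simp [Algebra.TensorProduct.tmul_mul_tmul]
      rw [this]
      apply Ideal.mul_mem_left
      apply Ideal.mem_map_of_mem
      exact q.2
    · simp
  | add x y hx hy =>
    obtain ⟨t₁, h₁⟩ := hx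
    obtain ⟨t₂, h₂⟩ := hy
    refine ⟨t₁ ∪ t₂, fun C₁ h => ?_⟩
    obtain ⟨y₁, hy₁, e₁⟩ := h₁ C₁ (fun x hx => h (by simp [hx]))
    obtain ⟨y₂, hy₂, e₂⟩ := h₂ C₁ (fun x hx => h (by simp [hx]))
    exact ⟨y₁ + y₂, Ideal.add_mem _ hy₁ hy₂, by simp [e₁, e₂]⟩

theorem exists_finset_spread (J : Ideal (B ⊗[A] C)) (𝔭 : Ideal C) [𝔭.IsPrime]
    (h : ∀ 𝔮 : Ideal (B ⊗[A] C), 𝔮.IsPrime → J ≤ 𝔮 →
      𝔮.comap (incR (A := A) B C : C →+* B ⊗[A] C) ≠ 𝔭) :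
    ∃ t : Finset C, ∀ C₁ : Subalgebra A C, (t : Set C) ⊆ C₁ →
      ∀ 𝔮 : Ideal (B ⊗[A] C₁), 𝔮.IsPrime → J.comap (inc B C₁ : B ⊗[A] C₁ →+* B ⊗[A] C) ≤ 𝔮 →
        𝔮.comap (incR (A := A) B C₁ : C₁ →+* B ⊗[A] C₁) ≠ 𝔭.comap (C₁.val : C₁ →+* C) := by
  classical
  set g : C →+* B ⊗[A] C := (incR (A := A) B C : C →+* B ⊗[A] C) with hg
  -- Step 1: find `s ∉ 𝔭` with `g s ∈ J ⊔ 𝔭.map g`
  have h1 : ¬ Disjoint ((J ⊔ 𝔭.map g : Ideal (B ⊗[A] C)) : Set (B ⊗[A] C))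
      (𝔭.primeCompl.map g : Submonoid (B ⊗[A] C)) := by
    intro hdis
    obtain ⟨𝔮, h𝔮, hle, hdisj⟩ := Ideal.exists_le_prime_disjoint _ _ hdis
    refine h 𝔮 h𝔮 (le_sup_left.trans hle) (le_antisymm ?_ ?_)
    · exact Ideal.disjoint_map_primeCompl_iff_comap_le.mp hdisj
    · exact Ideal.map_le_iff_le_comap.mp (le_sup_right.trans hle)
  rw [Set.not_disjoint_iff] at h1
  obtain ⟨x, hxI, hxM⟩ := h1
  obtain ⟨s, hs, rfl⟩ := hxM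
  obtain ⟨a, ha, y, hy, hay⟩ := Submodule.mem_sup.mp hxI
  -- Step 2: `y` comes from `B ⊗ 𝔭`
  have hy' : y ∈ ((𝔭.map (incR (A := A) B C)).restrictScalars A : Submodule A (B ⊗[A] C)) := hy
  rw [Ideal.map_includeRight_eq] at hy'
  obtain ⟨w, rfl⟩ := hy'
  obtain ⟨t, ht⟩ := exists_finset_of_tensor (A := A) (B := B) 𝔭 w
  refine ⟨insert s t, fun C₁ hC₁ 𝔮 h𝔮 hJ𝔮 heq => ?_⟩
  have hs₁ : s ∈ C₁ := hC₁ (by simp)
  obtain ⟨y₁, hy₁, e₁⟩ := ht C₁ (fun x hx => hC₁ (by simp [hx]))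
  set g₁ : C₁ →+* B ⊗[A] C₁ := (incR (A := A) B C₁ : C₁ →+* B ⊗[A] C₁) with hg₁
  have hy₁𝔮 : y₁ ∈ 𝔮 := by
    have : (𝔭.comap (C₁.val : C₁ →+* C)).map g₁ ≤ 𝔮 := by
      rw [Ideal.map_le_iff_le_comap, heq]
    exact this hy₁
  have ha₁ : g₁ ⟨s, hs₁⟩ - y₁ ∈ J.comap (inc B C₁ : B ⊗[A] C₁ →+* B ⊗[A] C) := by
    rw [Ideal.mem_comap, map_sub]
    have e2 : (inc B C₁ : B ⊗[A] C₁ →+* B ⊗[A] C) (g₁ ⟨s, hs₁⟩) = g s := by
      simp [hg, hg₁]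
    have e3 : (inc B C₁ : B ⊗[A] C₁ →+* B ⊗[A] C) y₁ = _ := e₁
    rw [e2, e3, ← hay]
    simpa using ha
  have hs𝔮 : g₁ ⟨s, hs₁⟩ ∈ 𝔮 := by
    have := Ideal.add_mem _ (hJ𝔮 ha₁) hy₁𝔮
    simpa using this
  have : (⟨s, hs₁⟩ : C₁) ∈ 𝔮.comap g₁ := hs𝔮
  rw [heq] at this
  exact hs this

end Groth.Agent.H22.UCAlg
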