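import Mathlib.AlgebraicGeometry.Pullbacks
import Mathlib.AlgebraicGeometry.PullbackCarrier
import Mathlib.AlgebraicGeometry.Morphisms.UniversallyClosed
import Groth.Agent.H22.UCAlg

set_option autoImplicit false
universe u
open CategoryTheory CategoryTheory.Limits AlgebraicGeometry TensorProduct

namespace Groth.Agent.H22.UCCore

variable {A : Type u} [CommRing A] {X : Scheme.{u}} (f : X ⟶ Spec (.of A))

section Patch
variable (B C : Type u) [CommRing B] [CommRing C] [Algebra A B] [Algebra A C]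
  (u : Spec (.of B) ⟶ X) (hu : u ≫ f = Spec.map (CommRingCat.ofHom (algebraMap A B)))

noncomputable def patch :
    Spec (.of (B ⊗[A] C)) ⟶ pullback f (Spec.map (CommRingCat.ofHom (algebraMap A C))) :=
  (pullbackSpecIso A B C).inv ≫ pullback.map _ _ _ _ u (𝟙 _) (𝟙 _)
    (by rw [Category.comp_id, hu]) (by simp)

lemma patch_snd : patch f B C u hu ≫ pullback.snd _ _ =
    Spec.map (CommRingCat.ofHom
      (Algebra.TensorProduct.includeRight : C →ₐ[A] B ⊗[A] C).toRingHom) := by
  rw [patch, Category.assoc, pullback.lift_snd, Category.comp_id, pullbackSpecIso_inv_snd]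
  rfl

lemma patch_fst : patch f B C u hu ≫ pullback.fst _ _ =
    Spec.map (CommRingCat.ofHom
      (Algebra.TensorProduct.includeLeftRingHom : B →+* B ⊗[A] C)) ≫ u := by
  rw [patch, Category.assoc, pullback.lift_fst, ← Category.assoc, pullbackSpecIso_inv_fst]

instance [IsOpenImmersion u] : IsOpenImmersion (patch f B C u hu) := by
  unfold patch; infer_instance

lemma range_patch : Set.range (patch f B C u hu).base =
    (pullback.fst f (Spec.map (CommRingCat.ofHom (algebraMap A C)))).base ⁻¹' Set.range u.base := by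
  unfold patch
  have hs : Set.range (pullbackSpecIso A B C).inv.base = Set.univ :=
    Set.range_eq_univ.mpr (pullbackSpecIso A B C).inv.homeomorph.surjective
  rw [Scheme.Hom.comp_base, TopCat.coe_comp, Set.range_comp, hs, Set.image_univ]
  erw [Scheme.Pullback.range_map]
  simp

end Patch

section Rho
variable {C C₁ : Type u} [CommRing C] [CommRing C₁] [Algebra A C] [Algebra A C₁] (ι : C₁ →ₐ[A] C)

/-- The map `X_C ⟶ X_{C₁}` induced by an `A`-algebra map `C₁ → C`. -/
noncomputable def rho : pullback f (Spec.map (CommRingCat.ofHom (algebraMap A C))) ⟶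
    pullback f (Spec.map (CommRingCat.ofHom (algebraMap A C₁))) :=
  pullback.map _ _ _ _ (𝟙 X) (Spec.map (CommRingCat.ofHom ι.toRingHom)) (𝟙 _) (by simp)
    (by
      rw [Category.comp_id, ← Spec.map_comp, ← CommRingCat.ofHom_comp]
      congr 2
      ext a
      simp)

lemma rho_fst : rho f ι ≫ pullback.fst _ _ = pullback.fst _ _ := by
  rw [rho, pullback.lift_fst, Category.comp_id]

lemma rho_snd : rho f ι ≫ pullback.snd _ _ =
    pullback.snd _ _ ≫ Spec.map (CommRingCat.ofHom ι.toRingHom) := by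
  rw [rho, pullback.lift_snd]

variable (B : Type u) [CommRing B] [Algebra A B]
  (u : Spec (.of B) ⟶ X) (hu : u ≫ f = Spec.map (CommRingCat.ofHom (algebraMap A B)))

lemma patch_rho : patch f B C u hu ≫ rho f ι =
    Spec.map (CommRingCat.ofHom (Algebra.TensorProduct.map (AlgHom.id A B) ι).toRingHom) ≫
      patch f B C₁ u hu := by
  apply pullback.hom_ext
  · rw [Category.assoc, rho_fst, Category.assoc, patch_fst, patch_fst, ← Category.assoc,
      ← Spec.map_comp, ← CommRingCat.ofHom_comp]
    congr 3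
    ext b
    simp
  · rw [Category.assoc, rho_snd, Category.assoc, patch_snd, ← Category.assoc, patch_snd,
      ← Spec.map_comp, ← Spec.map_comp, ← CommRingCat.ofHom_comp, ← CommRingCat.ofHom_comp]
    congr 2

end Rho

section Spread

variable {ι : Type*} [Finite ι] (B : ι → Type u) [∀ j, CommRing (B j)] [∀ j, Algebra A (B j)]
  (u : ∀ j, Spec (.of (B j)) ⟶ X) [∀ j, IsOpenImmersion (u j)]
  (hu : ∀ j, u j ≫ f = Spec.map (CommRingCat.ofHom (algebraMap A (B j))))
  (hcov : ∀ x : X, ∃ j, x ∈ Set.range (u j).base)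
  (C : Type u) [CommRing C] [Algebra A C]

include hcov hu in
theorem spread_main
    (Z : Set ↥(pullback f (Spec.map (CommRingCat.ofHom (algebraMap A C))))) (hZ : IsClosed Z)
    (t : ↥(Spec (.of C)))
    (ht : t ∉ (pullback.snd f (Spec.map (CommRingCat.ofHom (algebraMap A C)))).base '' Z) :
    ∃ s : Finset C, ∀ C₁ : Subalgebra A C, (s : Set C) ⊆ C₁ →
      (Spec.map (CommRingCat.ofHom C₁.val.toRingHom)).base t ∉
        (pullback.snd f (Spec.map (CommRingCat.ofHom (algebraMap A C₁)))).base ''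
          closure ((rho f C₁.val).base '' Z) := by
  classical
  have := Fintype.ofFinite ι
  have ht' : t.asIdeal.IsPrime := t.2
  -- the ideals of the closed sets `Z ∩ patch_j`
  let e : ∀ j, Spec (.of (B j ⊗[A] C)) ⟶ pullback f (Spec.map (CommRingCat.ofHom (algebraMap A C))) :=
    fun j => patch f (B j) C (u j) (hu j)
  let J : ∀ j, Ideal (B j ⊗[A] C) := fun j =>
    PrimeSpectrum.vanishingIdeal ((e j).base ⁻¹' Z : Set (PrimeSpectrum (B j ⊗[A] C)))
  have hJ : ∀ j, PrimeSpectrum.zeroLocus (J j : Set (B j ⊗[A] C)) = (e j).base ⁻¹' Z := by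
    intro j
    rw [PrimeSpectrum.zeroLocus_vanishingIdeal_eq_closure]
    exact (hZ.preimage (e j).continuous).closure_eq
  have hfib : ∀ j, ∀ 𝔮 : Ideal (B j ⊗[A] C), 𝔮.IsPrime → J j ≤ 𝔮 →
      𝔮.comap (UCAlg.incR (A := A) (B j) C : C →+* B j ⊗[A] C) ≠ t.asIdeal := by
    intro j 𝔮 h𝔮 hle heq
    let y : ↥(Spec (.of (B j ⊗[A] C))) := ⟨𝔮, h𝔮⟩
    have hy : y ∈ (e j).base ⁻¹' Z := by
      rw [← hJ j]
      exact hle
    apply ht
    refine ⟨(e j).base y, hy, ?_⟩
    rw [← Scheme.Hom.comp_apply, patch_snd]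
    exact PrimeSpectrum.ext heq
  choose s hs using fun j => UCAlg.exists_finset_spread (A := A) (B := B j) (J j) t.asIdeal (hfib j)
  refine ⟨Finset.univ.biUnion s, fun C₁ hC₁ => ?_⟩
  rintro ⟨x₀, hx₀, hx₀t⟩
  obtain ⟨j, hj⟩ := hcov ((pullback.fst f _).base x₀)
  let e₁ := patch f (B j) C₁ (u j) (hu j)
  have hx₀r : x₀ ∈ Set.range e₁.base := by
    rw [range_patch]; exact hj
  obtain ⟨y₀, rfl⟩ := hx₀r
  let ψ : Spec (.of (B j ⊗[A] C)) ⟶ Spec (.of (B j ⊗[A] C₁)) :=
    Spec.map (CommRingCat.ofHom (UCAlg.inc (B j) C₁).toRingHom)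
  have hnat : e j ≫ rho f C₁.val = ψ ≫ e₁ := patch_rho f C₁.val (B j) (u j) (hu j)
  -- `y₀` lies in the closure of `ψ '' (e j ⁻¹' Z)`
  have hy₀ : y₀ ∈ closure (ψ.base '' ((e j).base ⁻¹' Z)) := by
    rw [e₁.isOpenEmbedding.isEmbedding.closure_eq_preimage_closure_image]
    have hO : IsOpen (Set.range e₁.base) := e₁.isOpenEmbedding.isOpen_range
    have h1 : e₁.base y₀ ∈ Set.range e₁.base ∩ closure ((rho f C₁.val).base '' Z) :=
      ⟨⟨y₀, rfl⟩, hx₀⟩
    refine closure_mono ?_ (hO.inter_closure h1)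
    rintro _ ⟨hr, z, hz, rfl⟩
    have hzr : z ∈ Set.range (e j).base := by
      rw [range_patch]
      rw [range_patch] at hr
      have : (pullback.fst f _).base ((rho f C₁.val).base z) = (pullback.fst f _).base z := by
        rw [← Scheme.Hom.comp_apply, rho_fst]
      rw [Set.mem_preimage, this] at hr
      exact hr
    obtain ⟨y, rfl⟩ := hzr
    refine ⟨ψ.base y, ⟨y, hz, rfl⟩, ?_⟩
    rw [← Scheme.Hom.comp_apply, ← hnat, Scheme.Hom.comp_apply]
  have hcl : closure (ψ.base '' ((e j).base ⁻¹' Z)) =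
      PrimeSpectrum.zeroLocus ((J j).comap (UCAlg.inc (B j) C₁ : B j ⊗[A] C₁ →+* B j ⊗[A] C)) := by
    rw [← hJ j]
    exact PrimeSpectrum.closure_image_comap_zeroLocus _ (J j)
  rw [hcl] at hy₀
  refine hs j C₁ (fun x hx => hC₁ ?_) y₀.asIdeal y₀.2 hy₀ ?_
  · simp only [Finset.coe_biUnion, Set.mem_iUnion]
    exact ⟨j, by simp, hx⟩
  · have := congrArg PrimeSpectrum.asIdeal hx₀t
    rw [← Scheme.Hom.comp_apply, patch_snd] at this
    exact this

end Spread

section Closed

/-- Affine base, affine base change: if all base changes of `f` along finite type `A`-algebras are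
closed maps, then all base changes along arbitrary `A`-algebras are closed maps. -/
theorem isClosedMap_snd_of_finiteType [CompactSpace X]
    (H : ∀ (C₁ : Type u) [CommRing C₁] [Algebra A C₁], Algebra.FiniteType A C₁ →
      IsClosedMap (pullback.snd f (Spec.map (CommRingCat.ofHom (algebraMap A C₁)))).base)
    (C : Type u) [CommRing C] [Algebra A C] :
    IsClosedMap (pullback.snd f (Spec.map (CommRingCat.ofHom (algebraMap A C)))).base := by
  classical
  -- a finite affine cover of `X`
  let 𝒰 := X.affineCover.finiteSubcover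
  let B : 𝒰.I₀ → Type u := fun j => Γ(𝒰.X j, ⊤)
  let u : ∀ j, Spec (.of (B j)) ⟶ X := fun j => (𝒰.X j).isoSpec.inv ≫ 𝒰.f j
  let β : ∀ j, A →+* B j := fun j => (Spec.preimage (u j ≫ f)).hom
  let _ : ∀ j, Algebra A (B j) := fun j => (β j).toAlgebra
  have hu : ∀ j, u j ≫ f = Spec.map (CommRingCat.ofHom (algebraMap A (B j))) := by
    intro j
    exact (Spec.map_preimage (u j ≫ f)).symm
  have hcov : ∀ x : X, ∃ j, x ∈ Set.range (u j).base := by
    intro x
    obtain ⟨y, hy⟩ := 𝒰.covers x
    refine ⟨𝒰.idx x, (𝒰.X (𝒰.idx x)).isoSpec.hom.base y, ?_⟩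
    rw [← Scheme.Hom.comp_apply]
    simp only [u, Iso.hom_inv_id_assoc]
    exact hy
  intro Z hZ
  rw [← isOpen_compl_iff, isOpen_iff_forall_mem_open]
  intro t ht
  obtain ⟨s, hs⟩ := spread_main f B u hu hcov C Z hZ t ht
  let C₁ : Subalgebra A C := Algebra.adjoin A (s : Set C)
  have hft : Algebra.FiniteType A C₁ :=
    (Subalgebra.fg_iff_finiteType _).mp (Subalgebra.fg_adjoin_finset s)
  have hcl := H C₁ hft
  have ht₁ := hs C₁ Algebra.subset_adjoin
  let π : Spec (.of C) ⟶ Spec (.of C₁) := Spec.map (CommRingCat.ofHom C₁.val.toRingHom)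
  refine ⟨π.base ⁻¹' ((pullback.snd f (Spec.map (CommRingCat.ofHom (algebraMap A C₁)))).base ''
      closure ((rho f C₁.val).base '' Z))ᶜ, ?_, ?_, ht₁⟩
  · rintro _ hw ⟨z, hz, rfl⟩
    apply hw
    refine ⟨(rho f C₁.val).base z, subset_closure ⟨z, hz, rfl⟩, ?_⟩
    rw [← Scheme.Hom.comp_apply, rho_snd, Scheme.Hom.comp_apply]
  · exact (hcl _ isClosed_closure).isOpen_compl.preimage π.continuous


/-- closedness of an arbitrary base change to an affine scheme, over an affine base -/
theorem isClosedMap_snd_of_isAffine [CompactSpace X]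
    (H : ∀ (C₁ : Type u) [CommRing C₁] [Algebra A C₁], Algebra.FiniteType A C₁ →
      IsClosedMap (pullback.snd f (Spec.map (CommRingCat.ofHom (algebraMap A C₁)))).base)
    {T : Scheme.{u}} [IsAffine T] (h : T ⟶ Spec (.of A)) :
    IsClosedMap (pullback.snd f h).base := by
  let C : Type u := Γ(T, ⊤)
  let φ : CommRingCat.of A ⟶ Γ(T, ⊤) := Spec.preimage (T.isoSpec.inv ≫ h)
  let _ : Algebra A C := φ.hom.toAlgebra
  have hφ : T.isoSpec.hom ≫ Spec.map (CommRingCat.ofHom (algebraMap A C)) = h := by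
    change T.isoSpec.hom ≫ Spec.map φ = h
    rw [Spec.map_preimage, Iso.hom_inv_id_assoc]
  have key := isClosedMap_snd_of_finiteType f H C
  let m : pullback f h ⟶ pullback f (Spec.map (CommRingCat.ofHom (algebraMap A C))) :=
    pullback.map f h f _ (𝟙 X) T.isoSpec.hom (𝟙 _) (by simp) (by rw [Category.comp_id, hφ])
  have hm : m ≫ pullback.snd _ _ = pullback.snd f h ≫ T.isoSpec.hom := pullback.lift_snd ..
  have h1 : IsClosedMap (pullback.snd f h ≫ T.isoSpec.hom).base := by
    rw [← hm, Scheme.Hom.comp_base, TopCat.coe_comp]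
    exact key.comp m.homeomorph.isClosedMap
  have h2 : pullback.snd f h = (pullback.snd f h ≫ T.isoSpec.hom) ≫ T.isoSpec.inv := by
    rw [Category.assoc, Iso.hom_inv_id, Category.comp_id]
  rw [h2, Scheme.Hom.comp_base, TopCat.coe_comp]
  exact T.isoSpec.inv.homeomorph.isClosedMap.comp h1

/-- closedness of an arbitrary base change, over an affine base -/
theorem isClosedMap_snd [CompactSpace X]
    (H : ∀ (C₁ : Type u) [CommRing C₁] [Algebra A C₁], Algebra.FiniteType A C₁ →
      IsClosedMap (pullback.snd f (Spec.map (CommRingCat.ofHom (algebraMap A C₁)))).base)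
    {T : Scheme.{u}} (h : T ⟶ Spec (.of A)) :
    IsClosedMap (pullback.snd f h).base := by
  change topologically @IsClosedMap (pullback.snd f h)
  rw [IsZariskiLocalAtTarget.iff_of_openCover (P := topologically @IsClosedMap) T.affineCover]
  intro i
  have e : (pullbackLeftPullbackSndIso f h (T.affineCover.f i)).hom ≫
      pullback.snd f (T.affineCover.f i ≫ h) =
      pullback.snd (pullback.snd f h) (T.affineCover.f i) :=
    pullbackLeftPullbackSndIso_hom_snd ..
  change IsClosedMap (pullback.snd (pullback.snd f h) (T.affineCover.f i)).base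
  rw [← e, Scheme.Hom.comp_base, TopCat.coe_comp]
  exact (isClosedMap_snd_of_isAffine f H _).comp
    (pullbackLeftPullbackSndIso f h (T.affineCover.f i)).hom.homeomorph.isClosedMap

/-- **Stacks 05JX, affine base.** -/
theorem universallyClosed_of_finiteType_affine [QuasiCompact f]
    (H : ∀ (C₁ : Type u) [CommRing C₁] [Algebra A C₁], Algebra.FiniteType A C₁ →
      IsClosedMap (pullback.snd f (Spec.map (CommRingCat.ofHom (algebraMap A C₁)))).base) :
    UniversallyClosed f := by
  have : CompactSpace X := QuasiCompact.compactSpace_of_compactSpace f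
  rw [universallyClosed_eq]
  apply MorphismProperty.universally_mk'
  intro T h _
  have e : pullback.fst h f = (pullbackSymmetry h f).hom ≫ pullback.snd f h := by simp
  rw [e]
  change IsClosedMap _
  rw [Scheme.Hom.comp_base, TopCat.coe_comp]
  exact (isClosedMap_snd f H h).comp (pullbackSymmetry h f).hom.homeomorph.isClosedMap

end Closed

end Groth.Agent.H22.UCCore
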