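import Mathlib.AlgebraicGeometry.AffineSpace
import Mathlib.AlgebraicGeometry.Morphisms.ClosedImmersion
import Groth.Agent.H22.UCCore

set_option autoImplicit false
universe u
open CategoryTheory CategoryTheory.Limits AlgebraicGeometry TensorProduct

namespace Groth.Agent.H22.UCAn

/-- Base change of a closed map along a closed immersion is a closed map. -/
lemma isClosedMap_of_isPullback_of_isClosedImmersion {UX UY X Y : Scheme.{u}} {iY : UY ⟶ Y}
    [IsClosedImmersion iY] {iX : UX ⟶ X} {f' : UX ⟶ UY} {f : X ⟶ Y}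
    (h : IsPullback iX f' f iY) (H : IsClosedMap f.base) : IsClosedMap f'.base := by
  have hiX : IsClosedImmersion iX := MorphismProperty.of_isPullback h.flip inferInstance
  intro K hK
  have : f'.base '' K = iY.base ⁻¹' (f.base '' (iX.base '' K)) := by
    ext w
    constructor
    · rintro ⟨k, hk, rfl⟩
      refine ⟨iX.base k, ⟨k, hk, rfl⟩, ?_⟩
      rw [← Scheme.Hom.comp_apply, h.w, Scheme.Hom.comp_apply]
    · rintro ⟨_, ⟨k, hk, rfl⟩, hw⟩
      refine ⟨k, hk, ?_⟩
      apply iY.isClosedEmbedding.injective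
      rw [← hw, ← Scheme.Hom.comp_apply, ← Scheme.Hom.comp_apply, h.w]
  rw [this]
  exact (H _ (iX.isClosedEmbedding.isClosedMap _ hK)).preimage iY.continuous

/-- Base change of a closed map along an open immersion is a closed map. -/
lemma isClosedMap_of_isPullback_of_isOpenImmersion {UX UY X Y : Scheme.{u}} {iY : UY ⟶ Y}
    [IsOpenImmersion iY] {iX : UX ⟶ X} {f' : UX ⟶ UY} {f : X ⟶ Y}
    (h : IsPullback iX f' f iY) (H : IsClosedMap f.base) : IsClosedMap f'.base :=
  IsZariskiLocalAtTarget.of_isPullback (P := topologically @IsClosedMap) h H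

/-- If `X ×_S T → T` is closed, and `i : W → T` is a closed immersion then `X ×_S W → W` is closed.-/
lemma isClosedMap_snd_comp_of_isClosedImmersion {X S T W : Scheme.{u}} (f : X ⟶ S) (a : T ⟶ S)
    (i : W ⟶ T) [IsClosedImmersion i] (H : IsClosedMap (pullback.snd f a).base) :
    IsClosedMap (pullback.snd f (i ≫ a)).base :=
  isClosedMap_of_isPullback_of_isClosedImmersion
    (IsPullback.of_right' (IsPullback.of_hasPullback f (i ≫ a)) (IsPullback.of_hasPullback f a)) H

lemma isClosedMap_snd_comp_of_isOpenImmersion {X S T W : Scheme.{u}} (f : X ⟶ S) (a : T ⟶ S)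
    (i : W ⟶ T) [IsOpenImmersion i] (H : IsClosedMap (pullback.snd f a).base) :
    IsClosedMap (pullback.snd f (i ≫ a)).base :=
  isClosedMap_of_isPullback_of_isOpenImmersion
    (IsPullback.of_right' (IsPullback.of_hasPullback f (i ≫ a)) (IsPullback.of_hasPullback f a)) H

/-- **Stacks 05JX over an affine base**: closedness over all affine spaces implies universally
closed. -/
theorem universallyClosed_of_affineSpace_affine {A : Type u} [CommRing A] {X : Scheme.{u}}
    (f : X ⟶ Spec (.of A)) [QuasiCompact f]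
    (Hn : ∀ n : ℕ, IsClosedMap
      (pullback.snd f (𝔸(ULift.{u} (Fin n); Spec (.of A)) ↘ Spec (.of A))).base) :
    UniversallyClosed f := by
  apply UCCore.universallyClosed_of_finiteType_affine
  intro C₁ _ _ hft
  obtain ⟨n, g, hg⟩ := Algebra.FiniteType.iff_quotient_mvPolynomial''.mp hft
  let σ := ULift.{u} (Fin n)
  let g' : MvPolynomial σ A →ₐ[A] C₁ :=
    g.comp (MvPolynomial.renameEquiv A (Equiv.ulift : σ ≃ Fin n)).toAlgHom
  have hg' : Function.Surjective g' :=
    hg.comp (MvPolynomial.renameEquiv A (Equiv.ulift : σ ≃ Fin n)).surjective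
  have hci : IsClosedImmersion (Spec.map (CommRingCat.ofHom g'.toRingHom)) :=
    IsClosedImmersion.spec_of_surjective _ hg'
  let i : Spec (.of C₁) ⟶ 𝔸(σ; Spec (.of A)) :=
    Spec.map (CommRingCat.ofHom g'.toRingHom) ≫ (AffineSpace.SpecIso σ (.of A)).inv
  have hi : i ≫ (𝔸(σ; Spec (.of A)) ↘ Spec (.of A)) =
      Spec.map (CommRingCat.ofHom (algebraMap A C₁)) := by
    rw [Category.assoc, AffineSpace.SpecIso_inv_over, ← Spec.map_comp, ← CommRingCat.ofHom_comp]
    congr 2
    ext a
    simp
  rw [← hi]
  exact isClosedMap_snd_comp_of_isClosedImmersion f _ i (Hn n)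

/-- **Stacks 05JX** (the hard direction): a quasi-compact morphism all of whose base changes to
affine spaces `𝔸ⁿ_S` are closed maps is universally closed. -/
theorem universallyClosed_of_affineSpace {X S : Scheme.{u}} (f : X ⟶ S) [QuasiCompact f]
    (Hn : ∀ n : ℕ, IsClosedMap (pullback.snd f (𝔸(ULift.{u} (Fin n); S) ↘ S)).base) :
    UniversallyClosed f := by
  rw [IsZariskiLocalAtTarget.iff_of_openCover (P := @UniversallyClosed) S.affineCover]
  intro i
  let R : Type u := S.affineOpenCover.X i
  let c : Spec (.of R) ⟶ S := S.affineCover.f i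
  have hc : IsOpenImmersion c := inferInstanceAs (IsOpenImmersion (S.affineCover.f i))
  let fi : pullback f c ⟶ Spec (.of R) := pullback.snd f c
  change UniversallyClosed fi
  refine universallyClosed_of_affineSpace_affine fi ?_
  intro n
  let σ := ULift.{u} (Fin n)
  have hop : IsOpenImmersion (AffineSpace.map σ c) :=
    MorphismProperty.of_isPullback (AffineSpace.isPullback_map c).flip inferInstance
  have s1 := (IsPullback.of_hasPullback fi (𝔸(σ; Spec (.of R)) ↘ Spec (.of R))).paste_horiz
    (IsPullback.of_hasPullback f c)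
  rw [← AffineSpace.map_over] at s1
  exact isClosedMap_of_isPullback_of_isOpenImmersion
    (IsPullback.of_right' s1 (IsPullback.of_hasPullback f (𝔸(σ; S) ↘ S))) (Hn n)

end Groth.Agent.H22.UCAn
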