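import Mathlib.AlgebraicGeometry.ValuativeCriterion
import Groth.Agent.H22.DVRSpec
import Groth.Agent.H22.UCAn

/-!
# The DVR criterion for universal closedness over a locally Noetherian base (helper22)
Stacks 0CM1-ish / EGA II 7.3.8.
-/

set_option autoImplicit false
universe u
open CategoryTheory CategoryTheory.Limits AlgebraicGeometry

namespace Groth.Agent.H22.DVRUC

/-- The existence part of the valuative criterion, tested on discrete valuation rings only. -/
def DVRExist {X S : Scheme.{u}} (f : X ⟶ S) : Prop :=
  ∀ (A : Type u) [CommRing A] [IsDomain A] [IsDiscreteValuationRing A]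
    (x : Spec (CommRingCat.of (FractionRing A)) ⟶ X) (y : Spec (CommRingCat.of A) ⟶ S),
    x ≫ f = Spec.map (CommRingCat.ofHom (algebraMap A (FractionRing A))) ≫ y →
    ∃ l : Spec (CommRingCat.of A) ⟶ X, l ≫ f = y ∧
      Spec.map (CommRingCat.ofHom (algebraMap A (FractionRing A))) ≫ l = x

lemma DVRExist.baseChange {X S T : Scheme.{u}} {f : X ⟶ S} (H : DVRExist f) (h : T ⟶ S) :
    DVRExist (pullback.snd f h) := by
  intro A _ _ _ x y hxy
  obtain ⟨l, hl1, hl2⟩ := H A (x ≫ pullback.fst f h) (y ≫ h) (by
    rw [Category.assoc, pullback.condition, ← Category.assoc, hxy, Category.assoc])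
  refine ⟨pullback.lift l y hl1, pullback.lift_snd _ _ _, ?_⟩
  apply pullback.hom_ext
  · rw [Category.assoc, pullback.lift_fst, hl2]
  · rw [Category.assoc, pullback.lift_snd, hxy]

set_option maxHeartbeats 400000 in
theorem specializingMap_of_dvrExist {X Y : Scheme.{u}} [IsLocallyNoetherian Y] (g : X ⟶ Y)
    [LocallyOfFiniteType g] (H : DVRExist g) : SpecializingMap g.base := by
  intro z w hzw
  by_cases hw : w = g.base z
  · exact ⟨z, specializes_rfl, hw.symm⟩
  obtain ⟨A, h, hA, hcl, hcomm⟩ :=
    DVRSpec.exists_dvr_through_specialization g z w hzw hw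
  let j : Spec (X.residueField z) ⟶ Spec (CommRingCat.of A) :=
    Spec.map (CommRingCat.ofHom A.subtype)
  let e' : X.residueField z →+* FractionRing A :=
    ((FractionRing.algEquiv A (X.residueField z)).symm : X.residueField z →+* FractionRing A)
  have hι : Spec.map (CommRingCat.ofHom (algebraMap A (FractionRing A))) =
      Spec.map (CommRingCat.ofHom e') ≫ j := by
    change _ = Spec.map (CommRingCat.ofHom e') ≫ Spec.map (CommRingCat.ofHom A.subtype)
    rw [← Spec.map_comp]
    congr 1
    ext a
    exact ((FractionRing.algEquiv A (X.residueField z)).symm.commutes a).symm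
  obtain ⟨l, hl1, hl2⟩ := H A (Spec.map (CommRingCat.ofHom e') ≫ X.fromSpecResidueField z) h (by
    rw [Category.assoc, ← hcomm, hι, Category.assoc]; rfl)

  refine ⟨l.base (IsLocalRing.closedPoint A), ?_, ?_⟩
  · -- `z ⤳ l (closed point)`
    have hgen : l.base ((Spec.map (CommRingCat.ofHom (algebraMap A (FractionRing A)))).base
        (IsLocalRing.closedPoint (FractionRing A))) = z := by
      have h1 := congrArg (fun φ => φ.base (IsLocalRing.closedPoint (FractionRing A))) hl2
      exact h1.trans (Scheme.fromSpecResidueField_apply z _)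
    have hsp := (IsLocalRing.specializes_closedPoint
      ((Spec.map (CommRingCat.ofHom (algebraMap A (FractionRing A)))).base
        (IsLocalRing.closedPoint (FractionRing A)))).map l.base.hom.continuous
    rw [hgen] at hsp
    exact hsp
  · rw [← hcl, ← hl1]
    rfl

/-- **Noetherian valuative criterion (existence part)**: over a locally Noetherian base, a morphism
of finite type satisfying the existence part of the valuative criterion for discrete valuation rings
is universally closed. -/
theorem universallyClosed_of_dvrExist {X S : Scheme.{u}} [IsLocallyNoetherian S] (f : X ⟶ S)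
    [LocallyOfFiniteType f] [QuasiCompact f] (H : DVRExist f) : UniversallyClosed f := by
  apply UCAn.universallyClosed_of_affineSpace
  intro n
  have : IsLocallyNoetherian 𝔸(ULift.{u} (Fin n); S) :=
    LocallyOfFiniteType.isLocallyNoetherian (𝔸(ULift.{u} (Fin n); S) ↘ S)
  exact (isClosedMap_iff_specializingMap _).mpr
    (specializingMap_of_dvrExist _ (H.baseChange _))

theorem dvrExist_of_universallyClosed {X S : Scheme.{u}} (f : X ⟶ S) [UniversallyClosed f] :
    DVRExist f := by
  intro A _ _ _ x y hxy
  have hE : ValuativeCriterion.Existence f := by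
    have := UniversallyClosed.eq_valuativeCriterion
    have h2 : (ValuativeCriterion.Existence ⊓ @QuasiCompact) f := by
      rw [← this]; infer_instance
    exact h2.1
  let Sq : ValuativeCommSq f :=
    { R := A
      K := FractionRing A
      i₁ := x
      i₂ := y
      commSq := ⟨hxy⟩ }
  obtain ⟨⟨l, h1, h2⟩⟩ := hE Sq
  exact ⟨l, h2, h1⟩

end Groth.Agent.H22.DVRUC
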