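import Mathlib
import Groth.Prelude.Def_Coh
import Groth.Agent.H18.HH0Sections

/-! Morphisms from a scheme with only constant global functions and a rational point:
if the image is a point, the morphism is constant. -/

set_option autoImplicit false
set_option linter.style.haveILetI false
universe u

open AlgebraicGeometry CategoryTheory CategoryTheory.Limits TopologicalSpace Opposite

namespace Groth.Agent.H22.AlbConst

/-- If `H⁰(X, O_X)` is one-dimensional over `k`, then `k → Γ(X, O_X)` is surjective. -/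
theorem surjective_toGlobal_of_finrank (k : Type u) [Field k] (X : Scheme.{u})
    [X.Over (Spec (CommRingCat.of k))]
    (h0 : Module.finrank k (Coh.HH X (Coh.structureModule X) 0) = 1) :
    Function.Surjective (Coh.toGlobal (X ↘ Spec (CommRingCat.of k))) := by
  intro (g : Γ(X, ⊤))
  let e : Coh.HH X (Coh.structureModule X) 0 ≃+ Γ(X, ⊤) :=
    Groth.Agent.H18.HH0.equiv (Coh.structureModule X)
  obtain ⟨v, hv, hspan⟩ := finrank_eq_one_iff'.mp h0
  let φ : k →+* Γ(X, ⊤) := Coh.toGlobal (X ↘ Spec (CommRingCat.of k))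
  have hsm : ∀ (c : k) (w : Coh.HH X (Coh.structureModule X) 0),
      e (c • w) = φ c * e w := by
    intro c w
    rw [Groth.Agent.H18.HH0.smul_def']
    exact Groth.Agent.H18.HH0.equiv_smul (Coh.structureModule X) _ w
  obtain ⟨c1, hc1⟩ := hspan (e.symm (1 : Γ(X, ⊤)))
  obtain ⟨c, hc⟩ := hspan (e.symm g)
  have h1 : φ c1 * e v = 1 := by
    rw [← hsm, hc1]
    exact e.apply_symm_apply _
  have hg : φ c * e v = g := by
    rw [← hsm, hc]
    exact e.apply_symm_apply _
  by_cases hc0 : c1 = 0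
  · rw [hc0, map_zero, zero_mul] at h1
    refine ⟨0, ?_⟩
    change φ 0 = g
    calc φ 0 = 0 := map_zero _
      _ = g * 0 := (mul_zero g).symm
      _ = g * 1 := by rw [h1]
      _ = g := mul_one g
  · refine ⟨c * c1⁻¹, ?_⟩
    change φ (c * c1⁻¹) = g
    have h2 : e v = φ c1⁻¹ := by
      calc e v = φ (c1⁻¹ * c1) * e v := by rw [inv_mul_cancel₀ hc0, map_one, one_mul]
        _ = φ c1⁻¹ * (φ c1 * e v) := by rw [map_mul, mul_assoc]
        _ = φ c1⁻¹ := by rw [h1, mul_one]
    rw [map_mul, ← h2, hg]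

theorem surjective_appTop_of_finrank (k : Type u) [Field k] (X : Scheme.{u})
    [X.Over (Spec (CommRingCat.of k))]
    (h0 : Module.finrank k (Coh.HH X (Coh.structureModule X) 0) = 1) :
    Function.Surjective (X ↘ Spec (CommRingCat.of k)).appTop := by
  have h := surjective_toGlobal_of_finrank k X h0
  unfold Coh.toGlobal at h
  exact Function.Surjective.of_comp
    (f := ⇑(X ↘ Spec (CommRingCat.of k)).appTop.hom)
    (g := ⇑(Scheme.ΓSpecIso (CommRingCat.of k)).inv.hom) h

/-- A morphism whose image is a single point, from a scheme `X` over `S` with `Γ(S) → Γ(X)`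
surjective and a section `σ`, is constant. -/
theorem eq_of_range_subsingleton {X A S : Scheme.{u}} [Nonempty S] (p : X ⟶ S) (σ : S ⟶ X)
    (hσ : σ ≫ p = 𝟙 S) (hp : Function.Surjective p.appTop) (f : X ⟶ A)
    (hf : (Set.range f.base).Subsingleton) : f = p ≫ σ ≫ f := by
  obtain ⟨s₀⟩ := ‹Nonempty S›
  let a₀ : A := f.base (σ.base s₀)
  obtain ⟨_, ⟨U₀, hU, rfl⟩, ha₀U, -⟩ := A.isBasis_affineOpens.exists_subset_of_mem_open
    (Set.mem_univ a₀) isOpen_univ
  let U : A.Opens := U₀
  have hrange : Set.range f.base ⊆ Set.range U.ι.base := by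
    rintro _ ⟨x, rfl⟩
    rw [Scheme.Opens.range_ι]
    have : f.base x = a₀ := hf ⟨x, rfl⟩ ⟨_, rfl⟩
    rw [this]
    exact ha₀U
  let g : X ⟶ U := IsOpenImmersion.lift U.ι f hrange
  have hg : g ≫ U.ι = f := IsOpenImmersion.lift_fac U.ι f hrange
  haveI : IsAffine (U : Scheme.{u}) := hU
  have h1 : p.appTop ≫ σ.appTop = 𝟙 _ := by
    rw [← Scheme.Hom.comp_appTop, hσ]
    rfl
  have h2 : σ.appTop ≫ p.appTop = 𝟙 _ := by
    ext s
    obtain ⟨c, rfl⟩ := hp s
    have := congr($(h1) c)
    simp only [CommRingCat.comp_apply, CommRingCat.id_apply] at this ⊢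
    rw [this]
  have h3 : g = p ≫ σ ≫ g := by
    apply ext_of_isAffine
    rw [Scheme.Hom.comp_appTop, Scheme.Hom.comp_appTop, Category.assoc, h2, Category.comp_id]
  calc f = g ≫ U.ι := hg.symm
    _ = (p ≫ σ ≫ g) ≫ U.ι := by rw [← h3]
    _ = p ≫ σ ≫ f := by rw [Category.assoc, Category.assoc, hg]

end Groth.Agent.H22.AlbConst
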