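import Mathlib
import Groth.Agent.S14577
import Groth.Agent.H67.ConstFun
import Groth.Agent.H22.AlbConst

/-! Rigidity for proper geometrically integral schemes over a field, in group form. -/

set_option autoImplicit false
set_option linter.style.haveILetI false
universe u

open CategoryTheory MonoidalCategory CartesianMonoidalCategory MonObj GrpObj AlgebraicGeometry
  CategoryTheory.Limits

namespace Groth.Agent.H22.AbRigid

theorem geometricallyConnected_of_geometricallyIrreducible {X S : Scheme.{u}} (f : X ⟶ S)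
    [GeometricallyIrreducible f] : GeometricallyConnected f := by
  refine ⟨fun K _ y Z fst snd h => ?_⟩
  haveI : IrreducibleSpace Z :=
    GeometricallyIrreducible.geometrically_irreducibleSpace (f := f) y fst snd h
  infer_instance

variable (k : Type u) [Field k]

theorem bijective_appTop (X : Over (Spec (CommRingCat.of k))) [IsProper X.hom]
    [GeometricallyIntegral X.hom] :
    Function.Bijective ((Scheme.ΓSpecIso (CommRingCat.of k)).inv ≫ X.hom.appTop).hom := by
  letI : X.left.Over (Spec (CommRingCat.of k)) := ⟨X.hom⟩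
  haveI : IsProper (X.left ↘ Spec (CommRingCat.of k)) := ‹IsProper X.hom›
  haveI : GeometricallyReduced (X.left ↘ Spec (CommRingCat.of k)) :=
    inferInstanceAs (GeometricallyReduced X.hom)
  haveI : GeometricallyConnected (X.left ↘ Spec (CommRingCat.of k)) :=
    geometricallyConnected_of_geometricallyIrreducible X.hom
  have h0 := Groth.Agent.H67.ConstFun.finrank_hh_zero k X.left
  have hs := Groth.Agent.H22.AlbConst.surjective_toGlobal_of_finrank k X.left h0
  haveI : Nonempty X.left := by
    obtain ⟨x, -⟩ := (inferInstance : Surjective X.hom).surj (IsLocalRing.closedPoint k)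
    exact ⟨x⟩
  haveI : Nonempty (⊤ : X.left.Opens) := ⟨⟨Classical.arbitrary X.left, trivial⟩⟩
  haveI : Nontrivial Γ(X.left, ⊤) := inferInstance
  haveI : Nontrivial (Coh.Γtop X.left) := ‹Nontrivial Γ(X.left, ⊤)›
  refine ⟨?_, hs⟩
  exact RingHom.injective (Coh.toGlobal (X.left ↘ Spec (CommRingCat.of k)))

section Rigid

variable {k}
variable (X Y Z : Over (Spec (CommRingCat.of k))) [GrpObj Z] [IsProper X.hom]
  [GeometricallyIntegral X.hom] [IsSeparated Y.hom] [IsLocallyNoetherian Y.left]
  [IrreducibleSpace ↥Y.left] [IsReduced Y.left] [IsSeparated Z.hom]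

/-- Rigidity: a morphism `X × Y → Z` into a group which is trivial on `X × {y₀}` and on
`{x₀} × Y` is trivial. -/
theorem eq_one_of_restrict_eq_one (x₀ : 𝟙_ (Over (Spec (CommRingCat.of k))) ⟶ X)
    (y₀ : 𝟙_ (Over (Spec (CommRingCat.of k))) ⟶ Y) (F : X ⊗ Y ⟶ Z)
    (h1 : lift (𝟙 X) (toUnit X ≫ y₀) ≫ F = 1) (h2 : lift (toUnit Y ≫ x₀) (𝟙 Y) ≫ F = 1) :
    F = 1 := by
  have hw : X ◁ y₀ = fst X (𝟙_ _) ≫ lift (𝟙 X) (toUnit X ≫ y₀) := by
    apply CartesianMonoidalCategory.hom_ext
    · simp
    · simp only [whiskerLeft_snd, Category.assoc, lift_snd]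
      rw [← Category.assoc]
      congr 1
      exact toUnit_unique _ _
  have hl : lift x₀ y₀ = x₀ ≫ lift (𝟙 X) (toUnit X ≫ y₀) := by
    apply CartesianMonoidalCategory.hom_ext
    · simp
    · simp only [lift_snd, Category.assoc]
      rw [← Category.assoc, toUnit_unique (x₀ ≫ toUnit X) (𝟙 _), Category.id_comp]
  have hf : (X ◁ y₀) ≫ F = toUnit _ ≫ lift x₀ y₀ ≫ F := by
    rw [hw, hl, Category.assoc, Category.assoc, h1, MonObj.comp_one, MonObj.comp_one,
      MonObj.comp_one]
  have key := Groth.Agent.S14577.result k X Y Z (bijective_appTop k X) x₀ y₀ F hf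
  rw [key, h2, MonObj.comp_one]

end Rigid

section Hom

variable {k}
variable (A A' : Over (Spec (CommRingCat.of k))) [GrpObj A] [GrpObj A'] [IsProper A.hom]
  [GeometricallyIntegral A.hom] [IsSeparated A'.hom]

theorem isIntegral_left (X : Over (Spec (CommRingCat.of k))) [GeometricallyIntegral X.hom] :
    IsIntegral X.left := by
  haveI : Subsingleton ↥(Spec (CommRingCat.of k)) :=
    inferInstanceAs (Subsingleton (PrimeSpectrum k))
  exact GeometricallyIntegral.isIntegral_of_subsingleton (f := X.hom)

theorem isLocallyNoetherian_left (X : Over (Spec (CommRingCat.of k)))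
    [LocallyOfFiniteType X.hom] : IsLocallyNoetherian X.left :=
  LocallyOfFiniteType.isLocallyNoetherian X.hom

/-- A morphism from an abelian variety to a separated group scheme which preserves the unit is
a homomorphism. -/
theorem isMonHom_of_one_hom (g : A ⟶ A') (hg : η[A] ≫ g = η[A']) : IsMonHom g := by
  haveI := isIntegral_left A
  haveI := isLocallyNoetherian_left A
  let F : A ⊗ A ⟶ A' := (μ[A] ≫ g) * ((fst A A ≫ g) * (snd A A ≫ g))⁻¹
  have hone : ∀ {T : Over (Spec (CommRingCat.of k))} (t : T ⟶ 𝟙_ _), t ≫ η[A] ≫ g = 1 := by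
    intro T t
    rw [hg, toUnit_unique t (toUnit T)]
    rfl
  have h1 : lift (𝟙 A) (toUnit A ≫ η[A]) ≫ F = 1 := by
    simp only [F, MonObj.comp_mul, GrpObj.comp_inv, lift_fst_assoc, lift_snd_assoc,
      Category.id_comp, Category.assoc]
    rw [← Category.assoc (lift _ _) μ g, lift_comp_one_right, hone, Category.id_comp,
      _root_.mul_one, mul_inv_cancel]
  have h2 : lift (toUnit A ≫ η[A]) (𝟙 A) ≫ F = 1 := by
    simp only [F, MonObj.comp_mul, GrpObj.comp_inv, lift_fst_assoc, lift_snd_assoc,
      Category.id_comp, Category.assoc]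
    rw [← Category.assoc (lift _ _) μ g, lift_comp_one_left, hone, Category.id_comp,
      _root_.one_mul, mul_inv_cancel]
  have hF := eq_one_of_restrict_eq_one A A A' η[A] η[A] F h1 h2
  have hmul : μ[A] ≫ g = (fst A A ≫ g) * (snd A A ≫ g) := by
    have : (μ[A] ≫ g) * ((fst A A ≫ g) * (snd A A ≫ g))⁻¹ = 1 := hF
    exact mul_inv_eq_one.mp this
  refine ⟨hg, ?_⟩
  rw [hmul, Hom.mul_def]
  congr 1

end Hom

end Groth.Agent.H22.AbRigid
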