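import Mathlib

/-!
# Affine neighbourhoods of finite sets of points

* `exists_basicOpen_of_finite`: prime avoidance — a finite set of points of an affine open `U`
  lying in an open `O` is contained in a basic open `D(g) ≤ O`, `g ∈ Γ(U)`.
* `exists_affineOpen_fibre`: for `f` separated, locally of finite type and quasi-compact, a finite
  set of quasi-finite points of a fibre lies in an affine open inside the quasi-finite locus mapping
  into a given affine open of the target (Zariski's main theorem).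
-/

set_option autoImplicit false
universe u
open CategoryTheory CategoryTheory.Limits AlgebraicGeometry TopologicalSpace

namespace Groth.Agent.H22.AffNhd

/-- Prime avoidance for points of an affine open. -/
theorem exists_basicOpen_of_finite {N : Scheme.{u}} {U : N.Opens} (hU : IsAffineOpen U)
    (O : N.Opens) (S : Set N) (hS : S.Finite) (hSU : S ⊆ U) (hSO : S ⊆ O) :
    ∃ g : Γ(N, U), S ⊆ N.basicOpen g ∧ N.basicOpen g ≤ O := by
  classical
  by_cases hne : S = ∅
  · refine ⟨0, ?_, ?_⟩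
    · rw [hne]; exact Set.empty_subset _
    · rw [Scheme.basicOpen_zero]; exact bot_le
  obtain ⟨s₀, hs₀⟩ := Set.nonempty_iff_ne_empty.mpr hne
  -- the ideal of functions whose basic open lies in `O`
  let I : Ideal Γ(N, U) :=
    { carrier := {g | N.basicOpen g ≤ O}
      add_mem' := fun {a b} ha hb => (N.basicOpen_add_le a b).trans (sup_le ha hb)
      zero_mem' := by
        change N.basicOpen (0 : Γ(N, U)) ≤ O
        rw [Scheme.basicOpen_zero]; exact bot_le
      smul_mem' := fun c {g} hg => by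
        change N.basicOpen (c * g) ≤ O
        rw [Scheme.basicOpen_mul]
        exact inf_le_right.trans hg }
  let P : N → Ideal Γ(N, U) := fun x =>
    if hx : x ∈ U then Ideal.comap (N.presheaf.germ U x hx).hom
      (IsLocalRing.maximalIdeal (N.presheaf.stalk x)) else ⊤
  have hPeq : ∀ x (hx : x ∈ U), P x = Ideal.comap (N.presheaf.germ U x hx).hom
      (IsLocalRing.maximalIdeal (N.presheaf.stalk x)) := fun x hx => dif_pos hx
  have hPprime : ∀ x ∈ S, (P x).IsPrime := by
    intro x hx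
    rw [hPeq x (hSU hx)]
    infer_instance
  have hPmem : ∀ x ∈ S, ∀ g : Γ(N, U), g ∈ P x ↔ x ∉ N.basicOpen g := by
    intro x hx g
    rw [hPeq x (hSU hx), Ideal.mem_comap, IsLocalRing.mem_maximalIdeal, mem_nonunits_iff,
      Scheme.mem_basicOpen _ _ _ (hSU hx)]
  have hnot : ¬ ((I : Set Γ(N, U)) ⊆ ⋃ x ∈ S, (P x : Set Γ(N, U))) := by
    rw [Ideal.subset_union_prime_finite hS s₀ s₀ (fun x hx _ _ => hPprime x hx)]
    rintro ⟨x, hx, hIx⟩
    obtain ⟨g, hgO, hxg⟩ := hU.exists_basicOpen_le (V := O) ⟨x, hSO hx⟩ (hSU hx)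
    exact ((hPmem x hx g).mp (hIx hgO)) hxg
  obtain ⟨g, hgI, hgP⟩ := Set.not_subset.mp hnot
  refine ⟨g, fun x hx => ?_, hgI⟩
  by_contra hxg
  exact hgP (Set.mem_biUnion hx ((hPmem x hx g).mpr hxg))

/-- Zariski's main theorem: a finite set of quasi-finite points of a separated morphism mapping
into an affine open `V` has an affine open neighbourhood inside the quasi-finite locus and
`f ⁻¹ V`. -/
theorem exists_affineOpen_fibre {X Y : Scheme.{u}} (f : X ⟶ Y) [LocallyOfFiniteType f]
    [IsSeparated f] [QuasiCompact f] {V : Y.Opens} (hV : IsAffineOpen V) (S : Set X)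
    (hS : S.Finite) (hSQ : ∀ x ∈ S, f.QuasiFiniteAt x) (hSV : ∀ x ∈ S, f x ∈ V) :
    ∃ W : X.Opens, IsAffineOpen W ∧ S ⊆ W ∧ W ≤ f.quasiFiniteLocus ∧ W ≤ f ⁻¹ᵁ V := by
  let Q := f.quasiFiniteLocus
  let j : (Q : Scheme.{u}) ⟶ f.normalization := Q.ι ≫ f.toNormalization
  let π := f.fromNormalization
  have hjπ : ∀ x : Q, π (j x) = f x.1 := by
    intro x
    have h1 : j ≫ π = Q.ι ≫ f := by
      simp only [j, π, Category.assoc, Scheme.Hom.toNormalization_fromNormalization]
    have := congrArg (fun g : (Q : Scheme.{u}) ⟶ Y => g x) h1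
    simpa using this
  have hNV : IsAffineOpen (π ⁻¹ᵁ V) := hV.preimage π
  let S' : Set f.normalization := j '' (Q.ι ⁻¹' S)
  have hS' : S'.Finite :=
    (hS.preimage (Q.ι.isOpenEmbedding.injective.injOn)).image _
  have hS'V : S' ⊆ (π ⁻¹ᵁ V : f.normalization.Opens) := by
    rintro _ ⟨x, hx, rfl⟩
    change π (j x) ∈ V
    rw [hjπ x]
    exact hSV _ hx
  have hS'O : S' ⊆ (j.opensRange : f.normalization.Opens) := by
    rintro _ ⟨x, -, rfl⟩
    exact ⟨x, rfl⟩
  obtain ⟨g, hgS, hgO⟩ := exists_basicOpen_of_finite hNV j.opensRange S' hS' hS'V hS'O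
  have hD : IsAffineOpen (f.normalization.basicOpen g) := hNV.basicOpen g
  have hDV : f.normalization.basicOpen g ≤ π ⁻¹ᵁ V := Scheme.basicOpen_le _ _
  have hWQ : IsAffineOpen (j ⁻¹ᵁ f.normalization.basicOpen g) :=
    hD.preimage_of_isOpenImmersion j hgO
  refine ⟨Q.ι ''ᵁ (j ⁻¹ᵁ f.normalization.basicOpen g), hWQ.image_of_isOpenImmersion Q.ι,
    ?_, ?_, ?_⟩
  · intro x hx
    have hxQ : x ∈ Q := hSQ x hx
    refine ⟨⟨x, hxQ⟩, ?_, rfl⟩
    exact hgS ⟨⟨x, hxQ⟩, hx, rfl⟩
  · rintro _ ⟨x, -, rfl⟩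
    exact x.2
  · rintro _ ⟨x, hx, rfl⟩
    change f x.1 ∈ V
    rw [← hjπ x]
    exact hDV hx

end Groth.Agent.H22.AffNhd
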