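import Mathlib

/-! Homomorphisms out of a product of group objects in a cartesian monoidal category. -/

set_option autoImplicit false
universe v u

open CategoryTheory MonoidalCategory CartesianMonoidalCategory MonObj GrpObj

namespace Groth.Agent.H22.ProdHom

variable {C : Type u} [Category.{v} C] [CartesianMonoidalCategory C] [BraidedCategory C]
variable {A B G : C} [GrpObj A] [GrpObj B] [GrpObj G]

theorem isMonHom_mul_of_commute (h₁ : A ⟶ G) (h₂ : B ⟶ G) [IsMonHom h₁] [IsMonHom h₂]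
    (hcomm : (fst A B ≫ h₁) * (snd A B ≫ h₂) = (snd A B ≫ h₂) * (fst A B ≫ h₁)) :
    IsMonHom ((fst A B ≫ h₁) * (snd A B ≫ h₂)) := by
  constructor
  · rw [MonObj.comp_mul, ← Category.assoc, ← Category.assoc, IsMonHom.one_hom (fst A B),
      IsMonHom.one_hom (snd A B), IsMonHom.one_hom h₁, IsMonHom.one_hom h₂, MonObj.one_eq_one,
      _root_.one_mul]
  · set u := fst A B ≫ h₁ with hu
    set v := snd A B ≫ h₂ with hv
    set p := fst (A ⊗ B) (A ⊗ B) with hp
    set q := snd (A ⊗ B) (A ⊗ B) with hq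
    haveI : IsMonHom u := by rw [hu]; infer_instance
    haveI : IsMonHom v := by rw [hv]; infer_instance
    have hL : μ[A ⊗ B] ≫ (u * v) = ((p ≫ u) * (q ≫ u)) * ((p ≫ v) * (q ≫ v)) := by
      rw [MonObj.mul_eq_mul, MonObj.comp_mul, MonObj.mul_comp, MonObj.mul_comp]
    have hR : ((u * v) ⊗ₘ (u * v)) ≫ μ[G] = ((p ≫ u) * (p ≫ v)) * ((q ≫ u) * (q ≫ v)) := by
      have : ((u * v) ⊗ₘ (u * v)) = lift (p ≫ (u * v)) (q ≫ (u * v)) := by
        apply CartesianMonoidalCategory.hom_ext <;> simp [hp, hq]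
      rw [this, ← Hom.mul_def, MonObj.comp_mul, MonObj.comp_mul]
    have hc : (q ≫ u) * (p ≫ v) = (p ≫ v) * (q ≫ u) := by
      let w : (A ⊗ B) ⊗ (A ⊗ B) ⟶ A ⊗ B := lift (q ≫ fst A B) (p ≫ snd A B)
      have e1 : w ≫ u = q ≫ u := by simp [w, hu]
      have e2 : w ≫ v = p ≫ v := by simp [w, hv]
      have := congrArg (fun t => w ≫ t) hcomm
      simp only [MonObj.comp_mul] at this
      rw [e1, e2] at this
      exact this
    rw [hL, hR, _root_.mul_assoc, ← _root_.mul_assoc (q ≫ u), hc, _root_.mul_assoc,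
      ← _root_.mul_assoc (p ≫ u)]

variable (A B) in
/-- the inclusion `A → A × B` -/
abbrev i₁ : A ⟶ A ⊗ B := lift (𝟙 A) (toUnit A ≫ η[B])

variable (A B) in
/-- the inclusion `B → A × B` -/
abbrev i₂ : B ⟶ A ⊗ B := lift (toUnit B ≫ η[A]) (𝟙 B)

theorem id_eq_mul : 𝟙 (A ⊗ B) = (fst A B ≫ i₁ A B) * (snd A B ≫ i₂ A B) := by
  have hone : ∀ {T M : C} [MonObj M] (t : T ⟶ 𝟙_ C), t ≫ η[M] = 1 := by
    intro T M _ t
    rw [Hom.one_def, toUnit_unique t (toUnit T)]
  apply CartesianMonoidalCategory.hom_ext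
  · rw [MonObj.mul_comp, Category.id_comp, Category.assoc, Category.assoc, lift_fst, lift_fst,
      Category.comp_id, ← Category.assoc, hone, _root_.mul_one]
  · rw [MonObj.mul_comp, Category.id_comp, Category.assoc, Category.assoc, lift_snd, lift_snd,
      Category.comp_id, ← Category.assoc, hone, _root_.one_mul]

theorem eq_mul_of_isMonHom (h : A ⊗ B ⟶ G) [IsMonHom h] :
    h = (fst A B ≫ i₁ A B ≫ h) * (snd A B ≫ i₂ A B ≫ h) := by
  conv_lhs => rw [← Category.id_comp h, id_eq_mul, MonObj.mul_comp]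
  simp only [Category.assoc]

end Groth.Agent.H22.ProdHom
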