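import Mathlib
import Groth.Agent.H22.AbRigid
import Groth.Agent.H22.ProdHom

/-! The Albanese of a product is the product of the Albaneses. -/

set_option autoImplicit false
set_option linter.style.haveILetI false
universe u

open CategoryTheory MonoidalCategory CartesianMonoidalCategory MonObj GrpObj AlgebraicGeometry
  CategoryTheory.Limits

namespace Groth.Agent.H22.AlbProd

open Groth.Agent.H22

theorem albanese_prod (k : Type u) [Field k] (XX YY : Over (Spec (CommRingCat.of k)))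
    [IsProper XX.hom] [IsProper YY.hom] [GeometricallyIntegral XX.hom]
    [GeometricallyIntegral YY.hom]
    (x₀ : 𝟙_ (Over (Spec (CommRingCat.of k))) ⟶ XX) (y₀ : 𝟙_ (Over (Spec (CommRingCat.of k))) ⟶ YY)
    (A : Over (Spec (CommRingCat.of k))) [GrpObj A] [IsProper A.hom] [GeometricallyIntegral A.hom]
    (albX : XX ⟶ A) (halbX : x₀ ≫ albX = η[A])
    (B : Over (Spec (CommRingCat.of k))) [GrpObj B] [IsProper B.hom] [GeometricallyIntegral B.hom]
    (albY : YY ⟶ B) (halbY : y₀ ≫ albY = η[B])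
    (C : Over (Spec (CommRingCat.of k))) [GrpObj C] [IsSeparated C.hom]
    (hA : ∀ g : XX ⟶ C, x₀ ≫ g = η[C] → ∃! h : A ⟶ C, IsMonHom h ∧ albX ≫ h = g)
    (hB : ∀ g : YY ⟶ C, y₀ ≫ g = η[C] → ∃! h : B ⟶ C, IsMonHom h ∧ albY ≫ h = g)
    (g : XX ⊗ YY ⟶ C) (hg : lift x₀ y₀ ≫ g = η[C]) :
    ∃! h : A ⊗ B ⟶ C, IsMonHom h ∧ (albX ⊗ₘ albY) ≫ h = g := by
  have hu1 : ∀ (t : 𝟙_ (Over (Spec (CommRingCat.of k))) ⟶ 𝟙_ (Over (Spec (CommRingCat.of k)))),
      t = 𝟙 _ := fun t => toUnit_unique _ _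
  have hone : ∀ {T M : Over (Spec (CommRingCat.of k))} [MonObj M]
      (t : T ⟶ 𝟙_ (Over (Spec (CommRingCat.of k)))), t ≫ η[M] = 1 := by
    intro T M _ t
    rw [Hom.one_def, toUnit_unique t (toUnit T)]
  haveI := AbRigid.isIntegral_left YY
  haveI := AbRigid.isLocallyNoetherian_left YY
  haveI := AbRigid.isIntegral_left B
  haveI := AbRigid.isLocallyNoetherian_left B
  obtain ⟨g₁, hg₁d⟩ : ∃ g₁ : XX ⟶ C, g₁ = lift (𝟙 XX) (toUnit XX ≫ y₀) ≫ g := ⟨_, rfl⟩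
  obtain ⟨g₂, hg₂d⟩ : ∃ g₂ : YY ⟶ C, g₂ = lift (toUnit YY ≫ x₀) (𝟙 YY) ≫ g := ⟨_, rfl⟩
  have hg₁ : x₀ ≫ g₁ = η[C] := by
    rw [hg₁d, ← Category.assoc, comp_lift, Category.comp_id, ← Category.assoc,
      hu1 (x₀ ≫ toUnit XX), Category.id_comp, hg]
  have hg₂ : y₀ ≫ g₂ = η[C] := by
    rw [hg₂d, ← Category.assoc, comp_lift, Category.comp_id, ← Category.assoc,
      hu1 (y₀ ≫ toUnit YY), Category.id_comp, hg]
  obtain ⟨h₁, ⟨hh₁, hh₁'⟩, hu₁⟩ := hA g₁ hg₁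
  obtain ⟨h₂, ⟨hh₂, hh₂'⟩, hu₂⟩ := hB g₂ hg₂
  have ha : g = (fst XX YY ≫ g₁) * (snd XX YY ≫ g₂) := by
    have hF := AbRigid.eq_one_of_restrict_eq_one XX YY C x₀ y₀
      (g * ((fst XX YY ≫ g₁) * (snd XX YY ≫ g₂))⁻¹) ?_ ?_
    · exact mul_inv_eq_one.mp hF
    · simp only [MonObj.comp_mul, GrpObj.comp_inv, lift_fst_assoc, lift_snd_assoc,
        Category.id_comp, Category.assoc]
      rw [← hg₁d, hg₂, hone, _root_.mul_one, mul_inv_cancel]
    · simp only [MonObj.comp_mul, GrpObj.comp_inv, lift_fst_assoc, lift_snd_assoc,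
        Category.id_comp, Category.assoc]
      rw [← hg₂d, hg₁, hone, _root_.one_mul, mul_inv_cancel]
  have hcomm : (fst A B ≫ h₁) * (snd A B ≫ h₂) = (snd A B ≫ h₂) * (fst A B ≫ h₁) := by
    have hF := AbRigid.eq_one_of_restrict_eq_one A B C η[A] η[B]
      ((fst A B ≫ h₁) * (snd A B ≫ h₂) * ((snd A B ≫ h₂) * (fst A B ≫ h₁))⁻¹) ?_ ?_
    · exact mul_inv_eq_one.mp hF
    · simp only [MonObj.comp_mul, GrpObj.comp_inv, lift_fst_assoc, lift_snd_assoc,
        Category.id_comp, Category.assoc]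
      rw [IsMonHom.one_hom h₂, hone, _root_.mul_one, _root_.one_mul, mul_inv_cancel]
    · simp only [MonObj.comp_mul, GrpObj.comp_inv, lift_fst_assoc, lift_snd_assoc,
        Category.id_comp, Category.assoc]
      rw [IsMonHom.one_hom h₁, hone, _root_.mul_one, _root_.one_mul, mul_inv_cancel]
  have hmon : IsMonHom ((fst A B ≫ h₁) * (snd A B ≫ h₂)) :=
    ProdHom.isMonHom_mul_of_commute h₁ h₂ hcomm
  refine ⟨(fst A B ≫ h₁) * (snd A B ≫ h₂), ⟨hmon, ?_⟩, ?_⟩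
  · rw [MonObj.comp_mul, tensorHom_fst_assoc, tensorHom_snd_assoc, hh₁', hh₂', ← ha]
  · rintro h' ⟨hh', hh'2⟩
    rw [ProdHom.eq_mul_of_isMonHom h']
    have e1 : ProdHom.i₁ A B ≫ h' = h₁ := by
      refine hu₁ _ ⟨inferInstance, ?_⟩
      rw [hg₁d, ← hh'2, ← Category.assoc, ← Category.assoc, comp_lift, lift_map,
        Category.comp_id, Category.id_comp, Category.assoc, halbY, ← Category.assoc,
        toUnit_unique (albX ≫ toUnit A) (toUnit XX)]
    have e2 : ProdHom.i₂ A B ≫ h' = h₂ := by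
      refine hu₂ _ ⟨inferInstance, ?_⟩
      rw [hg₂d, ← hh'2, ← Category.assoc, ← Category.assoc, comp_lift, lift_map,
        Category.comp_id, Category.id_comp, Category.assoc, halbX, ← Category.assoc,
        toUnit_unique (albY ≫ toUnit B) (toUnit YY)]
    rw [e1, e2]

end Groth.Agent.H22.AlbProd
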