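import Mathlib.RingTheory.ZariskisMainTheorem
import Mathlib.RingTheory.Valuation.LocalSubring
import Groth.Agent.H22.DVRDom

/-!
# Algebraic inputs for extending sections over normal points (helper22)
-/

set_option autoImplicit false

namespace Groth.Agent.H22

open Polynomial

/-- **Zariski's main theorem, birational form.** `A = (A₀)_p` an integrally closed local domain
with fraction field `K`, `C` a finite type `A₀`-algebra mapping to `K`, quasi-finite over `A₀` at
a prime `n` over `p` containing the kernel. Then the image of `C` in `K` lies in `A`. -/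
theorem mem_range_of_quasiFiniteAt {A₀ A K C : Type*} [CommRing A₀] [CommRing A] [Field K]
    [CommRing C] [Algebra A₀ A] [Algebra A K] [Algebra A₀ K] [IsScalarTower A₀ A K] [IsDomain A]
    [IsFractionRing A K] [IsIntegrallyClosed A] [IsLocalRing A]
    (p : Ideal A₀) [p.IsPrime] [IsLocalization.AtPrime A p]
    [Algebra A₀ C] [Algebra.FiniteType A₀ C] (c : C →ₐ[A₀] K) (n : Ideal C) [n.IsPrime]
    (hker : RingHom.ker c ≤ n) (hn : n.comap (algebraMap A₀ C) = p)
    [Algebra.QuasiFiniteAt A₀ n] (t : C) : c t ∈ (algebraMap A K).range := by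
  let cr : C →ₐ[A₀] c.range := c.rangeRestrict
  have hcr : Function.Surjective cr := c.rangeRestrict_surjective
  have hkercr : RingHom.ker cr ≤ n := by
    intro z hz
    apply hker
    rw [RingHom.mem_ker] at hz ⊢
    have := congrArg Subtype.val hz
    simpa [cr] using this
  let n'' : Ideal c.range := n.map cr
  have hn''prime : n''.IsPrime := Ideal.map_isPrime_of_surjective hcr hkercr
  have hcomap : n''.comap cr = n := by
    rw [Ideal.comap_map_of_surjective cr hcr]
    exact sup_eq_left.mpr (by simpa [RingHom.ker] using hkercr)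
  have hQF : Algebra.QuasiFiniteAt A₀ n'' :=
    Algebra.QuasiFiniteAt.of_surjectiveOnStalks n cr
      (RingHom.surjectiveOnStalks_of_surjective hcr) n'' hcomap.symm
  have hFT : Algebra.FiniteType A₀ c.range := Algebra.FiniteType.of_surjective cr hcr
  have hZ := Algebra.ZariskisMainProperty.of_finiteType (R := A₀) n''
  obtain ⟨r, hrn, hrint, hr⟩ := Algebra.zariskisMainProperty_iff.mp hZ
  have key : ∀ y : c.range, IsIntegral A₀ y → ∃ a : A, algebraMap A K a = (y : K) := by
    intro y hy
    have h1 : IsIntegral A₀ (y : K) := hy.map c.range.val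
    have h2 : IsIntegral A (y : K) := h1.tower_top
    exact IsIntegrallyClosed.isIntegral_iff.mp h2
  obtain ⟨a, ha⟩ := key r hrint
  have haunit : IsUnit a := by
    by_contra hnu
    have hmem : a ∈ IsLocalRing.maximalIdeal A := (IsLocalRing.mem_maximalIdeal _).mpr hnu
    obtain ⟨a₀, d, rfl⟩ := IsLocalization.exists_mk'_eq p.primeCompl a
    rw [IsLocalization.AtPrime.mk'_mem_maximal_iff A p a₀ d ‹_›] at hmem
    have h1 : algebraMap A₀ K d * (r : K) = algebraMap A₀ K a₀ := by
      rw [← ha, IsScalarTower.algebraMap_apply A₀ A K, IsScalarTower.algebraMap_apply A₀ A K,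
        ← map_mul, IsLocalization.mk'_spec' A a₀ d]
    have h2 : algebraMap A₀ c.range d * r = algebraMap A₀ c.range a₀ := Subtype.ext h1
    have h3 : algebraMap A₀ c.range a₀ ∈ n'' := by
      rw [← cr.commutes a₀]
      refine Ideal.mem_map_of_mem _ ?_
      have : a₀ ∈ n.comap (algebraMap A₀ C) := hn ▸ hmem
      exact this
    rw [← h2] at h3
    rcases hn''prime.mem_or_mem h3 with h4 | h4
    · have h5 : algebraMap A₀ C d ∈ n := by
        rw [← hcomap, Ideal.mem_comap, cr.commutes]
        exact h4
      have h6 : (d : A₀) ∈ n.comap (algebraMap A₀ C) := h5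
      exact d.2 (hn ▸ h6)
    · exact hrn h4
  obtain ⟨m, hm⟩ := hr (cr t)
  obtain ⟨b, hb⟩ := key _ hm
  obtain ⟨u, hu⟩ := haunit
  refine ⟨↑(u⁻¹ ^ m) * b, ?_⟩
  have hr0 : (r : K) ^ m ≠ 0 := by
    apply pow_ne_zero
    rw [← ha, ← hu]
    exact (map_ne_zero_iff _ (IsFractionRing.injective A K)).mpr u.ne_zero
  apply mul_left_cancel₀ hr0
  have hb' : algebraMap A K b = (r : K) ^ m * c t := by
    rw [hb]
    simp [cr]
  rw [map_mul, ← mul_assoc, hb', ← ha, ← hu, ← map_pow, ← map_mul, ← Units.val_pow_eq_pow_val,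
    ← Units.val_mul]
  simp

/-- **Zariski's main theorem, birational form, subalgebra version.** `A = (A₀)_p` an integrally
closed local domain with fraction field `K`, `C ⊆ K` a finite type `A₀`-subalgebra which is
quasi-finite over `A₀` at a prime `n` over `p`. Then `C ⊆ A`. -/
theorem mem_range_of_quasiFiniteAt_subalgebra {A₀ A K : Type*} [CommRing A₀] [CommRing A]
    [Field K] [Algebra A₀ A] [Algebra A K] [Algebra A₀ K] [IsScalarTower A₀ A K] [IsDomain A]
    [IsFractionRing A K] [IsIntegrallyClosed A] [IsLocalRing A]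
    (p : Ideal A₀) [p.IsPrime] [IsLocalization.AtPrime A p]
    (C : Subalgebra A₀ K) [Algebra.FiniteType A₀ C] (n : Ideal C) [n.IsPrime]
    (hn : n.comap (algebraMap A₀ C) = p) [Algebra.QuasiFiniteAt A₀ n] (t : C) :
    (t : K) ∈ (algebraMap A K).range := by
  have h := mem_range_of_quasiFiniteAt (A := A) p C.val n
    (by
      intro z hz
      rw [RingHom.mem_ker] at hz
      have : z = 0 := Subtype.ext hz
      rw [this]
      exact Ideal.zero_mem _) hn t
  exact h

/-- An integrally closed Noetherian local domain is the intersection of the discrete valuation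
rings of its fraction field which dominate it. -/
theorem exists_dvr_dominating_not_mem {A K : Type*} [CommRing A] [IsDomain A]
    [IsNoetherianRing A] [IsLocalRing A] [Field K] [Algebra A K] [IsFractionRing A K]
    [IsIntegrallyClosed A] {z : K} (hz : z ∉ (algebraMap A K).range) :
    ∃ R : ValuationSubring K, IsDiscreteValuationRing R ∧ (∀ a : A, algebraMap A K a ∈ R) ∧
      (∀ a ∈ IsLocalRing.maximalIdeal A, R.valuation (algebraMap A K a) < 1) ∧ z ∉ R := by
  classical
  have : FaithfulSMul A K := (faithfulSMul_iff_algebraMap_injective A K).mpr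
    (IsFractionRing.injective A K)
  have hz0 : z ≠ 0 := by
    rintro rfl
    exact hz ⟨0, map_zero _⟩
  set y := z⁻¹ with hy
  have hy0 : y ≠ 0 := inv_ne_zero hz0
  letI := invertibleOfNonzero hy0
  let B := Algebra.adjoin A ({y} : Set K)
  let yB : B := ⟨y, Algebra.subset_adjoin rfl⟩
  have hI : (IsLocalRing.maximalIdeal A).map (algebraMap A B) ⊔ Ideal.span {yB} ≠ ⊤ := by
    intro h
    obtain ⟨p, hp, hpx⟩ :=
      Algebra.exists_aeval_invOf_eq_zero_of_idealMap_adjoin_sup_span_eq_top y
        (IsLocalRing.maximalIdeal A) (IsLocalRing.maximalIdeal.isMaximal A).ne_top h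
    have H : IsUnit p.leadingCoeff := of_not_not fun h' => by
      have h1 : p.leadingCoeff ∈ IsLocalRing.maximalIdeal A :=
        (IsLocalRing.mem_maximalIdeal _).mpr h'
      have h2 := sub_mem h1 hp
      simp only [sub_sub_cancel] at h2
      exact (IsLocalRing.maximalIdeal.isMaximal A).ne_top ((Ideal.eq_top_iff_one _).mpr h2)
    apply hz
    have hint : IsIntegral A z := by
      refine ⟨C (H.unit⁻¹ : Aˣ).1 * p, ?_, ?_⟩
      · simp [Polynomial.Monic]
      · have : ⅟y = z := by rw [invOf_eq_inv, hy, inv_inv]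
        rw [← this, eval₂_mul, ← aeval_def, ← aeval_def, hpx, mul_zero]
    exact IsIntegrallyClosed.isIntegral_iff.mp hint
  obtain ⟨𝔫, h𝔫max, h𝔫⟩ := Ideal.exists_le_maximal _ hI
  have hy𝔫 : yB ∈ 𝔫 := h𝔫 (Ideal.mem_sup_right (Ideal.mem_span_singleton_self _))
  have h𝔫0 : 𝔫 ≠ ⊥ := by
    rintro rfl
    exact hy0 (congrArg Subtype.val (by simpa using hy𝔫 : yB = 0))
  have hBN : IsNoetherianRing B := by
    have : Algebra.FiniteType A B := by
      have := (Subalgebra.fg_iff_finiteType _).mp
        (Subalgebra.fg_adjoin_finset (R := A) ({y} : Finset K))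
      rwa [Finset.coe_singleton] at this
    exact Algebra.FiniteType.isNoetherianRing A B
  have hs' : Subfield.closure (Set.range (algebraMap B K) ∪ ((∅ : Finset K) : Set K)) = ⊤ := by
    rw [eq_top_iff, ← IsFractionRing.closure_range_algebraMap A K, Subfield.closure_le]
    rintro _ ⟨a, rfl⟩
    exact Subfield.subset_closure (Or.inl ⟨algebraMap A B a, rfl⟩)
  have : 𝔫.IsPrime := h𝔫max.isPrime
  obtain ⟨R, hR, hBR, hnR⟩ := DVRDom.exists_dvr_of_prime' 𝔫 h𝔫0 ∅ hs'
  refine ⟨R, hR, fun a => hBR (algebraMap A B a), fun a ha => ?_, fun hzR => ?_⟩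
  · exact (hnR (algebraMap A B a)).mp (h𝔫 (Ideal.mem_sup_left (Ideal.mem_map_of_mem _ ha)))
  · have h1 : R.valuation y < 1 := (hnR yB).mp hy𝔫
    have h2 : R.valuation z ≤ 1 := (R.valuation_le_one_iff z).mpr hzR
    have h3 : R.valuation z * R.valuation y = 1 := by
      rw [← map_mul, hy, mul_inv_cancel₀ hz0, map_one]
    have h4 : R.valuation z * R.valuation y < 1 := by
      calc R.valuation z * R.valuation y ≤ 1 * R.valuation y := mul_le_mul_left h2 _
        _ = R.valuation y := one_mul _
        _ < 1 := h1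
    exact absurd h3 (ne_of_lt h4)

end Groth.Agent.H22
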