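import Mathlib.RingTheory.GradedAlgebra.HomogeneousLocalization
import Mathlib.RingTheory.Ideal.Quotient.Operations

set_option autoImplicit false
universe u

namespace Groth.Agent.H22

open DirectSum HomogeneousLocalization

section

variable {R A : Type u} [CommRing R] [CommRing A] [Algebra R A]
variable (𝒜 : ℕ → Submodule R A) [GradedAlgebra 𝒜]
variable {B : Type u} [CommRing B] [Algebra R B] (ℬ : ℕ → Submodule R B) [GradedAlgebra ℬ]
variable (d : ℕ) (φ : B →ₐ[R] A)
variable (hdeg : ∀ n : ℕ, Submodule.map φ.toLinearMap (ℬ n) = 𝒜 (n * d))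
variable (f' : B) (hf' : f' ∈ ℬ 1)

include hdeg in
theorem veronese_map_mem {n : ℕ} {x : B} (hx : x ∈ ℬ n) : φ x ∈ 𝒜 (n • d) := by
  rw [smul_eq_mul, ← hdeg]
  exact Submodule.mem_map_of_mem hx

include hdeg hf' in
theorem veronese_f_mem : φ f' ∈ 𝒜 d := by
  have := veronese_map_mem 𝒜 ℬ d φ hdeg hf'
  rwa [one_smul] at this

/-- The degree-`n` component of the dehomogenization map `x ↦ φ x / f^n`. -/
noncomputable def veroneseHomAux (n : ℕ) : ℬ n →+ Away 𝒜 (φ f') where
  toFun x := Away.mk 𝒜 (veronese_f_mem 𝒜 ℬ d φ hdeg f' hf') n (φ x)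
    (veronese_map_mem 𝒜 ℬ d φ hdeg x.2)
  map_zero' := by
    apply HomogeneousLocalization.val_injective
    rw [Away.val_mk, HomogeneousLocalization.val_zero, ZeroMemClass.coe_zero, map_zero,
      Localization.mk_zero]
  map_add' x y := by
    apply HomogeneousLocalization.val_injective
    rw [HomogeneousLocalization.val_add, Away.val_mk, Away.val_mk, Away.val_mk,
      Submodule.coe_add, map_add, Localization.add_mk_self]

theorem veroneseHomAux_val (n : ℕ) (x : ℬ n) :
    (veroneseHomAux 𝒜 ℬ d φ hdeg f' hf' n x).val =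
      Localization.mk (φ x) ⟨φ f' ^ n, pow_mem (Submonoid.mem_powers (φ f')) n⟩ := rfl

/-- The dehomogenization ring homomorphism on the direct sum. -/
noncomputable def veroneseHomDS : (⨁ i, ℬ i) →+* Away 𝒜 (φ f') :=
  DirectSum.toSemiring (veroneseHomAux 𝒜 ℬ d φ hdeg f' hf')
    (by
      apply HomogeneousLocalization.val_injective
      rw [veroneseHomAux_val, HomogeneousLocalization.val_one, SetLike.coe_gOne, map_one]
      simp)
    (by
      intro i j ai aj
      apply HomogeneousLocalization.val_injective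
      rw [HomogeneousLocalization.val_mul, veroneseHomAux_val, veroneseHomAux_val,
        veroneseHomAux_val, SetLike.coe_gMul, map_mul, Localization.mk_mul]
      congr 1
      ext
      simp [pow_add])

/-- The dehomogenization ring homomorphism `B → A_(f)`, `x_n ↦ φ x_n / f^n`. -/
noncomputable def veroneseHom : B →+* Away 𝒜 (φ f') :=
  (veroneseHomDS 𝒜 ℬ d φ hdeg f' hf').comp (DirectSum.decomposeRingEquiv ℬ).toRingHom

theorem veroneseHom_apply (x : B) :
    veroneseHom 𝒜 ℬ d φ hdeg f' hf' x =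
      veroneseHomDS 𝒜 ℬ d φ hdeg f' hf' (DirectSum.decompose ℬ x) := rfl

theorem veroneseHom_apply_of_mem {n : ℕ} {x : B} (hx : x ∈ ℬ n) :
    veroneseHom 𝒜 ℬ d φ hdeg f' hf' x = veroneseHomAux 𝒜 ℬ d φ hdeg f' hf' n ⟨x, hx⟩ := by
  rw [veroneseHom_apply, DirectSum.decompose_of_mem ℬ hx]
  exact DirectSum.toSemiring_of _ _ _ _ _

theorem veroneseHom_val_of_mem {n : ℕ} {x : B} (hx : x ∈ ℬ n) :
    (veroneseHom 𝒜 ℬ d φ hdeg f' hf' x).val =
      Localization.mk (φ x) ⟨φ f' ^ n, pow_mem (Submonoid.mem_powers (φ f')) n⟩ := by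
  rw [veroneseHom_apply_of_mem 𝒜 ℬ d φ hdeg f' hf' hx, veroneseHomAux_val]

theorem veroneseHom_f : veroneseHom 𝒜 ℬ d φ hdeg f' hf' f' = 1 := by
  apply HomogeneousLocalization.val_injective
  rw [veroneseHom_val_of_mem 𝒜 ℬ d φ hdeg f' hf' hf', HomogeneousLocalization.val_one]
  convert Localization.mk_self (⟨φ f', Submonoid.mem_powers _⟩ : Submonoid.powers (φ f')) using 2
  ext
  simp

omit [GradedAlgebra ℬ] in
theorem quot_mk_f : Ideal.Quotient.mk (Ideal.span {f' - 1}) f' = 1 := by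
  have : Ideal.Quotient.mk (Ideal.span {f' - 1}) (f' - 1) = 0 :=
    Ideal.Quotient.eq_zero_iff_mem.mpr (Ideal.mem_span_singleton_self _)
  rwa [map_sub, map_one, sub_eq_zero] at this

include hf' in
/-- Every element of `B / (f' - 1)` is the class of a homogeneous element of any large degree. -/
theorem exists_homogeneous_rep (x : B) :
    ∃ N₀, ∀ N, N₀ ≤ N → ∃ y ∈ ℬ N,
      Ideal.Quotient.mk (Ideal.span {f' - 1}) y = Ideal.Quotient.mk (Ideal.span {f' - 1}) x := by
  classical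
  induction x using DirectSum.Decomposition.inductionOn ℬ with
  | zero => exact ⟨0, fun N _ => ⟨0, zero_mem _, rfl⟩⟩
  | homogeneous x =>
    rename_i n
    refine ⟨n, fun N hN => ⟨x * f' ^ (N - n), ?_, ?_⟩⟩
    · have := SetLike.mul_mem_graded x.2 (SetLike.pow_mem_graded (N - n) hf')
      rwa [smul_eq_mul, mul_one, Nat.add_sub_cancel' hN] at this
    · rw [map_mul, map_pow, quot_mk_f, one_pow, mul_one]
  | add x y hx hy =>
    obtain ⟨N1, h1⟩ := hx
    obtain ⟨N2, h2⟩ := hy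
    refine ⟨max N1 N2, fun N hN => ?_⟩
    obtain ⟨y1, hy1, e1⟩ := h1 N (le_of_max_le_left hN)
    obtain ⟨y2, hy2, e2⟩ := h2 N (le_of_max_le_right hN)
    exact ⟨y1 + y2, add_mem hy1 hy2, by rw [map_add, map_add, e1, e2]⟩

/-- The induced map `B / (f' - 1) → A_(f)`. -/
noncomputable def veroneseQuot : B ⧸ Ideal.span {f' - 1} →+* Away 𝒜 (φ f') :=
  Ideal.Quotient.lift _ (veroneseHom 𝒜 ℬ d φ hdeg f' hf') (by
    intro a ha
    obtain ⟨c, rfl⟩ := Ideal.mem_span_singleton'.mp ha
    rw [map_mul, map_sub, veroneseHom_f, map_one, sub_self, mul_zero])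

theorem veroneseQuot_mk (x : B) :
    veroneseQuot 𝒜 ℬ d φ hdeg f' hf' (Ideal.Quotient.mk _ x) = veroneseHom 𝒜 ℬ d φ hdeg f' hf' x :=
  Ideal.Quotient.lift_mk _ _ _

theorem veroneseQuot_bijective (hφ : Function.Injective φ) :
    Function.Bijective (veroneseQuot 𝒜 ℬ d φ hdeg f' hf') := by
  constructor
  · rw [injective_iff_map_eq_zero]
    intro q hq
    obtain ⟨x, rfl⟩ := Ideal.Quotient.mk_surjective q
    obtain ⟨N₀, hN⟩ := exists_homogeneous_rep ℬ f' hf' x
    obtain ⟨y, hy, hyx⟩ := hN N₀ le_rfl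
    rw [← hyx] at hq ⊢
    rw [veroneseQuot_mk] at hq
    have hv := congrArg HomogeneousLocalization.val hq
    rw [veroneseHom_val_of_mem 𝒜 ℬ d φ hdeg f' hf' hy, HomogeneousLocalization.val_zero,
      Localization.mk_eq_mk', IsLocalization.mk'_eq_zero_iff] at hv
    obtain ⟨⟨_, k, rfl⟩, hk⟩ := hv
    dsimp only at hk
    have h1 : φ (f' ^ k * y) = 0 := by rw [map_mul, map_pow]; exact hk
    have h0 : f' ^ k * y = 0 := hφ (by rw [h1, map_zero])
    have h2 : Ideal.Quotient.mk (Ideal.span {f' - 1}) (f' ^ k * y) =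
        Ideal.Quotient.mk (Ideal.span {f' - 1}) y := by
      rw [map_mul, map_pow, quot_mk_f, one_pow, one_mul]
    rw [← h2, h0, map_zero]
  · intro z
    obtain ⟨n, a, ha, rfl⟩ := Away.mk_surjective 𝒜 (veronese_f_mem 𝒜 ℬ d φ hdeg f' hf') z
    have ha' := ha
    rw [smul_eq_mul, ← hdeg] at ha'
    obtain ⟨x, hx, rfl⟩ := ha'
    refine ⟨Ideal.Quotient.mk _ x, ?_⟩
    rw [veroneseQuot_mk, veroneseHom_apply_of_mem 𝒜 ℬ d φ hdeg f' hf' hx]
    rfl

end

end Groth.Agent.H22
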