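import Mathlib.AlgebraicGeometry.ZariskisMainTheorem
import Mathlib.AlgebraicGeometry.Normalization
import Mathlib.AlgebraicGeometry.Morphisms.IsIso

set_option autoImplicit false
universe u
open CategoryTheory CategoryTheory.Limits AlgebraicGeometry

namespace Groth.Agent.H22.NormalizationIso

/-- An affine morphism inducing isomorphisms on sections over all affine opens is an iso. -/
theorem isIso_of_isAffineHom_of_isIso_app {X Y : Scheme.{u}} (g : X ⟶ Y) [IsAffineHom g]
    (h : ∀ U : Y.Opens, IsAffineOpen U → IsIso (g.app U)) : IsIso g := by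
  change MorphismProperty.isomorphisms Scheme g
  rw [HasAffineProperty.eq_targetAffineLocally (P := MorphismProperty.isomorphisms Scheme)]
  intro V
  refine ⟨IsAffineHom.isAffine_preimage _ V.2, ?_⟩
  have hV' : IsAffineOpen (V.1.ι ''ᵁ ⊤) := by rw [Scheme.Opens.ι_image_top]; exact V.2
  have : IsIso (g.app (V.1.ι ''ᵁ ⊤)) := h _ hV'
  rw [morphismRestrict_appTop]
  refine IsIso.comp_isIso' this ?_
  have : IsIso (eqToHom (image_morphismRestrict_preimage g V.1 ⊤)).op := inferInstance
  exact Functor.map_isIso _ _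

/-- If `O_Y → f_* O_X` is bijective on affine opens, the relative normalization of `Y` in `X`
is `Y` itself. -/
theorem isIso_fromNormalization_of_bijective_app {X Y : Scheme.{u}} (f : X ⟶ Y) [QuasiCompact f]
    [QuasiSeparated f]
    (hO : ∀ U : Y.Opens, IsAffineOpen U → Function.Bijective (f.app U)) :
    IsIso f.fromNormalization := by
  apply isIso_of_isAffineHom_of_isIso_app
  intro U hU
  rw [Scheme.Hom.fromNormalization_app f hU]
  letI := (f.app U).hom.toAlgebra
  have hbij : Function.Bijective
      (algebraMap Γ(Y, U) (integralClosure Γ(Y, U) Γ(X, f ⁻¹ᵁ U))) := by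
    constructor
    · intro a b hab
      exact (hO U hU).1 (congrArg Subtype.val hab)
    · intro z
      obtain ⟨a, ha⟩ := (hO U hU).2 z.1
      exact ⟨a, Subtype.ext ha⟩
  have : IsIso (CommRingCat.ofHom
      (algebraMap Γ(Y, U) (integralClosure Γ(Y, U) Γ(X, f ⁻¹ᵁ U)))) :=
    (ConcreteCategory.isIso_iff_bijective _).mpr hbij
  infer_instance


lemma quasiFiniteAt_of_isOpen_singleton_preimage {X Y : Scheme.{u}} (f : X ⟶ Y)
    [LocallyOfFiniteType f] (x' : X) (y : Y) (hy : f x' = y)
    (h : IsOpen ({⟨x', hy⟩} : Set (f ⁻¹' {y}))) : f.QuasiFiniteAt x' := by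
  subst hy
  rw [Scheme.Hom.quasiFiniteAt_iff_isOpen_singleton_asFiber,
    ← (f.fiberHomeo (f x')).isOpen_image]
  simpa only [Set.image_singleton, Scheme.Hom.asFiber, Homeomorph.apply_symm_apply] using h

/-- An isolated point of a fibre is a point at which the morphism is quasi-finite. -/
lemma quasiFiniteAt_of_isOpen_singleton_fiber {X Y : Scheme.{u}} (f : X ⟶ Y)
    [LocallyOfFiniteType f] (y : Y) (x : f.fiber y) (hx : IsOpen ({x} : Set (f.fiber y))) :
    f.QuasiFiniteAt (f.fiberι y x) := by
  have hy : f (f.fiberι y x) = y := (f.fiberHomeo y x).2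
  refine quasiFiniteAt_of_isOpen_singleton_preimage f _ y hy ?_
  have := (f.fiberHomeo y).isOpen_image.mpr hx
  rwa [Set.image_singleton] at this

lemma isIso_morphismRestrict_of_comp {X N Y : Scheme.{u}} (g : X ⟶ Y) (t : X ⟶ N) (r : N ⟶ Y)
    (h : t ≫ r = g) (V : Y.Opens) [IsIso r] (ht : IsIso (t ∣_ r ⁻¹ᵁ V)) : IsIso (g ∣_ V) := by
  subst h
  rw [morphismRestrict_comp]
  have : IsIso (r ∣_ V) := inferInstance
  exact IsIso.comp_isIso' ht this

/-- If `f` is separated of finite type with `O_Y → f_* O_X` bijective, then `f` is an isomorphism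
over an open `V` of `Y`, and no fibre over a point outside `V` has an isolated point. -/
theorem exists_isIso_morphismRestrict_of_bijective_app {X Y : Scheme.{u}} (f : X ⟶ Y)
    [IsSeparated f] [LocallyOfFiniteType f] [QuasiCompact f]
    (hO : ∀ U : Y.Opens, IsAffineOpen U → Function.Bijective (f.app U)) :
    ∃ V : Y.Opens, IsIso (f ∣_ V) ∧
      ∀ y : Y, y ∉ (V : Set Y) → ∀ x : ↥(f.fiber y), ¬ IsOpen ({x} : Set ↥(f.fiber y)) := by
  have hr : IsIso f.fromNormalization := isIso_fromNormalization_of_bijective_app f hO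
  obtain ⟨U, hU, hUq⟩ := Scheme.Hom.exists_isIso_morphismRestrict_toNormalization f
  let V : Y.Opens := (inv f.fromNormalization) ⁻¹ᵁ U
  have hUV : f.fromNormalization ⁻¹ᵁ V = U := by
    rw [← Scheme.Hom.comp_preimage, IsIso.hom_inv_id, Scheme.Hom.id_preimage]
  refine ⟨V, ?_, ?_⟩
  · refine isIso_morphismRestrict_of_comp f f.toNormalization f.fromNormalization
      f.toNormalization_fromNormalization V ?_
    rw [hUV]
    exact hU
  · intro y hy x hx
    apply hy
    have hq : f.QuasiFiniteAt (f.fiberι y x) := quasiFiniteAt_of_isOpen_singleton_fiber f y x hx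
    have hmem : f.fiberι y x ∈ (f.toNormalization ⁻¹ᵁ U).1 := by rw [hUq]; exact hq
    have hfy : f (f.fiberι y x) = y := (f.fiberHomeo y x).2
    have h1 : f.toNormalization (f.fiberι y x) ∈ f.fromNormalization ⁻¹ᵁ V := by
      rw [hUV]; exact hmem
    have h2 : f.fromNormalization (f.toNormalization (f.fiberι y x)) ∈ V := h1
    rw [← Scheme.Hom.comp_apply, f.toNormalization_fromNormalization, hfy] at h2
    exact h2

end Groth.Agent.H22.NormalizationIso
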