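import Groth.Agent.H22.CenterLemma

/-!
# Consequences of the centre lemma
-/

set_option autoImplicit false
universe u
open CategoryTheory CategoryTheory.Limits AlgebraicGeometry IsLocalRing

namespace Groth.Agent.H22.CenterCor

open Groth.Agent.H22.LocalPt Groth.Agent.H22.CenterLemma

lemma isDominant_SpecMap_of_injective {A B : CommRingCat.{u}} (φ : A ⟶ B)
    (h : Function.Injective φ.hom) : IsDominant (Spec.map φ) := by
  constructor
  change DenseRange (PrimeSpectrum.comap φ.hom)
  rw [PrimeSpectrum.denseRange_comap_iff_ker_le_nilRadical,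
    (RingHom.injective_iff_ker_eq_bot _).mp h]
  exact bot_le

/-- If every point of `X` is a specialisation of the image of `g : Spec L ⟶ X` and the valuative
criterion holds for squares with top map `g`, then `f` is universally closed. -/
theorem universallyClosed_of_liftAt {X S : Scheme.{u}} (f : X ⟶ S) [QuasiCompact f]
    {L : Type u} [Field L] (g : Spec (.of L) ⟶ X) (hgen : ∀ x : X, g (closedPoint L) ⤳ x)
    (hE : ExistsLiftAt f g) (hU : UniqueLiftAt f g) : UniversallyClosed f :=
  UniversallyClosed.of_valuativeCriterion f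
    (fun sq => hasLift_of_specializes hE hU sq (hgen _))

/-- Uniqueness of lifts for separated morphisms, in the form `UniqueLiftAt`. -/
theorem uniqueLiftAt_of_isSeparated {X S : Scheme.{u}} (f : X ⟶ S) [IsSeparated f]
    {L : Type u} [Field L] (g : Spec (.of L) ⟶ X) : UniqueLiftAt f g := by
  intro R l₁ l₂ h₁ h₂ h₁₂
  have hsq : CommSq g (Spec.map (CommRingCat.ofHom (algebraMap R L))) f (l₁ ≫ f) :=
    ⟨by rw [← h₁, Category.assoc]; rfl⟩
  let sq : ValuativeCommSq f := ⟨R, L, g, l₁ ≫ f, hsq⟩
  have : Subsingleton sq.commSq.LiftStruct := IsSeparated.valuativeCriterion f sq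
  let s₁ : sq.commSq.LiftStruct := ⟨l₁, h₁, rfl⟩
  let s₂ : sq.commSq.LiftStruct := ⟨l₂, h₂, h₁₂.symm⟩
  exact congrArg CommSq.LiftStruct.l (Subsingleton.elim s₁ s₂)

end Groth.Agent.H22.CenterCor
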