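import Groth.Agent.H22.CenterCor
import Groth.Agent.H22.DVRGen

/-!
# Valuative criteria tested on a dense family of points
-/

set_option autoImplicit false
universe u
open CategoryTheory CategoryTheory.Limits AlgebraicGeometry IsLocalRing

namespace Groth.Agent.H22.CenterDense

open Groth.Agent.H22.LocalPt Groth.Agent.H22.CenterLemma Groth.Agent.H22.CenterCor

/-- If `h : U ⟶ X` is quasi-compact with dense image and the valuative criterion (existence and
uniqueness) holds at all points `Spec κ(u) ⟶ U ⟶ X`, then the quasi-compact `f` is universally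
closed. -/
theorem universallyClosed_of_dense {U X S : Scheme.{u}} (f : X ⟶ S) (h : U ⟶ X)
    [QuasiCompact f] [QuasiCompact h] (hd : DenseRange h.base)
    (hE : ∀ u : U, ExistsLiftAt (L := U.residueField u) f (U.fromSpecResidueField u ≫ h))
    (hU : ∀ u : U, UniqueLiftAt (L := U.residueField u) f (U.fromSpecResidueField u ≫ h)) :
    UniversallyClosed f := by
  apply UniversallyClosed.of_valuativeCriterion
  intro sq
  obtain ⟨u, hu⟩ := DVRGen.exists_specializes_of_denseRange h hd (sq.i₁ (closedPoint sq.K))
  refine hasLift_of_specializes (hE u) (hU u) sq ?_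
  rw [Scheme.Hom.comp_apply, Scheme.fromSpecResidueField_apply]
  exact hu

theorem existsLiftAt_diagonal {X S : Scheme.{u}} (f : X ⟶ S) {L : Type u} [Field L]
    (g : Spec (.of L) ⟶ X) (hU : UniqueLiftAt f g) : ExistsLiftAt (pullback.diagonal f) g := by
  intro R i₂ w
  have h1 : Spec.map (CommRingCat.ofHom R.subtype) ≫ (i₂ ≫ pullback.fst f f) = g := by
    rw [← Category.assoc, ← w, Category.assoc, pullback.diagonal_fst, Category.comp_id]
  have h2 : Spec.map (CommRingCat.ofHom R.subtype) ≫ (i₂ ≫ pullback.snd f f) = g := by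
    rw [← Category.assoc, ← w, Category.assoc, pullback.diagonal_snd, Category.comp_id]
  have h12 : i₂ ≫ pullback.fst f f = i₂ ≫ pullback.snd f f :=
    hU R _ _ h1 h2 (by simp [pullback.condition])
  refine ⟨i₂ ≫ pullback.fst f f, h1, ?_⟩
  apply pullback.hom_ext
  · simp
  · simp [h12]

theorem uniqueLiftAt_of_mono {X S : Scheme.{u}} (f : X ⟶ S) [Mono f] {L : Type u} [Field L]
    (g : Spec (.of L) ⟶ X) : UniqueLiftAt f g :=
  fun _ _ _ _ _ h => (cancel_mono f).mp h

/-- If `h : U ⟶ X` is quasi-compact with dense image and uniqueness in the valuative criterion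
holds at all points `Spec κ(u) ⟶ U ⟶ X`, then the quasi-separated `f` is separated. -/
theorem isSeparated_of_dense {U X S : Scheme.{u}} (f : X ⟶ S) (h : U ⟶ X)
    [QuasiSeparated f] [QuasiCompact h] (hd : DenseRange h.base)
    (hU : ∀ u : U, UniqueLiftAt (L := U.residueField u) f (U.fromSpecResidueField u ≫ h)) :
    IsSeparated f := by
  have : UniversallyClosed (pullback.diagonal f) :=
    universallyClosed_of_dense _ h hd (fun u => existsLiftAt_diagonal f _ (hU u))
      (fun u => uniqueLiftAt_of_mono _ _)
  exact ⟨.of_isPreimmersion _ (pullback.diagonal f).isClosedMap.isClosed_range⟩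

/-- Existence of lifts for universally closed morphisms, in the form `ExistsLiftAt`. -/
theorem existsLiftAt_of_universallyClosed {X S : Scheme.{u}} (f : X ⟶ S) [UniversallyClosed f]
    {L : Type u} [Field L] (g : Spec (.of L) ⟶ X) : ExistsLiftAt f g := by
  intro R i₂ w
  have hex : ValuativeCriterion.Existence f := by
    have : (ValuativeCriterion.Existence ⊓ @QuasiCompact) f := by
      rw [← UniversallyClosed.eq_valuativeCriterion]; infer_instance
    exact this.1
  have hsq : CommSq g (Spec.map (CommRingCat.ofHom (algebraMap R L))) f i₂ := ⟨w⟩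
  let sq : ValuativeCommSq f := ⟨R, L, g, i₂, hsq⟩
  obtain ⟨⟨l, h1, h2⟩⟩ := hex sq
  exact ⟨l, h1, h2⟩

end Groth.Agent.H22.CenterDense
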