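import Mathlib

/-!
# Composite valuation subrings

Given a valuation subring `V` of a field `L` and a valuation subring `W` of the residue field
of `V`, the preimage of `W` in `V` is a valuation subring of `L`.
-/

set_option autoImplicit false
open IsLocalRing

namespace Groth.Agent.H22.CompositeVal

variable {L : Type*} [Field L]

/-- The composite valuation subring. -/
def composite (V : ValuationSubring L) (W : ValuationSubring (ResidueField V)) :
    ValuationSubring L where
  toSubring := (W.toSubring.comap (residue V)).map V.subtype
  mem_or_inv_mem' := by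
    intro x
    by_cases hx0 : x = 0
    · left
      subst hx0
      exact Subring.zero_mem _
    rcases V.mem_or_inv_mem x with hx | hx
    · by_cases hu : IsUnit (⟨x, hx⟩ : V)
      · -- unit of V
        have hne : residue V ⟨x, hx⟩ ≠ 0 := by
          intro h0
          rw [residue_eq_zero_iff] at h0
          exact h0 hu
        obtain ⟨y, hy⟩ := hu.exists_right_inv
        have hy' : x * (y : L) = 1 := by
          have := congrArg (Subtype.val) hy
          simpa using this
        have hyx : (y : L) = x⁻¹ := by
          field_simp
          rw [mul_comm]; exact hy'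
        rcases W.mem_or_inv_mem (residue V ⟨x, hx⟩) with h | h
        · left
          exact ⟨⟨x, hx⟩, h, rfl⟩
        · right
          refine ⟨y, ?_, hyx⟩
          have : residue V y = (residue V ⟨x, hx⟩)⁻¹ := by
            have h1 : residue V ⟨x, hx⟩ * residue V y = 1 := by
              rw [← map_mul, hy, map_one]
            exact eq_inv_of_mul_eq_one_right h1
          change residue V y ∈ W
          rw [this]; exact h
      · left
        refine ⟨⟨x, hx⟩, ?_, rfl⟩
        have : residue V ⟨x, hx⟩ = 0 := by
          rw [residue_eq_zero_iff]; exact hu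
        change residue V ⟨x, hx⟩ ∈ W
        rw [this]; exact W.zero_mem
    · by_cases hu : IsUnit (⟨x⁻¹, hx⟩ : V)
      · obtain ⟨y, hy⟩ := hu.exists_right_inv
        have hy' : x⁻¹ * (y : L) = 1 := by
          have := congrArg (Subtype.val) hy
          simpa using this
        have hyx : (y : L) = x := by
          field_simp at hy'
          exact hy'
        have hxV : x ∈ V := hyx ▸ y.2
        rcases W.mem_or_inv_mem (residue V ⟨x, hxV⟩) with h | h
        · left
          exact ⟨⟨x, hxV⟩, h, rfl⟩
        · right
          refine ⟨⟨x⁻¹, hx⟩, ?_, rfl⟩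
          have : residue V ⟨x⁻¹, hx⟩ = (residue V ⟨x, hxV⟩)⁻¹ := by
            have h1 : residue V ⟨x, hxV⟩ * residue V ⟨x⁻¹, hx⟩ = 1 := by
              rw [← map_mul]
              have : (⟨x, hxV⟩ : V) * ⟨x⁻¹, hx⟩ = 1 := by
                apply Subtype.ext
                simp [hx0]
              rw [this, map_one]
            exact eq_inv_of_mul_eq_one_right h1
          change residue V ⟨x⁻¹, hx⟩ ∈ W
          rw [this]; exact h
      · right
        refine ⟨⟨x⁻¹, hx⟩, ?_, rfl⟩
        have : residue V ⟨x⁻¹, hx⟩ = 0 := by
          rw [residue_eq_zero_iff]; exact hu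
        change residue V ⟨x⁻¹, hx⟩ ∈ W
        rw [this]; exact W.zero_mem

lemma mem_composite {V : ValuationSubring L} {W : ValuationSubring (ResidueField V)} {x : L} :
    x ∈ composite V W ↔ ∃ h : x ∈ V, residue V ⟨x, h⟩ ∈ W := by
  constructor
  · rintro ⟨y, hy, rfl⟩
    exact ⟨y.2, hy⟩
  · rintro ⟨h, hW⟩
    exact ⟨⟨x, h⟩, hW, rfl⟩

lemma composite_le (V : ValuationSubring L) (W : ValuationSubring (ResidueField V)) :
    composite V W ≤ V := fun _ hx => (mem_composite.mp hx).1

/-- The inclusion of the composite into `V`. -/
def incl (V : ValuationSubring L) (W : ValuationSubring (ResidueField V)) :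
    composite V W →+* V :=
  Subring.inclusion (show (composite V W).toSubring ≤ V.toSubring from composite_le V W)

@[simp] lemma coe_incl (V : ValuationSubring L) (W : ValuationSubring (ResidueField V))
    (x : composite V W) : ((incl V W x : V) : L) = (x : L) := rfl

/-- The residue map from the composite to `W`. -/
noncomputable def res (V : ValuationSubring L) (W : ValuationSubring (ResidueField V)) :
    composite V W →+* W :=
  ((residue V).comp (incl V W)).codRestrict W.toSubring
    (fun x => (mem_composite.mp x.2).2)

@[simp] lemma coe_res (V : ValuationSubring L) (W : ValuationSubring (ResidueField V))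
    (x : composite V W) : ((res V W x : W) : ResidueField V) = residue V (incl V W x) := rfl

/-- Maximality of valuation rings: if `W` dominates the image of `A`, then `W ∩ k = A`. -/
lemma mem_of_map_mem {k k' : Type*} [Field k] [Field k'] (A : ValuationSubring k) (j : k →+* k')
    (W : ValuationSubring k') (h : ∀ a : A, j a ∈ W)
    (hloc : IsLocalHom ((j.comp A.subtype).codRestrict W.toSubring h))
    {α : k} (hα : j α ∈ W) : α ∈ A := by
  by_contra hnot
  have hα0 : α ≠ 0 := by
    rintro rfl; exact hnot A.zero_mem
  have hinv : α⁻¹ ∈ A := (A.mem_or_inv_mem α).resolve_left hnot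
  set a : A := ⟨α⁻¹, hinv⟩
  have hunit : IsUnit (((j.comp A.subtype).codRestrict W.toSubring h) a) := by
    refine IsUnit.of_mul_eq_one (⟨j α, hα⟩ : W) ?_
    apply Subtype.ext
    change j α⁻¹ * j α = 1
    rw [← map_mul, inv_mul_cancel₀ hα0, map_one]
  have := hloc.map_nonunit a hunit
  obtain ⟨b, hb⟩ := this.exists_right_inv
  have hb' : α⁻¹ * (b : k) = 1 := by
    have := congrArg Subtype.val hb
    simpa using this
  have : (b : k) = α := by
    field_simp at hb'
    exact hb'
  exact hnot (this ▸ b.2)

end Groth.Agent.H22.CompositeVal
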