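import Groth.Agent.H22.LocalPt
import Groth.Agent.H22.CompositeVal

/-!
# The centre lemma

If the valuative criterion (existence and uniqueness) holds for squares whose generic point map
is a fixed `g : Spec L ⟶ X`, then existence holds for all valuative squares whose generic point
is a specialisation of the image of `g`.
-/

set_option autoImplicit false
universe u
open CategoryTheory CategoryTheory.Limits AlgebraicGeometry IsLocalRing

namespace Groth.Agent.H22.CenterLemma

open Groth.Agent.H22.LocalPt Groth.Agent.H22.CompositeVal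

variable {X S : Scheme.{u}} (f : X ⟶ S) {L : Type u} [Field L] (g : Spec (.of L) ⟶ X)

/-- Existence part of the valuative criterion for squares with top map `g`. -/
def ExistsLiftAt : Prop :=
  ∀ (R : ValuationSubring L) (i₂ : Spec (.of R) ⟶ S),
    g ≫ f = Spec.map (CommRingCat.ofHom R.subtype) ≫ i₂ →
    ∃ l : Spec (.of R) ⟶ X, Spec.map (CommRingCat.ofHom R.subtype) ≫ l = g ∧ l ≫ f = i₂

/-- Uniqueness part of the valuative criterion for squares with top map `g`. -/
def UniqueLiftAt : Prop :=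
  ∀ (R : ValuationSubring L) (l₁ l₂ : Spec (.of R) ⟶ X),
    Spec.map (CommRingCat.ofHom R.subtype) ≫ l₁ = g →
    Spec.map (CommRingCat.ofHom R.subtype) ≫ l₂ = g → l₁ ≫ f = l₂ ≫ f → l₁ = l₂

variable {f g}

theorem exists_lift_residueField (hE : ExistsLiftAt f g) (hU : UniqueLiftAt f g)
    (x₁ : X) (hsp : g (closedPoint L) ⤳ x₁) (A : ValuationSubring (X.residueField x₁))
    (b₁ : Spec (.of A) ⟶ S)
    (w₁ : X.fromSpecResidueField x₁ ≫ f = Spec.map (CommRingCat.ofHom A.subtype) ≫ b₁) :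
    ∃ l : Spec (.of A) ⟶ X,
      Spec.map (CommRingCat.ofHom A.subtype) ≫ l = X.fromSpecResidueField x₁ ∧ l ≫ f = b₁ := by
  classical
  -- Step 1: the map `ρ : 𝒪_{X,x₁} ⟶ L`
  let γ : X.presheaf.stalk (g (closedPoint L)) ⟶ .of L := Scheme.stalkClosedPointTo g
  have hg : g = pt _ γ := (Scheme.Spec_stalkClosedPointTo_fromSpecStalk g).symm
  let ρ : X.presheaf.stalk x₁ ⟶ .of L := X.presheaf.stalkSpecializes hsp ≫ γ
  have hgρ : g = pt x₁ ρ := hg.trans (pt_specializes hsp γ)
  -- Step 2: the valuation ring `V₀`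
  obtain ⟨V₀, hV₀, hloc⟩ := exists_factor_valuationRing ρ.hom
  let ρ₀ : X.presheaf.stalk x₁ ⟶ .of V₀ := CommRingCat.ofHom (ρ.hom.codRestrict V₀.toSubring hV₀)
  have hρ₀loc : IsLocalHom ρ₀.hom := hloc
  have hρ₀ : ρ₀ ≫ CommRingCat.ofHom V₀.subtype = ρ := by
    ext a; rfl
  -- Step 3: the map on residue fields
  let j : X.residueField x₁ →+* ResidueField V₀ := ResidueField.map ρ₀.hom
  have hj : ∀ y : X.presheaf.stalk x₁, j (X.residue x₁ y) = residue V₀ (ρ₀ y) := fun y => rfl
  -- Step 4: the valuation ring `W` of the residue field of `V₀`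
  obtain ⟨W, hW, hWloc⟩ := exists_factor_valuationRing (j.comp A.subtype)
  let q : (CommRingCat.of A) ⟶ .of W :=
    CommRingCat.ofHom ((j.comp A.subtype).codRestrict W.toSubring hW)
  have hqloc : IsLocalHom q.hom := hWloc
  have hqinj : Function.Injective q.hom := by
    intro a b hab
    have := congrArg Subtype.val hab
    exact Subtype.ext (j.injective this)
  -- Step 5: the composite valuation ring
  let Rs : ValuationSubring L := composite V₀ W
  -- Step 6: `b₁` as a point
  obtain ⟨s, φ, hφloc, rfl, -⟩ := exists_eq_pt b₁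
  have hs : f x₁ ⤳ s := by
    have h1 := congrArg (fun u : Spec (X.residueField x₁) ⟶ S => u default) w₁
    simp only [Scheme.Hom.comp_apply, Scheme.fromSpecResidueField_apply] at h1
    rw [h1]
    exact pt_apply_specializes s φ _
  let σ : S.presheaf.stalk s ⟶ X.presheaf.stalk x₁ :=
    S.presheaf.stalkSpecializes hs ≫ f.stalkMap x₁
  have I1 : σ ≫ X.residue x₁ = φ ≫ CommRingCat.ofHom A.subtype := by
    apply pt_inj (x := s)
    calc pt s (σ ≫ X.residue x₁) = pt (f x₁) (f.stalkMap x₁ ≫ X.residue x₁) := by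
          rw [pt_specializes hs]; simp [σ]
      _ = pt x₁ (X.residue x₁) ≫ f := (pt_comp ..).symm
      _ = X.fromSpecResidueField x₁ ≫ f := rfl
      _ = Spec.map (CommRingCat.ofHom A.subtype) ≫ pt s φ := w₁
      _ = pt s (φ ≫ CommRingCat.ofHom A.subtype) := map_pt ..
  have I1' : ∀ a : S.presheaf.stalk s, X.residue x₁ (σ a) = ((φ a : A) : X.residueField x₁) := by
    intro a
    have := congrArg (fun ψ => ψ.hom a) I1
    simpa using this
  -- Step 7: the map `φs : 𝒪_{S,s} ⟶ Rs`
  have hφs : ∀ a : S.presheaf.stalk s, (σ ≫ ρ).hom a ∈ Rs.toSubring := by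
    intro a
    refine mem_composite.mpr ⟨hV₀ (σ a), ?_⟩
    have h1 : residue V₀ ⟨(σ ≫ ρ).hom a, hV₀ (σ a)⟩ = j (X.residue x₁ (σ a)) := rfl
    rw [h1, I1']
    exact hW (φ a)
  let φs : S.presheaf.stalk s ⟶ .of Rs :=
    CommRingCat.ofHom ((σ ≫ ρ).hom.codRestrict Rs.toSubring hφs)
  have hφs_sub : φs ≫ CommRingCat.ofHom Rs.subtype = σ ≫ ρ := by
    ext a; rfl
  have hφs_incl : φs ≫ CommRingCat.ofHom (incl V₀ W) = σ ≫ ρ₀ := by
    ext a; rfl
  let bs : Spec (.of Rs) ⟶ S := pt s φs
  have ws : g ≫ f = Spec.map (CommRingCat.ofHom Rs.subtype) ≫ bs := by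
    calc g ≫ f = pt x₁ ρ ≫ f := by rw [← hgρ]
      _ = pt (f x₁) (f.stalkMap x₁ ≫ ρ) := pt_comp ..
      _ = pt s (σ ≫ ρ) := by rw [pt_specializes hs]; simp [σ]
      _ = pt s (φs ≫ CommRingCat.ofHom Rs.subtype) := by rw [hφs_sub]
      _ = Spec.map (CommRingCat.ofHom Rs.subtype) ≫ bs := (map_pt ..).symm
  -- Step 8: the lift over `Rs`
  obtain ⟨ls, hl₁, hl₂⟩ := hE Rs bs ws
  obtain ⟨z, lam, hlamloc, rfl, -⟩ := exists_eq_pt ls
  -- Step 9: uniqueness over `V₀`
  have hincl_sub : CommRingCat.ofHom (incl V₀ W) ≫ CommRingCat.ofHom V₀.subtype =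
      CommRingCat.ofHom Rs.subtype := by
    ext a; rfl
  have key : pt x₁ ρ₀ = Spec.map (CommRingCat.ofHom (incl V₀ W)) ≫ pt z lam := by
    apply hU V₀
    · rw [map_pt, hρ₀]; exact hgρ.symm
    · rw [← Category.assoc, ← Spec.map_comp, hincl_sub]
      exact hl₁
    · rw [pt_comp, Category.assoc, hl₂, map_pt, hφs_incl, pt_specializes hs]
      simp [σ]
  rw [map_pt] at key
  have hz : x₁ ⤳ z := by
    have := pt_apply_specializes z (lam ≫ CommRingCat.ofHom (incl V₀ W)) (closedPoint V₀)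
    rw [← key, pt_closedPoint] at this
    exact this
  have I2 : X.presheaf.stalkSpecializes hz ≫ ρ₀ = lam ≫ CommRingCat.ofHom (incl V₀ W) := by
    apply pt_inj (x := z)
    rw [← pt_specializes hz]
    exact key
  have I2' : ∀ a : X.presheaf.stalk z,
      ρ₀ (X.presheaf.stalkSpecializes hz a) = incl V₀ W (lam a) := by
    intro a
    have := congrArg (fun ψ => ψ.hom a) I2
    simpa using this
  -- Step 11: the map `ψ₀ : 𝒪_{X,z} ⟶ A`
  have hjψ : ∀ a : X.presheaf.stalk z,
      j ((X.presheaf.stalkSpecializes hz ≫ X.residue x₁).hom a) =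
        residue V₀ (incl V₀ W (lam a)) := by
    intro a
    rw [← I2']
    rfl
  have hψ : ∀ a : X.presheaf.stalk z,
      (X.presheaf.stalkSpecializes hz ≫ X.residue x₁).hom a ∈ A.toSubring := by
    intro a
    apply mem_of_map_mem A j W hW hWloc
    rw [hjψ]
    exact (res V₀ W (lam a)).2
  let ψ₀ : X.presheaf.stalk z ⟶ .of A :=
    CommRingCat.ofHom ((X.presheaf.stalkSpecializes hz ≫ X.residue x₁).hom.codRestrict
      A.toSubring hψ)
  have hψ_sub : ψ₀ ≫ CommRingCat.ofHom A.subtype =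
      X.presheaf.stalkSpecializes hz ≫ X.residue x₁ := by
    ext a; rfl
  have hψq : ψ₀ ≫ q = lam ≫ CommRingCat.ofHom (res V₀ W) := by
    ext a
    exact hjψ a
  have hφq : φs ≫ CommRingCat.ofHom (res V₀ W) = φ ≫ q := by
    ext a
    change residue V₀ (ρ₀ (σ a)) = j ((φ a : A) : X.residueField x₁)
    rw [← I1']
    rfl
  refine ⟨pt z ψ₀, ?_, ?_⟩
  · rw [map_pt, hψ_sub, ← pt_specializes hz]
    rfl
  · apply eq_of_map_comp_eq q hqinj
    rw [← Category.assoc, map_pt, hψq, ← map_pt, Category.assoc, hl₂, map_pt, map_pt, hφq]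

/-- **Centre lemma.** If existence and uniqueness of lifts hold for all valuative squares with top
map `g : Spec L ⟶ X`, then every valuative square whose generic point lands in the closure of the
image of `g` has a lift. -/
theorem hasLift_of_specializes (hE : ExistsLiftAt f g) (hU : UniqueLiftAt f g)
    (sq : ValuativeCommSq f) (hsp : g (closedPoint L) ⤳ sq.i₁ (closedPoint sq.K)) :
    sq.commSq.HasLift := by
  classical
  obtain ⟨R, K, i₁, i₂, ⟨w⟩⟩ := sq
  dsimp only at hsp w ⊢
  set x₁ : X := i₁ (closedPoint K) with hx₁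
  let κ : X.presheaf.stalk x₁ ⟶ .of K := Scheme.stalkClosedPointTo i₁
  have hi₁ : i₁ = pt x₁ κ := (Scheme.Spec_stalkClosedPointTo_fromSpecStalk i₁).symm
  have hκloc : IsLocalHom κ.hom := inferInstance
  let κb : X.residueField x₁ →+* K := ResidueField.lift κ.hom
  have hκb : ∀ y : X.presheaf.stalk x₁, κb (X.residue x₁ y) = κ y := fun y => rfl
  -- the valuation ring `A = R ∩ κ(x₁)`
  let A : ValuationSubring (X.residueField x₁) :=
    { toSubring := (algebraMap R K).range.comap κb
      mem_or_inv_mem' := by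
        intro α
        rcases ValuationRing.isInteger_or_isInteger R (κb α) with ⟨r, hr⟩ | ⟨r, hr⟩
        · left; exact ⟨r, hr⟩
        · right
          refine ⟨r, ?_⟩
          rw [map_inv₀]; exact hr }
  have hinj : Function.Injective (algebraMap R K).rangeRestrict := fun a b h =>
    IsFractionRing.injective R K (congrArg Subtype.val h)
  let ε : R ≃+* (algebraMap R K).range :=
    RingEquiv.ofBijective (algebraMap R K).rangeRestrict
      ⟨hinj, (algebraMap R K).rangeRestrict_surjective⟩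
  let e : A →+* R :=
    ε.symm.toRingHom.comp ((κb.comp A.subtype).codRestrict (algebraMap R K).range (fun a => a.2))
  have he : ∀ a : A, algebraMap R K (e a) = κb a := by
    intro a
    have := ε.apply_symm_apply ⟨κb a, a.2⟩
    exact congrArg Subtype.val this
  -- `i₂` as a point
  obtain ⟨s, β₂, hβ₂loc, rfl, -⟩ := exists_eq_pt i₂
  have hs : f x₁ ⤳ s := by
    have h1 := congrArg (fun u : Spec (.of K) ⟶ S => u (closedPoint K)) w
    simp only [Scheme.Hom.comp_apply] at h1
    rw [hx₁, h1]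
    exact pt_apply_specializes s β₂ _
  let σ : S.presheaf.stalk s ⟶ X.presheaf.stalk x₁ :=
    S.presheaf.stalkSpecializes hs ≫ f.stalkMap x₁
  have J1 : σ ≫ κ = β₂ ≫ CommRingCat.ofHom (algebraMap R K) := by
    apply pt_inj (x := s)
    calc pt s (σ ≫ κ) = pt (f x₁) (f.stalkMap x₁ ≫ κ) := by
          rw [pt_specializes hs]; simp [σ]
      _ = pt x₁ κ ≫ f := (pt_comp ..).symm
      _ = i₁ ≫ f := by rw [← hi₁]
      _ = Spec.map (CommRingCat.ofHom (algebraMap R K)) ≫ pt s β₂ := w
      _ = pt s (β₂ ≫ CommRingCat.ofHom (algebraMap R K)) := map_pt ..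
  have J1' : ∀ a : S.presheaf.stalk s, κ (σ a) = algebraMap R K (β₂ a) := by
    intro a
    have := congrArg (fun ψ => ψ.hom a) J1
    simpa using this
  have hφb : ∀ a : S.presheaf.stalk s, (σ ≫ X.residue x₁).hom a ∈ A.toSubring := by
    intro a
    change κb (X.residue x₁ (σ a)) ∈ (algebraMap R K).range
    rw [hκb, J1']
    exact ⟨_, rfl⟩
  let φb : S.presheaf.stalk s ⟶ .of A :=
    CommRingCat.ofHom ((σ ≫ X.residue x₁).hom.codRestrict A.toSubring hφb)
  have hφb_sub : φb ≫ CommRingCat.ofHom A.subtype = σ ≫ X.residue x₁ := by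
    ext a; rfl
  let b₁ : Spec (.of A) ⟶ S := pt s φb
  have w₁ : X.fromSpecResidueField x₁ ≫ f = Spec.map (CommRingCat.ofHom A.subtype) ≫ b₁ := by
    calc X.fromSpecResidueField x₁ ≫ f = pt x₁ (X.residue x₁) ≫ f := rfl
      _ = pt (f x₁) (f.stalkMap x₁ ≫ X.residue x₁) := pt_comp ..
      _ = pt s (σ ≫ X.residue x₁) := by rw [pt_specializes hs]; simp [σ]
      _ = pt s (φb ≫ CommRingCat.ofHom A.subtype) := by rw [hφb_sub]
      _ = Spec.map (CommRingCat.ofHom A.subtype) ≫ b₁ := (map_pt ..).symm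
  obtain ⟨lb, h1, h2⟩ := exists_lift_residueField hE hU x₁ hsp A b₁ w₁
  refine ⟨⟨⟨Spec.map (CommRingCat.ofHom e) ≫ lb, ?_, ?_⟩⟩⟩
  · have h3 : CommRingCat.ofHom e ≫ CommRingCat.ofHom (algebraMap R K) =
        CommRingCat.ofHom A.subtype ≫ CommRingCat.ofHom κb := by
      ext a; exact he a
    have h4 : X.residue x₁ ≫ CommRingCat.ofHom κb = κ := by
      ext a; rfl
    rw [← Category.assoc, ← Spec.map_comp, h3, Spec.map_comp, Category.assoc, h1,
      pt_eq_fromSpecResidueField, map_pt]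
    exact (congrArg (pt x₁) h4).trans hi₁.symm
  · rw [Category.assoc, h2, map_pt]
    congr 1
    ext a
    apply IsFractionRing.injective R K
    change algebraMap R K (e (φb a)) = algebraMap R K (β₂ a)
    rw [he, ← J1']
    rfl

end Groth.Agent.H22.CenterLemma
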