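import Mathlib

set_option autoImplicit false
universe u

namespace Groth.Agent.H22

open Polynomial TensorProduct

/-- Coefficients of the characteristic polynomial of `u ⊗ K` are integral over `A`. -/
theorem charpoly_baseChange_coeff_isIntegral (A : Type u) [CommRing A] [IsDomain A] (K : Type u) [Field K]
    [Algebra A K] [IsFractionRing A K] (E : Type u) [AddCommGroup E] [Module A E] [Module.Finite A E]
    (u : E →ₗ[A] E) (i : ℕ) :
    IsIntegral A (((u.baseChange K).charpoly).coeff i) := by
  obtain ⟨P, hP, hPu⟩ := LinearMap.exists_monic_and_aeval_eq_zero A u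
  set v : Module.End K (K ⊗[A] E) := u.baseChange K with hv
  have hPv : aeval v (P.map (algebraMap A K)) = 0 := by
    rw [aeval_map_algebraMap]
    have : v = Module.End.baseChangeHom A K E u := rfl
    rw [this, aeval_algHom_apply, hPu, map_zero]
  let L := AlgebraicClosure K
  set w : Module.End L (L ⊗[K] (K ⊗[A] E)) := v.baseChange L with hw
  have hPw : aeval w ((P.map (algebraMap A K)).map (algebraMap K L)) = 0 := by
    rw [aeval_map_algebraMap]
    have : w = Module.End.baseChangeHom K L (K ⊗[A] E) v := rfl
    rw [this, aeval_algHom_apply, hPv, map_zero]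
  have hinj : Function.Injective (algebraMap K L) := (algebraMap K L).injective
  rw [← isIntegral_algebraMap_iff hinj, ← coeff_map]
  refine Polynomial.isIntegral_coeff_of_factors _ ?_ (IsAlgClosed.splits _) ?_ i
  · rw [(v.charpoly_monic.map _).leadingCoeff]
    exact isIntegral_one
  · intro x hx
    rw [← LinearMap.charpoly_baseChange, ← Module.End.hasEigenvalue_iff_isRoot_charpoly] at hx
    obtain ⟨e, he⟩ := hx.exists_hasEigenvector
    have h1 := Module.End.aeval_apply_of_hasEigenvector
      (p := (P.map (algebraMap A K)).map (algebraMap K L)) he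
    rw [hPw, LinearMap.zero_apply] at h1
    have h2 : ((P.map (algebraMap A K)).map (algebraMap K L)).eval x = 0 := by
      rcases smul_eq_zero.mp h1.symm with h | h
      · exact h
      · exact absurd h he.2
    refine ⟨P, hP, ?_⟩
    rw [← h2, Polynomial.map_map, ← IsScalarTower.algebraMap_eq, eval_map, ← aeval_def]

/-- If `a ∈ A` becomes invertible in an `A`-algebra `K` (with `A → K` injective) with inverse integral
over `A`, then `a` is a unit of `A`. -/
theorem isUnit_of_isIntegral_inv {A K : Type*} [CommRing A] [CommRing K] [Algebra A K]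
    (hinj : Function.Injective (algebraMap A K)) (a : A) (b : K) (hb : IsIntegral A b)
    (hab : b * algebraMap A K a = 1) : IsUnit a := by
  obtain ⟨Q, hQ, hQb⟩ := hb
  let _ : Invertible b := ⟨algebraMap A K a, by rw [mul_comm]; exact hab, hab⟩
  have h1 := Polynomial.eval₂_reverse_mul_pow (algebraMap A K) b Q
  rw [hQb] at h1
  have hbu : IsUnit (b ^ Q.natDegree) := (isUnit_of_invertible b).pow _
  have h2 : eval₂ (algebraMap A K) (⅟b) (reverse Q) = 0 := by
    rcases hbu with ⟨c, hc⟩
    rw [← hc] at h1
    simpa using congrArg (· * (↑c⁻¹ : K)) h1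
  have h3 : (⅟b : K) = algebraMap A K a := rfl
  rw [h3, Polynomial.eval₂_at_apply] at h2
  have h4 : (reverse Q).eval a = 0 := hinj (by rw [h2, map_zero])
  have h5 := congrArg (Polynomial.eval a) (Polynomial.divX_mul_X_add (reverse Q))
  rw [Polynomial.coeff_zero_reverse, hQ.leadingCoeff, h4] at h5
  simp only [eval_add, eval_mul, eval_X, map_one, eval_one] at h5
  refine IsUnit.of_mul_eq_one (-(eval a (reverse Q).divX)) ?_
  linear_combination (-1 : A) * h5

/-- The determinant of an automorphism of a finitely generated module is a unit (when it lies in `A`). -/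
theorem isUnit_of_det_baseChange_of_bijective (A : Type u) [CommRing A] [IsDomain A] (K : Type u) [Field K]
    [Algebra A K] [IsFractionRing A K] (E : Type u) [AddCommGroup E] [Module A E] [Module.Finite A E]
    (u : E →ₗ[A] E) (a : A) (ha : algebraMap A K a = LinearMap.det (u.baseChange K))
    (hu : Function.Bijective u) : IsUnit a := by
  let e := LinearEquiv.ofBijective u hu
  let u' : E →ₗ[A] E := e.symm.toLinearMap
  have hcomp : u' ∘ₗ u = LinearMap.id := by
    ext x
    exact e.symm_apply_apply x
  have h1 : (u'.baseChange K) ∘ₗ (u.baseChange K) = LinearMap.id := by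
    rw [← LinearMap.baseChange_comp, hcomp, LinearMap.baseChange_id]
  have h2 : LinearMap.det (u'.baseChange K) * LinearMap.det (u.baseChange K) = 1 := by
    rw [← LinearMap.det_comp, h1, LinearMap.det_id]
  refine isUnit_of_isIntegral_inv (IsFractionRing.injective A K) a (LinearMap.det (u'.baseChange K)) ?_
    (by rw [ha]; exact h2)
  rw [LinearMap.det_eq_sign_charpoly_coeff]
  exact ((isIntegral_one.neg).pow _).mul (charpoly_baseChange_coeff_isIntegral A K E u' 0)

/-- An endomorphism of a finitely generated torsion-free module whose characteristic polynomial has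
coefficients in `A` and whose determinant is a unit of `A` is bijective. -/
theorem bijective_of_isUnit_det_baseChange (A : Type u) [CommRing A] [IsDomain A] (K : Type u) [Field K]
    [Algebra A K] [IsFractionRing A K] (E : Type u) [AddCommGroup E] [Module A E] [Module.Finite A E]
    [Module.IsTorsionFree A E]
    (u : E →ₗ[A] E) (hcoeff : ∀ i : ℕ, ((u.baseChange K).charpoly).coeff i ∈ (algebraMap A K).range)
    (a : A) (ha : algebraMap A K a = LinearMap.det (u.baseChange K)) (hunit : IsUnit a) :
    Function.Bijective u := by
  classical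
  -- lift the characteristic polynomial to `A[X]`
  obtain ⟨P, hP⟩ := (Polynomial.mem_lifts _).mp
    ((Polynomial.lifts_iff_coeff_lifts ((u.baseChange K).charpoly)).mpr fun n => hcoeff n)
  -- Cayley–Hamilton, descended to `E`
  have hCH : aeval (u.baseChange K) P = 0 := by
    have h1 := LinearMap.aeval_self_charpoly (u.baseChange K)
    rw [← hP, aeval_map_algebraMap] at h1
    exact h1
  have hCH' : (aeval u P).baseChange K = 0 := by
    have : (aeval u P).baseChange K = Module.End.baseChangeHom A K E (aeval u P) := rfl
    rw [this, ← aeval_algHom_apply]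
    exact hCH
  have hinjE : Function.Injective (TensorProduct.mk A K E 1) := by
    rw [injective_iff_map_eq_zero]
    intro x hx
    obtain ⟨s, hs⟩ := (IsLocalizedModule.eq_zero_iff (nonZeroDivisors A) (TensorProduct.mk A K E 1)).mp hx
    have hreg : IsRegular (s : A) := isRegular_iff_mem_nonZeroDivisors.mpr s.2
    apply Module.IsTorsionFree.isSMulRegular hreg
    change (s : A) • x = (s : A) • 0
    rw [smul_zero]
    exact hs
  have hPu : aeval u P = 0 := by
    ext x
    apply hinjE
    have := congrArg (fun f => f ((1 : K) ⊗ₜ[A] x)) hCH'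
    simpa using this
  -- constant coefficient
  have hc0 : algebraMap A K (P.coeff 0) = (-1) ^ Module.finrank K (K ⊗[A] E) * algebraMap A K a := by
    rw [ha, LinearMap.det_eq_sign_charpoly_coeff, ← mul_assoc, ← mul_pow, neg_one_mul, neg_neg,
      one_pow, one_mul, ← hP, coeff_map]
  have hc0' : P.coeff 0 = (-1) ^ Module.finrank K (K ⊗[A] E) * a := by
    apply IsFractionRing.injective A K
    rw [hc0, map_mul, map_pow, map_neg, map_one]
  have hc0u : IsUnit (P.coeff 0) := by
    rw [hc0']
    exact ((isUnit_one.neg).pow _).mul hunit
  set w : Module.End A E := aeval u P.divX with hw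
  have h1 : u * w + algebraMap A (Module.End A E) (P.coeff 0) = 0 := by
    have := congrArg (aeval u) (Polynomial.X_mul_divX_add P)
    rw [hPu, map_add, map_mul, aeval_X, aeval_C] at this
    exact this
  have h2 : w * u + algebraMap A (Module.End A E) (P.coeff 0) = 0 := by
    have := congrArg (aeval u) (Polynomial.divX_mul_X_add P)
    rw [hPu, map_add, map_mul, aeval_X, aeval_C] at this
    exact this
  obtain ⟨c, hc⟩ := hc0u
  constructor
  · rw [injective_iff_map_eq_zero]
    intro x hx
    have := congrArg (fun f : Module.End A E => f x) h2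
    simp only [LinearMap.add_apply, Module.End.mul_apply, hx, map_zero, zero_add,
      Module.algebraMap_end_apply, LinearMap.zero_apply] at this
    rw [← hc] at this
    have h3 : (↑c⁻¹ : A) • ((c : A) • x) = 0 := by rw [this, smul_zero]
    rwa [smul_smul, Units.inv_mul, one_smul] at h3
  · intro y
    refine ⟨w (-(↑c⁻¹ : A) • y), ?_⟩
    have := congrArg (fun f : Module.End A E => f (-(↑c⁻¹ : A) • y)) h1
    simp only [LinearMap.add_apply, Module.End.mul_apply,
      Module.algebraMap_end_apply, LinearMap.zero_apply] at this
    rw [← hc, smul_smul, mul_neg, Units.mul_inv, neg_smul, neg_smul, one_smul] at this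
    rw [neg_smul]
    exact (add_neg_eq_zero.mp this)

end Groth.Agent.H22
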