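import Groth.Agent.H22.ExtendSection
import Mathlib.RingTheory.Valuation.ValuationSubring
import Mathlib.AlgebraicGeometry.ValuativeCriterion

/-!
# Morphisms from affine schemes into affine charts (helper22)
-/

set_option autoImplicit false
universe u

namespace Groth.Agent.H22

open AlgebraicGeometry CategoryTheory TopologicalSpace Opposite Scheme

/-- A morphism from an affine scheme landing in an affine open is given by a ring map. -/
theorem exists_specMap_fromSpec_eq {Y : Scheme.{u}} {V : Y.Opens} (hV : IsAffineOpen V)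
    {R : CommRingCat.{u}} (f : Spec R ⟶ Y) (hf : Set.range f ⊆ (V : Set Y)) :
    ∃ c : Γ(Y, V) ⟶ R, Spec.map c ≫ hV.fromSpec = f := by
  have hr : Set.range f ⊆ Set.range hV.fromSpec := by rw [hV.range_fromSpec]; exact hf
  refine ⟨Spec.preimage (IsOpenImmersion.lift hV.fromSpec f hr), ?_⟩
  rw [Spec.map_preimage, IsOpenImmersion.lift_fac]

/-- The point of `Spec Γ(Y, V)` corresponding to the image of a point under `Spec.map c ≫ fromSpec`. -/
theorem specMap_apply_eq_primeIdealOf {Y : Scheme.{u}} {V : Y.Opens} (hV : IsAffineOpen V)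
    {R : CommRingCat.{u}} (c : Γ(Y, V) ⟶ R) (pt : Spec R) (y : Y) (hy : y ∈ V)
    (h : (Spec.map c ≫ hV.fromSpec) pt = y) :
    Spec.map c pt = hV.primeIdealOf ⟨y, hy⟩ := by
  apply hV.fromSpec.isOpenEmbedding.injective
  rw [hV.fromSpec_primeIdealOf ⟨y, hy⟩, ← Scheme.Hom.comp_apply]
  exact h

/-- If the image of `pt` specializes to `y ∈ V`, the kernel of the chart ring map lies in the
prime of `y`. -/
theorem ker_le_primeIdealOf_of_specializes {Y : Scheme.{u}} {V : Y.Opens} (hV : IsAffineOpen V)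
    {R : CommRingCat.{u}} (c : Γ(Y, V) ⟶ R) (pt : Spec R) (y : Y) (hy : y ∈ V)
    (h : (Spec.map c ≫ hV.fromSpec) pt ⤳ y) :
    RingHom.ker c.hom ≤ (hV.primeIdealOf ⟨y, hy⟩).asIdeal := by
  have h1 : hV.fromSpec (Spec.map c pt) ⤳ hV.fromSpec (hV.primeIdealOf ⟨y, hy⟩) := by
    rw [hV.fromSpec_primeIdealOf ⟨y, hy⟩, ← Scheme.Hom.comp_apply]
    exact h
  have h2 : Spec.map c pt ⤳ hV.primeIdealOf ⟨y, hy⟩ :=
    hV.fromSpec.isOpenEmbedding.isInducing.specializes_iff.mp h1
  have h3 := (PrimeSpectrum.le_iff_specializes (R := Γ(Y, V)) _ _).mpr h2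
  intro t ht
  apply h3
  change c.hom t ∈ pt.asIdeal
  rw [RingHom.mem_ker] at ht
  rw [ht]
  exact Ideal.zero_mem _

/-- The contraction of the prime of `y` along `appLE` is the prime of `q y`. -/
theorem comap_appLE_primeIdealOf {X Y : Scheme.{u}} (q : Y ⟶ X) {W₀ : X.Opens}
    (hW₀ : IsAffineOpen W₀) {V : Y.Opens} (hV : IsAffineOpen V) (hVW : V ≤ q ⁻¹ᵁ W₀)
    (y : Y) (hy : y ∈ V) (x : X) (hx : x ∈ W₀) (hyx : q y = x) :
    (hV.primeIdealOf ⟨y, hy⟩).asIdeal.comap (q.appLE W₀ V hVW).hom =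
      (hW₀.primeIdealOf ⟨x, hx⟩).asIdeal := by
  have h1 : Spec.map (q.appLE W₀ V hVW) (hV.primeIdealOf ⟨y, hy⟩) = hW₀.primeIdealOf ⟨x, hx⟩ := by
    apply hW₀.fromSpec.isOpenEmbedding.injective
    rw [hW₀.fromSpec_primeIdealOf ⟨x, hx⟩, ← Scheme.Hom.comp_apply,
      IsAffineOpen.SpecMap_appLE_fromSpec q hW₀ hV hVW, Scheme.Hom.comp_apply,
      hV.fromSpec_primeIdealOf ⟨y, hy⟩]
    exact hyx
  rw [← h1]
  rfl

/-- For a local ring `R` and `f : Spec R ⟶ Y` with `f (closed point) ∈ V`, the image lies in `V`. -/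
theorem range_subset_of_closedPoint_mem {Y : Scheme.{u}} (V : Y.Opens)
    {R : CommRingCat.{u}} [IsLocalRing R] (f : Spec R ⟶ Y)
    (h : f (IsLocalRing.closedPoint R) ∈ V) : Set.range f ⊆ (V : Set Y) := by
  rintro _ ⟨pt, rfl⟩
  exact ((IsLocalRing.specializes_closedPoint pt).map f.continuous).mem_open V.2 h

/-- The generic lift: for a dense open `U`, the generic point of an integral affine chart around
`x` lies in `U`. -/
theorem exists_lift_generic_of_dense {X : Scheme.{u}} (U : X.Opens) (hU : Dense (U : Set X))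
    (x : X) {W₀ : X.Opens} (hW₀ : IsAffineOpen W₀) (hxW₀ : x ∈ W₀)
    (hinj : Function.Injective (X.presheaf.germ W₀ x hxW₀))
    (K : Type u) [Field K] [Algebra (X.presheaf.stalk x) K]
    (hK : Function.Injective (algebraMap (X.presheaf.stalk x) K)) :
    ∃ ub : Spec (CommRingCat.of K) ⟶ U.toScheme, ub ≫ U.ι =
      Spec.map (CommRingCat.ofHom (algebraMap (X.presheaf.stalk x) K)) ≫ X.fromSpecStalk x := by
  obtain ⟨w, hwW₀, hwU⟩ := hU.inter_open_nonempty W₀ W₀.2 ⟨x, hxW₀⟩
  have hr : Set.range (Spec.map (CommRingCat.ofHom (algebraMap (X.presheaf.stalk x) K)) ≫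
      X.fromSpecStalk x) ⊆ Set.range U.ι := by
    rintro _ ⟨pt, rfl⟩
    have h1 := specializes_of_injective_germ hW₀ x hxW₀ hinj K hK pt w hwW₀
    have h2 := h1.mem_open U.2 hwU
    simpa using h2
  exact ⟨IsOpenImmersion.lift U.ι _ hr, IsOpenImmersion.lift_fac _ _ _⟩

/-- Compatibility of a chart ring map of `ub ≫ h` with the structure maps, for a section `h`. -/
theorem appLE_comp_eq_germ_comp {X Y : Scheme.{u}} (q : Y ⟶ X) (U : X.Opens)
    (h : U.toScheme ⟶ Y) (hh : h ≫ q = U.ι) (x : X)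
    {W₀ : X.Opens} (hW₀ : IsAffineOpen W₀) (hxW₀ : x ∈ W₀)
    (K : Type u) [Field K] [Algebra (X.presheaf.stalk x) K]
    (ub : Spec (CommRingCat.of K) ⟶ U.toScheme)
    (hub : ub ≫ U.ι =
      Spec.map (CommRingCat.ofHom (algebraMap (X.presheaf.stalk x) K)) ≫ X.fromSpecStalk x)
    {V : Y.Opens} (hV : IsAffineOpen V) (hVW : V ≤ q ⁻¹ᵁ W₀)
    (c : Γ(Y, V) ⟶ CommRingCat.of K) (hc : Spec.map c ≫ hV.fromSpec = ub ≫ h) :
    q.appLE W₀ V hVW ≫ c =
      X.presheaf.germ W₀ x hxW₀ ≫ CommRingCat.ofHom (algebraMap (X.presheaf.stalk x) K) := by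
  apply Spec.map_injective
  have hc' := congrArg (· ≫ q) hc
  simp only [Category.assoc] at hc'
  rw [← cancel_mono hW₀.fromSpec, Spec.map_comp, Category.assoc,
    IsAffineOpen.SpecMap_appLE_fromSpec q hW₀ hV hVW]
  refine hc'.trans ?_
  rw [hh, hub, Spec.map_comp, Category.assoc]
  congr 1
  rw [← hW₀.fromSpecStalk_eq_fromSpecStalk hxW₀, IsAffineOpen.fromSpecStalk]

/-- A valuation subring of a field over `𝒪_{X,x}` dominating `𝒪_{X,x}` gives a morphism
`Spec R ⟶ X` through `x`. -/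
theorem exists_spec_valuationSubring_hom {X : Scheme.{u}} (x : X) (K : Type u) [Field K]
    [Algebra (X.presheaf.stalk x) K] (R : ValuationSubring K)
    (hAR : ∀ a, algebraMap (X.presheaf.stalk x) K a ∈ R)
    (hmR : ∀ a ∈ IsLocalRing.maximalIdeal (X.presheaf.stalk x),
      R.valuation (algebraMap (X.presheaf.stalk x) K a) < 1) :
    ∃ ψ : X.presheaf.stalk x ⟶ CommRingCat.of R,
      (∀ a, ((ψ.hom a : R) : K) = algebraMap (X.presheaf.stalk x) K a) ∧ IsLocalHom ψ.hom ∧
      (Spec.map ψ ≫ X.fromSpecStalk x) (IsLocalRing.closedPoint R) = x ∧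
      Spec.map (CommRingCat.ofHom R.subtype) ≫ Spec.map ψ ≫ X.fromSpecStalk x =
        Spec.map (CommRingCat.ofHom (algebraMap (X.presheaf.stalk x) K)) ≫ X.fromSpecStalk x := by
  let ψ₀ : X.presheaf.stalk x →+* R := (algebraMap (X.presheaf.stalk x) K).codRestrict R.toSubring hAR
  have hloc : IsLocalHom ψ₀ := by
    constructor
    intro a ha
    by_contra hnu
    have h1 : a ∈ IsLocalRing.maximalIdeal (X.presheaf.stalk x) :=
      (IsLocalRing.mem_maximalIdeal _).mpr hnu
    have h2 := hmR a h1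
    have h3 : ψ₀ a ∈ IsLocalRing.maximalIdeal R := (R.valuation_lt_one_iff (ψ₀ a)).mpr h2
    exact ((IsLocalRing.mem_maximalIdeal _).mp h3) ha
  refine ⟨CommRingCat.ofHom ψ₀, fun a => rfl, hloc, ?_, ?_⟩
  · rw [Scheme.Hom.comp_apply]
    have : Spec.map (CommRingCat.ofHom ψ₀) (IsLocalRing.closedPoint R) =
        IsLocalRing.closedPoint (X.presheaf.stalk x) :=
      IsLocalRing.comap_closedPoint (S := R) ψ₀
    exact (congrArg (X.fromSpecStalk x) this).trans X.fromSpecStalk_closedPoint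
  · rw [← Spec.map_comp_assoc]
    rfl

/-- If the generic point of `Spec 𝒪_{X,x}` lies in the open `U` but `x` does not, the local ring
is not a field. -/
theorem not_isField_stalk_of_notMem {X : Scheme.{u}} (U : X.Opens) (x : X) (hxU : x ∉ U)
    (K : Type u) [Field K] [Algebra (X.presheaf.stalk x) K]
    (hK : Function.Injective (algebraMap (X.presheaf.stalk x) K))
    (ub : Spec (CommRingCat.of K) ⟶ U.toScheme)
    (hub : ub ≫ U.ι =
      Spec.map (CommRingCat.ofHom (algebraMap (X.presheaf.stalk x) K)) ≫ X.fromSpecStalk x) :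
    ¬ IsField (X.presheaf.stalk x) := by
  intro hF
  apply hxU
  let pt : Spec (CommRingCat.of K) := IsLocalRing.closedPoint K
  have h1 : Spec.map (CommRingCat.ofHom (algebraMap (X.presheaf.stalk x) K)) pt =
      IsLocalRing.closedPoint (X.presheaf.stalk x) := by
    apply PrimeSpectrum.ext
    have h2 : IsLocalRing.maximalIdeal (X.presheaf.stalk x) = ⊥ :=
      IsLocalRing.isField_iff_maximalIdeal_eq.mp hF
    change Ideal.comap (algebraMap (X.presheaf.stalk x) K) pt.asIdeal =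
      IsLocalRing.maximalIdeal (X.presheaf.stalk x)
    rw [h2]
    have h0 : pt.asIdeal = ⊥ :=
      (Ideal.eq_bot_or_top pt.asIdeal).resolve_right pt.isPrime.ne_top
    rw [h0, ← RingHom.ker_eq_comap_bot]
    exact (RingHom.injective_iff_ker_eq_bot _).mp hK
  have h3 : (ub ≫ U.ι) pt = x := by
    rw [hub, Scheme.Hom.comp_apply, h1, X.fromSpecStalk_closedPoint]
  rw [← h3, Scheme.Hom.comp_apply]
  exact (ub pt).2

end Groth.Agent.H22
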