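import Groth.Agent.H22.CompProper

/-!
# Valuative lifting near a point for the closure of a point

For a separated morphism of finite type `f : X ⟶ Y` with `Y` locally Noetherian, a point `η` of `X`
and a point `y` of `Y`: if discrete valuation rings of (fields isomorphic to) `κ(η)` centred at `y`
lift, then over a neighbourhood of `y` all valuative squares with generic point in the closure of
`η` lift.
-/

set_option autoImplicit false
universe u
open CategoryTheory CategoryTheory.Limits AlgebraicGeometry IsLocalRing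

namespace Groth.Agent.H22.CompLift

open Groth.Agent.H22.LocalPt Groth.Agent.H22.DomCenter Groth.Agent.H22.CompProper

/-- The lifting hypothesis at `η` over `y`, for discrete valuation rings. -/
def LiftHyp {X Y : Scheme.{u}} (f : X ⟶ Y) (η : X) (y : Y) : Prop :=
  ∀ (K : Type u) [Field K] (R : ValuationSubring K), IsDiscreteValuationRing R →
    ∀ (a : Spec (.of K) ⟶ X) (t : Spec (.of R) ⟶ Y), a (closedPoint K) = η →
      Function.Bijective (X.descResidueField (Scheme.stalkClosedPointTo a)).hom →
      a ≫ f = Spec.map (CommRingCat.ofHom R.subtype) ≫ t → t (closedPoint R) = y →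
      ∃ l : Spec (.of R) ⟶ X, l ≫ f = t ∧ Spec.map (CommRingCat.ofHom R.subtype) ≫ l = a

/-- The residue field map of `gen W ≫ i` is bijective for a closed immersion `i`. -/
theorem bijective_descResidueField_gen {W X : Scheme.{u}} [IsIntegral W] (i : W ⟶ X)
    [IsClosedImmersion i] :
    Function.Bijective (X.descResidueField (Scheme.stalkClosedPointTo (gen W ≫ i))).hom := by
  refine ⟨RingHom.injective _, ?_⟩
  have h1 : X.residue _ ≫ X.descResidueField (Scheme.stalkClosedPointTo (gen W ≫ i)) =
      Scheme.stalkClosedPointTo (gen W ≫ i) := Scheme.residue_descResidueField _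
  have h2 : Function.Surjective (Scheme.stalkClosedPointTo (gen W ≫ i)).hom := by
    rw [Scheme.stalkClosedPointTo_comp, Scheme.stalkClosedPointTo_fromSpecStalk]
    intro c
    obtain ⟨b', hb'⟩ := (ConcreteCategory.bijective_of_isIso
      (W.presheaf.stalkCongr (by rw [Scheme.fromSpecStalk_closedPoint] :
        Inseparable (gen W (closedPoint W.functionField)) (genericPoint W))).hom).2 c
    obtain ⟨b, hb⟩ := i.stalkMap_surjective _ b'
    refine ⟨b, ?_⟩
    change (W.presheaf.stalkCongr _).hom (i.stalkMap _ b) = c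
    rw [hb]
    exact hb'
  intro c
  obtain ⟨b, hb⟩ := h2 c
  refine ⟨X.residue _ b, ?_⟩
  have h3 := congrArg (fun ψ => ψ.hom b) h1
  rw [← hb]
  exact h3

section closure

variable {X : Scheme.{u}} (T : TopologicalSpace.Closeds X)

/-- The reduced induced structure on an irreducible closed subset is integral. -/
theorem isIntegral_subscheme_vanishingIdeal (hT : IsIrreducible (T : Set X)) :
    IsIntegral (Scheme.IdealSheafData.vanishingIdeal T).subscheme := by
  have h1 : IsReduced (Scheme.IdealSheafData.vanishingIdeal T).subscheme :=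
    Groth.Agent.H22.isReduced_subscheme_vanishingIdeal T
  have h2 : IsIrreducible ((Scheme.IdealSheafData.vanishingIdeal T).support : Set X) := by
    rw [Scheme.IdealSheafData.coe_support_vanishingIdeal]; exact hT
  have h3 : IrreducibleSpace (Scheme.IdealSheafData.vanishingIdeal T).subscheme :=
    Subtype.irreducibleSpace h2
  exact isIntegral_of_irreducibleSpace_of_isReduced _

lemma range_subschemeι_vanishingIdeal :
    Set.range (Scheme.IdealSheafData.vanishingIdeal T).subschemeι = (T : Set X) := by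
  rw [Scheme.IdealSheafData.range_subschemeι, Scheme.IdealSheafData.coe_support_vanishingIdeal]

/-- The generic point of the reduced induced structure on `closure {η}` maps to `η`. -/
theorem subschemeι_genericPoint (η : X) (hT : (T : Set X) = closure {η})
    [IsIntegral (Scheme.IdealSheafData.vanishingIdeal T).subscheme] :
    (Scheme.IdealSheafData.vanishingIdeal T).subschemeι
      (genericPoint (Scheme.IdealSheafData.vanishingIdeal T).subscheme) = η := by
  set i := (Scheme.IdealSheafData.vanishingIdeal T).subschemeι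
  set ξ := genericPoint (Scheme.IdealSheafData.vanishingIdeal T).subscheme
  have h1 : closure {i ξ} = closure {η} := by
    rw [← hT, ← range_subschemeι_vanishingIdeal T, ← Set.image_univ,
      ← (genericPoint_spec (Scheme.IdealSheafData.vanishingIdeal T).subscheme).def,
      ← i.isClosedEmbedding.closure_image_eq, Set.image_singleton]
  exact (inseparable_iff_closure_eq.mpr h1).eq

end closure

/-- **Valuative lifting near a point.** -/
theorem exists_open_lift {X Y : Scheme.{u}} [IsLocallyNoetherian Y] (f : X ⟶ Y) [IsSeparated f]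
    [LocallyOfFiniteType f] [QuasiCompact f] (η : X) (y : Y) (H : LiftHyp f η y) :
    ∃ U : Y.Opens, y ∈ U ∧ ∀ (R : Type u) [CommRing R] [IsDomain R] [ValuationRing R]
      (K : Type u) [Field K] [Algebra R K] [IsFractionRing R K]
      (a : Spec (.of K) ⟶ X) (t : Spec (.of R) ⟶ Y), a (closedPoint K) ∈ closure {η} →
        a ≫ f = Spec.map (CommRingCat.ofHom (algebraMap R K)) ≫ t → t (closedPoint R) ∈ U →
        ∃ l : Spec (.of R) ⟶ X, l ≫ f = t ∧
          Spec.map (CommRingCat.ofHom (algebraMap R K)) ≫ l = a ∧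
          Set.range l ⊆ closure {η} := by
  have hX : IsLocallyNoetherian X := LocallyOfFiniteType.isLocallyNoetherian f
  obtain ⟨T, hT⟩ : ∃ T : TopologicalSpace.Closeds X, (T : Set X) = closure {η} :=
    ⟨⟨_, isClosed_closure⟩, rfl⟩
  have hirr : IsIrreducible (T : Set X) := by rw [hT]; exact isIrreducible_singleton.closure
  have hint := isIntegral_subscheme_vanishingIdeal T hirr
  set W := (Scheme.IdealSheafData.vanishingIdeal T).subscheme with hW
  set i : W ⟶ X := (Scheme.IdealSheafData.vanishingIdeal T).subschemeι with hi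
  have hrange : Set.range i = closure {η} := by rw [← hT]; exact range_subschemeι_vanishingIdeal T
  have hξ : i (genericPoint W) = η := subschemeι_genericPoint T η hT
  obtain ⟨U, hyU, hU⟩ := exists_isProper_restrict_closedImmersion i f y (by
    intro R hR t w ht
    refine H W.functionField R hR (gen W ≫ i) t ?_ (bijective_descResidueField_gen i)
      (by rw [Category.assoc]; exact w.symm) ht
    rw [Scheme.Hom.comp_apply, gen_closedPoint, hξ])
  refine ⟨U, hyU, ?_⟩
  intro R _ _ _ K _ _ _ a t ha w ht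
  have har : Set.range a ⊆ Set.range i := by
    rintro _ ⟨p, rfl⟩
    rw [hrange, Subsingleton.elim p (closedPoint K)]
    exact ha
  obtain ⟨a', ha'⟩ := exists_lift_of_isReduced' a i har
  have w' : a' ≫ (i ≫ f) = Spec.map (CommRingCat.ofHom (algebraMap R K)) ≫ t := by
    rw [← Category.assoc, ha', w]
  obtain ⟨l', hl1, hl2⟩ := exists_lift_of_universallyClosed_restrict (i ≫ f) U a' t w' ht
  refine ⟨l' ≫ i, ?_, ?_, ?_⟩
  · rw [Category.assoc, hl1]
  · rw [← Category.assoc, hl2, ha']
  · rw [← hrange]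
    rintro _ ⟨p, rfl⟩
    exact ⟨l' p, rfl⟩

/-- The conclusion of `exists_open_lift`, as a predicate on opens. -/
def LiftsOver {X Y : Scheme.{u}} (f : X ⟶ Y) (C : Set X) (U : Y.Opens) : Prop :=
  ∀ (R : Type u) [CommRing R] [IsDomain R] [ValuationRing R]
    (K : Type u) [Field K] [Algebra R K] [IsFractionRing R K]
    (a : Spec (.of K) ⟶ X) (t : Spec (.of R) ⟶ Y), a (closedPoint K) ∈ C →
      a ≫ f = Spec.map (CommRingCat.ofHom (algebraMap R K)) ≫ t → t (closedPoint R) ∈ U →
      ∃ l : Spec (.of R) ⟶ X, l ≫ f = t ∧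
        Spec.map (CommRingCat.ofHom (algebraMap R K)) ≫ l = a ∧ Set.range l ⊆ C

lemma LiftsOver.mono_open {X Y : Scheme.{u}} {f : X ⟶ Y} {C : Set X} {U U' : Y.Opens}
    (h : LiftsOver f C U) (hU : U' ≤ U) : LiftsOver f C U' :=
  fun R _ _ _ K _ _ _ a t ha w ht => h R K a t ha w (hU ht)

lemma LiftsOver.union {X Y : Scheme.{u}} {f : X ⟶ Y} {C C' : Set X} {U : Y.Opens}
    (h : LiftsOver f C U) (h' : LiftsOver f C' U) : LiftsOver f (C ∪ C') U := by
  intro R _ _ _ K _ _ _ a t ha w ht
  rcases ha with ha | ha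
  · obtain ⟨l, h1, h2, h3⟩ := h R K a t ha w ht
    exact ⟨l, h1, h2, h3.trans Set.subset_union_left⟩
  · obtain ⟨l, h1, h2, h3⟩ := h' R K a t ha w ht
    exact ⟨l, h1, h2, h3.trans Set.subset_union_right⟩

/-- Finite version of `exists_open_lift`. -/
theorem exists_open_lift_of_finite {X Y : Scheme.{u}} [IsLocallyNoetherian Y] (f : X ⟶ Y)
    [IsSeparated f] [LocallyOfFiniteType f] [QuasiCompact f] (y : Y) (E : Set X) (hE : E.Finite)
    (H : ∀ η ∈ E, LiftHyp f η y) :
    ∃ U : Y.Opens, y ∈ U ∧ LiftsOver f (⋃ η ∈ E, closure {η}) U := by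
  induction E, hE using Set.Finite.induction_on with
  | empty =>
    refine ⟨⊤, trivial, ?_⟩
    intro R _ _ _ K _ _ _ a t ha
    simp at ha
  | @insert η E _ _ ih =>
    obtain ⟨U₁, hy₁, h₁⟩ := ih (fun η' hη' => H η' (Set.mem_insert_of_mem _ hη'))
    obtain ⟨U₂, hy₂, h₂⟩ := exists_open_lift f η y (H η (Set.mem_insert _ _))
    refine ⟨U₁ ⊓ U₂, ⟨hy₁, hy₂⟩, ?_⟩
    rw [Set.biUnion_insert]
    exact (LiftsOver.mono_open (C := closure {η}) h₂ inf_le_right).union
      (h₁.mono_open inf_le_left)

/-- If all valuative squares over `U` with generic point in `f ⁻¹ U` lift, then `f` is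
universally closed over `U`. -/
theorem universallyClosed_restrict_of_liftsOver {X Y : Scheme.{u}} (f : X ⟶ Y) [QuasiCompact f]
    (U : Y.Opens) {C : Set X} (hC : ((f ⁻¹ᵁ U : X.Opens) : Set X) ⊆ C) (h : LiftsOver f C U) :
    UniversallyClosed (f ∣_ U) := by
  apply UniversallyClosed.of_valuativeCriterion
  intro sq
  have w : (sq.i₁ ≫ (f ⁻¹ᵁ U).ι) ≫ f =
      Spec.map (CommRingCat.ofHom (algebraMap sq.R sq.K)) ≫ sq.i₂ ≫ U.ι := by
    rw [Category.assoc, ← morphismRestrict_ι, ← Category.assoc, sq.commSq.w, Category.assoc]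
  obtain ⟨l, h1, h2, -⟩ := h sq.R sq.K (sq.i₁ ≫ (f ⁻¹ᵁ U).ι) (sq.i₂ ≫ U.ι)
    (hC (by rw [Scheme.Hom.comp_apply]; exact (sq.i₁ _).2)) w
    (by rw [Scheme.Hom.comp_apply]; exact (sq.i₂ _).2)
  have hl : Set.range l ⊆ Set.range (f ⁻¹ᵁ U).ι := by
    rintro _ ⟨p, rfl⟩
    rw [Scheme.Opens.range_ι]
    change f (l p) ∈ U
    rw [← Scheme.Hom.comp_apply, h1, Scheme.Hom.comp_apply]
    exact (sq.i₂ p).2
  let l' := IsOpenImmersion.lift (f ⁻¹ᵁ U).ι l hl
  have hl' : l' ≫ (f ⁻¹ᵁ U).ι = l := IsOpenImmersion.lift_fac _ _ _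
  refine ⟨⟨l', ?_, ?_⟩⟩
  · rw [← cancel_mono (f ⁻¹ᵁ U).ι, Category.assoc, hl', h2]
  · rw [← cancel_mono U.ι, Category.assoc, morphismRestrict_ι, ← Category.assoc, hl', h1]

end Groth.Agent.H22.CompLift
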