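import Mathlib.AlgebraicGeometry.IdealSheaf.Subscheme
import Mathlib.AlgebraicGeometry.Properties
import Mathlib.AlgebraicGeometry.Morphisms.ClosedImmersion

set_option autoImplicit false
universe u

namespace Groth.Agent.H22

open AlgebraicGeometry CategoryTheory

theorem isReduced_subscheme_iff {X : Scheme.{u}} (I : X.IdealSheafData) :
    IsReduced I.subscheme ↔ ∀ U : X.affineOpens, (I.ideal U).IsRadical := by
  rw [IsReduced.iff_of_openCover (𝒰 := I.subschemeCover.openCover)]
  refine forall_congr' fun U => ?_
  rw [Ideal.isRadical_iff_quotient_reduced]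
  exact affine_isReduced_iff (.of (Γ(X, U.1) ⧸ I.ideal U))

theorem isReduced_subscheme_radical {X : Scheme.{u}} (I : X.IdealSheafData) :
    IsReduced I.radical.subscheme := by
  rw [isReduced_subscheme_iff]
  intro U
  rw [Scheme.IdealSheafData.radical_ideal]
  exact Ideal.radical_isRadical _

theorem radical_eq_self_of_isReduced {X : Scheme.{u}} (I : X.IdealSheafData)
    [h : IsReduced I.subscheme] : I.radical = I := by
  rw [isReduced_subscheme_iff] at h
  ext U : 2
  rw [Scheme.IdealSheafData.radical_ideal]
  exact (h U).radical

theorem eq_nilradical_of_isReduced_of_support_eq_top {X : Scheme.{u}} (I : X.IdealSheafData)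
    (hI : I.support = ⊤) [IsReduced I.subscheme] : I = X.nilradical := by
  have h1 := radical_eq_self_of_isReduced I
  rw [← h1, ← Scheme.IdealSheafData.vanishingIdeal_support, hI,
    Scheme.IdealSheafData.vanishingIdeal_top]

theorem ker_eq_nilradical_of_isReduced {Z X : Scheme.{u}} (i : Z ⟶ X) [IsClosedImmersion i]
    [Surjective i] [IsReduced Z] : i.ker = X.nilradical := by
  have : IsReduced i.ker.subscheme := by
    have e : Z ≅ i.ker.subscheme := asIso i.toImage
    exact isReduced_of_isOpenImmersion e.inv
  apply eq_nilradical_of_isReduced_of_support_eq_top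
  apply TopologicalSpace.Closeds.ext
  rw [Scheme.Hom.support_ker, i.surjective.range_eq, closure_univ]
  rfl

instance isReduced_nilradical_subscheme (X : Scheme.{u}) : IsReduced X.nilradical.subscheme :=
  isReduced_subscheme_radical ⊥

instance surjective_nilradical_subschemeι (X : Scheme.{u}) :
    Surjective X.nilradical.subschemeι := by
  constructor
  rw [← Set.range_eq_univ, Scheme.IdealSheafData.range_subschemeι, Scheme.support_nilradical]
  rfl

end Groth.Agent.H22
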