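import Groth.Agent.H22.LocalProper
import Groth.Agent.H22.RedSub
import Groth.Agent.H22.RedImm

/-!
# Local properness of an integral scheme over an arbitrary locally Noetherian base

Generalisation of the local criterion of `LocalProper` (integral base, dominant morphism) to an
arbitrary locally Noetherian base, through the scheme-theoretic image.
-/

set_option autoImplicit false
universe u
open CategoryTheory CategoryTheory.Limits AlgebraicGeometry IsLocalRing

namespace Groth.Agent.H22.CompProper

open Groth.Agent.H22.LocalPt Groth.Agent.H22.CenterLemma Groth.Agent.H22.CenterCor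
open Groth.Agent.H22.DomCenter Groth.Agent.H22.DVRCenter Groth.Agent.H22.LocalProper

/-- The scheme-theoretic image of a quasi-compact morphism from a reduced scheme is reduced. -/
theorem isReduced_image {W Y : Scheme.{u}} (g : W ⟶ Y) [QuasiCompact g] [IsReduced W] :
    IsReduced g.image := by
  rw [Groth.Agent.H22.isReduced_subscheme_iff]
  intro U
  rw [Scheme.Hom.ker_apply]
  intro a ⟨n, hn⟩
  rw [RingHom.mem_ker] at hn ⊢
  rw [map_pow] at hn
  exact IsReduced.eq_zero _ ⟨n, hn⟩

theorem irreducibleSpace_image {W Y : Scheme.{u}} (g : W ⟶ Y) [QuasiCompact g]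
    [IrreducibleSpace W] : IrreducibleSpace g.image := by
  have hd : DenseRange g.toImage.base := IsDominant.denseRange
  have h1 : IsIrreducible (Set.range g.toImage.base) := by
    rw [← Set.image_univ]
    exact (IrreducibleSpace.isIrreducible_univ W).image _ g.toImage.continuous.continuousOn
  have h2 : IsIrreducible (closure (Set.range g.toImage.base)) := h1.closure
  rw [hd.closure_range] at h2
  exact irreducibleSpace_def _ |>.mpr h2

theorem isIntegral_image {W Y : Scheme.{u}} (g : W ⟶ Y) [QuasiCompact g] [IsIntegral W] :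
    IsIntegral g.image := by
  have := isReduced_image g
  have := irreducibleSpace_image g
  exact isIntegral_of_irreducibleSpace_of_isReduced _

lemma isProper_restrict_congr {X Y : Scheme.{u}} {g g' : X ⟶ Y} (h : g' = g) (U : Y.Opens)
    (hp : IsProper (g' ∣_ U)) : IsProper (g ∣_ U) := by
  subst h; exact hp

/-- **Local properness at a point, general base.** Let `g : W ⟶ Y` be separated of finite type
with `W` integral and `Y` locally Noetherian. If every discrete valuation ring `R` of `K(W)` with a
morphism `Spec R ⟶ Y` extending the generic point and centred at `y` has a lift to `W`, then `g`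
is proper over a neighbourhood of `y`. -/
theorem exists_isProper_restrict {W Y : Scheme.{u}} [IsIntegral W] [IsLocallyNoetherian Y]
    (g : W ⟶ Y) [IsSeparated g] [LocallyOfFiniteType g] [QuasiCompact g] (y : Y)
    (H : ∀ R : ValuationSubring W.functionField, IsDiscreteValuationRing R →
      ∀ t : Spec (.of R) ⟶ Y, Spec.map (CommRingCat.ofHom R.subtype) ≫ t = gen W ≫ g →
        t (closedPoint R) = y →
        ∃ l : Spec (.of R) ⟶ W, l ≫ g = t ∧
          Spec.map (CommRingCat.ofHom R.subtype) ≫ l = gen W) :
    ∃ U : Y.Opens, y ∈ U ∧ IsProper (g ∣_ U) := by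
  have hint : IsIntegral g.image := isIntegral_image g
  have hfac : g.toImage ≫ g.imageι = g := g.toImage_imageι
  have : IsLocallyNoetherian g.image := LocallyOfFiniteType.isLocallyNoetherian g.imageι
  have : IsSeparated g.toImage := by
    have : IsSeparated (g.toImage ≫ g.imageι) := by rw [hfac]; infer_instance
    exact IsSeparated.of_comp g.toImage g.imageι
  have : LocallyOfFiniteType g.toImage := by
    have : LocallyOfFiniteType (g.toImage ≫ g.imageι) := by rw [hfac]; infer_instance
    exact locallyOfFiniteType_of_comp g.toImage g.imageι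
  by_cases hy : y ∈ Set.range g.imageι
  · obtain ⟨y', rfl⟩ := hy
    have hξ : g.toImage (genericPoint W) ⤳ y' := by
      rw [map_genericPoint]; exact (genericPoint_spec _).specializes trivial
    obtain ⟨_, ⟨V, hV, rfl⟩, hyV, -⟩ := g.image.isBasis_affineOpens.exists_subset_of_mem_open
      (Set.mem_univ y') isOpen_univ
    have hDVR : ∀ A : ValuationSubring W.functionField, IsDiscreteValuationRing A →
        DominatesBase g.toImage A y' hξ → ∃ x : W, g.toImage x = y' ∧ Dominates A x := by
      intro A hA hdom
      obtain ⟨β, hβloc, hβ⟩ := exists_localHom_of_dominatesBase A y' hξ hdom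
      obtain ⟨l, hl1, hl2⟩ := H A hA (pt y' β ≫ g.imageι)
        (by rw [← Category.assoc, hβ, Category.assoc, hfac])
        (by rw [Scheme.Hom.comp_apply, pt_closedPoint])
      refine ⟨l (closedPoint A), ?_, dominates_of_lift A l hl2⟩
      apply g.imageι.isEmbedding.injective
      rw [← Scheme.Hom.comp_apply, hfac, ← Scheme.Hom.comp_apply, hl1, Scheme.Hom.comp_apply,
        pt_closedPoint]
    obtain ⟨U', hyU', hU'V, hU'⟩ := exists_open_centers hV y' hyV hξ hDVR
    obtain ⟨U₀, hU₀, hU₀'⟩ := g.imageι.isEmbedding.isInducing.isOpen_iff.mp U'.isOpen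
    let U : Y.Opens := ⟨U₀, hU₀⟩
    have hUU' : g.imageι ⁻¹ᵁ U = U' := TopologicalSpace.Opens.ext hU₀'
    refine ⟨U, ?_, ?_⟩
    · have : y' ∈ g.imageι ⁻¹' U₀ := by rw [hU₀']; exact hyU'
      exact this
    · have hp : IsProper (g.toImage ∣_ (g.imageι ⁻¹ᵁ U)) := by
        apply isProper_restrict_of_centers
        · rw [hUU']; exact hξ.mem_open U'.isOpen hyU'
        · intro y'' hy''
          rw [hUU'] at hy''
          exact hU' y'' hy''
      apply isProper_restrict_congr hfac
      have h1 : IsClosedImmersion (g.imageι ∣_ U) := inferInstance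
      have h2 : IsProper (g.imageι ∣_ U) := inferInstance
      have h3 : IsProper (g.toImage ∣_ (g.imageι ⁻¹ᵁ U) ≫ g.imageι ∣_ U) := inferInstance
      rw [morphismRestrict_comp]
      exact h3
  · refine ⟨⟨(Set.range g.imageι)ᶜ, g.imageι.isClosedEmbedding.isClosed_range.isOpen_compl⟩,
      hy, ?_⟩
    have : IsEmpty ↥(g ⁻¹ᵁ ⟨(Set.range g.imageι)ᶜ,
        g.imageι.isClosedEmbedding.isClosed_range.isOpen_compl⟩).toScheme :=
      ⟨fun x => x.2 ⟨g.toImage x.1, by rw [← Scheme.Hom.comp_apply, hfac]⟩⟩
    have h1 : IsClosedImmersion (g ∣_ ⟨(Set.range g.imageι)ᶜ,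
        g.imageι.isClosedEmbedding.isClosed_range.isOpen_compl⟩) := inferInstance
    infer_instance

/-- A quasi-compact morphism from a reduced scheme whose image lies in a closed set `Z` factors
through the reduced induced subscheme structure on `Z`. -/
theorem exists_lift_of_isReduced {T X : Scheme.{u}} (h : T ⟶ X) [QuasiCompact h] [IsReduced T]
    (Z : TopologicalSpace.Closeds X) (hZ : Set.range h ⊆ Z) :
    ∃ h' : T ⟶ (Scheme.IdealSheafData.vanishingIdeal Z).subscheme,
      h' ≫ (Scheme.IdealSheafData.vanishingIdeal Z).subschemeι = h := by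
  have hred : IsReduced h.ker.subscheme := isReduced_image h
  have h1 : h.ker.radical = h.ker := Groth.Agent.H22.radical_eq_self_of_isReduced h.ker
  have h2 : h.ker.support ≤ Z := by
    intro x hx
    have hx' : x ∈ closure (Set.range h) := by
      rw [← Scheme.Hom.support_ker]; exact hx
    exact (closure_minimal hZ Z.isClosed) hx'
  have h3 : Scheme.IdealSheafData.vanishingIdeal Z ≤ h.ker := by
    rw [← h1, ← Scheme.IdealSheafData.vanishingIdeal_support]
    exact Scheme.IdealSheafData.vanishingIdeal_antimono h2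
  have h4 : (Scheme.IdealSheafData.vanishingIdeal Z).subschemeι.ker ≤ h.ker := by
    rw [Scheme.IdealSheafData.ker_subschemeι]; exact h3
  exact ⟨IsClosedImmersion.lift _ h h4, IsClosedImmersion.lift_fac _ _ _⟩

/-- Variant for an arbitrary closed immersion from a reduced scheme. -/
theorem exists_lift_of_isReduced' {T W X : Scheme.{u}} (h : T ⟶ X) [QuasiCompact h] [IsReduced T]
    (i : W ⟶ X) [IsClosedImmersion i] [IsReduced W] (hZ : Set.range h ⊆ Set.range i) :
    ∃ h' : T ⟶ W, h' ≫ i = h := by
  have hred : IsReduced h.ker.subscheme := isReduced_image h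
  have h1 : h.ker.radical = h.ker := Groth.Agent.H22.radical_eq_self_of_isReduced h.ker
  have h2 : h.ker.support ≤ ⟨Set.range i, i.isClosedEmbedding.isClosed_range⟩ := by
    intro x hx
    have hx' : x ∈ closure (Set.range h) := by
      rw [← Scheme.Hom.support_ker]; exact hx
    exact (closure_minimal hZ i.isClosedEmbedding.isClosed_range) hx'
  have h4 : i.ker ≤ h.ker := by
    rw [Groth.Agent.H22.ker_eq_vanishingIdeal_of_isReduced i, ← h1,
      ← Scheme.IdealSheafData.vanishingIdeal_support]
    exact Scheme.IdealSheafData.vanishingIdeal_antimono h2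
  exact ⟨IsClosedImmersion.lift _ h h4, IsClosedImmersion.lift_fac _ _ _⟩

/-- If `g` is universally closed over the open `U`, every valuative square whose closed point
maps into `U` has a lift. -/
theorem exists_lift_of_universallyClosed_restrict {W Y : Scheme.{u}} (g : W ⟶ Y) (U : Y.Opens)
    [UniversallyClosed (g ∣_ U)] {R : Type u} [CommRing R] [IsDomain R] [ValuationRing R]
    {K : Type u} [Field K] [Algebra R K] [IsFractionRing R K]
    (a : Spec (.of K) ⟶ W) (t : Spec (.of R) ⟶ Y)
    (w : a ≫ g = Spec.map (CommRingCat.ofHom (algebraMap R K)) ≫ t)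
    (ht : t (closedPoint R) ∈ U) :
    ∃ l : Spec (.of R) ⟶ W, l ≫ g = t ∧
      Spec.map (CommRingCat.ofHom (algebraMap R K)) ≫ l = a := by
  have htr : Set.range t ⊆ Set.range U.ι := by
    rintro _ ⟨p, rfl⟩
    rw [Scheme.Opens.range_ι]
    exact ((IsLocalRing.specializes_closedPoint p).map t.continuous).mem_open U.isOpen ht
  let t' : Spec (.of R) ⟶ U := IsOpenImmersion.lift U.ι t htr
  have ht' : t' ≫ U.ι = t := IsOpenImmersion.lift_fac _ _ _
  have har : Set.range a ⊆ Set.range (g ⁻¹ᵁ U).ι := by
    rintro _ ⟨p, rfl⟩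
    rw [Scheme.Opens.range_ι]
    change g (a p) ∈ U
    rw [← Scheme.Hom.comp_apply, w, Scheme.Hom.comp_apply]
    have := htr (Set.mem_range_self (f := t)
      (Spec.map (CommRingCat.ofHom (algebraMap R K)) p))
    rwa [Scheme.Opens.range_ι] at this
  let a' : Spec (.of K) ⟶ (g ⁻¹ᵁ U).toScheme := IsOpenImmersion.lift (g ⁻¹ᵁ U).ι a har
  have ha' : a' ≫ (g ⁻¹ᵁ U).ι = a := IsOpenImmersion.lift_fac _ _ _
  have hsq : CommSq a' (Spec.map (CommRingCat.ofHom (algebraMap R K))) (g ∣_ U) t' := by
    constructor
    rw [← cancel_mono U.ι, Category.assoc, morphismRestrict_ι, ← Category.assoc, ha', w,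
      Category.assoc, ht']
  have hex : ValuativeCriterion.Existence (g ∣_ U) := by
    have : (ValuativeCriterion.Existence ⊓ @QuasiCompact) (g ∣_ U) := by
      rw [← UniversallyClosed.eq_valuativeCriterion]; infer_instance
    exact this.1
  let sq : ValuativeCommSq (g ∣_ U) := ⟨R, K, a', t', hsq⟩
  obtain ⟨⟨l, h1, h2⟩⟩ := hex sq
  refine ⟨l ≫ (g ⁻¹ᵁ U).ι, ?_, ?_⟩
  · rw [Category.assoc, ← morphismRestrict_ι, ← Category.assoc]
    have h2' : l ≫ g ∣_ U = t' := h2
    rw [h2', ht']
  · have h1' : Spec.map (CommRingCat.ofHom (algebraMap R K)) ≫ l = a' := h1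
    rw [← Category.assoc, h1', ha']

/-- A morphism from the spectrum of a domain `R` whose restriction to the fraction field `K`
factors through the closed immersion `i` has image in the range of `i`. -/
theorem range_subset_of_generic {W X : Scheme.{u}} (i : W ⟶ X) [IsClosedImmersion i]
    {R K : CommRingCat.{u}} (φ : R ⟶ K) (hφ : Function.Injective φ.hom)
    (l : Spec R ⟶ X) (a : Spec K ⟶ W) (h : Spec.map φ ≫ l = a ≫ i) :
    Set.range l ⊆ Set.range i := by
  have hd : DenseRange (Spec.map φ).base :=
    (isDominant_SpecMap_of_injective φ hφ).denseRange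
  have hcl : IsClosed (l.base ⁻¹' Set.range i) :=
    i.isClosedEmbedding.isClosed_range.preimage l.continuous
  have hsub : Set.range (Spec.map φ).base ⊆ l.base ⁻¹' Set.range i := by
    rintro _ ⟨p, rfl⟩
    refine ⟨a p, ?_⟩
    rw [← Scheme.Hom.comp_apply, ← h, Scheme.Hom.comp_apply]
  have huniv : l.base ⁻¹' Set.range i = Set.univ := by
    apply Set.eq_univ_of_univ_subset
    rw [← hd.closure_range]
    exact closure_minimal hsub hcl
  rintro _ ⟨p, rfl⟩
  have : p ∈ l.base ⁻¹' Set.range i := by rw [huniv]; trivial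
  exact this

/-- **Local properness of an integral closed subscheme.** -/
theorem exists_isProper_restrict_closedImmersion {W X Y : Scheme.{u}} [IsIntegral W]
    [IsLocallyNoetherian Y] (i : W ⟶ X) [IsClosedImmersion i] (f : X ⟶ Y) [IsSeparated f]
    [LocallyOfFiniteType f] [QuasiCompact f] (y : Y)
    (H : ∀ R : ValuationSubring W.functionField, IsDiscreteValuationRing R →
      ∀ t : Spec (.of R) ⟶ Y, Spec.map (CommRingCat.ofHom R.subtype) ≫ t = gen W ≫ i ≫ f →
        t (closedPoint R) = y →
        ∃ l : Spec (.of R) ⟶ X, l ≫ f = t ∧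
          Spec.map (CommRingCat.ofHom R.subtype) ≫ l = gen W ≫ i) :
    ∃ U : Y.Opens, y ∈ U ∧ IsProper ((i ≫ f) ∣_ U) := by
  have hX : IsLocallyNoetherian X := LocallyOfFiniteType.isLocallyNoetherian f
  apply exists_isProper_restrict (i ≫ f) y
  intro R hR t w ht
  obtain ⟨l, hl1, hl2⟩ := H R hR t w ht
  have hr : Set.range l ⊆ Set.range i :=
    range_subset_of_generic i (CommRingCat.ofHom R.subtype) Subtype.val_injective l (gen W) hl2
  obtain ⟨l', hl'⟩ := exists_lift_of_isReduced' l i hr
  refine ⟨l', ?_, ?_⟩
  · rw [← Category.assoc, hl', hl1]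
  · rw [← cancel_mono i, Category.assoc, hl', hl2]

end Groth.Agent.H22.CompProper
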