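import Groth.Prelude.Def_CurvBase
import Groth.Agent.H79.SchDim

/-!
# Algebraic schemes of dimension one: generic transcendence degrees versus dimensions of local
rings at closed points
-/

set_option autoImplicit false
set_option linter.style.haveILetI false
universe u

namespace Groth.Agent.H22.CurveDim

open AlgebraicGeometry CategoryTheory

attribute [local instance] Curv2.resAlgebra

section order
variable {X : Scheme.{u}}

theorem isClosed_of_isMin {x : X} (hx : IsMin x) : IsClosed ({x} : Set X) := by
  have : closure ({x} : Set X) = {x} := by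
    apply Set.Subset.antisymm _ subset_closure
    intro y hy
    have h1 : x ⤳ y := specializes_iff_mem_closure.mpr hy
    have h2 : y ⤳ x := Scheme.le_iff_specializes.mp (hx (Scheme.le_iff_specializes.mpr h1))
    exact (h2.antisymm h1).eq
  rw [← this]
  exact isClosed_closure

theorem isMin_of_isClosed {x : X} (hx : IsClosed ({x} : Set X)) : IsMin x :=
  Order.height_eq_zero.mp (Scheme.height_of_isClosed hx)

theorem isMax_of_mem_irreducibleComponents {ξ : X}
    (h : closure ({ξ} : Set X) ∈ irreducibleComponents (X : Type u)) : IsMax ξ := by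
  intro η hη
  have h1 : η ⤳ ξ := Scheme.le_iff_specializes.mp hη
  have h2 : closure ({ξ} : Set X) ⊆ closure {η} := h1.closure_subset
  have h3 : closure ({η} : Set X) ⊆ closure {ξ} :=
    h.2 isIrreducible_singleton.closure h2
  apply Scheme.le_iff_specializes.mpr
  exact specializes_iff_mem_closure.mpr (h3 (subset_closure rfl))

theorem mem_irreducibleComponents_of_isMax {ξ : X} (h : IsMax ξ) :
    closure ({ξ} : Set X) ∈ irreducibleComponents (X : Type u) := by
  refine ⟨isIrreducible_singleton.closure, ?_⟩
  intro s hs hle
  have hs' : IsIrreducible (closure s) := hs.closure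
  obtain ⟨η, hη⟩ := QuasiSober.sober hs' isClosed_closure
  have h1 : closure ({ξ} : Set X) ⊆ closure {η} := by
    rw [hη.def]
    exact hle.trans subset_closure
  have h2 : η ⤳ ξ := specializes_iff_mem_closure.mpr (h1 (subset_closure rfl))
  have h3 : ξ ⤳ η := Scheme.le_iff_specializes.mp (h (Scheme.le_iff_specializes.mpr h2))
  calc s ⊆ closure s := subset_closure
    _ = closure {η} := hη.def.symm
    _ ⊆ closure {ξ} := h3.closure_subset

theorem exists_isMax_ge (x : X) : ∃ ξ : X, IsMax ξ ∧ x ≤ ξ := by
  have hZ := irreducibleComponent_mem_irreducibleComponents x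
  have hirr : IsIrreducible (irreducibleComponent x) := isIrreducible_irreducibleComponent
  have hcl : IsClosed (irreducibleComponent x) := isClosed_irreducibleComponent
  obtain ⟨ξ, hξ⟩ := QuasiSober.sober hirr hcl
  refine ⟨ξ, isMax_of_mem_irreducibleComponents ?_, ?_⟩
  · rw [hξ.def]; exact hZ
  · apply Scheme.le_iff_specializes.mpr
    apply specializes_iff_mem_closure.mpr
    rw [hξ.def]
    exact mem_irreducibleComponent

end order

section main
variable (k : Type u) [Field k] (X : Scheme.{u}) [X.Over (Spec (CommRingCat.of k))]
  [LocallyOfFiniteType (X ↘ (Spec (CommRingCat.of k)))]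

theorem trdeg_eq_one_iff_dim_eq_one :
    (∀ x : X, closure ({x} : Set X) ∈ irreducibleComponents (X : Type u) →
      Algebra.trdeg k (X.residueField x) = 1) ↔
      ∀ x : X, IsClosed ({x} : Set X) → ringKrullDim (X.presheaf.stalk x) = 1 := by
  constructor
  · intro H x hx
    rw [ringKrullDim_stalk_eq_coheight]
    have hmin : IsMin x := isMin_of_isClosed hx
    have hle : Order.coheight x ≤ 1 := by
      rw [Order.coheight_le_iff']
      intro p hp
      obtain ⟨ξ, hξmax, hξ⟩ := exists_isMax_ge p.last
      have h1 : Algebra.trdeg k (X.residueField ξ) = ((1 : ℕ) : Cardinal) := by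
        rw [H ξ (mem_irreducibleComponents_of_isMax hξmax)]; simp
      have h2 : Order.height ξ = ((1 : ℕ) : ℕ∞) :=
        Groth.Agent.H79.SchDim.height_eq k ξ 1 h1
      have h3 : (p.length : ℕ∞) ≤ Order.height ξ := Order.length_le_height hξ
      rw [h2] at h3
      exact_mod_cast h3
    have hne : Order.coheight x ≠ 0 := by
      intro h0
      have hmax : IsMax x := Order.coheight_eq_zero.mp h0
      have h1 : Algebra.trdeg k (X.residueField x) = ((1 : ℕ) : Cardinal) := by
        rw [H x (mem_irreducibleComponents_of_isMax hmax)]; simp
      have h2 : Order.height x = ((1 : ℕ) : ℕ∞) :=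
        Groth.Agent.H79.SchDim.height_eq k x 1 h1
      rw [Order.height_eq_zero.mpr hmin] at h2
      exact absurd h2 (by norm_num)
    have h1 : Order.coheight x = 1 :=
      le_antisymm hle (Order.one_le_iff_pos.mpr (pos_iff_ne_zero.mpr hne))
    rw [h1]
    rfl
  · intro H ξ hξ
    have hmax : IsMax ξ := isMax_of_mem_irreducibleComponents hξ
    obtain ⟨n, hn⟩ := Groth.Agent.H79.SchChart.exists_trdeg_eq (k := k) ξ
    have hh : Order.height ξ = (n : ℕ∞) := Groth.Agent.H79.SchDim.height_eq k ξ n hn
    have hco : ∀ x : X, IsClosed ({x} : Set X) → Order.coheight x = 1 := by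
      intro x hx
      have := H x hx
      rw [ringKrullDim_stalk_eq_coheight] at this
      exact_mod_cast this
    have hn0 : n ≠ 0 := by
      rintro rfl
      have hmin : IsMin ξ := Order.height_eq_zero.mp (by simpa using hh)
      have h1 := hco ξ (isClosed_of_isMin hmin)
      rw [Order.coheight_eq_zero.mpr hmax] at h1
      exact absurd h1 (by norm_num)
    have hn1 : n ≤ 1 := by
      obtain ⟨p, hp, hlen⟩ := Order.exists_series_of_height_eq_coe ξ hh
      have hmin : IsMin p.head := by
        intro z hz
        by_contra hcon
        have hlt : z < p.head := lt_of_le_not_ge hz hcon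
        have h1 : ((p.cons z hlt).length : ℕ∞) ≤ Order.height (p.cons z hlt).last :=
          Order.length_le_height_last
        rw [RelSeries.last_cons, hp, hh, RelSeries.cons_length, hlen] at h1
        have : n + 1 ≤ n := by exact_mod_cast h1
        omega
      have h1 := hco p.head (isClosed_of_isMin hmin)
      have h2 : (p.length : ℕ∞) ≤ Order.coheight p.head := Order.length_le_coheight_head
      rw [h1, hlen] at h2
      exact_mod_cast h2
    have : n = 1 := by omega
    rw [hn, this]
    simp

end main

end Groth.Agent.H22.CurveDim
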