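import Mathlib.AlgebraicGeometry.Stalk
import Mathlib.AlgebraicGeometry.Noetherian
import Mathlib.RingTheory.KrullDimension.Basic
import Mathlib.Topology.NoetherianSpace
import Mathlib.Topology.Sober

set_option autoImplicit false
universe u
open CategoryTheory AlgebraicGeometry

namespace Groth.Agent.H22

/-- A chain of two strict specializations `a ⤳ b ⤳ z` forces `dim O_{X,z} ≥ 2`. -/
theorem two_le_ringKrullDim_stalk_of_specializes {X : Scheme.{u}} {a b z : X}
    (hab : a ⤳ b) (hbz : b ⤳ z) (hne1 : a ≠ b) (hne2 : b ≠ z) :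
    (2 : WithBot ℕ∞) ≤ ringKrullDim (X.presheaf.stalk z) := by
  have haz : a ⤳ z := hab.trans hbz
  have hrange := Scheme.range_fromSpecStalk (X := X) (x := z)
  obtain ⟨pa, hpa⟩ : a ∈ Set.range (X.fromSpecStalk z) := by rw [hrange]; exact haz
  obtain ⟨pb, hpb⟩ : b ∈ Set.range (X.fromSpecStalk z) := by rw [hrange]; exact hbz
  obtain ⟨pz, hpz⟩ : z ∈ Set.range (X.fromSpecStalk z) := by rw [hrange]; exact specializes_rfl
  have hind : Topology.IsInducing (X.fromSpecStalk z) :=
    (Scheme.Hom.isEmbedding (X.fromSpecStalk z)).isInducing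
  have h1 : pa ⤳ pb := by rw [← hind.specializes_iff, hpa, hpb]; exact hab
  have h2 : pb ⤳ pz := by rw [← hind.specializes_iff, hpb, hpz]; exact hbz
  let qa : PrimeSpectrum (X.presheaf.stalk z) := pa
  let qb : PrimeSpectrum (X.presheaf.stalk z) := pb
  let qz : PrimeSpectrum (X.presheaf.stalk z) := pz
  have h1' : qa ≤ qb := (PrimeSpectrum.le_iff_specializes qa qb).mpr h1
  have h2' : qb ≤ qz := (PrimeSpectrum.le_iff_specializes qb qz).mpr h2
  have hlt1 : qa < qb := by
    refine lt_of_le_of_ne h1' (fun h => hne1 ?_)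
    have h' : pa = pb := h
    exact hpa.symm.trans ((congrArg (X.fromSpecStalk z).base h').trans hpb)
  have hlt2 : qb < qz := by
    refine lt_of_le_of_ne h2' (fun h => hne2 ?_)
    have h' : pb = pz := h
    exact hpb.symm.trans ((congrArg (X.fromSpecStalk z).base h').trans hpz)
  let s : LTSeries (PrimeSpectrum (X.presheaf.stalk z)) :=
    { length := 2
      toFun := ![qa, qb, qz]
      step := by
        intro i
        fin_cases i
        · exact hlt1
        · exact hlt2 }
  have := Order.LTSeries.length_le_krullDim s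
  exact this

end Groth.Agent.H22
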