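import Mathlib.AlgebraicGeometry.Morphisms.Finite
import Mathlib.AlgebraicGeometry.Morphisms.FiniteType
import Mathlib.AlgebraicGeometry.Noetherian
import Mathlib.Topology.JacobsonSpace
import Groth.Agent.H22.CurveTop

set_option autoImplicit false
universe u
open CategoryTheory CategoryTheory.Limits AlgebraicGeometry TopologicalSpace

namespace Groth.Agent.H22.CurveFibres

/-- "Curve-like": closed points have one-dimensional local rings. -/
def IsCurveLike (X : Scheme.{u}) : Prop :=
  ∀ x : X, IsClosed ({x} : Set X) → ringKrullDim (X.presheaf.stalk x) = 1

/-- In a quasi-compact irreducible curve-like scheme each point is closed or generic. -/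
theorem isClosed_or_eq_genericPoint {X : Scheme.{u}} [CompactSpace X] [IrreducibleSpace X]
    (hX : IsCurveLike X) (x : X) : IsClosed ({x} : Set X) ∨ x = genericPoint X := by
  by_contra hcon
  push_neg at hcon
  obtain ⟨hx1, hx2⟩ := hcon
  have hne : (closure ({x} : Set X)).Nonempty := ⟨x, subset_closure rfl⟩
  obtain ⟨z, hz, hzcl⟩ := IsClosed.exists_closed_singleton isClosed_closure hne
  have hxz : x ⤳ z := specializes_iff_mem_closure.mpr hz
  have hηx : genericPoint X ⤳ x := (genericPoint_spec X).specializes trivial
  have hxz' : x ≠ z := fun h => hx1 (h ▸ hzcl)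
  have := two_le_ringKrullDim_stalk_of_specializes hηx hxz (Ne.symm hx2) hxz'
  rw [hX z hzcl] at this
  exact absurd this (by decide)

/-- In a curve-like irreducible scheme the generic point is not closed. -/
theorem not_isClosed_genericPoint {X : Scheme.{u}} [IrreducibleSpace X]
    (hX : IsCurveLike X) : ¬ IsClosed ({genericPoint X} : Set X) := by
  intro hcl
  have hdim := hX _ hcl
  -- every point of Spec of the stalk maps to a generalization of the generic point
  have hsub : Subsingleton (PrimeSpectrum (X.presheaf.stalk (genericPoint X))) := by
    constructor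
    intro p q
    have hinj := (Scheme.Hom.isEmbedding (X.fromSpecStalk (genericPoint X))).injective
    apply hinj
    have hp : (X.fromSpecStalk (genericPoint X)).base p ⤳ genericPoint X := by
      have : (X.fromSpecStalk (genericPoint X)).base p ∈ Set.range (X.fromSpecStalk _) := ⟨p, rfl⟩
      rwa [Scheme.range_fromSpecStalk] at this
    have hq : (X.fromSpecStalk (genericPoint X)).base q ⤳ genericPoint X := by
      have : (X.fromSpecStalk (genericPoint X)).base q ∈ Set.range (X.fromSpecStalk _) := ⟨q, rfl⟩
      rwa [Scheme.range_fromSpecStalk] at this
    have h1 := (hp.antisymm ((genericPoint_spec X).specializes trivial)).eq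
    have h2 := (hq.antisymm ((genericPoint_spec X).specializes trivial)).eq
    exact h1.trans h2.symm
  have : ringKrullDim (X.presheaf.stalk (genericPoint X)) ≤ 0 := by
    rw [ringKrullDim]
    exact Order.krullDim_nonpos_of_subsingleton
  rw [hdim] at this
  exact absurd this (by decide)


/-- In a Noetherian quasi-sober space, a closed set all of whose points are closed is finite. -/
theorem finite_of_isClosed_of_forall_isClosed_singleton {X : Type*} [TopologicalSpace X]
    [NoetherianSpace X] [QuasiSober X] {Z : Set X} (hZ : IsClosed Z)
    (h : ∀ z ∈ Z, IsClosed ({z} : Set X)) : Z.Finite := by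
  obtain ⟨S, hSf, hSc, hSi, hSU⟩ := NoetherianSpace.exists_finite_set_isClosed_irreducible hZ
  rw [hSU]
  refine Set.Finite.sUnion hSf fun t ht => ?_
  obtain ⟨ζ, hζ⟩ := QuasiSober.sober (hSi t ht) (hSc t ht)
  have hζt : ζ ∈ t := hζ.mem
  have hζZ : ζ ∈ Z := by rw [hSU]; exact ⟨t, ht, hζt⟩
  have : t = {ζ} := by rw [← hζ.def, (h ζ hζZ).closure_eq]
  rw [this]
  exact Set.finite_singleton ζ

/-- An irreducible Jacobson `T₀` space whose generic point is not closed is infinite. -/
theorem not_finite_of_jacobsonSpace {X : Scheme.{u}} [IrreducibleSpace X] [JacobsonSpace X]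
    (h : ¬ IsClosed ({genericPoint X} : Set X)) : ¬ (Set.univ : Set X).Finite := by
  intro hfin
  have hcp : (closedPoints X).Finite := hfin.subset (Set.subset_univ _)
  have hcl : IsClosed (closedPoints X) := by
    have : closedPoints X = ⋃ x ∈ closedPoints X, {x} := (Set.biUnion_of_singleton _).symm
    rw [this]
    exact hcp.isClosed_biUnion fun x hx => hx
  have huniv : closedPoints X = Set.univ := by
    rw [← hcl.closure_eq]; exact closure_closedPoints
  exact h (huniv ▸ Set.mem_univ (genericPoint X) : genericPoint X ∈ closedPoints X)

/-- For irreducible curves, a morphism locally of finite type is dominant iff all its fibres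
are finite. -/
theorem isDominant_iff_finite_fibres {X Y : Scheme.{u}} [IrreducibleSpace X] [IrreducibleSpace Y]
    [JacobsonSpace X] [JacobsonSpace Y] [NoetherianSpace X] [CompactSpace Y]
    (hX : IsCurveLike X) (hY : IsCurveLike Y) (f : X ⟶ Y) [LocallyOfFiniteType f] :
    IsDominant f ↔ ∀ y : Y, (f.base ⁻¹' {y}).Finite := by
  have hcX : CompactSpace X := inferInstance
  have hspec : ∀ x : X, f.base (genericPoint X) ⤳ f.base x := fun x =>
    ((genericPoint_spec X).specializes trivial).map f.base.hom.continuous
  constructor
  · intro hdom y
    have hfη : f.base (genericPoint X) = genericPoint Y := by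
      have hgen : IsGenericPoint (f.base (genericPoint X)) (⊤ : Set Y) := by
        show closure _ = _
        apply Set.eq_univ_of_univ_subset
        rw [← hdom.denseRange.closure_range]
        apply closure_minimal _ isClosed_closure
        rintro _ ⟨x, rfl⟩
        exact (hspec x).mem_closure
      exact hgen.eq (genericPoint_spec Y)
    rcases isClosed_or_eq_genericPoint hY y with hy | rfl
    · have hZ : IsClosed (f.base ⁻¹' {y}) := hy.preimage f.base.hom.continuous
      refine finite_of_isClosed_of_forall_isClosed_singleton hZ fun z hz => ?_
      rcases isClosed_or_eq_genericPoint hX z with hz' | rfl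
      · exact hz'
      · exfalso
        have : f.base (genericPoint X) = y := hz
        rw [hfη] at this
        exact not_isClosed_genericPoint hY (this ▸ hy)
    · refine (Set.finite_singleton (genericPoint X)).subset fun x hx => ?_
      rcases isClosed_or_eq_genericPoint hX x with hx' | rfl
      · exfalso
        have h1 : f.base x ∈ closedPoints Y := f.closePoints_subset_preimage_closedPoints hx'
        have h2 : f.base x = genericPoint Y := hx
        rw [h2] at h1
        exact not_isClosed_genericPoint hY h1
      · rfl
  · intro hfin
    by_contra hnd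
    rcases isClosed_or_eq_genericPoint hY (f.base (genericPoint X)) with hy | hy
    · have hall : ∀ x : X, f.base x = f.base (genericPoint X) := by
        intro x
        have := (hspec x).mem_closure
        rw [hy.closure_eq] at this
        exact this
      have : f.base ⁻¹' {f.base (genericPoint X)} = Set.univ :=
        Set.eq_univ_of_forall fun x => hall x
      exact not_finite_of_jacobsonSpace (not_isClosed_genericPoint hX) (this ▸ hfin _)
    · apply hnd
      refine ⟨?_⟩
      rw [DenseRange, dense_iff_closure_eq]
      apply Set.eq_univ_of_univ_subset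
      have h1 : closure ({genericPoint Y} : Set Y) = Set.univ := (genericPoint_spec Y).def
      rw [← h1]
      apply closure_mono
      rintro _ rfl
      exact ⟨genericPoint X, hy⟩

end Groth.Agent.H22.CurveFibres
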