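import Groth.Agent.H22.GenPts

/-!
# Fibres of closed maps from Noetherian sober spaces of dimension at most one
-/

set_option autoImplicit false
open TopologicalSpace

namespace Groth.Agent.H22.DimOneFib

variable {X : Type*} [TopologicalSpace X] [NoetherianSpace X] [QuasiSober X] [T0Space X]

/-- In a space of dimension `≤ 1` there is no chain of three distinct points. -/
theorem eq_or_eq_of_specializes (hdim : topologicalKrullDim X ≤ 1) {a b c : X}
    (hab : b ∈ closure {a}) (hbc : c ∈ closure {b}) : a = b ∨ b = c := by
  by_contra hcon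
  push_neg at hcon
  obtain ⟨hne1, hne2⟩ := hcon
  let Ta : IrreducibleCloseds X := ⟨closure {a}, isIrreducible_singleton.closure, isClosed_closure⟩
  let Tb : IrreducibleCloseds X := ⟨closure {b}, isIrreducible_singleton.closure, isClosed_closure⟩
  let Tc : IrreducibleCloseds X := ⟨closure {c}, isIrreducible_singleton.closure, isClosed_closure⟩
  have hcb : Tc < Tb := by
    refine lt_of_le_of_ne ?_ ?_
    · exact closure_minimal (Set.singleton_subset_iff.mpr hbc) isClosed_closure
    · intro heq
      have h1 : b ∈ closure {c} := by
        have : (Tc : Set X) = (Tb : Set X) := congrArg _ heq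
        change closure {c} = closure {b} at this
        rw [this]; exact subset_closure rfl
      exact hne2 ((specializes_iff_mem_closure.mpr hbc).antisymm
        (specializes_iff_mem_closure.mpr h1)).eq
  have hba : Tb < Ta := by
    refine lt_of_le_of_ne ?_ ?_
    · exact closure_minimal (Set.singleton_subset_iff.mpr hab) isClosed_closure
    · intro heq
      have h1 : a ∈ closure {b} := by
        have : (Tb : Set X) = (Ta : Set X) := congrArg _ heq
        change closure {b} = closure {a} at this
        rw [this]; exact subset_closure rfl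
      exact hne1 ((specializes_iff_mem_closure.mpr hab).antisymm
        (specializes_iff_mem_closure.mpr h1)).eq
  rcases (Order.krullDim_le_one_iff.mp hdim) Tb with hmin | hmax
  · exact (hmin hcb.le).not_gt hcb
  · exact (hmax hba.le).not_gt hba

/-- The closure of a maximal point is an irreducible component. -/
theorem closure_mem_irreducibleComponents {t : X} (hmax : ∀ z : X, t ∈ closure {z} → z = t) :
    closure {t} ∈ irreducibleComponents X := by
  refine ⟨isIrreducible_singleton.closure, ?_⟩
  intro S hS hle
  obtain ⟨z, hz⟩ := QuasiSober.sober hS.closure isClosed_closure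
  have htz : t ∈ closure {z} := by
    rw [hz.def]; exact subset_closure (hle (subset_closure rfl))
  have := hmax z htz
  subst this
  rw [hz.def]; exact subset_closure

/-- The closure of a non-closed point in a space of dimension `≤ 1` has dimension one. -/
theorem topologicalKrullDim_closure_eq_one (hdim : topologicalKrullDim X ≤ 1) {t : X}
    (ht : ¬ IsClosed ({t} : Set X)) : topologicalKrullDim ↥(closure {t}) = 1 := by
  apply le_antisymm ((topologicalKrullDim_subspace_le X _).trans hdim)
  -- a point `z ≠ t` in the closure
  have hex : ∃ z ∈ closure {t}, z ≠ t := by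
    by_contra hcon
    push_neg at hcon
    apply ht
    rw [← closure_eq_iff_isClosed]
    exact Set.Subset.antisymm (fun z hz => hcon z hz) subset_closure
  obtain ⟨z, hz, hzt⟩ := hex
  have hmem : ∀ a b : X, ∀ (ha : a ∈ closure {t}) (hb : b ∈ closure {t}),
      ((⟨a, ha⟩ : ↥(closure {t})) ∈ closure {(⟨b, hb⟩ : ↥(closure {t}))} ↔ a ∈ closure {b}) := by
    intro a b ha hb
    rw [closure_subtype, Set.image_singleton]
  have htt : t ∈ closure {t} := subset_closure rfl
  let x : IrreducibleCloseds ↥(closure {t}) :=
    ⟨closure {⟨z, hz⟩}, isIrreducible_singleton.closure, isClosed_closure⟩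
  let y : IrreducibleCloseds ↥(closure {t}) :=
    ⟨closure {⟨t, htt⟩}, isIrreducible_singleton.closure, isClosed_closure⟩
  rw [topologicalKrullDim, Order.one_le_krullDim_iff]
  refine ⟨x, y, lt_of_le_of_ne ?_ ?_⟩
  · exact closure_minimal (Set.singleton_subset_iff.mpr ((hmem z t hz htt).mpr hz))
      isClosed_closure
  · intro heq
    have h1 : (⟨t, htt⟩ : ↥(closure {t})) ∈ closure {(⟨z, hz⟩ : ↥(closure {t}))} := by
      have : (x : Set ↥(closure {t})) = (y : Set ↥(closure {t})) := congrArg _ heq
      change closure {(⟨z, hz⟩ : ↥(closure {t}))} = closure {(⟨t, htt⟩ : ↥(closure {t}))} at this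
      rw [this]; exact subset_closure rfl
    have h2 : t ∈ closure {z} := (hmem t z htt hz).mp h1
    exact hzt ((specializes_iff_mem_closure.mpr h2).antisymm
      (specializes_iff_mem_closure.mpr hz)).eq

/-- **Finite fibres.** -/
theorem finite_preimage_singleton (hdim : topologicalKrullDim X ≤ 1) {Y : Type*}
    [TopologicalSpace Y] (f : X → Y) (hf : Continuous f) (hcl : IsClosedMap f)
    (h : ∀ Z ∈ irreducibleComponents X, topologicalKrullDim Z = 1 → (f '' Z).Nontrivial) (y : Y) :
    (f ⁻¹' {y}).Finite := by
  classical
  obtain ⟨E, hEfin, -, hEcov, hEmax⟩ := GenPts.exists_finite_maximal (α := X) (C := Set.univ)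
    isClosed_univ
  -- points outside `E` are closed
  have hclosed : ∀ x : X, x ∉ E → IsClosed ({x} : Set X) := by
    intro x hx
    obtain ⟨η, hη, hxη⟩ := hEcov x trivial
    have hne : η ≠ x := fun h => hx (h ▸ hη)
    rw [← closure_eq_iff_isClosed]
    apply Set.Subset.antisymm _ subset_closure
    intro z hz
    rcases eq_or_eq_of_specializes hdim hxη hz with h1 | h1
    · exact absurd h1 hne
    · exact h1.symm
  by_cases hG : f ⁻¹' {y} ⊆ E
  · exact hEfin.subset hG
  obtain ⟨x₀, hx₀y, hx₀E⟩ := Set.not_subset.mp hG
  have hycl : IsClosed ({y} : Set Y) := by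
    have := hcl _ (hclosed x₀ hx₀E)
    rwa [Set.image_singleton, hx₀y] at this
  have hFcl : IsClosed (f ⁻¹' {y}) := hycl.preimage hf
  obtain ⟨S, hSf, hSc, hSi, hSU⟩ := NoetherianSpace.exists_finite_set_isClosed_irreducible hFcl
  rw [hSU]
  refine Set.Finite.sUnion hSf fun T hT => ?_
  obtain ⟨t, ht⟩ := QuasiSober.sober (hSi T hT) (hSc T hT)
  have hTF : T ⊆ f ⁻¹' {y} := by rw [hSU]; exact Set.subset_sUnion_of_mem hT
  by_cases htcl : IsClosed ({t} : Set X)
  · have : T = {t} := by
      rw [← ht.def, htcl.closure_eq]
    rw [this]; exact Set.finite_singleton t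
  · -- `T` is an irreducible component of dimension one contracted to `y`
    exfalso
    have htE : t ∈ E := by
      by_contra hcon
      exact htcl (hclosed t hcon)
    have hcomp : closure {t} ∈ irreducibleComponents X :=
      closure_mem_irreducibleComponents fun z hz => hEmax t htE z trivial hz
    have hd1 := topologicalKrullDim_closure_eq_one hdim htcl
    obtain ⟨a, ha, b, hb, hab⟩ := h _ hcomp hd1
    obtain ⟨a', ha', rfl⟩ := ha
    obtain ⟨b', hb', rfl⟩ := hb
    rw [← ht.def] at hTF
    exact hab ((hTF ha').trans (hTF hb').symm)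

end Groth.Agent.H22.DimOneFib
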