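import Mathlib.AlgebraicGeometry.SpreadingOut

set_option autoImplicit false
universe u

namespace Groth.Agent.H22

open AlgebraicGeometry CategoryTheory TopologicalSpace Opposite

theorem exists_finset_forall_ringHom_ext {R B : Type u} [CommRing R] [CommRing B] (ρ : R →+* B)
    (hρ : ρ.FiniteType) :
    ∃ s : Finset B, ∀ (A : Type u) [CommRing A] (φ ψ : B →+* A), φ.comp ρ = ψ.comp ρ →
      (∀ b ∈ s, φ b = ψ b) → φ = ψ := by
  algebraize [ρ]
  obtain ⟨s, hs⟩ := (Algebra.FiniteType.out : (⊤ : Subalgebra R B).FG)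
  refine ⟨s, fun A _ φ ψ h hb => ?_⟩
  ext b
  have hb' : b ∈ Algebra.adjoin R (s : Set B) := hs ▸ Algebra.mem_top
  induction hb' using Algebra.adjoin_induction with
  | mem x hx => exact hb x hx
  | algebraMap r => exact congrFun (congrArg DFunLike.coe h) r
  | add x y _ _ hx hy => rw [map_add, map_add, hx, hy]
  | mul x y _ _ hx hy => rw [map_mul, map_mul, hx, hy]

theorem exists_opens_forall_map_eq {X : Scheme.{u}} {B : Type u} [CommRing B] {U₀ : X.Opens}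
    (x : X) (hx : x ∈ U₀) (φ ψ : B →+* Γ(X, U₀)) (s : Finset B)
    (h : ∀ b ∈ s, X.presheaf.germ U₀ x hx (φ b) = X.presheaf.germ U₀ x hx (ψ b)) :
    ∃ (U : X.Opens) (hU : U ≤ U₀), x ∈ U ∧ ∀ b ∈ s,
      X.presheaf.map (homOfLE hU).op (φ b) = X.presheaf.map (homOfLE hU).op (ψ b) := by
  classical
  induction s using Finset.induction_on with
  | empty => exact ⟨U₀, le_rfl, hx, by simp⟩
  | insert a s ha ih =>
    obtain ⟨U, hU, hxU, hUs⟩ := ih (fun b hb => h b (Finset.mem_insert_of_mem hb))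
    obtain ⟨W, hxW, i₁, i₂, hW⟩ := X.presheaf.germ_eq x hx hx _ _ (h a (Finset.mem_insert_self a s))
    refine ⟨U ⊓ W, inf_le_left.trans hU, ⟨hxU, hxW⟩, fun b hb => ?_⟩
    rcases Finset.mem_insert.mp hb with rfl | hb
    · have h1 : (homOfLE (inf_le_left.trans hU : U ⊓ W ≤ U₀)).op =
          i₁.op ≫ (homOfLE (inf_le_right : U ⊓ W ≤ W)).op := rfl
      have h2 : (homOfLE (inf_le_left.trans hU : U ⊓ W ≤ U₀)).op =
          i₂.op ≫ (homOfLE (inf_le_right : U ⊓ W ≤ W)).op := rfl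
      conv_lhs => rw [h1]
      conv_rhs => rw [h2]
      rw [Functor.map_comp, Functor.map_comp, CommRingCat.comp_apply, CommRingCat.comp_apply, hW]
    · have h1 : (homOfLE (inf_le_left.trans hU : U ⊓ W ≤ U₀)).op =
          (homOfLE hU).op ≫ (homOfLE (inf_le_left : U ⊓ W ≤ U)).op := rfl
      rw [h1, Functor.map_comp, CommRingCat.comp_apply, CommRingCat.comp_apply, hUs b hb]

theorem spread_out_unique_of_locallyOfFiniteType {X Y S : Scheme.{u}} (sX : X ⟶ S) (sY : Y ⟶ S)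
    [LocallyOfFiniteType sY] (f g : X ⟶ Y) (hf : f ≫ sY = sX) (hg : g ≫ sY = sX) {x : X}
    (e : f x = g x)
    (H : f.stalkMap x =
      Y.presheaf.stalkSpecializes (Inseparable.of_eq e.symm).specializes ≫ g.stalkMap x) :
    ∃ U : X.Opens, x ∈ U ∧ U.ι ≫ f = U.ι ≫ g := by
  obtain ⟨_, ⟨W : S.Opens, hW, rfl⟩, hxW, -⟩ :=
    S.isBasis_affineOpens.exists_subset_of_mem_open (Set.mem_univ (sY (f x))) isOpen_univ
  obtain ⟨_, ⟨V : Y.Opens, hV, rfl⟩, hxV, hVW'⟩ :=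
    Y.isBasis_affineOpens.exists_subset_of_mem_open (show f x ∈ sY ⁻¹ᵁ W from hxW) (sY ⁻¹ᵁ W).2
  have hVW : V ≤ sY ⁻¹ᵁ W := hVW'
  have hxV' : g x ∈ V := e ▸ hxV
  obtain ⟨_, ⟨U₀ : X.Opens, hU₀, rfl⟩, hxU₀, hU₀V⟩ :=
    X.isBasis_affineOpens.exists_subset_of_mem_open
      (show x ∈ f ⁻¹ᵁ V ⊓ g ⁻¹ᵁ V from ⟨hxV, hxV'⟩) (f ⁻¹ᵁ V ⊓ g ⁻¹ᵁ V).2
  have hfle : U₀ ≤ f ⁻¹ᵁ V := fun y hy => (hU₀V hy).1
  have hgle : U₀ ≤ g ⁻¹ᵁ V := fun y hy => (hU₀V hy).2
  have hft : (sY.appLE W V hVW).hom.FiniteType := sY.finiteType_appLE hW hV _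
  obtain ⟨s, hs⟩ := exists_finset_forall_ringHom_ext _ hft
  have hgerm : f.appLE V U₀ hfle ≫ X.presheaf.germ U₀ x hxU₀ =
      g.appLE V U₀ hgle ≫ X.presheaf.germ U₀ x hxU₀ := by
    simp only [Scheme.Hom.appLE, Category.assoc, X.presheaf.germ_res']
    have h1 := Scheme.Hom.germ_stalkMap f V x hxV
    have h2 := Scheme.Hom.germ_stalkMap g V x hxV'
    have h3 : Y.presheaf.germ V (f x) hxV ≫ f.stalkMap x =
        Y.presheaf.germ V (g x) hxV' ≫ g.stalkMap x := by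
      rw [H, TopCat.Presheaf.germ_stalkSpecializes_assoc]
    exact h1.symm.trans (h3.trans h2)
  obtain ⟨U, hU, hxU, hUs⟩ := exists_opens_forall_map_eq x hxU₀ (f.appLE V U₀ hfle).hom
    (g.appLE V U₀ hgle).hom s (fun b _ => congr($hgerm b))
  refine ⟨U, hxU, ?_⟩
  have hfU : U ≤ f ⁻¹ᵁ V := hU.trans hfle
  have hgU : U ≤ g ⁻¹ᵁ V := hU.trans hgle
  have key : f.appLE V U hfU = g.appLE V U hgU := by
    ext1
    apply hs
    · rw [← CommRingCat.hom_comp, ← CommRingCat.hom_comp, Scheme.Hom.appLE_comp_appLE,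
        Scheme.Hom.appLE_comp_appLE]
      congr 1
      simp only [hf, hg]
    · intro b hb
      have h1 : f.appLE V U hfU = f.appLE V U₀ hfle ≫ X.presheaf.map (homOfLE hU).op :=
        (Scheme.Hom.appLE_map f hfle (homOfLE hU).op).symm
      have h2 : g.appLE V U hgU = g.appLE V U₀ hgle ≫ X.presheaf.map (homOfLE hU).op :=
        (Scheme.Hom.appLE_map g hgle (homOfLE hU).op).symm
      rw [h1, h2]
      exact hUs b hb
  rw [← Scheme.Hom.resLE_comp_ι _ hfU, ← Scheme.Hom.resLE_comp_ι _ hgU]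
  congr 1
  have : IsAffine V := hV
  rw [← cancel_mono V.toScheme.isoSpec.hom]
  simp only [Scheme.isoSpec, asIso_hom, Scheme.toSpecΓ_naturality,
    Scheme.Hom.app_eq_appLE, Scheme.Hom.resLE_appLE]
  congr 2
  suffices ∀ (U' V') (eU : U = U') (eV : V = V'),
      f.appLE V' U' (eU ▸ eV ▸ hfU) = g.appLE V' U' (eU ▸ eV ▸ hgU) by
    apply this <;> simp
  rintro U V rfl rfl
  exact key

end Groth.Agent.H22
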