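import Groth.Agent.H22.ZMTLocalIso
import Groth.Agent.H22.SpreadUnique

/-!
# Local isomorphisms from bijective stalk maps, without germ-injectivity of the source (helper22)
-/

set_option autoImplicit false
universe u

namespace Groth.Agent.H22.ZMTLocalIso2

open AlgebraicGeometry CategoryTheory TopologicalSpace Opposite Scheme
open Groth.Agent.H22.ZMTLocalIso

/-- Two `S`-morphisms into a scheme locally of finite type over `S` which agree on `Spec 𝒪_{X,x}`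
agree on a neighbourhood of `x`. -/
theorem spread_out_unique_of_locallyOfFiniteType' {X Y S : Scheme.{u}} (sX : X ⟶ S) (sY : Y ⟶ S)
    [LocallyOfFiniteType sY] (f g : X ⟶ Y) (hf : f ≫ sY = sX) (hg : g ≫ sY = sX) {x : X}
    (e : X.fromSpecStalk x ≫ f = X.fromSpecStalk x ≫ g) :
    ∃ U : X.Opens, x ∈ U ∧ U.ι ≫ f = U.ι ≫ g := by
  refine spread_out_unique_of_locallyOfFiniteType sX sY f g hf hg ?_ ?_
  · simpa using congr($e (IsLocalRing.closedPoint _))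
  · apply Spec.map_injective
    rw [← cancel_mono (Y.fromSpecStalk _)]
    simpa [Scheme.SpecMap_stalkSpecializes_fromSpecStalk]

/-- **Spreading out a bijective stalk map to a local section** (no germ-injectivity on `X`). -/
theorem exists_section_of_bijective_stalkMap' {X Y : Scheme.{u}} (f : X ⟶ Y)
    [LocallyOfFiniteType f] (x : X) [Y.IsGermInjectiveAt (f x)]
    (h : Function.Bijective (f.stalkMap x).hom) :
    ∃ (U : Y.Opens) (hxU : x ∈ f ⁻¹ᵁ U) (s : U.toScheme ⟶ X) (W' : (f ⁻¹ᵁ U).toScheme.Opens),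
      (⟨x, hxU⟩ : (f ⁻¹ᵁ U).toScheme) ∈ W' ∧ s ≫ f = U.ι ∧
        W'.ι ≫ (f ∣_ U) ≫ s = W'.ι ≫ (f ⁻¹ᵁ U).ι := by
  have hiso : IsIso (f.stalkMap x) := (ConcreteCategory.isIso_iff_bijective _).mpr h
  let φ : Spec (Y.presheaf.stalk (f x)) ⟶ X := Spec.map (inv (f.stalkMap x)) ≫ X.fromSpecStalk x
  have hφ : φ ≫ f = Y.fromSpecStalk (f x) ≫ 𝟙 Y := by
    rw [Category.comp_id, Category.assoc, ← Scheme.SpecMap_stalkMap_fromSpecStalk,
      ← Spec.map_comp_assoc, IsIso.hom_inv_id, Spec.map_id, Category.id_comp]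
  obtain ⟨U, hyU, s, hs1, hs2⟩ := spread_out_of_isGermInjective' (𝟙 Y) f φ hφ
  rw [Category.comp_id] at hs2
  have hxU : x ∈ f ⁻¹ᵁ U := hyU
  have key : (f ⁻¹ᵁ U).fromSpecStalkOfMem x hxU ≫ (f ∣_ U) ≫ s =
      (f ⁻¹ᵁ U).fromSpecStalkOfMem x hxU ≫ (f ⁻¹ᵁ U).ι := by
    have h1 : (f ⁻¹ᵁ U).fromSpecStalkOfMem x hxU ≫ (f ∣_ U) =
        Spec.map (f.stalkMap x) ≫ U.fromSpecStalkOfMem (f x) hyU := by
      rw [← cancel_mono U.ι, Category.assoc, morphismRestrict_ι,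
        Scheme.Opens.fromSpecStalkOfMem_ι_assoc, Category.assoc,
        Scheme.Opens.fromSpecStalkOfMem_ι, Scheme.SpecMap_stalkMap_fromSpecStalk]
    rw [← Category.assoc, h1, Category.assoc, ← hs1, Scheme.Opens.fromSpecStalkOfMem_ι]
    change Spec.map (f.stalkMap x) ≫ Spec.map (inv (f.stalkMap x)) ≫ X.fromSpecStalk x = _
    rw [← Spec.map_comp_assoc, IsIso.inv_hom_id, Spec.map_id, Category.id_comp]
  have h3 : Spec.map ((f ⁻¹ᵁ U).ι.stalkMap (⟨x, hxU⟩ : (f ⁻¹ᵁ U).toScheme)) ≫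
      Spec.map (inv ((f ⁻¹ᵁ U).ι.stalkMap (⟨x, hxU⟩ : (f ⁻¹ᵁ U).toScheme))) = 𝟙 _ := by
    rw [← Spec.map_comp, IsIso.inv_hom_id, Spec.map_id]
  have h2 : (f ⁻¹ᵁ U).toScheme.fromSpecStalk (⟨x, hxU⟩ : (f ⁻¹ᵁ U).toScheme) =
      Spec.map ((f ⁻¹ᵁ U).ι.stalkMap (⟨x, hxU⟩ : (f ⁻¹ᵁ U).toScheme)) ≫
        (f ⁻¹ᵁ U).fromSpecStalkOfMem x hxU := by
    change _ = _ ≫ (Spec.map (inv _) ≫ _)
    rw [← Category.assoc, h3, Category.id_comp]
  obtain ⟨W', hxW', hW'⟩ := spread_out_unique_of_locallyOfFiniteType'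
    ((f ⁻¹ᵁ U).ι ≫ f) f ((f ∣_ U) ≫ s) (f ⁻¹ᵁ U).ι
    (by rw [Category.assoc, hs2, morphismRestrict_ι]) rfl
    (x := (⟨x, hxU⟩ : (f ⁻¹ᵁ U).toScheme)) (by
      rw [h2, Category.assoc, Category.assoc]
      exact congrArg (_ ≫ ·) key)
  exact ⟨U, hxU, s, W', hxW', hs2, hW'⟩

/-- A morphism locally of finite type with bijective stalk map at `x` is an open immersion on a
neighbourhood of `x`, provided the target is germ-injective at `f x`. -/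
theorem exists_isOpenImmersion_of_bijective_stalkMap' {X Y : Scheme.{u}} (f : X ⟶ Y)
    [LocallyOfFiniteType f] (x : X) [Y.IsGermInjectiveAt (f x)]
    (h : Function.Bijective (f.stalkMap x).hom) :
    ∃ W : X.Opens, x ∈ W ∧ IsOpenImmersion (W.ι ≫ f) := by
  obtain ⟨U, hyU, s, W', hxW', hs, hW'⟩ := exists_section_of_bijective_stalkMap' f x h
  obtain ⟨s', hs'1, hs'2⟩ := exists_lift_section f U s hs
  have hg : IsOpenImmersion (W'.ι ≫ (f ∣_ U)) := by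
    refine isOpenImmersion_of_retract (W'.ι ≫ (f ∣_ U)) s' (f ∣_ U) W'.ι ?_ hs'2 rfl
    rw [← cancel_mono (f ⁻¹ᵁ U).ι, Category.assoc, Category.assoc, hs'1, hW']
  refine ⟨(f ⁻¹ᵁ U).ι ''ᵁ W', ⟨⟨x, hyU⟩, hxW', rfl⟩, ?_⟩
  have h1 : ((f ⁻¹ᵁ U).ι ''ᵁ W').ι ≫ f =
      ((f ⁻¹ᵁ U).ι.isoImage W').inv ≫ (W'.ι ≫ (f ∣_ U)) ≫ U.ι := by
    rw [Category.assoc, morphismRestrict_ι, ← Scheme.Hom.isoImage_inv_ι_assoc]
  rw [h1]
  infer_instance

end Groth.Agent.H22.ZMTLocalIso2
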