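import Groth.Agent.H22.DimOneFinFib
import Groth.Agent.H22.DimOneFib
import Groth.Agent.H22.IntegralSection
import Groth.Agent.H22.ZMTLocalIso2

/-!
# Proper birational morphisms onto normal one-dimensional schemes are isomorphisms
-/

set_option autoImplicit false
universe u
open AlgebraicGeometry CategoryTheory TopologicalSpace

namespace Groth.Agent.H22.CurveIso

/-- In an integral Noetherian scheme of dimension `≤ 1`, the local ring at a non-generic point has
dimension one. -/
theorem ringKrullDim_stalk_eq_one {C : Scheme.{u}} [IsIntegral C] [NoetherianSpace C]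
    (hdim : topologicalKrullDim C ≤ 1) (y : C) (hy : y ≠ genericPoint C) :
    ringKrullDim (C.presheaf.stalk y) = 1 := by
  rw [ringKrullDim_stalk_eq_coheight]
  have h1 : Order.coheight y = 1 := by
    apply le_antisymm
    · have := (Order.coheight_le_coe_iff (x := y) (n := 1)).mpr ?_
      · exact_mod_cast this
      intro a hya
      have hmax : IsMax a := by
        intro b hab
        have h1 : a ∈ closure {b} := specializes_iff_mem_closure.mp (Scheme.le_iff_specializes.mp hab)
        have h2 : y ∈ closure {a} :=
          specializes_iff_mem_closure.mp (Scheme.le_iff_specializes.mp hya.le)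
        rcases DimOneFib.eq_or_eq_of_specializes hdim h1 h2 with h | h
        · exact h.le
        · exact absurd h.symm hya.ne
      rw [Order.coheight_eq_zero.mpr hmax]
      exact_mod_cast zero_lt_one
    · rw [ENat.one_le_iff_ne_zero, Order.coheight_ne_zero]
      intro hmax
      have h1 : y ≤ genericPoint C := by
        rw [Scheme.le_iff_specializes]
        exact (genericPoint_spec C).specializes trivial
      have h2 : genericPoint C ≤ y := hmax h1
      rw [Scheme.le_iff_specializes] at h1 h2
      exact hy (h2.antisymm h1).eq
  rw [h1]; rfl

/-- A scheme of positive dimension has a non-generic point. -/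
theorem exists_ne_genericPoint {C : Scheme.{u}} [IrreducibleSpace C]
    (hdim : topologicalKrullDim C = 1) : ∃ y : C, y ≠ genericPoint C := by
  by_contra hcon
  push Not at hcon
  have hsub : Subsingleton (IrreducibleCloseds C) := by
    refine ⟨fun s t => ?_⟩
    apply IrreducibleCloseds.ext
    obtain ⟨a, ha⟩ := s.isIrreducible.nonempty
    obtain ⟨b, hb⟩ := t.isIrreducible.nonempty
    ext x
    constructor
    · intro _; rw [hcon x, ← hcon b]; exact hb
    · intro _; rw [hcon x, ← hcon a]; exact ha
  have : topologicalKrullDim C ≤ 0 := Order.krullDim_nonpos_of_subsingleton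
  rw [hdim] at this
  exact absurd this (by decide)

/-- A bijective stalk map induces a finite residue field map. -/
theorem finite_residueFieldMap_of_isIso_stalkMap {X Y : Scheme.{u}} (f : X ⟶ Y) (x : X)
    (h : IsIso (f.stalkMap x)) : (f.residueFieldMap x).hom.Finite := by
  apply RingHom.Finite.of_surjective
  intro z
  obtain ⟨w, rfl⟩ := X.residue_surjective x z
  have hsurj : Function.Surjective (f.stalkMap x) :=
    ((ConcreteCategory.isIso_iff_bijective _).mp h).2
  obtain ⟨v, rfl⟩ := hsurj w
  refine ⟨Y.residue (f x) v, ?_⟩
  have := congrArg (fun φ => φ.hom v) (Scheme.residue_residueFieldMap f x)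
  simpa using this

/-- A proper morphism from an integral scheme onto a normal integral one-dimensional scheme of
finite type over a field, inducing an isomorphism of function fields, is an isomorphism. -/
theorem isIso_of_birational (k : Type u) [Field k] {C' C : Scheme.{u}}
    (p' : C' ⟶ Spec (CommRingCat.of k)) (p : C ⟶ Spec (CommRingCat.of k))
    [IsIntegral C'] [IsProper p'] [IsIntegral C] [IsSeparated p] [LocallyOfFiniteType p]
    [QuasiCompact p] (h1 : topologicalKrullDim C = 1)
    (hN : ∀ x : C, IsIntegrallyClosed (C.presheaf.stalk x)) (f : C' ⟶ C) (hf : f ≫ p = p')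
    (hdom : f.base (genericPoint C') = genericPoint C)
    (hdeg : IsIso (f.stalkMap (genericPoint C'))) : IsIso f := by
  have hfp : IsProper f := by
    have : IsProper (f ≫ p) := hf ▸ inferInstance
    exact IsProper.of_comp f p
  have : IsLocallyNoetherian C := LocallyOfFiniteType.isLocallyNoetherian p
  have : CompactSpace C := QuasiCompact.compactSpace_of_compactSpace p
  have : IsNoetherian C := { }
  have : NoetherianSpace C := inferInstance
  have hfinres := finite_residueFieldMap_of_isIso_stalkMap f (genericPoint C') hdeg
  -- finite over a neighbourhood of every non-generic point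
  have hloc : ∀ y : C, y ≠ genericPoint C → ∃ V : C.Opens, y ∈ V ∧ IsFinite (f ∣_ V) := by
    intro y hy
    have hdimy := ringKrullDim_stalk_eq_one h1.le y hy
    have hfib := DimOneFinFib.finite_fibre f hdom hfinres y hdimy
    exact exists_isFinite_morphismRestrict_of_finite_preimage_singleton f y hfib
  obtain ⟨y₀, hy₀⟩ := exists_ne_genericPoint h1
  -- `f` is finite
  have hfinite : IsFinite f := by
    classical
    choose V hV1 hV2 using hloc
    let W : C → C.Opens := fun y => if hy : y = genericPoint C then V y₀ hy₀ else V y hy
    have hW : ∀ y, IsFinite (f ∣_ W y) := by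
      intro y
      by_cases hy : y = genericPoint C
      · have : W y = V y₀ hy₀ := dif_pos hy
        rw [this]; exact hV2 y₀ hy₀
      · have : W y = V y hy := dif_neg hy
        rw [this]; exact hV2 y hy
    have hcov : iSup W = ⊤ := by
      rw [eq_top_iff]
      intro y _
      rw [Opens.mem_iSup]
      by_cases hy : y = genericPoint C
      · refine ⟨y, ?_⟩
        have : W y = V y₀ hy₀ := dif_pos hy
        rw [this, hy]
        exact DimOneFinFib.genericPoint_mem_of_nonempty _ ⟨y₀, hV1 y₀ hy₀⟩
      · refine ⟨y, ?_⟩
        have : W y = V y hy := dif_neg hy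
        rw [this]
        exact hV1 y hy
    exact IsZariskiLocalAtTarget.of_iSup_eq_top (P := @IsFinite) W hcov hW
  -- a rational section
  have hbij : Function.Bijective (f.stalkMap (genericPoint C')).hom :=
    (ConcreteCategory.isIso_iff_bijective _).mp hdeg
  obtain ⟨W, hηW, hW⟩ := ZMTLocalIso2.exists_isOpenImmersion_of_bijective_stalkMap' f (genericPoint C') hbij
  exact IntegralSection.isIso_of_isIntegralHom_of_section hN f W.ι ⟨genericPoint C', hηW⟩ hdom

end Groth.Agent.H22.CurveIso
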