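import Groth.Agent.H22.BirOpenImm
import Groth.Agent.H22.CurveIso

/-!
# Birational morphisms onto normal curves are open immersions
-/

set_option autoImplicit false
set_option linter.style.haveILetI false
universe u
open AlgebraicGeometry CategoryTheory TopologicalSpace Scheme

namespace Groth.Agent.H22.CurveOpenImm

/-- Local rings of an integral Noetherian scheme of dimension at most one have dimension at most
one. -/
theorem ringKrullDim_stalk_le_one {C : Scheme.{u}} [IsIntegral C] [NoetherianSpace C]
    (hdim : topologicalKrullDim C ≤ 1) (y : C) :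
    ringKrullDim (C.presheaf.stalk y) ≤ 1 := by
  rw [ringKrullDim_stalk_eq_coheight]
  have := (Order.coheight_le_coe_iff (x := y) (n := 1)).mpr ?_
  · exact_mod_cast this
  intro a hya
  have hmax : IsMax a := by
    intro b hab
    have h1 : a ∈ closure {b} := specializes_iff_mem_closure.mp (Scheme.le_iff_specializes.mp hab)
    have h2 : y ∈ closure {a} :=
      specializes_iff_mem_closure.mp (Scheme.le_iff_specializes.mp hya.le)
    rcases DimOneFib.eq_or_eq_of_specializes hdim h1 h2 with h | h
    · exact h.le
    · exact absurd h.symm hya.ne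
  rw [Order.coheight_eq_zero.mpr hmax]
  exact_mod_cast zero_lt_one

/-- A separated birational morphism of finite type from an integral scheme to a normal integral
Noetherian scheme of dimension at most one is an open immersion. -/
theorem isOpenImmersion_of_birational {X Y : Scheme.{u}} [IsIntegral X] [IsIntegral Y]
    [IsLocallyNoetherian X] [IsLocallyNoetherian Y] [CompactSpace Y]
    (hdimY : topologicalKrullDim Y ≤ 1)
    (hN : ∀ y : Y, IsIntegrallyClosed (Y.presheaf.stalk y)) (f : X ⟶ Y) [LocallyOfFiniteType f]
    [IsSeparated f] [QuasiCompact f] (e : f (genericPoint X) = genericPoint Y)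
    (hiso : IsIso (f.stalkMap (genericPoint X))) : IsOpenImmersion f := by
  have : IsNoetherian Y := { }
  have : NoetherianSpace Y := inferInstance
  have hbij : Function.Bijective (f.stalkMap (genericPoint X)).hom :=
    (ConcreteCategory.isIso_iff_bijective _).mp hiso
  obtain ⟨U, hU1, hU2⟩ :=
    ZMTLocalIso.exists_isIso_morphismRestrict_of_bijective_stalkMap f (genericPoint X) hbij
  have hdense : Dense ((f ⁻¹ᵁ U : X.Opens) : Set X) :=
    (f ⁻¹ᵁ U).isOpen.dense ⟨genericPoint X, hU1⟩
  have hfib : ∀ y : Y, (f ⁻¹' {y}).Finite := fun y =>
    BirFinFib.finite_fibre f U hdense hU2 y (ringKrullDim_stalk_le_one hdimY y)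
  have : LocallyQuasiFinite f := LocallyQuasiFinite.of_finite_preimage_singleton f hfib
  exact BirOpenImm.isOpenImmersion_of_birational_of_locallyQuasiFinite f e hiso hN

end Groth.Agent.H22.CurveOpenImm
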