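import Groth.Agent.H22.FunFieldHom
import Groth.Agent.H22.CurveFibres
import Mathlib.RingTheory.DiscreteValuationRing.TFAE
import Mathlib.RingTheory.Valuation.ValuationSubring
import Mathlib.AlgebraicGeometry.FunctionField
import Mathlib.RingTheory.KrullDimension.Field

/-!
# Valuation rings and points of normal curves (helper22)
-/

set_option autoImplicit false
universe u

namespace Groth.Agent.H22.CurveValuation

open AlgebraicGeometry CategoryTheory TopologicalSpace Opposite Scheme

/-- A one-dimensional integrally closed Noetherian local domain is a valuation ring. -/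
theorem valuationRing_of_ringKrullDim_eq_one (A : Type*) [CommRing A] [IsDomain A] [IsLocalRing A]
    [IsNoetherianRing A] [IsIntegrallyClosed A] (h : ringKrullDim A = 1) : ValuationRing A := by
  have htf := (tfae_of_isNoetherianRing_of_isLocalRing_of_isDomain A).out 3 1
  refine htf.mp ⟨inferInstance, ?_⟩
  intro P hP0 hPprime
  have hle1 : Ring.KrullDimLE 1 A := Ring.krullDimLE_iff.mpr h.le
  have hmax := Ring.krullDimLE_one_iff_of_noZeroDivisors.mp hle1 P hP0 hPprime
  exact IsLocalRing.eq_maximalIdeal hmax

section ring

variable (A K : Type*) [CommRing A] [IsDomain A] [ValuationRing A] [Field K] [Algebra A K]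
  [IsFractionRing A K]

/-- The valuation subring of the fraction field determined by a valuation ring. -/
def ofValuationRing : ValuationSubring K :=
  { (algebraMap A K).range with
    mem_or_inv_mem' := fun a => by
      rcases ValuationRing.isInteger_or_isInteger A a with ⟨b, hb⟩ | ⟨b, hb⟩
      · exact Or.inl ⟨b, hb⟩
      · exact Or.inr ⟨b, hb⟩ }

theorem coe_ofValuationRing :
    (ofValuationRing A K : Set K) = Set.range (algebraMap A K) := rfl

theorem ofValuationRing_ne_top (h : ringKrullDim A ≠ 0) : ofValuationRing A K ≠ ⊤ := by
  intro htop
  have hsurj : Function.Surjective (algebraMap A K) := by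
    intro a
    have : a ∈ (ofValuationRing A K : Set K) := by rw [htop]; trivial
    rw [coe_ofValuationRing] at this
    exact this
  have hbij : Function.Bijective (algebraMap A K) := ⟨IsFractionRing.injective A K, hsurj⟩
  have e : A ≃+* K := RingEquiv.ofBijective (algebraMap A K) hbij
  apply h
  rw [ringKrullDim_eq_of_ringEquiv e]
  exact ringKrullDim_eq_zero_of_field K

variable {A K}

/-- A valuation subring dominating a valuation ring with the same fraction field equals it. -/
theorem eq_range_of_dominates (R : ValuationSubring K) (ψ : A →+* R) [IsLocalHom ψ]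
    (hψ : ∀ a, ((ψ a : R) : K) = algebraMap A K a) :
    (R : Set K) = Set.range (algebraMap A K) := by
  apply Set.Subset.antisymm
  · intro r hr
    rcases ValuationRing.isInteger_or_isInteger A r with ⟨b, hb⟩ | ⟨b, hb⟩
    · exact ⟨b, hb⟩
    · by_cases hr0 : r = 0
      · exact ⟨0, by rw [hr0, map_zero]⟩
      · have hu : IsUnit (ψ b) := by
          refine IsUnit.of_mul_eq_one (⟨r, hr⟩ : R) ?_
          apply Subtype.ext
          change ((ψ b : R) : K) * r = 1
          rw [hψ b]
          change algebraMap A K b = r⁻¹ at hb
          rw [hb, inv_mul_cancel₀ hr0]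
        have hub : IsUnit b := (isUnit_map_iff ψ b).mp hu
        obtain ⟨c, hc⟩ := hub.exists_right_inv
        refine ⟨c, ?_⟩
        have h1 : algebraMap A K b * algebraMap A K c = 1 := by
          rw [← map_mul, hc, map_one]
        change algebraMap A K b = r⁻¹ at hb
        rw [hb] at h1
        have := eq_inv_of_mul_eq_one_right h1
        rw [this, inv_inv]
  · rintro _ ⟨a, rfl⟩
    rw [← hψ a]
    exact (ψ a).2

end ring

section scheme

variable {X : Scheme.{u}} [IsIntegral X]

/-- At the generic point the map from the stalk to the function field is surjective. -/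
theorem surjective_algebraMap_of_eq_genericPoint (x : X) (hx : x = genericPoint X) :
    Function.Surjective (algebraMap (X.presheaf.stalk x) X.functionField) := by
  subst hx
  intro a
  refine ⟨a, ?_⟩
  change (X.presheaf.stalkSpecializes _).hom a = a
  rw [TopCat.Presheaf.stalkSpecializes_refl]
  rfl

end scheme

end Groth.Agent.H22.CurveValuation
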