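import Groth.Agent.H22.DomCenter

/-!
# Centres of valuation rings from centres of discrete valuation rings (EGA II 7.3.10)
-/

set_option autoImplicit false
universe u
open CategoryTheory CategoryTheory.Limits AlgebraicGeometry IsLocalRing

namespace Groth.Agent.H22.DVRCenter

open Groth.Agent.H22.LocalPt Groth.Agent.H22.CenterLemma Groth.Agent.H22.CenterCor
open Groth.Agent.H22.DomCenter

variable {X Y : Scheme.{u}} [IsIntegral X] [IsIntegral Y] (f : X ⟶ Y)

/-- `R` dominates the local ring of `y` (through `𝒪_{Y,y} → 𝒪_{Y,f ξ} → K(X)`). -/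
def DominatesBase (R : ValuationSubring X.functionField) (y : Y)
    (hy : f.base (genericPoint X) ⤳ y) : Prop :=
  (∀ a : Y.presheaf.stalk y,
      (Y.presheaf.stalkSpecializes hy ≫ f.stalkMap (genericPoint X)).hom a ∈ R) ∧
    ∀ a ∈ IsLocalRing.maximalIdeal (Y.presheaf.stalk y),
      R.valuation ((Y.presheaf.stalkSpecializes hy ≫ f.stalkMap (genericPoint X)).hom a) < 1

variable {f}

theorem exists_localHom_of_dominatesBase (R : ValuationSubring X.functionField) (y : Y)
    (hy : f.base (genericPoint X) ⤳ y) (h : DominatesBase f R y hy) :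
    ∃ β : Y.presheaf.stalk y ⟶ .of R, IsLocalHom β.hom ∧
      Spec.map (CommRingCat.ofHom R.subtype) ≫ pt y β = gen X ≫ f := by
  let θ : Y.presheaf.stalk y ⟶ X.functionField :=
    Y.presheaf.stalkSpecializes hy ≫ f.stalkMap (genericPoint X)
  let β : Y.presheaf.stalk y ⟶ .of R :=
    CommRingCat.ofHom (θ.hom.codRestrict R.toSubring h.1)
  have hβ : β ≫ CommRingCat.ofHom R.subtype = θ := by
    ext a; rfl
  refine ⟨β, ⟨fun a ha => ?_⟩, ?_⟩
  · by_contra hna
    have hm : a ∈ IsLocalRing.maximalIdeal (Y.presheaf.stalk y) :=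
      (IsLocalRing.mem_maximalIdeal a).mpr hna
    have h2 := h.2 a hm
    have h3 : (β a : R) ∈ IsLocalRing.maximalIdeal R := by
      rw [ValuationSubring.valuation_lt_one_iff]
      exact h2
    exact (IsLocalRing.mem_maximalIdeal _).mp h3 ha
  · calc Spec.map (CommRingCat.ofHom R.subtype) ≫ pt y β
        = pt y (β ≫ CommRingCat.ofHom R.subtype) := map_pt ..
      _ = pt y θ := by rw [hβ]
      _ = pt (f (genericPoint X)) (f.stalkMap (genericPoint X)) :=
          (pt_specializes hy _).symm
      _ = pt (f (genericPoint X)) (f.stalkMap (genericPoint X) ≫ 𝟙 _) := by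
          rw [Category.comp_id]
      _ = pt (genericPoint X) (𝟙 _) ≫ f := (pt_comp ..).symm
      _ = gen X ≫ f := by rw [gen_eq_pt]

/-- Uniqueness of the centre on a separated base. -/
theorem eq_of_dominates [Y.IsSeparated] (R : ValuationSubring X.functionField) (y : Y)
    (hy : f.base (genericPoint X) ⤳ y) (h : DominatesBase f R y hy) (x : X)
    (hx : Dominates R x) : f x = y := by
  obtain ⟨β, hβloc, hβ⟩ := exists_localHom_of_dominatesBase R y hy h
  obtain ⟨α, hαloc, -, hα⟩ := exists_localHom_of_dominates R x hx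
  have : IsDominant (Spec.map (CommRingCat.ofHom R.subtype)) :=
    isDominant_SpecMap_of_injective _ Subtype.val_injective
  have huv : pt x α ≫ f = pt y β := by
    apply ext_of_isDominant (ι := Spec.map (CommRingCat.ofHom R.subtype))
    rw [← Category.assoc, hα, hβ]
  rw [pt_comp] at huv
  have hloc : IsLocalHom (f.stalkMap x ≫ α).hom := by
    rw [CommRingCat.hom_comp]; infer_instance
  exact eq_of_pt_eq huv

omit [IsIntegral X] [IsIntegral Y] in
lemma map_genericPoint [IrreducibleSpace X] [IrreducibleSpace Y] [IsDominant f] :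
    f.base (genericPoint X) = genericPoint Y := by
  have hgen : IsGenericPoint (f.base (genericPoint X)) (⊤ : Set Y) := by
    show closure _ = _
    apply Set.eq_univ_of_univ_subset
    rw [← (IsDominant.denseRange (f := f)).closure_range]
    apply closure_minimal _ isClosed_closure
    rintro _ ⟨x, rfl⟩
    exact (((genericPoint_spec X).specializes trivial).map f.base.hom.continuous).mem_closure
  exact hgen.eq (genericPoint_spec Y)

/-- The function field of `X` is finitely generated as a field over the image of `𝒪_{Y,y}`. -/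
theorem exists_finset_closure_eq_top [IsDominant f] [LocallyOfFiniteType f] (y : Y)
    (hy : f.base (genericPoint X) ⤳ y) :
    ∃ s : Finset X.functionField, Subfield.closure
      (Set.range (Y.presheaf.stalkSpecializes hy ≫ f.stalkMap (genericPoint X)).hom ∪ s) = ⊤ := by
  classical
  obtain ⟨s, hs⟩ := DVRSpec.exists_finset_closure_eq_top (f.stalkMap (genericPoint X)).hom
    (LocallyOfFiniteType.stalkMap f _) (RingHom.id _) Function.surjective_id
  refine ⟨s, ?_⟩
  rw [eq_top_iff, ← hs, Subfield.closure_le]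
  rintro _ (⟨c, rfl⟩ | hc)
  · have hfη : f.base (genericPoint X) = genericPoint Y := map_genericPoint
    have hη : genericPoint Y ⤳ f.base (genericPoint X) := (genericPoint_spec Y).specializes trivial
    have hη' : f.base (genericPoint X) ⤳ genericPoint Y := by rw [hfη]
    have hηy : genericPoint Y ⤳ y := (genericPoint_spec Y).specializes trivial
    obtain ⟨a, b, hb, hab⟩ := IsFractionRing.div_surjective (A := Y.presheaf.stalk y)
      (Y.presheaf.stalkSpecializes hη c)
    have hb0 : algebraMap (Y.presheaf.stalk y) Y.functionField b ≠ 0 := by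
      intro h0
      rw [FaithfulSMul.algebraMap_eq_zero_iff] at h0
      exact nonZeroDivisors.ne_zero hb h0
    have halg : ∀ t : Y.presheaf.stalk y, algebraMap (Y.presheaf.stalk y) Y.functionField t =
        Y.presheaf.stalkSpecializes hη (Y.presheaf.stalkSpecializes hy t) := by
      intro t
      rw [TopCat.Presheaf.stalkSpecializes_comp_apply]
      rfl
    have h1 : Y.presheaf.stalkSpecializes hη (c * Y.presheaf.stalkSpecializes hy b) =
        Y.presheaf.stalkSpecializes hη (Y.presheaf.stalkSpecializes hy a) := by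
      rw [map_mul, ← halg, ← halg, ← hab, div_mul_cancel₀ _ hb0]
    have hinj : Function.Injective (Y.presheaf.stalkSpecializes hη) :=
      IsFractionRing.injective (Y.presheaf.stalk (f.base (genericPoint X))) Y.functionField
    have h2 := hinj h1
    have hunit : IsUnit (Y.presheaf.stalkSpecializes hy b) := by
      have h3 : Y.presheaf.stalkSpecializes hy b =
          Y.presheaf.stalkSpecializes hη' (algebraMap (Y.presheaf.stalk y) Y.functionField b) := by
        rw [halg, TopCat.Presheaf.stalkSpecializes_comp_apply]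
        have : Y.presheaf.stalkSpecializes (hη'.trans hη) = 𝟙 _ :=
          TopCat.Presheaf.stalkSpecializes_refl _ _
        rw [this]; rfl
      rw [h3]
      exact (IsUnit.mk0 _ hb0).map (Y.presheaf.stalkSpecializes hη').hom
    have hθb : (Y.presheaf.stalkSpecializes hy ≫ f.stalkMap (genericPoint X)).hom b ≠ 0 :=
      (hunit.map (f.stalkMap (genericPoint X)).hom).ne_zero
    have h4 : (RingHom.id _).comp (f.stalkMap (genericPoint X)).hom c =
        (Y.presheaf.stalkSpecializes hy ≫ f.stalkMap (genericPoint X)).hom a /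
          (Y.presheaf.stalkSpecializes hy ≫ f.stalkMap (genericPoint X)).hom b := by
      rw [eq_div_iff hθb]
      have := congrArg (f.stalkMap (genericPoint X)).hom h2
      rw [map_mul] at this
      exact this
    rw [h4]
    exact div_mem (Subfield.subset_closure (Or.inl ⟨a, rfl⟩))
      (Subfield.subset_closure (Or.inl ⟨b, rfl⟩))
  · exact Subfield.subset_closure (Or.inr hc)

lemma valuation_inv_lt_one {K : Type*} [Field K] (R : ValuationSubring K) {c : K} (hc : c ∉ R) :
    c⁻¹ ≠ 0 ∧ R.valuation c⁻¹ < 1 := by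
  have hc0 : c ≠ 0 := by rintro rfl; exact hc R.zero_mem
  refine ⟨inv_ne_zero hc0, ?_⟩
  have h1 : 1 < R.valuation c := by
    rw [← not_le, R.valuation_le_one_iff]; exact hc
  rw [map_inv₀]
  exact inv_lt_one_of_one_lt₀ h1

/-- **EGA II 7.3.10, key step.** If every discrete valuation ring of `K(X)` dominating a local
ring of `Y` has a centre on `X`, then so does every valuation ring other than `K(X)`. -/
theorem exists_dominates_of_dvr [Y.IsSeparated] [IsLocallyNoetherian Y] [IsDominant f]
    [LocallyOfFiniteType f] [QuasiCompact f]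
    (hDVR : ∀ (R : ValuationSubring X.functionField), IsDiscreteValuationRing R →
      ∀ (y : Y) (hy : f.base (genericPoint X) ⤳ y), DominatesBase f R y hy →
        ∃ x : X, Dominates R x)
    (R : ValuationSubring X.functionField) (hR : R ≠ ⊤) (y₀ : Y)
    (hy : f.base (genericPoint X) ⤳ y₀) (hdom : DominatesBase f R y₀ hy) :
    ∃ x : X, Dominates R x := by
  classical
  by_contra hno
  push_neg at hno
  -- Step A: a finite affine cover of the preimage of an affine neighbourhood of `y₀`
  obtain ⟨_, ⟨W₀, hW₀, rfl⟩, hyW₀, -⟩ := Y.isBasis_affineOpens.exists_subset_of_mem_open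
    (Set.mem_univ y₀) isOpen_univ
  have hcpt : IsCompact ((f ⁻¹ᵁ W₀ : X.Opens) : Set X) := f.isCompact_preimage hW₀.isCompact
  obtain ⟨𝒰, hfin, h𝒰⟩ := isCompact_and_isOpen_iff_finite_and_eq_biUnion_affineOpens.mp
    ⟨hcpt, (f ⁻¹ᵁ W₀).isOpen⟩
  obtain ⟨t₀, ht₀0, ht₀⟩ : ∃ t₀ : X.functionField, t₀ ≠ 0 ∧ R.valuation t₀ < 1 := by
    have : ∃ c, c ∉ R := by
      by_contra h
      push_neg at h
      exact hR (eq_top_iff.mpr fun c _ => h c)
    obtain ⟨c, hc⟩ := this
    exact ⟨c⁻¹, valuation_inv_lt_one R hc⟩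
  -- Step B: choice of denominators
  have hB : ∀ U : X.affineOpens, ∃ c : X.functionField, R.valuation c < 1 ∧
      ∀ hξ : genericPoint X ∈ U.1, ∃ a : Γ(X, U.1),
        X.presheaf.germ U.1 (genericPoint X) hξ a * c = 1 := by
    intro U
    by_cases hξ : genericPoint X ∈ U.1
    · have : ∃ a : Γ(X, U.1), X.presheaf.germ U.1 (genericPoint X) hξ a ∉ R := by
        by_contra hall
        push_neg at hall
        obtain ⟨x, -, hx⟩ := exists_dominates_of_affine R U.2 hξ hall
        exact hno x hx
      obtain ⟨a, ha⟩ := this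
      have ha0 : X.presheaf.germ U.1 (genericPoint X) hξ a ≠ 0 := by
        intro h; rw [h] at ha; exact ha R.zero_mem
      exact ⟨_, (valuation_inv_lt_one R ha).2, fun _ => ⟨a, mul_inv_cancel₀ ha0⟩⟩
    · exact ⟨t₀, ht₀, fun h => absurd h hξ⟩
  choose c hc1 hc2 using hB
  let T : Finset X.functionField := insert t₀ (hfin.toFinset.image c)
  have hTR : ∀ t ∈ T, R.valuation t < 1 := by
    intro t ht
    rcases Finset.mem_insert.mp ht with rfl | ht
    · exact ht₀
    · obtain ⟨U, -, rfl⟩ := Finset.mem_image.mp ht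
      exact hc1 U
  -- Step C: the Noetherian subring `B'`
  letI : Algebra (Y.presheaf.stalk y₀) X.functionField :=
    (Y.presheaf.stalkSpecializes hy ≫ f.stalkMap (genericPoint X)).hom.toAlgebra
  let B' : Subalgebra (Y.presheaf.stalk y₀) X.functionField :=
    Algebra.adjoin _ (T : Set X.functionField)
  let Rₐ : Subalgebra (Y.presheaf.stalk y₀) X.functionField :=
    { R.toSubring with algebraMap_mem' := hdom.1 }
  have hB'R : B' ≤ Rₐ :=
    Algebra.adjoin_le (fun t ht => (R.valuation_le_one_iff t).mp (hTR t ht).le)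
  have hNoeth : IsNoetherianRing B' :=
    isNoetherianRing_of_fg (Subalgebra.fg_adjoin_finset T)
  let ι : B' →+* R := (B'.val.toRingHom).codRestrict R.toSubring (fun b => hB'R b.2)
  let 𝔫 : Ideal B' := (IsLocalRing.maximalIdeal R).comap ι
  have h𝔫 : ∀ b : B', b ∈ 𝔫 ↔ R.valuation (b : X.functionField) < 1 := by
    intro b
    change ι b ∈ IsLocalRing.maximalIdeal R ↔ _
    rw [ValuationSubring.valuation_lt_one_iff]
    rfl
  have h𝔫0 : 𝔫 ≠ ⊥ := by
    intro h
    have : (⟨t₀, Algebra.subset_adjoin (Finset.mem_insert_self _ _)⟩ : B') ∈ 𝔫 :=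
      (h𝔫 _).mpr ht₀
    rw [h, Ideal.mem_bot] at this
    exact ht₀0 (congrArg Subtype.val this)
  -- Step D: a discrete valuation ring with the same centre on `B'`
  obtain ⟨s, hs⟩ := exists_finset_closure_eq_top (f := f) y₀ hy
  have hs' : Subfield.closure (Set.range (algebraMap B' X.functionField) ∪ s) = ⊤ := by
    rw [eq_top_iff, ← hs, Subfield.closure_le]
    rintro _ (⟨a, rfl⟩ | h)
    · exact Subfield.subset_closure (Or.inl ⟨algebraMap _ B' a, rfl⟩)
    · exact Subfield.subset_closure (Or.inr h)
  have hfaith : FaithfulSMul B' X.functionField :=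
    (faithfulSMul_iff_algebraMap_injective _ _).mpr Subtype.val_injective
  obtain ⟨R', hR'dvr, hR'B, hR'n⟩ := DVRDom.exists_dvr_of_prime' 𝔫 h𝔫0 s hs'
  -- Step E: the centre of `R'` yields a contradiction
  have hdom' : DominatesBase f R' y₀ hy :=
    ⟨fun a => hR'B (algebraMap _ B' a),
      fun a ha => (hR'n (algebraMap _ B' a)).mp ((h𝔫 _).mpr (hdom.2 a ha))⟩
  obtain ⟨x', hx'⟩ := hDVR R' hR'dvr y₀ hy hdom'
  have hfx' : f x' = y₀ := eq_of_dominates R' y₀ hy hdom' x' hx'
  have hx'mem : x' ∈ ((f ⁻¹ᵁ W₀ : X.Opens) : Set X) := by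
    change f x' ∈ W₀
    rw [hfx']; exact hyW₀
  rw [h𝒰] at hx'mem
  obtain ⟨U, hU𝒰, hx'U⟩ := Set.mem_iUnion₂.mp hx'mem
  have hξU : genericPoint X ∈ U.1 :=
    ((genericPoint_spec X).specializes trivial : genericPoint X ⤳ x').mem_open U.1.isOpen hx'U
  obtain ⟨a, ha⟩ := hc2 U hξU
  have hcT : c U ∈ T :=
    Finset.mem_insert_of_mem (Finset.mem_image_of_mem c (hfin.mem_toFinset.mpr hU𝒰))
  have h1 : R'.valuation (c U) < 1 :=
    (hR'n ⟨c U, Algebra.subset_adjoin hcT⟩).mp ((h𝔫 _).mpr (hc1 U))
  have h2 : R'.valuation (X.presheaf.germ U.1 (genericPoint X) hξU a) ≤ 1 :=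
    (R'.valuation_le_one_iff _).mpr (germ_mem_of_dominates R' x' hx' hx'U hξU a)
  have h3 := congrArg R'.valuation ha
  rw [map_mul, map_one] at h3
  have h4 : R'.valuation (X.presheaf.germ U.1 (genericPoint X) hξU a) * R'.valuation (c U) < 1 := by
    calc _ ≤ 1 * R'.valuation (c U) := mul_le_mul_left h2 _
      _ = R'.valuation (c U) := one_mul _
      _ < 1 := h1
  exact absurd h3 (ne_of_lt h4)

end Groth.Agent.H22.DVRCenter
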