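import Mathlib.AlgebraicGeometry.ValuativeCriterion
import Mathlib.AlgebraicGeometry.Morphisms.Immersion
import Groth.Agent.H22.DVRSpec

/-!
# The DVR criterion of separatedness over a locally Noetherian base (helper22), EGA II 7.2.3
-/

set_option autoImplicit false
universe u
open CategoryTheory CategoryTheory.Limits AlgebraicGeometry

namespace Groth.Agent.H22.DVRSep

set_option maxHeartbeats 400000 in
theorem isSeparated_of_dvr_uniqueness {X Y : Scheme.{u}} [IsLocallyNoetherian Y] (f : X ⟶ Y)
    [LocallyOfFiniteType f]
    (H : ∀ (A : Type u) [CommRing A] [IsDomain A] [IsDiscreteValuationRing A]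
      (g₁ g₂ : (Spec (CommRingCat.of A)) ⟶ X), g₁ ≫ f = g₂ ≫ f →
      (Spec.map (CommRingCat.ofHom (algebraMap A (FractionRing A)))) ≫ g₁ =
        (Spec.map (CommRingCat.ofHom (algebraMap A (FractionRing A)))) ≫ g₂ → g₁ = g₂) :
    IsSeparated f := by
  have hX : IsLocallyNoetherian X := LocallyOfFiniteType.isLocallyNoetherian f
  have hXX : IsLocallyNoetherian (pullback f f) :=
    LocallyOfFiniteType.isLocallyNoetherian (pullback.fst f f)
  have hqs : QuasiSeparated f := inferInstance
  have hqc : QuasiCompact (pullback.diagonal f) := hqs.1
  have hlft : LocallyOfFiniteType (pullback.diagonal f) := by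
    have : LocallyOfFiniteType (pullback.diagonal f ≫ pullback.fst f f) := by
      rw [pullback.diagonal_fst]; infer_instance
    exact locallyOfFiniteType_of_comp (pullback.diagonal f) (pullback.fst f f)
  have hspec : SpecializingMap (pullback.diagonal f).base := by
    intro z w hzw
    by_cases hw : w = (pullback.diagonal f).base z
    · exact ⟨z, specializes_rfl, hw.symm⟩
    obtain ⟨A, h, hA, hcl, hcomm⟩ :=
      DVRSpec.exists_dvr_through_specialization (pullback.diagonal f) z w hzw hw
    let g₁ := h ≫ pullback.fst f f
    let g₂ := h ≫ pullback.snd f f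
    have e1 : g₁ ≫ f = g₂ ≫ f := by
      simp only [g₁, g₂, Category.assoc, pullback.condition]
    let j : Spec (X.residueField z) ⟶ Spec (CommRingCat.of A) :=
      Spec.map (CommRingCat.ofHom A.subtype)
    have hj1 : j ≫ g₁ = X.fromSpecResidueField z := by
      change Spec.map (CommRingCat.ofHom A.subtype) ≫ h ≫ pullback.fst f f = _
      rw [← Category.assoc, hcomm, Category.assoc, pullback.diagonal_fst, Category.comp_id]
    have hj2 : j ≫ g₂ = X.fromSpecResidueField z := by
      change Spec.map (CommRingCat.ofHom A.subtype) ≫ h ≫ pullback.snd f f = _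
      rw [← Category.assoc, hcomm, Category.assoc, pullback.diagonal_snd, Category.comp_id]
    let e' : X.residueField z →+* FractionRing A :=
      ((FractionRing.algEquiv A (X.residueField z)).symm : X.residueField z →+* FractionRing A)
    have hι : Spec.map (CommRingCat.ofHom (algebraMap A (FractionRing A))) =
        Spec.map (CommRingCat.ofHom e') ≫ j := by
      rw [← Spec.map_comp]
      congr 1
      ext a
      exact ((FractionRing.algEquiv A (X.residueField z)).symm.commutes a).symm
    have e2 : Spec.map (CommRingCat.ofHom (algebraMap A (FractionRing A))) ≫ g₁ =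
        Spec.map (CommRingCat.ofHom (algebraMap A (FractionRing A))) ≫ g₂ := by
      rw [hι, Category.assoc, Category.assoc, hj1, hj2]
    have h12 : g₁ = g₂ := H A g₁ g₂ e1 e2
    have hh : h = g₁ ≫ pullback.diagonal f := by
      apply pullback.hom_ext
      · simp [g₁]
      · simp only [Category.assoc, pullback.diagonal_snd, Category.comp_id]
        exact h12.symm
    refine ⟨g₁.base (IsLocalRing.closedPoint A), ?_, ?_⟩
    · have hgen : g₁.base (j.base (IsLocalRing.closedPoint (X.residueField z))) = z := by
        rw [← Scheme.Hom.comp_apply, hj1]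
        exact Scheme.fromSpecResidueField_apply z _
      have hsp := (IsLocalRing.specializes_closedPoint
        (j.base (IsLocalRing.closedPoint (X.residueField z)))).map g₁.base.hom.continuous
      rw [hgen] at hsp
      exact hsp
    · rw [← hcl, hh]
      rfl
  have hclosed : IsClosedMap (pullback.diagonal f).base :=
    (isClosedMap_iff_specializingMap (pullback.diagonal f)).mpr hspec
  exact ⟨.of_isPreimmersion _ hclosed.isClosed_range⟩

end Groth.Agent.H22.DVRSep
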