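import Groth.Agent.H22.DimOneFinFib
import Groth.Agent.H22.DimOneFib
import Groth.Agent.H22.IntegralSection

/-!
# Dominant morphisms of integral schemes to normal one-dimensional Noetherian schemes are flat
-/

set_option autoImplicit false
set_option linter.style.haveILetI false
universe u
open AlgebraicGeometry CategoryTheory TopologicalSpace

namespace Groth.Agent.H22.DedekindFlat

/-- A dominant morphism of integral schemes is injective on sections. -/
theorem appLE_injective {X Y : Scheme.{u}} [IsIntegral X] [IsIntegral Y] (f : X ⟶ Y)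
    (hgen : f (genericPoint X) = genericPoint Y) {V : Y.Opens} {U : X.Opens} (hUV : U ≤ f ⁻¹ᵁ V)
    (hU : (U : Set X).Nonempty) : Function.Injective (f.appLE V U hUV).hom := by
  rw [injective_iff_map_eq_zero]
  intro a ha
  have h1 : X.basicOpen (f.appLE V U hUV a) = U ⊓ f ⁻¹ᵁ (Y.basicOpen a) :=
    Scheme.basicOpen_appLE f U V hUV a
  have ha' : f.appLE V U hUV a = 0 := ha
  rw [ha', Scheme.basicOpen_zero] at h1
  rw [← basicOpen_eq_bot_iff]
  by_contra hne
  have h2 : genericPoint Y ∈ Y.basicOpen a :=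
    DimOneFinFib.genericPoint_mem_of_nonempty _ ((Opens.ne_bot_iff_nonempty _).mp hne)
  have h3 : genericPoint X ∈ U ⊓ f ⁻¹ᵁ (Y.basicOpen a) :=
    ⟨DimOneFinFib.genericPoint_mem_of_nonempty U hU, by show f (genericPoint X) ∈ Y.basicOpen a; rwa [hgen]⟩
  rw [← h1] at h3
  exact h3

/-- Sections over a nonempty affine open of a normal Noetherian integral scheme of dimension
`≤ 1` form a Dedekind domain. -/
theorem isDedekindDomain_sections {S : Scheme.{u}} [IsIntegral S] [IsLocallyNoetherian S]
    (hnorm : ∀ s : S, IsIntegrallyClosed (S.presheaf.stalk s))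
    (hdim : topologicalKrullDim S ≤ 1) (U : S.Opens) (hU : IsAffineOpen U)
    (hne : (U : Set S).Nonempty) : IsDedekindDomain Γ(S, U) := by
  haveI : Nonempty U := ⟨⟨_, hne.some_mem⟩⟩
  haveI : IsNoetherianRing Γ(S, U) := IsLocallyNoetherian.component_noetherian ⟨U, hU⟩
  haveI : IsIntegrallyClosed Γ(S, U) := IntegralSection.isIntegrallyClosed_of_stalk hnorm U hU hne
  have hkd : ringKrullDim Γ(S, U) ≤ 1 := by
    rw [← PrimeSpectrum.topologicalKrullDim_eq_ringKrullDim]
    have hhomeo : IsHomeomorph hU.isoSpec.hom.base := hU.isoSpec.hom.homeomorph.isHomeomorph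
    have h1 := IsHomeomorph.topologicalKrullDim_eq _ hhomeo
    change topologicalKrullDim (Spec Γ(S, U)) ≤ 1
    rw [← h1]
    exact (topologicalKrullDim_subspace_le S (U : Set S)).trans hdim
  haveI : Ring.KrullDimLE 1 Γ(S, U) := (Ring.krullDimLE_iff).mpr hkd
  haveI : Ring.DimensionLEOne Γ(S, U) :=
    ⟨fun {p} hp hpp => Ideal.IsPrime.isMaximal_of_ne_bot hpp hp⟩
  exact { }

/-- A dominant morphism from an integral scheme to a normal locally Noetherian integral scheme of
dimension `≤ 1` is flat. -/
theorem flat_of_dominant {X S : Scheme.{u}} [IsIntegral X] [IsIntegral S] [IsLocallyNoetherian S]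
    (hnorm : ∀ s : S, IsIntegrallyClosed (S.presheaf.stalk s))
    (hdim : topologicalKrullDim S ≤ 1) (f : X ⟶ S)
    (hgen : f (genericPoint X) = genericPoint S) : Flat f := by
  rw [HasRingHomProperty.iff_appLE (P := @Flat)]
  intro U V e
  by_cases hV : ((V : X.Opens) : Set X).Nonempty
  swap
  · have hV0 : (V : X.Opens) = ⊥ := by
      rw [Set.not_nonempty_iff_eq_empty] at hV
      exact Opens.ext hV
    have : Subsingleton Γ(X, V) := by rw [hV0]; infer_instance
    algebraize [(f.appLE U V e).hom]
    change Module.Flat Γ(S, U) Γ(X, V)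
    infer_instance
  have hU : ((U : S.Opens) : Set S).Nonempty := by
    obtain ⟨x, hx⟩ := hV
    exact ⟨f x, e hx⟩
  haveI : Nonempty (U : S.Opens) := ⟨⟨_, hU.some_mem⟩⟩
  haveI : Nonempty (V : X.Opens) := ⟨⟨_, hV.some_mem⟩⟩
  haveI := isDedekindDomain_sections hnorm hdim U U.2 hU
  algebraize [(f.appLE U V e).hom]
  have hinj : Function.Injective (algebraMap Γ(S, U) Γ(X, V)) := appLE_injective f hgen e hV
  haveI : Module.IsTorsionFree Γ(S, U) Γ(X, V) :=
    Module.isTorsionFree_iff_algebraMap_injective.mpr hinj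
  change Module.Flat Γ(S, U) Γ(X, V)
  infer_instance

end Groth.Agent.H22.DedekindFlat
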