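import Mathlib
import Groth.Agent.H99.DimOneOverB

/-!
# Fibres over points of codimension one of generically finite dominant morphisms
-/

set_option autoImplicit false
set_option linter.style.haveILetI false
universe u
open AlgebraicGeometry CategoryTheory TopologicalSpace

namespace Groth.Agent.H22.DimOneFinFib

/-- Ring-level: finitely many primes over a height-one prime. -/
theorem finite_primes_over (A B : Type u) [CommRing A] [IsDomain A] [IsNoetherianRing A]
    [CommRing B] [IsDomain B] [Algebra A B] [FaithfulSMul A B] [Algebra.FiniteType A B]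
    [Algebra.IsAlgebraic A B] (p : Ideal A) [p.IsPrime] (hp : p.height = 1) :
    {q : PrimeSpectrum B | q.asIdeal.comap (algebraMap A B) = p}.Finite := by
  have h := (Groth.Agent.H99.DimOneOverB.main A B p hp).1
  refine Set.Finite.of_finite_image (f := fun q : PrimeSpectrum B => q.asIdeal) (h.subset ?_) ?_
  · rintro _ ⟨q, hq, rfl⟩
    exact ⟨q.2, ⟨hq.symm⟩⟩
  · intro q _ q' _ h; exact PrimeSpectrum.ext h

section Scheme

variable {X Y : Scheme.{u}}

/-- The residue field at a point of an affine open is algebraic over the ring of sections. -/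
theorem isAlgebraic_evaluation {V : Y.Opens} (hV : IsAffineOpen V) (y : Y) (hy : y ∈ V)
    (x : Y.residueField y) :
    ∃ a s : Γ(Y, V), Y.evaluation V y hy s ≠ 0 ∧ x * Y.evaluation V y hy s = Y.evaluation V y hy a := by
  obtain ⟨z, rfl⟩ := Y.residue_surjective y x
  letI : Algebra Γ(Y, V) (Y.presheaf.stalk y) :=
    TopCat.Presheaf.algebra_section_stalk Y.presheaf ⟨y, hy⟩
  have hloc : IsLocalization.AtPrime (Y.presheaf.stalk y) (hV.primeIdealOf ⟨y, hy⟩).asIdeal :=
    hV.isLocalization_stalk ⟨y, hy⟩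
  obtain ⟨⟨a, s⟩, has⟩ := IsLocalization.surj (hV.primeIdealOf ⟨y, hy⟩).asIdeal.primeCompl z
  have hunit : IsUnit (algebraMap Γ(Y, V) (Y.presheaf.stalk y) s) :=
    IsLocalization.map_units (M := (hV.primeIdealOf ⟨y, hy⟩).asIdeal.primeCompl) _ s
  refine ⟨a, s, ?_, ?_⟩
  · have h1 : Y.evaluation V y hy s = Y.residue y (algebraMap Γ(Y, V) (Y.presheaf.stalk y) s) := rfl
    rw [h1]
    exact (hunit.map (Y.residue y).hom).ne_zero
  · have h1 : ∀ t : Γ(Y, V), Y.evaluation V y hy t =
        Y.residue y (algebraMap Γ(Y, V) (Y.presheaf.stalk y) t) := fun _ => rfl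
    rw [h1, h1, ← map_mul, has]

variable [IsIntegral X] [IsIntegral Y]

/-- Evaluation at the generic point is injective on sections over a nonempty open. -/
theorem evaluation_genericPoint_injective (U : X.Opens) (hU : genericPoint X ∈ U) :
    Function.Injective (X.evaluation U (genericPoint X) hU).hom := by
  rw [injective_iff_map_eq_zero]
  intro b hb
  have h1 : genericPoint X ∉ X.basicOpen b :=
    (X.evaluation_eq_zero_iff_notMem_basicOpen (genericPoint X) hU b).mp hb
  rw [← basicOpen_eq_bot_iff]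
  by_contra hne
  apply h1
  rw [← SetLike.mem_coe, (genericPoint_spec X).mem_open_set_iff (X.basicOpen b).isOpen]
  obtain ⟨w, hw⟩ := (Opens.ne_bot_iff_nonempty _).mp hne
  exact ⟨w, trivial, hw⟩

theorem genericPoint_mem_of_nonempty (U : X.Opens) (hU : (U : Set X).Nonempty) :
    genericPoint X ∈ U := by
  rw [← SetLike.mem_coe, (genericPoint_spec X).mem_open_set_iff U.isOpen]
  obtain ⟨w, hw⟩ := hU
  exact ⟨w, trivial, hw⟩

/-- The fibre over a point of codimension one meets every affine chart in a finite set. -/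
theorem finite_fibre_inter [IsLocallyNoetherian Y] (f : X ⟶ Y) [LocallyOfFiniteType f]
    (hgen : f (genericPoint X) = genericPoint Y)
    (hfin : (f.residueFieldMap (genericPoint X)).hom.Finite)
    (ξ : Y) (hξ : ringKrullDim (Y.presheaf.stalk ξ) = 1) {V : Y.Opens} (hV : IsAffineOpen V)
    (hξV : ξ ∈ V) {U : X.Opens} (hU : IsAffineOpen U) (hUV : U ≤ f ⁻¹ᵁ V) :
    ((f ⁻¹' {ξ}) ∩ (U : Set X)).Finite := by
  by_cases hne : (U : Set X).Nonempty
  swap
  · rw [Set.not_nonempty_iff_eq_empty] at hne
    rw [hne, Set.inter_empty]; exact Set.finite_empty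
  have hηU : genericPoint X ∈ U := genericPoint_mem_of_nonempty U hne
  have hfηV : f (genericPoint X) ∈ V := hUV hηU
  haveI : Nonempty U := ⟨⟨_, hηU⟩⟩
  haveI : Nonempty V := ⟨⟨ξ, hξV⟩⟩
  let φ : Γ(Y, V) →+* Γ(X, U) := (f.appLE V U hUV).hom
  letI : Algebra Γ(Y, V) Γ(X, U) := φ.toAlgebra
  haveI : IsNoetherianRing Γ(Y, V) := IsLocallyNoetherian.component_noetherian ⟨V, hV⟩
  haveI : Algebra.FiniteType Γ(Y, V) Γ(X, U) := f.finiteType_appLE hV hU hUV
  -- evaluation maps
  let evB : Γ(X, U) →+* X.residueField (genericPoint X) :=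
    (X.evaluation U (genericPoint X) hηU).hom
  let evA : Γ(Y, V) →+* Y.residueField (f (genericPoint X)) :=
    (Y.evaluation V (f (genericPoint X)) hfηV).hom
  let ρ : Y.residueField (f (genericPoint X)) →+* X.residueField (genericPoint X) :=
    (f.residueFieldMap (genericPoint X)).hom
  have hevB : Function.Injective evB := evaluation_genericPoint_injective U hηU
  have hsq : ∀ a, ρ (evA a) = evB (φ a) := by
    intro a
    have h1 := Scheme.evaluation_naturality_apply f (genericPoint X) hfηV a
    change ρ (evA a) = _ at h1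
    rw [h1]
    change X.residue _ (X.presheaf.germ _ _ _ (f.app V a)) =
      X.residue _ (X.presheaf.germ _ _ _ (f.appLE V U hUV a))
    congr 1
    rw [Scheme.Hom.appLE, CommRingCat.comp_apply, TopCat.Presheaf.germ_res_apply]
  -- injectivity of `φ`
  have hinj : Function.Injective φ := by
    rw [injective_iff_map_eq_zero]
    intro a ha
    have h1 : evA a = 0 := by
      have := hsq a
      rw [ha, map_zero] at this
      exact (map_eq_zero_iff ρ ρ.injective).mp this
    have h2 : f (genericPoint X) ∉ Y.basicOpen a :=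
      (Y.evaluation_eq_zero_iff_notMem_basicOpen _ hfηV a).mp h1
    rw [← basicOpen_eq_bot_iff]
    by_contra hne'
    apply h2
    rw [hgen]
    exact genericPoint_mem_of_nonempty _ ((Opens.ne_bot_iff_nonempty _).mp hne')
  haveI : FaithfulSMul Γ(Y, V) Γ(X, U) := (faithfulSMul_iff_algebraMap_injective _ _).mpr hinj
  -- algebraicity
  haveI : Algebra.IsAlgebraic Γ(Y, V) Γ(X, U) := by
    letI algAK : Algebra Γ(Y, V) (Y.residueField (f (genericPoint X))) := evA.toAlgebra
    letI algKL : Algebra (Y.residueField (f (genericPoint X))) (X.residueField (genericPoint X)) :=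
      ρ.toAlgebra
    letI algAL : Algebra Γ(Y, V) (X.residueField (genericPoint X)) := (ρ.comp evA).toAlgebra
    letI algBL : Algebra Γ(X, U) (X.residueField (genericPoint X)) := evB.toAlgebra
    haveI : IsScalarTower Γ(Y, V) (Y.residueField (f (genericPoint X)))
        (X.residueField (genericPoint X)) := IsScalarTower.of_algebraMap_eq (fun _ => rfl)
    haveI : IsScalarTower Γ(Y, V) Γ(X, U) (X.residueField (genericPoint X)) :=
      IsScalarTower.of_algebraMap_eq (fun a => hsq a)
    haveI : Algebra.IsAlgebraic Γ(Y, V) (Y.residueField (f (genericPoint X))) := by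
      refine ⟨fun x => ?_⟩
      obtain ⟨a, s, hs, hxs⟩ := isAlgebraic_evaluation hV _ hfηV x
      refine ⟨Polynomial.C s * Polynomial.X - Polynomial.C a, ?_, ?_⟩
      · intro h0
        have := congrArg (fun P => Polynomial.coeff P 1) h0
        simp at this
        apply hs
        rw [this, map_zero]
      · simp only [map_sub, map_mul, Polynomial.aeval_C, Polynomial.aeval_X]
        change evA s * x - evA a = 0
        rw [mul_comm, sub_eq_zero]
        exact hxs
    haveI : Module.Finite (Y.residueField (f (genericPoint X))) (X.residueField (genericPoint X)) :=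
      hfin
    haveI : Algebra.IsAlgebraic (Y.residueField (f (genericPoint X)))
        (X.residueField (genericPoint X)) := Algebra.IsAlgebraic.of_finite _ _
    haveI : Algebra.IsAlgebraic Γ(Y, V) (X.residueField (genericPoint X)) :=
      Algebra.IsAlgebraic.trans Γ(Y, V) (Y.residueField (f (genericPoint X))) _
    refine ⟨fun b => ?_⟩
    exact (isAlgebraic_algebraMap_iff (A := X.residueField (genericPoint X)) hevB).mp
      (Algebra.IsAlgebraic.isAlgebraic _)
  -- the prime
  let p := hV.primeIdealOf ⟨ξ, hξV⟩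
  have hp : p.asIdeal.height = 1 := by
    letI : Algebra Γ(Y, V) (Y.presheaf.stalk ξ) :=
      TopCat.Presheaf.algebra_section_stalk Y.presheaf ⟨ξ, hξV⟩
    have hloc : IsLocalization.AtPrime (Y.presheaf.stalk ξ) p.asIdeal :=
      hV.isLocalization_stalk ⟨ξ, hξV⟩
    have h1 := IsLocalization.AtPrime.ringKrullDim_eq_height p.asIdeal (Y.presheaf.stalk ξ)
    rw [hξ] at h1
    exact_mod_cast h1.symm
  have hfinq := finite_primes_over Γ(Y, V) Γ(X, U) p.asIdeal hp
  refine (hfinq.image hU.fromSpec.base).subset ?_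
  rintro x ⟨hx1, hx2⟩
  refine ⟨hU.primeIdealOf ⟨x, hx2⟩, ?_, hU.fromSpec_primeIdealOf ⟨x, hx2⟩⟩
  have h1 : hV.fromSpec.base ((Spec.map (f.appLE V U hUV)).base (hU.primeIdealOf ⟨x, hx2⟩)) =
      hV.fromSpec.base p := by
    rw [← Scheme.Hom.comp_apply, hV.SpecMap_appLE_fromSpec f hU hUV, Scheme.Hom.comp_apply,
      hU.fromSpec_primeIdealOf ⟨x, hx2⟩, hV.fromSpec_primeIdealOf ⟨ξ, hξV⟩]
    exact hx1
  have h2 := hV.fromSpec.isOpenEmbedding.injective h1
  exact congrArg PrimeSpectrum.asIdeal h2

/-- The fibre over a point of codimension one is finite. -/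
theorem finite_fibre [IsLocallyNoetherian Y] (f : X ⟶ Y) [LocallyOfFiniteType f] [QuasiCompact f]
    (hgen : f (genericPoint X) = genericPoint Y)
    (hfin : (f.residueFieldMap (genericPoint X)).hom.Finite)
    (ξ : Y) (hξ : ringKrullDim (Y.presheaf.stalk ξ) = 1) : (f ⁻¹' {ξ}).Finite := by
  obtain ⟨_, ⟨V, hV : IsAffineOpen V, rfl⟩, hξV, -⟩ :=
    Y.isBasis_affineOpens.exists_subset_of_mem_open (Set.mem_univ ξ) isOpen_univ
  have hc : IsCompact ((f ⁻¹ᵁ V : X.Opens) : Set X) :=
    QuasiCompact.isCompact_preimage (f := f) _ V.isOpen hV.isCompact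
  obtain ⟨s, hs, e⟩ := isCompact_iff_finite_and_eq_biUnion_affineOpens.mp hc
  have hle : ∀ i ∈ s, (i : X.Opens) ≤ f ⁻¹ᵁ V := by
    intro i hi
    rw [e]
    exact le_iSup₂ (f := fun (i : X.affineOpens) (_ : i ∈ s) => (i : X.Opens)) i hi
  have hsub : f ⁻¹' {ξ} ⊆ ⋃ i ∈ s, (f ⁻¹' {ξ} ∩ ((i : X.Opens) : Set X)) := by
    intro x hx
    have hxV : x ∈ f ⁻¹ᵁ V := by
      change f x ∈ V
      rw [Set.mem_preimage, Set.mem_singleton_iff] at hx
      rw [hx]; exact hξV
    rw [e] at hxV
    simp only [Opens.mem_iSup] at hxV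
    obtain ⟨i, hi, hxi⟩ := hxV
    exact Set.mem_biUnion hi ⟨hx, hxi⟩
  exact (hs.biUnion (fun i hi => finite_fibre_inter f hgen hfin ξ hξ hV hξV i.2 (hle i hi))).subset hsub

end Scheme

end Groth.Agent.H22.DimOneFinFib
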