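import Mathlib
import Groth.Agent.H11.DiscEtale

/-! Purity of the branch locus for finite flat algebras over a Noetherian ring, via the
discriminant and Krull's principal ideal theorem: if `B` is finite flat over a Noetherian ring `A`
and unramified at all primes lying over primes of height `≤ 1`, then `B` is unramified over `A`. -/

set_option autoImplicit false
universe u

namespace Groth.Agent.H22.DiscPurity

open Algebra

/-- In a Noetherian ring, an element outside all primes of height `≤ 1` is a unit. -/
theorem isUnit_of_forall_height_le_one {A : Type*} [CommRing A] [IsNoetherianRing A] (d : A)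
    (h : ∀ q : Ideal A, q.IsPrime → q.height ≤ 1 → d ∉ q) : IsUnit d := by
  by_contra hd
  have hne : Ideal.span {d} ≠ ⊤ := by rwa [Ne, Ideal.span_singleton_eq_top]
  obtain ⟨q, hq⟩ := Ideal.nonempty_minimalPrimes hne
  have hqp : q.IsPrime := hq.1.1
  have := Ideal.height_le_one_of_isPrincipal_of_mem_minimalPrimes (Ideal.span {d}) q hq
  exact h q hqp this (hq.1.2 (Ideal.mem_span_singleton_self d))

section Transfer

variable {A B : Type u} [CommRing A] [CommRing B] [Algebra A B] (M : Submonoid A)
  (B' : Type u) [CommRing B'] [Algebra B B'] [Algebra A B'] [IsScalarTower A B B']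
  [hloc : IsLocalization (Algebra.algebraMapSubmonoid B M) B']
include M hloc

/-- The local ring of a localization `B'` of `B` at a prime `P'` is the local ring of `B` at the
contraction of `P'`, as `A`-algebras. -/
theorem nonempty_algEquiv_atPrime (P' : Ideal B') [P'.IsPrime] :
    Nonempty (Localization.AtPrime (P'.comap (algebraMap B B')) ≃ₐ[A] Localization.AtPrime P') := by
  haveI : IsScalarTower A B (Localization.AtPrime P') := IsScalarTower.of_algebraMap_eq (fun x => by
    rw [IsScalarTower.algebraMap_apply A B' (Localization.AtPrime P'),
      IsScalarTower.algebraMap_apply A B B',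
      ← IsScalarTower.algebraMap_apply B B' (Localization.AtPrime P')])
  haveI := IsLocalization.isLocalization_isLocalization_atPrime_isLocalization
    (Algebra.algebraMapSubmonoid B M) (Localization.AtPrime P') P'
  exact ⟨(IsLocalization.algEquiv (P'.comap (algebraMap B B')).primeCompl
    (Localization.AtPrime (P'.comap (algebraMap B B'))) (Localization.AtPrime P')).restrictScalars A⟩

theorem isUnramifiedAt_comap_iff (P' : Ideal B') [P'.IsPrime] :
    Algebra.IsUnramifiedAt A (P'.comap (algebraMap B B')) ↔ Algebra.IsUnramifiedAt A P' := by
  obtain ⟨e⟩ := nonempty_algEquiv_atPrime (A := A) (B := B) M B' P'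
  exact Algebra.FormallyUnramified.iff_of_equiv e

end Transfer

theorem isUnramifiedAt_congr {A B : Type*} [CommRing A] [CommRing B] [Algebra A B]
    {I J : Ideal B} [I.IsPrime] [J.IsPrime] (h : I = J) (hI : Algebra.IsUnramifiedAt A I) :
    Algebra.IsUnramifiedAt A J := by
  subst h; exact hI

section Free

variable {A B : Type u} [CommRing A] [CommRing B] [Algebra A B] [IsNoetherianRing A]

/-- Free case: if `B` is finite free over the Noetherian ring `A` and unramified at all primes
lying over primes of height `≤ 1`, then the discriminant is a unit. -/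
theorem isUnit_discr_of_isUnramifiedAt {ι : Type} [Fintype ι] [DecidableEq ι]
    (b : Module.Basis ι A B)
    (H : ∀ (P : Ideal B) [P.IsPrime], (P.under A).height ≤ 1 → Algebra.IsUnramifiedAt A P) :
    IsUnit (Algebra.discr A b) := by
  apply isUnit_of_forall_height_le_one
  intro q hq hq1 hd
  let Aq := Localization.AtPrime q
  let Bq := Localization (Algebra.algebraMapSubmonoid B q.primeCompl)
  let bq : Module.Basis ι Aq Bq := b.localizationLocalization Aq q.primeCompl Bq
  have hdisc : Algebra.discr Aq bq = algebraMap A Aq (Algebra.discr A b) :=
    Algebra.discr_localizationLocalization A q.primeCompl Bq b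
  haveI : Module.Finite Aq Bq := Module.Finite.of_basis bq
  haveI : Module.Free Aq Bq := Module.Free.of_basis bq
  haveI : Algebra.FinitePresentation Aq Bq :=
    Algebra.FinitePresentation.of_finiteType.mp inferInstance
  haveI : Algebra.FormallyUnramified A Bq := by
    rw [Algebra.formallyUnramified_iff_forall]
    intro P'
    rw [← isUnramifiedAt_comap_iff (A := A) (B := B) q.primeCompl Bq P'.asIdeal]
    apply H
    have hle : (P'.asIdeal.comap (algebraMap B Bq)).under A ≤ q := by
      have h1 : (P'.asIdeal.comap (algebraMap B Bq)).under A =
          (P'.asIdeal.comap (algebraMap Aq Bq)).comap (algebraMap A Aq) := by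
        rw [Ideal.under, Ideal.comap_comap, Ideal.comap_comap,
          ← IsScalarTower.algebraMap_eq, ← IsScalarTower.algebraMap_eq]
      rw [h1]
      refine le_of_le_of_eq (Ideal.comap_mono
        (IsLocalRing.le_maximalIdeal (Ideal.IsPrime.ne_top inferInstance))) ?_
      exact IsLocalization.AtPrime.comap_maximalIdeal Aq q
    exact (Ideal.height_mono hle).trans hq1
  haveI : Algebra.FormallyUnramified Aq Bq :=
    Algebra.FormallyUnramified.localization_base q.primeCompl
  haveI : Algebra.Etale Aq Bq := Algebra.Etale.of_formallyUnramified_of_flat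
  have hu : IsUnit (Algebra.discr Aq bq) :=
    (Groth.Agent.H11.DiscFree.etale_iff_isUnit_discr bq).mp inferInstance
  rw [hdisc] at hu
  exact (IsLocalization.AtPrime.isUnit_to_map_iff Aq q _).mp hu hd

/-- **Purity via the discriminant**: a finite flat algebra over a Noetherian ring which is
unramified at all primes lying over primes of height `≤ 1` is unramified. -/
theorem formallyUnramified_of_isUnramifiedAt [Module.Finite A B] [Module.Flat A B]
    (H : ∀ (P : Ideal B) [P.IsPrime], (P.under A).height ≤ 1 → Algebra.IsUnramifiedAt A P) :
    Algebra.FormallyUnramified A B := by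
  rw [Algebra.formallyUnramified_iff_forall]
  intro P
  let p := P.asIdeal.under A
  let Ap := Localization.AtPrime p
  let Bp := Localization (Algebra.algebraMapSubmonoid B p.primeCompl)
  haveI : Module.Free Ap Bp := Module.free_of_flat_of_isLocalRing
  let b := Module.finBasis Ap Bp
  have hL : IsUnit (Algebra.discr Ap b) := by
    apply isUnit_discr_of_isUnramifiedAt b
    intro P' _ hP'
    haveI h1 : Algebra.IsUnramifiedAt A P' := by
      rw [← isUnramifiedAt_comap_iff (A := A) (B := B) p.primeCompl Bp P']
      apply H
      have h1 : (P'.comap (algebraMap B Bp)).under A = (P'.under Ap).under A := by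
        rw [Ideal.under, Ideal.under, Ideal.under, Ideal.comap_comap, Ideal.comap_comap,
          ← IsScalarTower.algebraMap_eq, ← IsScalarTower.algebraMap_eq]
      rw [h1, IsLocalization.height_under p.primeCompl]
      exact hP'
    exact Algebra.FormallyUnramified.localization_base p.primeCompl
  haveI : Algebra.Etale Ap Bp := (Groth.Agent.H11.DiscFree.etale_iff_isUnit_discr b).mpr hL
  haveI : Algebra.FormallyUnramified A Ap := Algebra.FormallyUnramified.of_isLocalization p.primeCompl
  haveI : Algebra.FormallyUnramified A Bp := Algebra.FormallyUnramified.comp A Ap Bp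
  have hdisj : Disjoint (Algebra.algebraMapSubmonoid B p.primeCompl : Set B) P.asIdeal := by
    rw [Set.disjoint_left]
    rintro _ ⟨a, ha, rfl⟩ hx
    exact ha hx
  let P' := P.asIdeal.map (algebraMap B Bp)
  haveI : P'.IsPrime := IsLocalization.isPrime_of_isPrime_disjoint _ _ _ P.2 hdisj
  have hc : P'.comap (algebraMap B Bp) = P.asIdeal :=
    IsLocalization.comap_map_of_isPrime_disjoint _ _ P.2 hdisj
  have h2 : Algebra.IsUnramifiedAt A P' := inferInstance
  exact isUnramifiedAt_congr hc
    ((isUnramifiedAt_comap_iff (A := A) (B := B) p.primeCompl Bp P').mpr h2)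

end Free

end Groth.Agent.H22.DiscPurity
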