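import Mathlib
import Groth.Agent.H22.DiscPurity

/-! Scheme-level purity via the discriminant: a finite flat morphism to a locally Noetherian scheme
which is unramified at all points lying over points of codimension `≤ 1` is unramified. -/

set_option autoImplicit false
universe u

open AlgebraicGeometry CategoryTheory CategoryTheory.Limits

namespace Groth.Agent.H22.DiscPurity

theorem localRingHom_congr {A B : Type u} [CommRing A] [CommRing B] (φ : A →+* B)
    {I I' : Ideal A} {J J' : Ideal B} [I.IsPrime] [I'.IsPrime] [J.IsPrime] [J'.IsPrime]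
    (hJ : J = J') (h : I = J.comap φ) (h' : I' = J'.comap φ) :
    (Localization.localRingHom I J φ h).FormallyUnramified ↔
      (Localization.localRingHom I' J' φ h').FormallyUnramified := by
  subst hJ
  obtain rfl : I = I' := h.trans h'.symm
  rfl

/-- Ring-hom form of `formallyUnramified_of_isUnramifiedAt`. -/
theorem localRingHom_formallyUnramified {A B : Type u} [CommRing A] [CommRing B]
    [IsNoetherianRing A] (φ : A →+* B) (hfin : φ.Finite) (hflat : φ.Flat)
    (H : ∀ (J : Ideal B) [J.IsPrime], (J.comap φ).height ≤ 1 →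
        (Localization.localRingHom (J.comap φ) J φ rfl).FormallyUnramified)
    (J : Ideal B) [J.IsPrime] :
    (Localization.localRingHom (J.comap φ) J φ rfl).FormallyUnramified := by
  algebraize [φ]
  have FU : Algebra.FormallyUnramified A B := by
    apply formallyUnramified_of_isUnramifiedAt
    intro P _ hP
    let Rₓ := Localization.AtPrime (P.comap φ)
    let Sₓ := Localization.AtPrime P
    let : Algebra Rₓ Sₓ := (Localization.localRingHom _ _ _ rfl).toAlgebra
    have : IsScalarTower A Rₓ Sₓ := .of_algebraMap_eq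
      fun x ↦ (Localization.localRingHom_to_map _ _ _ rfl x).symm
    have : Algebra.FormallyUnramified Rₓ Sₓ := H P hP
    exact Algebra.FormallyUnramified.comp A Rₓ Sₓ
  let Rₓ := Localization.AtPrime (J.comap φ)
  let Sₓ := Localization.AtPrime J
  let : Algebra Rₓ Sₓ := (Localization.localRingHom _ _ _ rfl).toAlgebra
  have : IsScalarTower A Rₓ Sₓ := .of_algebraMap_eq
    fun x ↦ (Localization.localRingHom_to_map _ _ _ rfl x).symm
  have : Algebra.FormallyUnramified A Sₓ := inferInstance
  exact Algebra.FormallyUnramified.of_restrictScalars (R := A) (A := Rₓ) (B := Sₓ)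

theorem fromSpec_mem {X : Scheme.{u}} {U : X.Opens} (hU : IsAffineOpen U)
    (q : PrimeSpectrum Γ(X, U)) : hU.fromSpec q ∈ U := by
  have : hU.fromSpec q ∈ Set.range hU.fromSpec := ⟨q, rfl⟩
  rwa [hU.range_fromSpec] at this

theorem primeIdealOf_fromSpec {X : Scheme.{u}} {U : X.Opens} (hU : IsAffineOpen U)
    (q : PrimeSpectrum Γ(X, U)) :
    hU.primeIdealOf ⟨hU.fromSpec q, fromSpec_mem hU q⟩ = q := by
  apply hU.fromSpec.isOpenEmbedding.injective
  exact hU.fromSpec_primeIdealOf ⟨hU.fromSpec q, fromSpec_mem hU q⟩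

theorem height_primeIdealOf {X : Scheme.{u}} {U : X.Opens} (hU : IsAffineOpen U) (x : X)
    (hx : x ∈ U) :
    (((hU.primeIdealOf ⟨x, hx⟩).asIdeal.height : ℕ∞) : WithBot ℕ∞) =
      ringKrullDim (X.presheaf.stalk x) := by
  letI := X.presheaf.algebra_section_stalk ⟨x, hx⟩
  have := hU.isLocalization_stalk ⟨x, hx⟩
  rw [IsLocalization.AtPrime.ringKrullDim_eq_height (hU.primeIdealOf ⟨x, hx⟩).asIdeal _]

/-- **Purity via the discriminant, scheme version**: a finite flat morphism to a locally Noetherian
scheme whose stalk maps are formally unramified at all points lying over points of codimension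
`≤ 1` is formally unramified. -/
theorem formallyUnramified_of_dim_le_one {X Y : Scheme.{u}} [IsLocallyNoetherian X] (π : Y ⟶ X)
    [IsFinite π] [Flat π]
    (H : ∀ y : Y, ringKrullDim (X.presheaf.stalk (π y)) ≤ 1 →
      (π.stalkMap y).hom.FormallyUnramified) :
    FormallyUnramified π := by
  refine HasRingHomProperty.of_stalkMap (P := @FormallyUnramified)
    RingHom.FormallyUnramified.ofLocalizationPrime ?_
  intro y
  obtain ⟨_, ⟨V, hV, rfl⟩, hxV, -⟩ :=
    X.isBasis_affineOpens.exists_subset_of_mem_open (Set.mem_univ (π y)) isOpen_univ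
  have hW : IsAffineOpen (π ⁻¹ᵁ V) := hV.preimage π
  have hy : y ∈ π ⁻¹ᵁ V := hxV
  haveI : IsNoetherianRing Γ(X, V) := IsLocallyNoetherian.component_noetherian ⟨V, hV⟩
  have hfin : (π.appLE V (π ⁻¹ᵁ V) le_rfl).hom.Finite := by
    rw [Scheme.Hom.appLE_eq_app]
    exact π.finite_app V hV
  have hflat : (π.appLE V (π ⁻¹ᵁ V) le_rfl).hom.Flat :=
    HasRingHomProperty.appLE (P := @Flat) π inferInstance ⟨V, hV⟩ ⟨_, hW⟩ le_rfl
  have key := localRingHom_formallyUnramified (π.appLE V (π ⁻¹ᵁ V) le_rfl).hom hfin hflat ?_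
    (hW.primeIdealOf ⟨y, hy⟩).asIdeal
  · rw [RingHom.FormallyUnramified.respectsIso.arrow_mk_iso_iff
      (IsAffineOpen.arrowStalkMapIso π V hV _ hW le_rfl hy)]
    exact (localRingHom_congr _ rfl rfl
      congr($(IsAffineOpen.comap_primeIdealOf_appLE V hV _ hW le_rfl hy).1).symm).mp key
  · intro J _ hJ
    set q : PrimeSpectrum Γ(Y, π ⁻¹ᵁ V) := ⟨J, inferInstance⟩ with hq
    have hy' : hW.fromSpec q ∈ π ⁻¹ᵁ V := fromSpec_mem hW q
    have hqq : hW.primeIdealOf ⟨hW.fromSpec q, hy'⟩ = q := primeIdealOf_fromSpec hW q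
    have hcomap := IsAffineOpen.comap_primeIdealOf_appLE (f := π) V hV _ hW le_rfl hy'
    have hdim : ringKrullDim (X.presheaf.stalk (π (hW.fromSpec q))) ≤ 1 := by
      rw [← height_primeIdealOf hV _ hy', ← hcomap, hqq]
      exact_mod_cast hJ
    have h1 := H _ hdim
    rw [RingHom.FormallyUnramified.respectsIso.arrow_mk_iso_iff
      (IsAffineOpen.arrowStalkMapIso π V hV _ hW le_rfl hy')] at h1
    exact (localRingHom_congr _ (congrArg PrimeSpectrum.asIdeal hqq)
      congr($(IsAffineOpen.comap_primeIdealOf_appLE V hV _ hW le_rfl hy').1).symm rfl).mp h1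

end Groth.Agent.H22.DiscPurity
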