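import Groth.Agent.H22.CenterCor
import Groth.Agent.H22.DVRSpec

/-!
# Centres of valuation rings of the function field
-/

set_option autoImplicit false
universe u
open CategoryTheory CategoryTheory.Limits AlgebraicGeometry IsLocalRing

namespace Groth.Agent.H22.DomCenter

open Groth.Agent.H22.LocalPt Groth.Agent.H22.CenterLemma Groth.Agent.H22.CenterCor

variable {X : Scheme.{u}} [IsIntegral X]

/-- `R` dominates the local ring of `x` (through `𝒪_{X,x} → K(X)`). -/
def Dominates (R : ValuationSubring X.functionField) (x : X) : Prop :=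
  (∀ a : X.presheaf.stalk x, algebraMap (X.presheaf.stalk x) X.functionField a ∈ R) ∧
    ∀ a ∈ IsLocalRing.maximalIdeal (X.presheaf.stalk x),
      R.valuation (algebraMap (X.presheaf.stalk x) X.functionField a) < 1

/-- The generic point as a morphism. -/
noncomputable abbrev gen (X : Scheme.{u}) [IsIntegral X] : Spec (.of X.functionField) ⟶ X :=
  X.fromSpecStalk (genericPoint X)

lemma gen_eq_pt : gen X = pt (genericPoint X) (𝟙 _) := by
  simp [pt, gen]

lemma gen_closedPoint : gen X (closedPoint X.functionField) = genericPoint X :=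
  Scheme.fromSpecStalk_closedPoint

lemma gen_eq_pt_of_specializes (x : X) (hx : genericPoint X ⤳ x) :
    gen X = pt x (X.presheaf.stalkSpecializes hx) := by
  rw [gen_eq_pt, pt_specializes hx, Category.comp_id]

/-- A lift of the generic point to `Spec R` gives a centre. -/
theorem dominates_of_lift (R : ValuationSubring X.functionField)
    (l : Spec (.of R) ⟶ X) (hl : Spec.map (CommRingCat.ofHom R.subtype) ≫ l = gen X) :
    Dominates R (l (closedPoint R)) := by
  obtain ⟨x, lam, hlamloc, rfl, -⟩ := exists_eq_pt l
  rw [pt_closedPoint]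
  have hx : genericPoint X ⤳ x := (genericPoint_spec X).specializes trivial
  rw [map_pt, gen_eq_pt_of_specializes x hx] at hl
  have h1 := pt_inj hl
  have h2 : ∀ a : X.presheaf.stalk x,
      algebraMap (X.presheaf.stalk x) X.functionField a = ((lam a : R) : X.functionField) := by
    intro a
    have := congrArg (fun ψ => ψ.hom a) h1
    exact this.symm
  refine ⟨fun a => by rw [h2]; exact (lam a).2, fun a ha => ?_⟩
  rw [h2, ← ValuationSubring.valuation_lt_one_iff]
  rw [IsLocalRing.mem_maximalIdeal] at ha ⊢
  intro hu
  exact ha (hlamloc.map_nonunit a hu)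

/-- A centre gives a local homomorphism and a lift of the generic point. -/
theorem exists_localHom_of_dominates (R : ValuationSubring X.functionField) (x : X)
    (h : Dominates R x) :
    ∃ α : X.presheaf.stalk x ⟶ .of R, IsLocalHom α.hom ∧
      (∀ a, ((α a : R) : X.functionField) = algebraMap (X.presheaf.stalk x) X.functionField a) ∧
      Spec.map (CommRingCat.ofHom R.subtype) ≫ pt x α = gen X := by
  have hx : genericPoint X ⤳ x := (genericPoint_spec X).specializes trivial
  let α : X.presheaf.stalk x ⟶ .of R :=
    CommRingCat.ofHom ((algebraMap (X.presheaf.stalk x) X.functionField).codRestrict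
      R.toSubring h.1)
  have hα : α ≫ CommRingCat.ofHom R.subtype = X.presheaf.stalkSpecializes hx := by
    ext a; rfl
  refine ⟨α, ⟨fun a ha => ?_⟩, fun a => rfl, ?_⟩
  · by_contra hna
    have hm : a ∈ IsLocalRing.maximalIdeal (X.presheaf.stalk x) :=
      (IsLocalRing.mem_maximalIdeal a).mpr hna
    have h2 := h.2 a hm
    have h3 : (α a : R) ∈ IsLocalRing.maximalIdeal R := by
      rw [ValuationSubring.valuation_lt_one_iff]
      exact h2
    exact (IsLocalRing.mem_maximalIdeal _).mp h3 ha
  · rw [map_pt, hα, gen_eq_pt_of_specializes x hx]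

/-- If all sections over an affine open containing the generic point lie in `R`,
then `R` has a centre in that open. -/
theorem exists_dominates_of_affine (R : ValuationSubring X.functionField)
    {U : X.Opens} (hU : IsAffineOpen U) (hξ : genericPoint X ∈ U)
    (h : ∀ a : Γ(X, U), X.presheaf.germ U (genericPoint X) hξ a ∈ R) :
    ∃ x : X, x ∈ U ∧ Dominates R x := by
  let φ : Γ(X, U) ⟶ .of R :=
    CommRingCat.ofHom ((X.presheaf.germ U (genericPoint X) hξ).hom.codRestrict R.toSubring h)
  have hφ : φ ≫ CommRingCat.ofHom R.subtype = X.presheaf.germ U (genericPoint X) hξ := by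
    ext a; rfl
  let l : Spec (.of R) ⟶ X := Spec.map φ ≫ hU.fromSpec
  have hl : Spec.map (CommRingCat.ofHom R.subtype) ≫ l = gen X := by
    rw [← Category.assoc, ← Spec.map_comp, hφ]
    exact hU.fromSpecStalk_eq_fromSpecStalk hξ
  refine ⟨l (closedPoint R), ?_, dominates_of_lift R l hl⟩
  have : l (closedPoint R) ∈ Set.range hU.fromSpec := by
    rw [Scheme.Hom.comp_apply]; exact ⟨_, rfl⟩
  rw [hU.range_fromSpec] at this
  exact this

/-- If `R` has a centre `x` in an open `U`, then all sections over `U` lie in `R`. -/
theorem germ_mem_of_dominates (R : ValuationSubring X.functionField) (x : X)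
    (h : Dominates R x) {U : X.Opens} (hx : x ∈ U) (hξ : genericPoint X ∈ U) (a : Γ(X, U)) :
    X.presheaf.germ U (genericPoint X) hξ a ∈ R := by
  have hsp : genericPoint X ⤳ x := (genericPoint_spec X).specializes trivial
  have : X.presheaf.germ U (genericPoint X) hξ a =
      algebraMap (X.presheaf.stalk x) X.functionField (X.presheaf.germ U x hx a) := by
    change _ = X.presheaf.stalkSpecializes hsp (X.presheaf.germ U x hx a)
    rw [TopCat.Presheaf.germ_stalkSpecializes_apply]
  rw [this]
  exact h.1 _

end Groth.Agent.H22.DomCenter
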