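import Mathlib.AlgebraicGeometry.ValuativeCriterion
import Mathlib.AlgebraicGeometry.Morphisms.Proper
import Groth.Agent.H22.ChartMaps

/-!
# Extending morphisms to proper targets across points with valuation-ring stalks (helper22)
-/

set_option autoImplicit false
universe u

namespace Groth.Agent.H22

open AlgebraicGeometry CategoryTheory TopologicalSpace Opposite Scheme

/-- The generic lift when `U` meets the integral chart `W₀`. -/
theorem exists_lift_generic_of_nonempty {X : Scheme.{u}} (U : X.Opens)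
    (x : X) {W₀ : X.Opens} (hW₀ : IsAffineOpen W₀) (hxW₀ : x ∈ W₀)
    (hinj : Function.Injective (X.presheaf.germ W₀ x hxW₀)) (hne : ∃ w, w ∈ W₀ ∧ w ∈ U)
    (K : Type u) [Field K] [Algebra (X.presheaf.stalk x) K]
    (hK : Function.Injective (algebraMap (X.presheaf.stalk x) K)) :
    ∃ ub : Spec (CommRingCat.of K) ⟶ U.toScheme, ub ≫ U.ι =
      Spec.map (CommRingCat.ofHom (algebraMap (X.presheaf.stalk x) K)) ≫ X.fromSpecStalk x := by
  obtain ⟨w, hwW₀, hwU⟩ := hne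
  have hr : Set.range (Spec.map (CommRingCat.ofHom (algebraMap (X.presheaf.stalk x) K)) ≫
      X.fromSpecStalk x) ⊆ Set.range U.ι := by
    rintro _ ⟨pt, rfl⟩
    have h1 := specializes_of_injective_germ hW₀ x hxW₀ hinj K hK pt w hwW₀
    have h2 := h1.mem_open U.2 hwU
    simpa using h2
  exact ⟨IsOpenImmersion.lift U.ι _ hr, IsOpenImmersion.lift_fac _ _ _⟩

/-- **Extension to a proper target across a point whose local ring is a valuation ring.** -/
theorem exists_extension_of_valuationRing_stalk {X Y S : Scheme.{u}} (pX : X ⟶ S) (pY : Y ⟶ S)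
    [IsProper pY] (U : X.Opens) (h : U.toScheme ⟶ Y) (hh : h ≫ pY = U.ι ≫ pX) (x : X)
    [IsDomain (X.presheaf.stalk x)] [ValuationRing (X.presheaf.stalk x)]
    (W₀ : X.Opens) (hW₀ : IsAffineOpen W₀) (hxW₀ : x ∈ W₀)
    (hinj : Function.Injective (X.presheaf.germ W₀ x hxW₀)) (hne : ∃ w, w ∈ W₀ ∧ w ∈ U) :
    ∃ (V : X.Opens) (_ : x ∈ V) (v : V.toScheme ⟶ Y), v ≫ pY = V.ι ≫ pX ∧
      X.homOfLE (inf_le_right : U ⊓ V ≤ V) ≫ v = X.homOfLE (inf_le_left : U ⊓ V ≤ U) ≫ h := by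
  let K := FractionRing (X.presheaf.stalk x)
  have hK : Function.Injective (algebraMap (X.presheaf.stalk x) K) := IsFractionRing.injective _ _
  obtain ⟨ub, hub⟩ := exists_lift_generic_of_nonempty U x hW₀ hxW₀ hinj hne K hK
  have hE : ValuativeCriterion.Existence pY := by
    have := UniversallyClosed.eq_valuativeCriterion
    have h2 : (ValuativeCriterion.Existence ⊓ @QuasiCompact) pY := by
      rw [← this]; infer_instance
    exact h2.1
  have hsq : (ub ≫ h) ≫ pY =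
      Spec.map (CommRingCat.ofHom (algebraMap (X.presheaf.stalk x) K)) ≫
        (X.fromSpecStalk x ≫ pX) := by
    rw [Category.assoc, hh, reassoc_of% hub]
  let Sq : ValuativeCommSq pY :=
    { R := (X.presheaf.stalk x : Type u)
      commRing := inferInstance
      domain := inferInstance
      valuationRing := inferInstance
      K := K
      field := inferInstance
      algebra := inferInstance
      isFractionRing := inferInstance
      i₁ := ub ≫ h
      i₂ := X.fromSpecStalk x ≫ pX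
      commSq := ⟨hsq⟩ }
  obtain ⟨⟨φ, h1, h2⟩⟩ := hE Sq
  let φ' : Spec (X.presheaf.stalk x) ⟶ Y := φ
  obtain ⟨V, hxV, v, hv, hvh, -⟩ := exists_extension_of_specStalk pX pY U h hh x W₀ hW₀ hxW₀ hinj
    φ' h2 K hK ub hub h1
  exact ⟨V, hxV, v, hv, hvh⟩

/-- Two extensions of a morphism from a dense open of a reduced scheme to a separated target
agree on their common domain. -/
theorem homOfLE_comp_eq_of_dense {X Y S : Scheme.{u}} (pX : X ⟶ S) (pY : Y ⟶ S) [IsSeparated pY]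
    [IsReduced X] (V : X.Opens) (hV : Dense (V : Set X)) (g : V.toScheme ⟶ Y)
    (U₁ U₂ : X.Opens) (h₁ : V ≤ U₁) (h₂ : V ≤ U₂) (k₁ : U₁.toScheme ⟶ Y) (k₂ : U₂.toScheme ⟶ Y)
    (hk₁ : k₁ ≫ pY = U₁.ι ≫ pX) (hk₂ : k₂ ≫ pY = U₂.ι ≫ pX)
    (hg₁ : X.homOfLE h₁ ≫ k₁ = g) (hg₂ : X.homOfLE h₂ ≫ k₂ = g) :
    X.homOfLE (inf_le_left : U₁ ⊓ U₂ ≤ U₁) ≫ k₁ = X.homOfLE (inf_le_right : U₁ ⊓ U₂ ≤ U₂) ≫ k₂ := by
  have : IsReduced (U₁ ⊓ U₂ : X.Opens).toScheme := isReduced_of_isOpenImmersion (U₁ ⊓ U₂).ι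
  have : IsDominant (X.homOfLE (le_inf h₁ h₂ : V ≤ U₁ ⊓ U₂)) := by
    constructor
    intro t
    rw [mem_closure_iff]
    intro O hO htO
    -- the image of `O` in `X` is open and nonempty, so meets `V`
    have hO' : IsOpen ((U₁ ⊓ U₂ : X.Opens).ι '' O) :=
      (U₁ ⊓ U₂ : X.Opens).ι.isOpenEmbedding.isOpenMap O hO
    obtain ⟨_, ⟨w, hwO, rfl⟩, hwV⟩ := hV.inter_open_nonempty _ hO' ⟨_, t, htO, rfl⟩
    refine ⟨w, hwO, ⟨⟨_, hwV⟩, ?_⟩⟩
    apply Subtype.ext
    rw [Scheme.homOfLE_apply]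
    rfl
  refine ext_of_isDominant_of_isSeparated pY ?_ (X.homOfLE (le_inf h₁ h₂ : V ≤ U₁ ⊓ U₂)) ?_
  · rw [Category.assoc, Category.assoc, hk₁, hk₂, Scheme.homOfLE_ι_assoc, Scheme.homOfLE_ι_assoc]
  · rw [← Category.assoc, ← Category.assoc, Scheme.homOfLE_homOfLE, Scheme.homOfLE_homOfLE, hg₁,
      hg₂]

end Groth.Agent.H22
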