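import Groth.Agent.H22.LocalPt
import Groth.Agent.H22.ExtendProper

/-!
# Lifting `Spec 𝒪_{Y,y}` along a closed map when `𝒪_{Y,y}` is a valuation ring
-/

set_option autoImplicit false
universe u
open CategoryTheory CategoryTheory.Limits AlgebraicGeometry IsLocalRing

namespace Groth.Agent.H22.ExtendClosed

open Groth.Agent.H22.LocalPt

/-- If `f : X ⟶ Y` is a closed map, `𝒪_{Y,y}` is a valuation ring with fraction field `K` and
`i : Spec K ⟶ X` lifts the generic point of `Spec 𝒪_{Y,y}`, then `i` extends to a lift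
`Spec 𝒪_{Y,y} ⟶ X` of `Spec 𝒪_{Y,y} ⟶ Y`. -/
theorem exists_lift_stalk_of_isClosedMap {X Y : Scheme.{u}} (f : X ⟶ Y)
    (hcl : IsClosedMap f.base) (y : Y) [IsDomain (Y.presheaf.stalk y)]
    [ValuationRing (Y.presheaf.stalk y)] (K : Type u) [Field K] [Algebra (Y.presheaf.stalk y) K]
    [IsFractionRing (Y.presheaf.stalk y) K] (i : Spec (.of K) ⟶ X)
    (hi : i ≫ f = Spec.map (CommRingCat.ofHom (algebraMap (Y.presheaf.stalk y) K)) ≫
      Y.fromSpecStalk y) :
    ∃ φ : Spec (Y.presheaf.stalk y) ⟶ X, φ ≫ f = Y.fromSpecStalk y ∧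
      Spec.map (CommRingCat.ofHom (algebraMap (Y.presheaf.stalk y) K)) ≫ φ = i := by
  classical
  set x₀ : X := i (closedPoint K) with hx₀
  have hfx₀ : f.base x₀ ⤳ y := by
    have h1 := congrArg (fun u : Spec (.of K) ⟶ Y => u (closedPoint K)) hi
    simp only [Scheme.Hom.comp_apply] at h1
    rw [hx₀, h1]
    exact pt_apply_specializes y (CommRingCat.ofHom (algebraMap (Y.presheaf.stalk y) K)) _
  have hy : y ∈ f.base '' closure {x₀} := by
    apply hcl.closure_image_subset
    rw [Set.image_singleton]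
    exact hfx₀.mem_closure
  obtain ⟨z, hz, hfz⟩ := hy
  have hz' : x₀ ⤳ z := specializes_iff_mem_closure.mpr hz
  subst hfz
  let ρ : X.presheaf.stalk z ⟶ .of K :=
    X.presheaf.stalkSpecializes hz' ≫ Scheme.stalkClosedPointTo i
  have hiρ : i = pt z ρ :=
    ((Scheme.Spec_stalkClosedPointTo_fromSpecStalk i).symm).trans
      (pt_specializes hz' (Scheme.stalkClosedPointTo i))
  have halg : f.stalkMap z ≫ ρ =
      CommRingCat.ofHom (algebraMap (Y.presheaf.stalk (f.base z)) K) := by
    apply pt_inj (x := f.base z)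
    calc pt (f.base z) (f.stalkMap z ≫ ρ) = pt z ρ ≫ f := (pt_comp ..).symm
      _ = i ≫ f := by rw [← hiρ]
      _ = _ := hi
  have halg' : ∀ a : Y.presheaf.stalk (f.base z),
      ρ (f.stalkMap z a) = algebraMap (Y.presheaf.stalk (f.base z)) K a := by
    intro a
    have := congrArg (fun ψ => ψ.hom a) halg
    exact this
  have hmem : ∀ a : X.presheaf.stalk z,
      ρ.hom a ∈ (algebraMap (Y.presheaf.stalk (f.base z)) K).range := by
    intro a
    by_contra hna
    rcases ValuationRing.isInteger_or_isInteger (Y.presheaf.stalk (f.base z)) (ρ.hom a) with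
      ⟨r, hr⟩ | ⟨m, hm⟩
    · exact hna ⟨r, hr⟩
    · have hρa0 : ρ.hom a ≠ 0 := by
        intro h0
        exact hna ⟨0, by rw [map_zero, h0]⟩
      have hmnu : ¬ IsUnit m := by
        intro hu
        obtain ⟨m', hm'⟩ := hu.exists_right_inv
        apply hna
        refine ⟨m', ?_⟩
        have h1 := congrArg (algebraMap (Y.presheaf.stalk (f.base z)) K) hm'
        rw [map_mul, map_one, hm] at h1
        have h2 : (ρ.hom a)⁻¹ * ρ.hom a = 1 := inv_mul_cancel₀ hρa0
        exact mul_left_cancel₀ (inv_ne_zero hρa0) (h1.trans h2.symm)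
      have hnu : ¬ IsUnit (f.stalkMap z m) := fun hu => hmnu (isUnit_of_map_unit _ _ hu)
      have hnu2 : a * f.stalkMap z m ∈ nonunits (X.presheaf.stalk z) := by
        intro hu
        exact hnu (isUnit_of_mul_isUnit_right hu)
      have hu3 : IsUnit (1 - a * f.stalkMap z m) :=
        IsLocalRing.isUnit_one_sub_self_of_mem_nonunits _ hnu2
      have h4 : ρ.hom (1 - a * f.stalkMap z m) = 0 := by
        rw [map_sub, map_one, map_mul]
        have : ρ.hom (f.stalkMap z m) = (ρ.hom a)⁻¹ := (halg' m).trans hm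
        rw [this, mul_inv_cancel₀ hρa0, sub_self]
      exact (hu3.map ρ.hom).ne_zero h4
  have hinj : Function.Injective (algebraMap (Y.presheaf.stalk (f.base z)) K).rangeRestrict :=
    fun a b h => IsFractionRing.injective _ K (congrArg Subtype.val h)
  let ε : Y.presheaf.stalk (f.base z) ≃+* (algebraMap (Y.presheaf.stalk (f.base z)) K).range :=
    RingEquiv.ofBijective (algebraMap (Y.presheaf.stalk (f.base z)) K).rangeRestrict
      ⟨hinj, (algebraMap (Y.presheaf.stalk (f.base z)) K).rangeRestrict_surjective⟩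
  let ψ : X.presheaf.stalk z ⟶ Y.presheaf.stalk (f.base z) :=
    CommRingCat.ofHom (ε.symm.toRingHom.comp (ρ.hom.codRestrict _ hmem))
  have hψ : ∀ a : X.presheaf.stalk z,
      algebraMap (Y.presheaf.stalk (f.base z)) K (ψ a) = ρ a := by
    intro a
    have := ε.apply_symm_apply ⟨ρ.hom a, hmem a⟩
    exact congrArg Subtype.val this
  have hψρ : ψ ≫ CommRingCat.ofHom (algebraMap (Y.presheaf.stalk (f.base z)) K) = ρ := by
    ext a; exact hψ a
  refine ⟨pt z ψ, ?_, ?_⟩
  · rw [pt_comp]
    have h1 : f.stalkMap z ≫ ψ = 𝟙 _ := by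
      ext a
      apply IsFractionRing.injective (Y.presheaf.stalk (f.base z)) K
      change algebraMap _ K (ψ (f.stalkMap z a)) = algebraMap _ K a
      rw [hψ, halg']
    rw [h1]
    simp [pt]
  · rw [map_pt]
    exact (congrArg (pt z) hψρ).trans hiρ.symm

end Groth.Agent.H22.ExtendClosed
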