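import Mathlib.AlgebraicGeometry.Gluing
import Mathlib.AlgebraicGeometry.Restrict

/-!
# Gluing morphisms defined on a family of opens (helper22)
-/

set_option autoImplicit false
universe u

namespace Groth.Agent.H22

open AlgebraicGeometry CategoryTheory TopologicalSpace Opposite Scheme

set_option backward.isDefEq.respectTransparency false in
/-- Morphisms `f i : V i ⟶ Y` on a family of opens of `X`, agreeing on pairwise intersections,
glue to a morphism on `⨆ i, V i`. -/
theorem exists_glue_iSup {X Y : Scheme.{u}} {J : Type*} (V : J → X.Opens)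
    (f : ∀ i, (V i).toScheme ⟶ Y)
    (hf : ∀ i j, X.homOfLE (inf_le_left : V i ⊓ V j ≤ V i) ≫ f i =
      X.homOfLE (inf_le_right : V i ⊓ V j ≤ V j) ≫ f j) :
    ∃ g : (⨆ i, V i).toScheme ⟶ Y, ∀ i, X.homOfLE (le_iSup V i) ≫ g = f i := by
  let 𝒰 := Scheme.Opens.iSupOpenCover V
  have hcompat : ∀ i j : 𝒰.I₀, Limits.pullback.fst (𝒰.f i) (𝒰.f j) ≫ f i =
      Limits.pullback.snd (𝒰.f i) (𝒰.f j) ≫ f j := by
    intro i j
    refine (cancel_epi (isPullback_opens_inf_le (le_iSup V i) (le_iSup V j)).isoPullback.hom).mp ?_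
    simp only [𝒰, Scheme.Opens.iSupOpenCover, IsPullback.isoPullback_hom_fst_assoc,
      IsPullback.isoPullback_hom_snd_assoc]
    exact hf i j
  exact ⟨𝒰.glueMorphisms f hcompat, fun i => 𝒰.ι_glueMorphisms f hcompat i⟩

/-- Two morphisms on opens `U`, `W` agreeing on `U ⊓ W` glue to a morphism on `U ⊔ W`. -/
theorem exists_glue_sup {X Y : Scheme.{u}} (U W : X.Opens)
    (f : U.toScheme ⟶ Y) (g : W.toScheme ⟶ Y)
    (hfg : X.homOfLE (inf_le_left : U ⊓ W ≤ U) ≫ f = X.homOfLE (inf_le_right : U ⊓ W ≤ W) ≫ g) :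
    ∃ k : (U ⊔ W : X.Opens).toScheme ⟶ Y, X.homOfLE (le_sup_left : U ≤ U ⊔ W) ≫ k = f ∧
      X.homOfLE (le_sup_right : W ≤ U ⊔ W) ≫ k = g := by
  let V : Bool → X.Opens := fun b => if b then U else W
  let F : ∀ b, (V b).toScheme ⟶ Y := fun b => match b with
    | true => f
    | false => g
  have hsymm : X.homOfLE (inf_le_left : W ⊓ U ≤ W) ≫ g =
      X.homOfLE (inf_le_right : W ⊓ U ≤ U) ≫ f := by
    have e : W ⊓ U ≤ U ⊓ W := by rw [inf_comm]
    have h1 := congrArg (fun t => X.homOfLE e ≫ t) hfg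
    simp only [← Category.assoc, Scheme.homOfLE_homOfLE] at h1
    exact h1.symm
  have hF : ∀ i j, X.homOfLE (inf_le_left : V i ⊓ V j ≤ V i) ≫ F i =
      X.homOfLE (inf_le_right : V i ⊓ V j ≤ V j) ≫ F j := by
    intro i j
    cases i <;> cases j
    · rfl
    · exact hsymm
    · exact hfg
    · rfl
  obtain ⟨k, hk⟩ := exists_glue_iSup V F hF
  have hsup : (⨆ b, V b) = U ⊔ W := by
    rw [iSup_bool_eq]
    rfl
  -- transport along the equality of opens
  refine ⟨(X.isoOfEq hsup).inv ≫ k, ?_, ?_⟩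
  · have h1 : X.homOfLE (le_iSup V true) ≫ k = f := hk true
    rw [← h1, ← Category.assoc]
    congr 1
    rw [← cancel_mono (X.isoOfEq hsup).hom, ← cancel_mono (U ⊔ W : X.Opens).ι]
    simp
    rfl
  · have h1 : X.homOfLE (le_iSup V false) ≫ k = g := hk false
    rw [← h1, ← Category.assoc]
    congr 1
    rw [← cancel_mono (X.isoOfEq hsup).hom, ← cancel_mono (U ⊔ W : X.Opens).ι]
    simp
    rfl

set_option backward.isDefEq.respectTransparency false in
/-- Morphisms agreeing on a jointly surjective family of open immersions are equal. -/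
theorem hom_ext_of_jointly_surjective {T Y : Scheme.{u}} {J : Type*} (Z : J → Scheme.{u})
    (j : ∀ i, Z i ⟶ T) [∀ i, IsOpenImmersion (j i)] (hj : ∀ t : T, ∃ i, t ∈ Set.range (j i))
    (f g : T ⟶ Y) (h : ∀ i, j i ≫ f = j i ≫ g) : f = g := by
  let 𝒰 : T.OpenCover :=
    { I₀ := J
      X := Z
      f := j
      mem₀ := by
        rw [presieve₀_mem_precoverage_iff]
        refine ⟨fun t => ?_, inferInstance⟩
        obtain ⟨i, z, hz⟩ := hj t
        exact ⟨i, z, hz⟩ }
  exact 𝒰.hom_ext _ _ h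

/-- Morphisms out of `⨆ i, V i` agreeing on each `V i` are equal. -/
theorem hom_ext_iSup {X Y : Scheme.{u}} {J : Type*} (V : J → X.Opens)
    (f g : (⨆ i, V i : X.Opens).toScheme ⟶ Y)
    (h : ∀ i, X.homOfLE (le_iSup V i) ≫ f = X.homOfLE (le_iSup V i) ≫ g) : f = g :=
  (Scheme.Opens.iSupOpenCover V).hom_ext _ _ h

/-- Morphisms out of `U ⊔ W` agreeing on `U` and on `W` are equal. -/
theorem hom_ext_sup {X Y : Scheme.{u}} (U W : X.Opens) (f g : (U ⊔ W : X.Opens).toScheme ⟶ Y)
    (h1 : X.homOfLE (le_sup_left : U ≤ U ⊔ W) ≫ f = X.homOfLE le_sup_left ≫ g)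
    (h2 : X.homOfLE (le_sup_right : W ≤ U ⊔ W) ≫ f = X.homOfLE le_sup_right ≫ g) : f = g := by
  let Z : Bool → Scheme.{u} := fun b => match b with | true => U.toScheme | false => W.toScheme
  let j : ∀ b, Z b ⟶ (U ⊔ W : X.Opens).toScheme := fun b => match b with
    | true => X.homOfLE (le_sup_left : U ≤ U ⊔ W)
    | false => X.homOfLE (le_sup_right : W ≤ U ⊔ W)
  have hj : ∀ b, IsOpenImmersion (j b) := by
    intro b
    cases b <;> (dsimp only [j]; infer_instance)
  refine hom_ext_of_jointly_surjective Z j ?_ f g ?_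
  · intro t
    rcases t.2 with ht | ht
    · exact ⟨true, ⟨t.1, ht⟩, Scheme.homOfLE_apply' _ _ _⟩
    · exact ⟨false, ⟨t.1, ht⟩, Scheme.homOfLE_apply' _ _ _⟩
  · intro b
    cases b
    · exact h2
    · exact h1

end Groth.Agent.H22
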