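import Mathlib.AlgebraicGeometry.SpreadingOut
import Mathlib.AlgebraicGeometry.Morphisms.Separated
import Groth.Agent.H22.GlueOpens

/-!
# Extending a morphism defined on an open across a point (helper22)

Given `h : U ⟶ Y` over `S` with `Y` separated and locally of finite type over `S`, a point `x`
with an integral affine neighbourhood, and a morphism `φ : Spec 𝒪_{X,x} ⟶ Y` over `S` agreeing
with `h` at the generic point, `h` and `φ` come from a common morphism on a neighbourhood of `x`.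
-/

set_option autoImplicit false
universe u

namespace Groth.Agent.H22

open AlgebraicGeometry CategoryTheory TopologicalSpace Opposite Scheme

/-- If the germ map `Γ(X, W₀) → 𝒪_{X,x}` is injective, `𝒪_{X,x}` is a domain and `K` is a field
into which `𝒪_{X,x}` injects, then the image of `Spec K → Spec 𝒪_{X,x} → X` specializes to every
point of `W₀`. -/
theorem specializes_of_injective_germ {X : Scheme.{u}} {W₀ : X.Opens} (hW₀ : IsAffineOpen W₀)
    (x : X) (hx : x ∈ W₀) (hinj : Function.Injective (X.presheaf.germ W₀ x hx))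
    (K : Type u) [Field K] [Algebra (X.presheaf.stalk x) K]
    (hK : Function.Injective (algebraMap (X.presheaf.stalk x) K))
    (pt : Spec (CommRingCat.of K)) (w : X) (hw : w ∈ W₀) :
    (Spec.map (CommRingCat.ofHom (algebraMap (X.presheaf.stalk x) K)) ≫ X.fromSpecStalk x) pt ⤳
      w := by
  rw [← hW₀.fromSpecStalk_eq_fromSpecStalk hx, IsAffineOpen.fromSpecStalk, ← Category.assoc,
    Scheme.Hom.comp_apply]
  have hw' : hW₀.fromSpec (hW₀.primeIdealOf ⟨w, hw⟩) = w := hW₀.fromSpec_primeIdealOf ⟨w, hw⟩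
  rw [← hw']
  refine Specializes.map ?_ hW₀.fromSpec.continuous
  refine (PrimeSpectrum.le_iff_specializes (R := Γ(X, W₀)) _ _).mp ?_
  intro a ha
  change a ∈ ((Spec.map (CommRingCat.ofHom (algebraMap (X.presheaf.stalk x) K)) ≫
    Spec.map (X.presheaf.germ W₀ x hx)) pt).asIdeal at ha
  rw [← Spec.map_comp] at ha
  change (algebraMap (X.presheaf.stalk x) K) ((X.presheaf.germ W₀ x hx) a) ∈ pt.asIdeal at ha
  have h0 : pt.asIdeal = ⊥ := by
    have := pt.isPrime
    exact (Ideal.eq_bot_or_top pt.asIdeal).resolve_right this.ne_top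
  rw [h0, Ideal.mem_bot] at ha
  have : a = 0 := hinj (by rw [map_zero]; exact hK (by rw [map_zero]; exact ha))
  rw [this]
  exact Ideal.zero_mem _

/-- An open subscheme contained in an affine open with domain-valued injective germ map is
reduced. -/
theorem isReduced_of_le_of_injective_germ {X : Scheme.{u}} {W₀ : X.Opens} (hW₀ : IsAffineOpen W₀)
    (x : X) (hx : x ∈ W₀) [IsDomain (X.presheaf.stalk x)]
    (hinj : Function.Injective (X.presheaf.germ W₀ x hx)) (T : X.Opens) (hT : T ≤ W₀) :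
    IsReduced T.toScheme := by
  have : IsAffine W₀.toScheme := hW₀
  have hdom : IsDomain Γ(X, W₀) := Function.Injective.isDomain (X.presheaf.germ W₀ x hx).hom hinj
  have : IsReduced Γ(W₀.toScheme, ⊤) := by
    have e : Γ(W₀.toScheme, ⊤) ≅ Γ(X, W₀) := W₀.topIso
    have : IsDomain Γ(W₀.toScheme, ⊤) :=
      Function.Injective.isDomain e.hom.hom (ConcreteCategory.injective_of_mono_of_preservesPullback e.hom)
    infer_instance
  have : IsReduced W₀.toScheme := isReduced_of_isAffine_isReduced _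
  exact isReduced_of_isOpenImmersion (X.homOfLE hT)

set_option maxHeartbeats 400000 in
/-- **Extension across a point.** -/
theorem exists_extension_of_specStalk {X Y S : Scheme.{u}} (pX : X ⟶ S) (pY : Y ⟶ S)
    [IsSeparated pY] [LocallyOfFiniteType pY] (U : X.Opens) (h : U.toScheme ⟶ Y)
    (hh : h ≫ pY = U.ι ≫ pX) (x : X) [IsDomain (X.presheaf.stalk x)]
    (W₀ : X.Opens) (hW₀ : IsAffineOpen W₀) (hxW₀ : x ∈ W₀)
    (hinj : Function.Injective (X.presheaf.germ W₀ x hxW₀))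
    (φ : Spec (X.presheaf.stalk x) ⟶ Y) (hφ : φ ≫ pY = X.fromSpecStalk x ≫ pX)
    (K : Type u) [Field K] [Algebra (X.presheaf.stalk x) K]
    (hK : Function.Injective (algebraMap (X.presheaf.stalk x) K))
    (ub : Spec (CommRingCat.of K) ⟶ U.toScheme)
    (hub : ub ≫ U.ι =
      Spec.map (CommRingCat.ofHom (algebraMap (X.presheaf.stalk x) K)) ≫ X.fromSpecStalk x)
    (hag : Spec.map (CommRingCat.ofHom (algebraMap (X.presheaf.stalk x) K)) ≫ φ = ub ≫ h) :
    ∃ (V : X.Opens) (hxV : x ∈ V) (v : V.toScheme ⟶ Y), v ≫ pY = V.ι ≫ pX ∧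
      X.homOfLE (inf_le_right : U ⊓ V ≤ V) ≫ v = X.homOfLE (inf_le_left : U ⊓ V ≤ U) ≫ h ∧
      V.fromSpecStalkOfMem x hxV ≫ v = φ := by
  have : X.IsGermInjectiveAt x := ⟨W₀, hxW₀, hW₀, hinj⟩
  obtain ⟨W₁, hxW₁, h'', hφ'', hover⟩ := spread_out_of_isGermInjective' pX pY φ hφ
  obtain ⟨V, hVdef⟩ : ∃ V : X.Opens, V = W₁ ⊓ W₀ := ⟨_, rfl⟩
  have hVW₁ : V ≤ W₁ := hVdef ▸ inf_le_left
  have hVW₀ : V ≤ W₀ := hVdef ▸ inf_le_right
  have hxV : x ∈ V := hVdef ▸ ⟨hxW₁, hxW₀⟩
  obtain ⟨v, hvdef⟩ : ∃ v : V.toScheme ⟶ Y, v = X.homOfLE hVW₁ ≫ h'' :=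
    ⟨_, rfl⟩
  have hv : v ≫ pY = V.ι ≫ pX := by
    simp only [hvdef, Category.assoc, hover, Scheme.homOfLE_ι_assoc]
  have hvφ : V.fromSpecStalkOfMem x hxV ≫ v = φ := by
    rw [hφ'', hvdef, ← Category.assoc]
    congr 1
    rw [← cancel_mono W₁.ι]
    simp [Scheme.Opens.fromSpecStalkOfMem_ι]
  refine ⟨V, hxV, v, hv, ?_, hvφ⟩
  -- agreement on `T = U ⊓ V`
  let T : X.Opens := U ⊓ V
  have hTW₀ : T ≤ W₀ := inf_le_right.trans hVW₀
  have : IsReduced T.toScheme := isReduced_of_le_of_injective_germ hW₀ x hxW₀ hinj T hTW₀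
  let i : Spec (CommRingCat.of K) ⟶ X :=
    Spec.map (CommRingCat.ofHom (algebraMap (X.presheaf.stalk x) K)) ≫ X.fromSpecStalk x
  have hrange : Set.range i ⊆ (T : Set X) := by
    rintro _ ⟨pt, rfl⟩
    refine ⟨?_, ?_⟩
    · have : i pt = (ub ≫ U.ι) pt := by rw [hub]
      rw [this, Scheme.Hom.comp_apply]
      exact (ub pt).2
    · have h1 : i pt ⤳ x := by
        have : i pt ∈ Set.range (X.fromSpecStalk x) := ⟨_, (Scheme.Hom.comp_apply _ _ _).symm⟩
        rwa [Scheme.range_fromSpecStalk] at this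
      exact h1.mem_open V.2 hxV
  let j : Spec (CommRingCat.of K) ⟶ T.toScheme := IsOpenImmersion.lift T.ι i (by simpa using hrange)
  have hj : j ≫ T.ι = i := IsOpenImmersion.lift_fac _ _ _
  have : IsDominant j := by
    constructor
    intro t
    have pt : Spec (CommRingCat.of K) := IsLocalRing.closedPoint K
    have h1 : i pt ⤳ t.1 :=
      specializes_of_injective_germ hW₀ x hxW₀ hinj K hK pt t.1 (hTW₀ t.2)
    have h2 : j pt ⤳ t := by
      refine (T.ι.isOpenEmbedding.isInducing.specializes_iff).mp ?_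
      rw [← Scheme.Hom.comp_apply, hj]
      exact h1
    exact h2.mem_closed isClosed_closure (subset_closure ⟨pt, rfl⟩)
  have hjU : j ≫ X.homOfLE (inf_le_left : U ⊓ V ≤ U) = ub := by
    rw [← cancel_mono U.ι, Category.assoc, Scheme.homOfLE_ι, hj, hub]
  have hjV : j ≫ X.homOfLE (inf_le_right : U ⊓ V ≤ V) =
      Spec.map (CommRingCat.ofHom (algebraMap (X.presheaf.stalk x) K)) ≫
        V.fromSpecStalkOfMem x hxV := by
    rw [← cancel_mono V.ι, Category.assoc, Scheme.homOfLE_ι, hj, Category.assoc,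
      Scheme.Opens.fromSpecStalkOfMem_ι]
  refine ext_of_isDominant_of_isSeparated pY ?_ j ?_
  · rw [Category.assoc, Category.assoc, hv, hh, Scheme.homOfLE_ι_assoc, Scheme.homOfLE_ι_assoc]
  · rw [← Category.assoc, ← Category.assoc, hjU, hjV, Category.assoc, hvφ, hag]

set_option maxHeartbeats 800000 in
/-- **Extension across a point, non-separated target.** Variant of
`exists_extension_of_specStalk` where only an open `VY ⊆ Y` containing the image of `φ` is
separated over `S`; the extension agrees with `h` on `U ⊓ V''` as soon as `h` maps it into `VY`. -/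
theorem exists_extension_of_specStalk' {X Y S : Scheme.{u}} (pX : X ⟶ S) (pY : Y ⟶ S)
    [LocallyOfFiniteType pY] (VY : Y.Opens) [IsSeparated (VY.ι ≫ pY)]
    (U : X.Opens) (h : U.toScheme ⟶ Y)
    (hh : h ≫ pY = U.ι ≫ pX) (x : X) [IsDomain (X.presheaf.stalk x)]
    (W₀ : X.Opens) (hW₀ : IsAffineOpen W₀) (hxW₀ : x ∈ W₀)
    (hinj : Function.Injective (X.presheaf.germ W₀ x hxW₀))
    (φ : Spec (X.presheaf.stalk x) ⟶ Y) (hφ : φ ≫ pY = X.fromSpecStalk x ≫ pX)
    (hφV : φ (IsLocalRing.closedPoint (X.presheaf.stalk x)) ∈ VY)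
    (K : Type u) [Field K] [Algebra (X.presheaf.stalk x) K]
    (hK : Function.Injective (algebraMap (X.presheaf.stalk x) K))
    (ub : Spec (CommRingCat.of K) ⟶ U.toScheme)
    (hub : ub ≫ U.ι =
      Spec.map (CommRingCat.ofHom (algebraMap (X.presheaf.stalk x) K)) ≫ X.fromSpecStalk x)
    (hag : Spec.map (CommRingCat.ofHom (algebraMap (X.presheaf.stalk x) K)) ≫ φ = ub ≫ h) :
    ∃ (V : X.Opens) (hxV : x ∈ V) (v : V.toScheme ⟶ Y), v ≫ pY = V.ι ≫ pX ∧
      V.fromSpecStalkOfMem x hxV ≫ v = φ ∧ (∀ z, v z ∈ VY) ∧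
      ∀ (V'' : X.Opens) (hV'' : V'' ≤ V), x ∈ V'' →
        (∀ z : (U ⊓ V'' : X.Opens), h (X.homOfLE (inf_le_left : U ⊓ V'' ≤ U) z) ∈ VY) →
        X.homOfLE ((inf_le_right : U ⊓ V'' ≤ V'').trans hV'') ≫ v =
          X.homOfLE (inf_le_left : U ⊓ V'' ≤ U) ≫ h := by
  have : X.IsGermInjectiveAt x := ⟨W₀, hxW₀, hW₀, hinj⟩
  obtain ⟨W₁, hxW₁, h'', hφ'', hover⟩ := spread_out_of_isGermInjective' pX pY φ hφ
  obtain ⟨V, hVdef⟩ : ∃ V : X.Opens, V = (W₁.ι ''ᵁ (h'' ⁻¹ᵁ VY)) ⊓ W₀ := ⟨_, rfl⟩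
  have hVW₁ : V ≤ W₁ := by
    rw [hVdef]
    rintro z ⟨⟨w, -, rfl⟩, -⟩
    exact w.2
  have hVW₀ : V ≤ W₀ := hVdef ▸ inf_le_right
  have hcl : W₁.fromSpecStalkOfMem x hxW₁ (IsLocalRing.closedPoint (X.presheaf.stalk x)) =
      ⟨x, hxW₁⟩ := by
    apply Subtype.ext
    change W₁.ι _ = x
    rw [← Scheme.Hom.comp_apply, Scheme.Opens.fromSpecStalkOfMem_ι, X.fromSpecStalk_closedPoint]
  have hxV : x ∈ V := by
    rw [hVdef]
    refine ⟨⟨⟨x, hxW₁⟩, ?_, rfl⟩, hxW₀⟩
    change h'' ⟨x, hxW₁⟩ ∈ VY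
    rw [← hcl, ← Scheme.Hom.comp_apply, ← hφ'']
    exact hφV
  obtain ⟨v, hvdef⟩ : ∃ v : V.toScheme ⟶ Y, v = X.homOfLE hVW₁ ≫ h'' := ⟨_, rfl⟩
  have hv : v ≫ pY = V.ι ≫ pX := by
    simp only [hvdef, Category.assoc, hover, Scheme.homOfLE_ι_assoc]
  have hvφ : V.fromSpecStalkOfMem x hxV ≫ v = φ := by
    rw [hφ'', hvdef, ← Category.assoc]
    congr 1
    rw [← cancel_mono W₁.ι]
    simp [Scheme.Opens.fromSpecStalkOfMem_ι]
  have hvV : ∀ z, v z ∈ VY := by
    intro z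
    have hz : z.1 ∈ (W₁.ι ''ᵁ (h'' ⁻¹ᵁ VY)) ⊓ W₀ := hVdef ▸ z.2
    obtain ⟨⟨w, hw, hwz⟩, -⟩ := hz
    have : X.homOfLE hVW₁ z = w := by
      apply Subtype.ext
      rw [Scheme.homOfLE_apply]
      exact hwz.symm
    rw [hvdef, Scheme.Hom.comp_apply, this]
    exact hw
  refine ⟨V, hxV, v, hv, hvφ, hvV, ?_⟩
  intro V'' hV'' hxV'' hmap
  obtain ⟨T, hTdef⟩ : ∃ T : X.Opens, T = U ⊓ V'' := ⟨_, rfl⟩
  subst hTdef
  have hTW₀ : U ⊓ V'' ≤ W₀ := inf_le_right.trans (hV''.trans hVW₀)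
  have : IsReduced (U ⊓ V'' : X.Opens).toScheme :=
    isReduced_of_le_of_injective_germ hW₀ x hxW₀ hinj _ hTW₀
  let i : Spec (CommRingCat.of K) ⟶ X :=
    Spec.map (CommRingCat.ofHom (algebraMap (X.presheaf.stalk x) K)) ≫ X.fromSpecStalk x
  have hrange : Set.range i ⊆ ((U ⊓ V'' : X.Opens) : Set X) := by
    rintro _ ⟨pt, rfl⟩
    refine ⟨?_, ?_⟩
    · have : i pt = (ub ≫ U.ι) pt := by rw [hub]
      rw [this, Scheme.Hom.comp_apply]
      exact (ub pt).2
    · have h1 : i pt ⤳ x := by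
        have : i pt ∈ Set.range (X.fromSpecStalk x) := ⟨_, (Scheme.Hom.comp_apply _ _ _).symm⟩
        rwa [Scheme.range_fromSpecStalk] at this
      exact h1.mem_open V''.2 hxV''
  let j : Spec (CommRingCat.of K) ⟶ (U ⊓ V'' : X.Opens).toScheme :=
    IsOpenImmersion.lift (U ⊓ V'' : X.Opens).ι i (by simpa using hrange)
  have hj : j ≫ (U ⊓ V'' : X.Opens).ι = i := IsOpenImmersion.lift_fac _ _ _
  have : IsDominant j := by
    constructor
    intro t
    have pt : Spec (CommRingCat.of K) := IsLocalRing.closedPoint K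
    have h1 : i pt ⤳ t.1 :=
      specializes_of_injective_germ hW₀ x hxW₀ hinj K hK pt t.1 (hTW₀ t.2)
    have h2 : j pt ⤳ t := by
      refine ((U ⊓ V'' : X.Opens).ι.isOpenEmbedding.isInducing.specializes_iff).mp ?_
      rw [← Scheme.Hom.comp_apply, hj]
      exact h1
    exact h2.mem_closed isClosed_closure (subset_closure ⟨pt, rfl⟩)
  have hjU : j ≫ X.homOfLE (inf_le_left : U ⊓ V'' ≤ U) = ub := by
    rw [← cancel_mono U.ι, Category.assoc, Scheme.homOfLE_ι, hj, hub]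
  have hjV : j ≫ X.homOfLE ((inf_le_right : U ⊓ V'' ≤ V'').trans hV'') =
      Spec.map (CommRingCat.ofHom (algebraMap (X.presheaf.stalk x) K)) ≫
        V.fromSpecStalkOfMem x hxV := by
    rw [← cancel_mono V.ι, Category.assoc, Scheme.homOfLE_ι, hj, Category.assoc,
      Scheme.Opens.fromSpecStalkOfMem_ι]
  -- lift both maps through `VY`
  have hr1 : Set.range (X.homOfLE ((inf_le_right : U ⊓ V'' ≤ V'').trans hV'') ≫ v) ⊆
      Set.range VY.ι := by
    rintro _ ⟨z, rfl⟩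
    rw [Scheme.Opens.range_ι, Scheme.Hom.comp_apply]
    exact hvV _
  have hr2 : Set.range (X.homOfLE (inf_le_left : U ⊓ V'' ≤ U) ≫ h) ⊆ Set.range VY.ι := by
    rintro _ ⟨z, rfl⟩
    rw [Scheme.Opens.range_ι, Scheme.Hom.comp_apply]
    exact hmap z
  let f' := IsOpenImmersion.lift VY.ι _ hr1
  let g' := IsOpenImmersion.lift VY.ι _ hr2
  have hf' : f' ≫ VY.ι = X.homOfLE ((inf_le_right : U ⊓ V'' ≤ V'').trans hV'') ≫ v :=
    IsOpenImmersion.lift_fac _ _ _
  have hg' : g' ≫ VY.ι = X.homOfLE (inf_le_left : U ⊓ V'' ≤ U) ≫ h :=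
    IsOpenImmersion.lift_fac _ _ _
  have key : f' = g' := by
    refine ext_of_isDominant_of_isSeparated (VY.ι ≫ pY) ?_ j ?_
    · rw [← Category.assoc, ← Category.assoc, hf', hg', Category.assoc, Category.assoc, hv, hh,
        Scheme.homOfLE_ι_assoc, Scheme.homOfLE_ι_assoc]
    · rw [← cancel_mono VY.ι, Category.assoc, Category.assoc, hf', hg', ← Category.assoc,
        ← Category.assoc, hjU, hjV, Category.assoc, hvφ, hag]
  rw [← hf', ← hg', key]

/-- A ring map into a field with image inside an injective subring factors through it. -/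
theorem exists_ringHom_of_forall_mem_range {A K C : Type*} [CommRing A] [Field K] [CommRing C]
    [Algebra A K] (hK : Function.Injective (algebraMap A K)) (c : C →+* K)
    (hc : ∀ t, c t ∈ (algebraMap A K).range) :
    ∃ ρ : C →+* A, (algebraMap A K).comp ρ = c := by
  choose f hf using hc
  refine ⟨⟨⟨⟨f, ?_⟩, ?_⟩, ?_, ?_⟩, ?_⟩
  · apply hK; rw [hf, map_one, map_one]
  · intro a b; apply hK; rw [hf, map_mul, map_mul, hf, hf]
  · apply hK; simp only [hf]; rw [map_zero, map_zero]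
  · intro a b; apply hK
    simp only [hf]
    rw [map_add, map_add, hf, hf]
  · ext t; exact hf t

set_option maxHeartbeats 400000 in
/-- **Extension across a point, chart form.** A section `h` of a separated morphism `q : Y ⟶ X`
locally of finite type over an open `U`, an affine chart `V` of `Y` over an integral affine chart
`W₀ ∋ x` of `X`, and a ring map `ρ : Γ(Y, V) ⟶ 𝒪_{X,x}` compatible with `h` at the generic point
give an extension of `h` to a neighbourhood of `x`. -/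
theorem exists_extension_of_chart {X Y : Scheme.{u}} (q : Y ⟶ X) [IsSeparated q]
    [LocallyOfFiniteType q] (U : X.Opens) (h : U.toScheme ⟶ Y) (hh : h ≫ q = U.ι) (x : X)
    [IsDomain (X.presheaf.stalk x)]
    (W₀ : X.Opens) (hW₀ : IsAffineOpen W₀) (hxW₀ : x ∈ W₀)
    (hinj : Function.Injective (X.presheaf.germ W₀ x hxW₀))
    (K : Type u) [Field K] [Algebra (X.presheaf.stalk x) K]
    (hK : Function.Injective (algebraMap (X.presheaf.stalk x) K))
    (ub : Spec (CommRingCat.of K) ⟶ U.toScheme)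
    (hub : ub ≫ U.ι =
      Spec.map (CommRingCat.ofHom (algebraMap (X.presheaf.stalk x) K)) ≫ X.fromSpecStalk x)
    (V : Y.Opens) (hV : IsAffineOpen V) (hVW : V ≤ q ⁻¹ᵁ W₀)
    (ρ : Γ(Y, V) ⟶ X.presheaf.stalk x)
    (hc : Spec.map (ρ ≫ CommRingCat.ofHom (algebraMap (X.presheaf.stalk x) K)) ≫ hV.fromSpec =
      ub ≫ h) :
    ∃ (V' : X.Opens) (hxV' : x ∈ V') (v : V'.toScheme ⟶ Y), v ≫ q = V'.ι ∧
      X.homOfLE (inf_le_right : U ⊓ V' ≤ V') ≫ v = X.homOfLE (inf_le_left : U ⊓ V' ≤ U) ≫ h ∧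
      V'.fromSpecStalkOfMem x hxV' ≫ v = Spec.map ρ ≫ hV.fromSpec := by
  have hmono : Mono (CommRingCat.ofHom (algebraMap (X.presheaf.stalk x) K)) :=
    ConcreteCategory.mono_of_injective _ hK
  -- compatibility of `ρ` with the structure maps
  have hρ : q.appLE W₀ V hVW ≫ ρ = X.presheaf.germ W₀ x hxW₀ := by
    rw [← cancel_mono (CommRingCat.ofHom (algebraMap (X.presheaf.stalk x) K))]
    apply Spec.map_injective
    have hc' := congrArg (· ≫ q) hc
    simp only [Category.assoc] at hc'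
    rw [← cancel_mono hW₀.fromSpec, Category.assoc, Spec.map_comp, Category.assoc,
      IsAffineOpen.SpecMap_appLE_fromSpec q hW₀ hV hVW]
    refine hc'.trans ?_
    rw [hh, hub, Spec.map_comp, Category.assoc]
    congr 1
    rw [← hW₀.fromSpecStalk_eq_fromSpecStalk hxW₀, IsAffineOpen.fromSpecStalk]
  have hφ : (Spec.map ρ ≫ hV.fromSpec) ≫ q = X.fromSpecStalk x ≫ 𝟙 X := by
    rw [Category.comp_id, Category.assoc, ← IsAffineOpen.SpecMap_appLE_fromSpec q hW₀ hV hVW,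
      ← Spec.map_comp_assoc, hρ, ← hW₀.fromSpecStalk_eq_fromSpecStalk hxW₀,
      IsAffineOpen.fromSpecStalk]
  obtain ⟨V', hxV', v, hv, hvh, hvφ⟩ := exists_extension_of_specStalk (𝟙 X) q U h
    (by rw [hh, Category.comp_id]) x W₀ hW₀ hxW₀ hinj (Spec.map ρ ≫ hV.fromSpec) hφ K hK ub hub
    (by rw [← hc, Spec.map_comp, Category.assoc]; rfl)
  exact ⟨V', hxV', v, by rw [hv, Category.comp_id], hvh, hvφ⟩

set_option maxHeartbeats 400000 in
/-- **Extension across a point, chart form, non-separated target.** -/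
theorem exists_extension_of_chart' {X Y : Scheme.{u}} (q : Y ⟶ X)
    [LocallyOfFiniteType q] (U : X.Opens) (h : U.toScheme ⟶ Y) (hh : h ≫ q = U.ι) (x : X)
    [IsDomain (X.presheaf.stalk x)]
    (W₀ : X.Opens) (hW₀ : IsAffineOpen W₀) (hxW₀ : x ∈ W₀)
    (hinj : Function.Injective (X.presheaf.germ W₀ x hxW₀))
    (K : Type u) [Field K] [Algebra (X.presheaf.stalk x) K]
    (hK : Function.Injective (algebraMap (X.presheaf.stalk x) K))
    (ub : Spec (CommRingCat.of K) ⟶ U.toScheme)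
    (hub : ub ≫ U.ι =
      Spec.map (CommRingCat.ofHom (algebraMap (X.presheaf.stalk x) K)) ≫ X.fromSpecStalk x)
    (V : Y.Opens) (hV : IsAffineOpen V) (hVW : V ≤ q ⁻¹ᵁ W₀)
    (ρ : Γ(Y, V) ⟶ X.presheaf.stalk x)
    (hc : Spec.map (ρ ≫ CommRingCat.ofHom (algebraMap (X.presheaf.stalk x) K)) ≫ hV.fromSpec =
      ub ≫ h) :
    ∃ (V' : X.Opens) (hxV' : x ∈ V') (v : V'.toScheme ⟶ Y), v ≫ q = V'.ι ∧
      V'.fromSpecStalkOfMem x hxV' ≫ v = Spec.map ρ ≫ hV.fromSpec ∧ (∀ z, v z ∈ V) ∧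
      ∀ (V'' : X.Opens) (hV'' : V'' ≤ V'), x ∈ V'' →
        (∀ z : (U ⊓ V'' : X.Opens), h (X.homOfLE (inf_le_left : U ⊓ V'' ≤ U) z) ∈ V) →
        X.homOfLE ((inf_le_right : U ⊓ V'' ≤ V'').trans hV'') ≫ v =
          X.homOfLE (inf_le_left : U ⊓ V'' ≤ U) ≫ h := by
  have hmono : Mono (CommRingCat.ofHom (algebraMap (X.presheaf.stalk x) K)) :=
    ConcreteCategory.mono_of_injective _ hK
  have hρ : q.appLE W₀ V hVW ≫ ρ = X.presheaf.germ W₀ x hxW₀ := by
    rw [← cancel_mono (CommRingCat.ofHom (algebraMap (X.presheaf.stalk x) K))]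
    apply Spec.map_injective
    have hc' := congrArg (· ≫ q) hc
    simp only [Category.assoc] at hc'
    rw [← cancel_mono hW₀.fromSpec, Category.assoc, Spec.map_comp, Category.assoc,
      IsAffineOpen.SpecMap_appLE_fromSpec q hW₀ hV hVW]
    refine hc'.trans ?_
    rw [hh, hub, Spec.map_comp, Category.assoc]
    congr 1
    rw [← hW₀.fromSpecStalk_eq_fromSpecStalk hxW₀, IsAffineOpen.fromSpecStalk]
  have hφ : (Spec.map ρ ≫ hV.fromSpec) ≫ q = X.fromSpecStalk x ≫ 𝟙 X := by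
    rw [Category.comp_id, Category.assoc, ← IsAffineOpen.SpecMap_appLE_fromSpec q hW₀ hV hVW,
      ← Spec.map_comp_assoc, hρ, ← hW₀.fromSpecStalk_eq_fromSpecStalk hxW₀,
      IsAffineOpen.fromSpecStalk]
  have : IsAffine V.toScheme := hV
  have hsep : IsSeparated (V.ι ≫ q) := inferInstance
  have hφV : (Spec.map ρ ≫ hV.fromSpec) (IsLocalRing.closedPoint (X.presheaf.stalk x)) ∈ V := by
    have : (Spec.map ρ ≫ hV.fromSpec) (IsLocalRing.closedPoint (X.presheaf.stalk x)) ∈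
        Set.range hV.fromSpec := ⟨_, (Scheme.Hom.comp_apply _ _ _).symm⟩
    rwa [hV.range_fromSpec] at this
  obtain ⟨V', hxV', v, hv, hvφ, hvV, hvh⟩ := exists_extension_of_specStalk' (𝟙 X) q V U h
    (by rw [hh, Category.comp_id]) x W₀ hW₀ hxW₀ hinj (Spec.map ρ ≫ hV.fromSpec) hφ hφV K hK ub hub
    (by rw [← hc, Spec.map_comp, Category.assoc]; rfl)
  exact ⟨V', hxV', v, by rw [hv, Category.comp_id], hvφ, hvV, hvh⟩

end Groth.Agent.H22
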