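import Groth.Agent.H22.ExtendProper
import Groth.Agent.H22.GlueOpens

/-!
# Extending a morphism to a proper target across a set of points with valuation-ring stalks
(helper22)
-/

set_option autoImplicit false
universe u

namespace Groth.Agent.H22.ExtendValPoints

open AlgebraicGeometry CategoryTheory TopologicalSpace Opposite Scheme

/-- Let `X` be proper over `S`, `Y` a reduced `S`-scheme, `V` a dense open of `Y` and
`g : V ⟶ X` an `S`-morphism. If `P` is a set of points of `Y` at which `Y` is germ-injective and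
whose local rings are valuation rings, then `g` extends to an open containing `V` and `P`. -/
theorem exists_extension_of_valuationRing_points {S X Y : Scheme.{u}}
    (p : X ⟶ S) [IsProper p] (q : Y ⟶ S) [IsReduced Y] (P : Set Y)
    (hgi : ∀ y ∈ P, Y.IsGermInjectiveAt y)
    (hP : ∀ y ∈ P, ∃ _ : IsDomain (Y.presheaf.stalk y), ValuationRing (Y.presheaf.stalk y))
    (V : Y.Opens) (hV : Dense (V : Set Y)) (g : (V : Scheme.{u}) ⟶ X) (hg : g ≫ p = V.ι ≫ q) :
    ∃ (U : Y.Opens) (hVU : V ≤ U) (g' : (U : Scheme.{u}) ⟶ X), g' ≫ p = U.ι ≫ q ∧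
      Y.homOfLE hVU ≫ g' = g ∧ P ⊆ (U : Set Y) := by
  classical
  -- local extension at a point of `P`
  have step : ∀ y : Y, y ∈ P →
      ∃ (Uy : Y.Opens) (hle : V ≤ Uy) (k : Uy.toScheme ⟶ X), y ∈ Uy ∧ k ≫ p = Uy.ι ≫ q ∧
        Y.homOfLE hle ≫ k = g := by
    intro y hyP
    obtain ⟨hdom, hval⟩ := hP y hyP
    obtain ⟨W₀, hyW₀, hW₀, hinj⟩ := hgi y hyP
    obtain ⟨w, hwW₀, hwV⟩ := hV.inter_open_nonempty W₀ W₀.2 ⟨y, hyW₀⟩
    obtain ⟨Vy, hyVy, v, hv, hvg⟩ := H22.exists_extension_of_valuationRing_stalk q p V g hg y W₀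
      hW₀ hyW₀ hinj ⟨w, hwW₀, hwV⟩
    obtain ⟨k, hk1, hk2⟩ := H22.exists_glue_sup V Vy g v hvg.symm
    refine ⟨V ⊔ Vy, le_sup_left, k, Or.inr hyVy, ?_, hk1⟩
    apply H22.hom_ext_sup
    · rw [← Category.assoc, hk1, hg, Scheme.homOfLE_ι_assoc]
    · rw [← Category.assoc, hk2, hv, Scheme.homOfLE_ι_assoc]
  -- the family of extensions
  let J := Option {y : Y // y ∈ P}
  have H : ∀ j : J, ∃ (Uj : Y.Opens) (hle : V ≤ Uj) (k : Uj.toScheme ⟶ X),
      k ≫ p = Uj.ι ≫ q ∧ Y.homOfLE hle ≫ k = g ∧ ∀ y, j = some y → y.1 ∈ Uj := by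
    intro j
    cases j with
    | none =>
      refine ⟨V, le_rfl, g, hg, ?_, by simp⟩
      rw [Scheme.homOfLE_rfl, Category.id_comp]
    | some y =>
      obtain ⟨Uy, hle, k, hyU, hk1, hk2⟩ := step y.1 y.2
      refine ⟨Uy, hle, k, hk1, hk2, ?_⟩
      intro y' hy'
      rw [← Option.some.inj hy']
      exact hyU
  choose Uj hle k hk1 hk2 hk3 using H
  obtain ⟨G, hG⟩ := H22.exists_glue_iSup Uj k (fun i j =>
    H22.homOfLE_comp_eq_of_dense q p V hV g (Uj i) (Uj j) (hle i) (hle j) (k i) (k j) (hk1 i)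
      (hk1 j) (hk2 i) (hk2 j))
  have hVU : V ≤ ⨆ j, Uj j := (hle none).trans (le_iSup Uj none)
  refine ⟨⨆ j, Uj j, hVU, G, ?_, ?_, ?_⟩
  · apply H22.hom_ext_iSup
    intro j
    rw [← Category.assoc, hG j, hk1 j, Scheme.homOfLE_ι_assoc]
  · have : Y.homOfLE hVU = Y.homOfLE (hle none) ≫ Y.homOfLE (le_iSup Uj none) := by
      rw [Scheme.homOfLE_homOfLE]
    rw [this, Category.assoc, hG none, hk2 none]
  · intro y hyP
    exact le_iSup Uj (some ⟨y, hyP⟩) (hk3 _ ⟨y, hyP⟩ rfl)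

/-- An open subset of a compact T₀ space containing all closed points is everything. -/
theorem eq_top_of_forall_isClosed_singleton_mem {X : Scheme.{u}} [CompactSpace X] (U : X.Opens)
    (h : ∀ x : X, IsClosed ({x} : Set X) → x ∈ U) : U = ⊤ := by
  rw [eq_top_iff]
  rintro x -
  obtain ⟨z, hz, hzc⟩ := (isClosed_closure (s := ({x} : Set X))).exists_closed_singleton
    ⟨x, subset_closure rfl⟩
  have hs : x ⤳ z := specializes_iff_mem_closure.mpr hz
  exact hs.mem_open U.2 (h z hzc)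

/-- Global version: if all closed points of the compact reduced scheme `Y` have valuation-ring
stalks (and germ-injectivity), a morphism from a dense open to a proper `S`-scheme extends
uniquely to `Y`. -/
theorem existsUnique_extension_of_valuationRing_closedPoints {S X Y : Scheme.{u}}
    (p : X ⟶ S) [IsProper p] (q : Y ⟶ S) [IsReduced Y] [CompactSpace Y]
    (hgi : ∀ y : Y, IsClosed ({y} : Set Y) → Y.IsGermInjectiveAt y)
    (hP : ∀ y : Y, IsClosed ({y} : Set Y) →
      ∃ _ : IsDomain (Y.presheaf.stalk y), ValuationRing (Y.presheaf.stalk y))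
    (V : Y.Opens) (hV : Dense (V : Set Y)) (g : (V : Scheme.{u}) ⟶ X) (hg : g ≫ p = V.ι ≫ q) :
    ∃! g' : Y ⟶ X, V.ι ≫ g' = g ∧ g' ≫ p = q := by
  obtain ⟨U, hVU, G, hG1, hG2, hG3⟩ := exists_extension_of_valuationRing_points p q
    {y | IsClosed ({y} : Set Y)} hgi hP V hV g hg
  have hU : U = ⊤ := eq_top_of_forall_isClosed_singleton_mem U hG3
  subst hU
  have hdom : IsDominant V.ι := by
    constructor
    rw [DenseRange, Scheme.Opens.range_ι]
    exact hV
  refine ⟨(Scheme.topIso Y).inv ≫ G, ⟨?_, ?_⟩, ?_⟩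
  · rw [← hG2, ← Category.assoc]
    congr 1
    rw [Iso.comp_inv_eq]
    simp
  · rw [Category.assoc, hG1, Iso.inv_comp_eq]
    simp
  · rintro g'' ⟨h1, h2⟩
    refine ext_of_isDominant_of_isSeparated p ?_ V.ι ?_
    · rw [h2, Category.assoc, hG1, eq_comm, Iso.inv_comp_eq]
      simp
    · rw [h1, ← hG2, ← Category.assoc]
      congr 1
      rw [eq_comm, Iso.comp_inv_eq]
      simp

end Groth.Agent.H22.ExtendValPoints
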