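import Mathlib

/-! Linear functionals through a pushout square of commutative rings. -/

set_option autoImplicit false
universe u

open CategoryTheory TensorProduct

namespace Groth.Agent.H22.PushoutLin

variable {A B C D : Type u} [CommRing A] [CommRing B] [CommRing C] [CommRing D]
  (φ : A →+* B) (a : A →+* C) (b : B →+* D) (c : C →+* D)

/-- In a pushout square `D = C ⊗[A] B`, every element of `D` is a sum of products
`c γ * b β`. -/
theorem mem_closure
    (hP : IsPushout (CommRingCat.ofHom φ) (CommRingCat.ofHom a) (CommRingCat.ofHom b)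
      (CommRingCat.ofHom c)) (d : D) :
    d ∈ AddSubmonoid.closure {x : D | ∃ γ β, x = c γ * b β} := by
  letI : Algebra A B := φ.toAlgebra
  letI : Algebra A C := a.toAlgebra
  letI : Algebra C D := c.toAlgebra
  letI : Algebra B D := b.toAlgebra
  letI : Algebra A D := (c.comp a).toAlgebra
  haveI : IsScalarTower A C D := .of_algebraMap_eq' rfl
  haveI : IsScalarTower A B D :=
    .of_algebraMap_eq' (congrArg CommRingCat.Hom.hom hP.w).symm
  haveI : Algebra.IsPushout A C B D := CommRingCat.isPushout_iff_isPushout.mp hP.flip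
  let e := Algebra.IsPushout.equiv A C B D
  obtain ⟨t, rfl⟩ := e.surjective d
  induction t using TensorProduct.induction_on with
  | zero => rw [map_zero]; exact zero_mem _
  | tmul γ β =>
    rw [Algebra.IsPushout.equiv_tmul]
    exact AddSubmonoid.subset_closure ⟨γ, β, rfl⟩
  | add x y hx hy => rw [map_add]; exact add_mem hx hy

/-- In a pushout square `D = C ⊗[A] B`, an `A`-linear functional `l : B → A` induces a
`C`-linear functional `D → C`. -/
theorem exists_lin
    (hP : IsPushout (CommRingCat.ofHom φ) (CommRingCat.ofHom a) (CommRingCat.ofHom b)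
      (CommRingCat.ofHom c)) (l : B →+ A) (hl : ∀ α β, l (φ α * β) = α * l β) :
    ∃ Λ : D →+ C, ∀ γ β, Λ (c γ * b β) = γ * a (l β) := by
  letI : Algebra A B := φ.toAlgebra
  letI : Algebra A C := a.toAlgebra
  letI : Algebra C D := c.toAlgebra
  letI : Algebra B D := b.toAlgebra
  letI : Algebra A D := (c.comp a).toAlgebra
  haveI : IsScalarTower A C D := .of_algebraMap_eq' rfl
  haveI : IsScalarTower A B D :=
    .of_algebraMap_eq' (congrArg CommRingCat.Hom.hom hP.w).symm
  haveI : Algebra.IsPushout A C B D := CommRingCat.isPushout_iff_isPushout.mp hP.flip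
  let e := Algebra.IsPushout.equiv A C B D
  let l' : B →ₗ[A] A :=
    { toFun := l
      map_add' := l.map_add
      map_smul' := fun α β => by
        rw [Algebra.smul_def, RingHom.id_apply, smul_eq_mul]
        exact hl α β }
  let Λ : D →ₗ[A] C :=
    (TensorProduct.rid A C).toLinearMap ∘ₗ (LinearMap.lTensor C l') ∘ₗ
      (e.symm.toLinearEquiv.restrictScalars A).toLinearMap
  refine ⟨Λ.toAddMonoidHom, fun γ β => ?_⟩
  have h1 : c γ * b β = e (γ ⊗ₜ β) := (Algebra.IsPushout.equiv_tmul A C B D γ β).symm
  show Λ (c γ * b β) = _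
  rw [h1]
  simp only [Λ, LinearMap.coe_comp, Function.comp_apply, LinearEquiv.coe_coe]
  have h2 : (e.symm.toLinearEquiv.restrictScalars A) (e (γ ⊗ₜ[A] β)) = γ ⊗ₜ[A] β :=
    e.symm_apply_apply _
  rw [h2, LinearMap.lTensor_tmul, TensorProduct.rid_tmul]
  show l β • γ = γ * a (l β)
  rw [Algebra.smul_def, mul_comm]
  rfl

end Groth.Agent.H22.PushoutLin
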