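import Mathlib
import Groth.Agent.H22.PushoutLin

/-! Global sections of the base change of an arbitrary scheme along a finite projective morphism
of affine schemes. -/

set_option autoImplicit false
universe u

open AlgebraicGeometry CategoryTheory CategoryTheory.Limits TopologicalSpace Opposite

namespace Groth.Agent.H22.ProjBaseChange

section Glue
variable (X : Scheme.{u})

/-- restriction of sections -/
noncomputable abbrev r {V₁ V₂ : X.Opens} (h : V₁ ≤ V₂) : Γ(X, V₂) →+* Γ(X, V₁) :=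
  (X.presheaf.map (homOfLE h).op).hom

theorem r_r {V₁ V₂ V₃ : X.Opens} (h : V₁ ≤ V₂) (h' : V₂ ≤ V₃) (s : Γ(X, V₃)) :
    r X h (r X h' s) = r X (h.trans h') s := by
  unfold r
  rw [← CommRingCat.comp_apply, ← X.presheaf.map_comp]
  rfl

theorem le_iSup_affine (V : X.Opens) :
    V ≤ ⨆ W : {W : X.Opens // IsAffineOpen W ∧ W ≤ V}, (W : X.Opens) := by
  intro x hx
  obtain ⟨_, ⟨W, hW, rfl⟩, hxW, hWV⟩ := X.isBasis_affineOpens.exists_subset_of_mem_open hx V.2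
  exact Opens.mem_iSup.mpr ⟨⟨W, hW, hWV⟩, hxW⟩

theorem r_ext (V : X.Opens) (s t : Γ(X, V))
    (h : ∀ W : {W : X.Opens // IsAffineOpen W ∧ W ≤ V}, r X W.2.2 s = r X W.2.2 t) : s = t :=
  X.sheaf.eq_of_locally_eq' (fun W : {W : X.Opens // IsAffineOpen W ∧ W ≤ V} => (W : X.Opens)) V
    (fun W => homOfLE W.2.2) (le_iSup_affine X V) s t h

end Glue

variable {P W T S₀ : Scheme.{u}} {pr₁ : P ⟶ W} {pr₂ : P ⟶ T} {w : W ⟶ S₀} {q : T ⟶ S₀}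

theorem isPushout_affine (H : IsPullback pr₁ pr₂ w q) [IsAffine S₀] [IsAffine T]
    {U : W.Opens} (hU : IsAffineOpen U) :
    IsPushout (q.appLE ⊤ ⊤ le_top) (w.appLE ⊤ U le_top)
      (pr₂.appLE ⊤ (pr₁ ⁻¹ᵁ U) le_top) (pr₁.appLE U (pr₁ ⁻¹ᵁ U) le_rfl) := by
  have hUY : pr₁ ⁻¹ᵁ U = pr₁ ⁻¹ᵁ U ⊓ pr₂ ⁻¹ᵁ ⊤ := by simp
  have h1 := isIso_pushoutSection_of_isAffineOpen H (US := ⊤) (UT := ⊤) (UX := U)
    (UY := pr₁ ⁻¹ᵁ U) le_top le_top hUY (isAffineOpen_top S₀) (isAffineOpen_top T) hU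
  exact ((isIso_pushoutSection_iff H le_top le_top hUY).mp h1).flip


section Maps

variable (pr₁ pr₂ w q)

/-- `Γ(S₀) → Γ(W, U)` -/
noncomputable abbrev aU (U : W.Opens) : Γ(S₀, ⊤) →+* Γ(W, U) := (w.appLE ⊤ U le_top).hom
/-- `Γ(T) → Γ(P, pr₁⁻¹ U)` -/
noncomputable abbrev bU (U : W.Opens) : Γ(T, ⊤) →+* Γ(P, pr₁ ⁻¹ᵁ U) :=
  (pr₂.appLE ⊤ (pr₁ ⁻¹ᵁ U) le_top).hom
/-- `Γ(W, U) → Γ(P, pr₁⁻¹ U)` -/
noncomputable abbrev cU (U : W.Opens) : Γ(W, U) →+* Γ(P, pr₁ ⁻¹ᵁ U) :=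
  (pr₁.appLE U (pr₁ ⁻¹ᵁ U) le_rfl).hom
/-- `Γ(S₀) → Γ(T)` -/
noncomputable abbrev φ0 : Γ(S₀, ⊤) →+* Γ(T, ⊤) := (q.appLE ⊤ ⊤ le_top).hom

theorem r_aU {U' U : W.Opens} (h : U' ≤ U) (x : Γ(S₀, ⊤)) :
    r W h (aU w U x) = aU w U' x := by
  unfold r aU
  rw [← CommRingCat.comp_apply, Scheme.Hom.appLE_map]

theorem r_bU {U' U : W.Opens} (h : U' ≤ U) (x : Γ(T, ⊤)) :
    r P (pr₁.preimage_mono h) (bU pr₁ pr₂ U x) = bU pr₁ pr₂ U' x := by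
  unfold r bU
  rw [← CommRingCat.comp_apply, Scheme.Hom.appLE_map]

theorem r_cU {U' U : W.Opens} (h : U' ≤ U) (x : Γ(W, U)) :
    r P (pr₁.preimage_mono h) (cU pr₁ U x) = cU pr₁ U' (r W h x) := by
  unfold r cU
  rw [← CommRingCat.comp_apply, ← CommRingCat.comp_apply, Scheme.Hom.appLE_map,
    Scheme.Hom.map_appLE]

end Maps


section Main

variable (H : IsPullback pr₁ pr₂ w q) [IsAffine S₀] [IsAffine T]
  (n : ℕ) (e : Fin n → Γ(T, ⊤)) (l : Fin n → (Γ(T, ⊤) →+ Γ(S₀, ⊤)))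

include H in
theorem exists_Λ (hl : ∀ i α β, l i (φ0 q α * β) = α * l i β)
    {U : W.Opens} (hU : IsAffineOpen U) (i : Fin n) :
    ∃ Λ : Γ(P, pr₁ ⁻¹ᵁ U) →+ Γ(W, U),
      ∀ γ β, Λ (cU pr₁ U γ * bU pr₁ pr₂ U β) = γ * aU w U (l i β) :=
  PushoutLin.exists_lin (φ0 q) (aU w U) (bU pr₁ pr₂ U) (cU pr₁ U) (isPushout_affine H hU)
    (l i) (hl i)

include H in
theorem mem_closure {U : W.Opens} (hU : IsAffineOpen U) (d : Γ(P, pr₁ ⁻¹ᵁ U)) :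
    d ∈ AddSubmonoid.closure
      {x : Γ(P, pr₁ ⁻¹ᵁ U) | ∃ γ β, x = cU pr₁ U γ * bU pr₁ pr₂ U β} :=
  PushoutLin.mem_closure (φ0 q) (aU w U) (bU pr₁ pr₂ U) (cU pr₁ U) (isPushout_affine H hU) d

include H in
theorem cU_aU {U : W.Opens} (hU : IsAffineOpen U) (α : Γ(S₀, ⊤)) :
    cU pr₁ U (aU w U α) = bU pr₁ pr₂ U (φ0 q α) := by
  have := (isPushout_affine H hU).w
  exact (congrArg (fun f => f.hom α) this).symm

include H in
theorem nat_aux {U' U : W.Opens} (hU : IsAffineOpen U) (h : U' ≤ U)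
    (i : Fin n) (Λ : Γ(P, pr₁ ⁻¹ᵁ U) →+ Γ(W, U)) (Λ' : Γ(P, pr₁ ⁻¹ᵁ U') →+ Γ(W, U'))
    (hΛ : ∀ γ β, Λ (cU pr₁ U γ * bU pr₁ pr₂ U β) = γ * aU w U (l i β))
    (hΛ' : ∀ γ β, Λ' (cU pr₁ U' γ * bU pr₁ pr₂ U' β) = γ * aU w U' (l i β))
    (d : Γ(P, pr₁ ⁻¹ᵁ U)) :
    r W h (Λ d) = Λ' (r P (pr₁.preimage_mono h) d) := by
  induction mem_closure H hU d using AddSubmonoid.closure_induction with
  | mem x hx =>
    obtain ⟨γ, β, rfl⟩ := hx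
    rw [hΛ, map_mul, map_mul, r_aU w h, r_cU pr₁ h, r_bU pr₁ pr₂ h, hΛ']
  | zero => simp
  | add x y _ _ hx hy => rw [map_add, map_add, map_add, map_add, hx, hy]

include H in
theorem recon_aux (hsum : ∀ β, β = ∑ i, φ0 q (l i β) * e i)
    {U : W.Opens} (hU : IsAffineOpen U)
    (Λ : Fin n → (Γ(P, pr₁ ⁻¹ᵁ U) →+ Γ(W, U)))
    (hΛ : ∀ i γ β, Λ i (cU pr₁ U γ * bU pr₁ pr₂ U β) = γ * aU w U (l i β))
    (d : Γ(P, pr₁ ⁻¹ᵁ U)) :
    d = ∑ i, cU pr₁ U (Λ i d) * bU pr₁ pr₂ U (e i) := by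
  induction mem_closure H hU d using AddSubmonoid.closure_induction with
  | mem x hx =>
    obtain ⟨γ, β, rfl⟩ := hx
    have h1 : ∀ i, cU pr₁ U (Λ i (cU pr₁ U γ * bU pr₁ pr₂ U β)) * bU pr₁ pr₂ U (e i) =
        cU pr₁ U γ * bU pr₁ pr₂ U (φ0 q (l i β) * e i) := by
      intro i
      rw [hΛ, map_mul, cU_aU H hU, map_mul, mul_assoc]
    simp only [h1]
    rw [← Finset.mul_sum, ← map_sum, ← hsum β]
  | zero => simp
  | add x y _ _ hx hy =>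
    simp only [map_add, add_mul, Finset.sum_add_distrib]
    rw [← hx, ← hy]


include H in
/-- **Base change of global sections along a finite projective morphism of affine schemes.**
`W` is an arbitrary scheme over the affine scheme `S₀` with `Γ(S₀) ≃ Γ(W)`; `T → S₀` is a morphism
of affine schemes with a finite dual basis `(e i, l i)`.  Then `Γ(T) ≃ Γ(W ×_{S₀} T)`. -/
theorem bijective_appTop (hl : ∀ i α β, l i (φ0 q α * β) = α * l i β)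
    (hsum : ∀ β, β = ∑ i, φ0 q (l i β) * e i) (hw : Function.Bijective w.appTop) :
    Function.Bijective pr₂.appTop := by
  classical
  have hΛex : ∀ (U : {U : W.Opens // IsAffineOpen U}) (i : Fin n),
      ∃ Λ : Γ(P, pr₁ ⁻¹ᵁ U.1) →+ Γ(W, U.1),
        ∀ γ β, Λ (cU pr₁ U.1 γ * bU pr₁ pr₂ U.1 β) = γ * aU w U.1 (l i β) :=
    fun U i => exists_Λ H n l hl U.2 i
  choose Λ hΛ using hΛex
  have hb : ∀ (U : W.Opens) (β : Γ(T, ⊤)),
      r P (le_top : pr₁ ⁻¹ᵁ U ≤ ⊤) (pr₂.appTop β) = bU pr₁ pr₂ U β := fun U β => rfl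
  have ha : ∀ (U : W.Opens) (α : Γ(S₀, ⊤)),
      r W (le_top : U ≤ ⊤) (w.appTop α) = aU w U α := fun U α => rfl
  constructor
  · rw [injective_iff_map_eq_zero]
    intro β hβ
    have hli : ∀ i, l i β = 0 := by
      intro i
      apply hw.1
      rw [map_zero]
      apply r_ext W ⊤
      rintro ⟨U, hU, hUle⟩
      rw [map_zero]
      show r W le_top (w.appTop (l i β)) = 0
      have h1 := hΛ ⟨U, hU⟩ i 1 β
      rw [map_one, one_mul, one_mul] at h1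
      rw [ha U, ← h1, ← hb U, hβ, map_zero, map_zero]
    rw [hsum β]
    simp [hli]
  · intro s
    let sf : ∀ (i : Fin n) (U : {U : W.Opens // IsAffineOpen U ∧ U ≤ ⊤}), Γ(W, U.1) :=
      fun i U => Λ ⟨U.1, U.2.1⟩ i (r P le_top s)
    have hc : ∀ i, TopCat.Presheaf.IsCompatible W.sheaf.1
        (fun U : {U : W.Opens // IsAffineOpen U ∧ U ≤ ⊤} => (U : W.Opens)) (sf i) := by
      intro i U₁ U₂
      show r W inf_le_left (sf i U₁) = r W inf_le_right (sf i U₂)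
      apply r_ext W (U₁.1 ⊓ U₂.1)
      rintro ⟨U₃, hU₃, hle⟩
      rw [r_r, r_r]
      rw [nat_aux H n l U₁.2.1 (hle.trans inf_le_left) i _ _ (hΛ ⟨U₁.1, U₁.2.1⟩ i)
        (hΛ ⟨U₃, hU₃⟩ i), nat_aux H n l U₂.2.1 (hle.trans inf_le_right) i _ _
        (hΛ ⟨U₂.1, U₂.2.1⟩ i) (hΛ ⟨U₃, hU₃⟩ i), r_r, r_r]
    have hglue : ∀ i, ∃ c : Γ(W, ⊤), ∀ U : {U : W.Opens // IsAffineOpen U ∧ U ≤ ⊤},
        r W U.2.2 c = sf i U := by
      intro i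
      obtain ⟨c, hc', -⟩ := W.sheaf.existsUnique_gluing'
        (fun U : {U : W.Opens // IsAffineOpen U ∧ U ≤ ⊤} => (U : W.Opens)) ⊤
        (fun U => homOfLE U.2.2) (le_iSup_affine W ⊤) (sf i) (hc i)
      exact ⟨c, hc'⟩
    choose c hcU using hglue
    have hαex : ∀ i, ∃ α, w.appTop α = c i := fun i => hw.2 (c i)
    choose α hα using hαex
    refine ⟨∑ i, φ0 q (α i) * e i, ?_⟩
    refine P.sheaf.eq_of_locally_eq'
      (fun U : {U : W.Opens // IsAffineOpen U ∧ U ≤ ⊤} => pr₁ ⁻¹ᵁ (U : W.Opens)) ⊤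
      (fun U => homOfLE le_top) ?_ _ _ ?_
    · intro x _
      obtain ⟨U, hxU⟩ := Opens.mem_iSup.mp
        (le_iSup_affine W ⊤ (show pr₁ x ∈ (⊤ : W.Opens) from trivial))
      exact Opens.mem_iSup.mpr ⟨U, hxU⟩
    · intro U
      show r P le_top (pr₂.appTop (∑ i, φ0 q (α i) * e i)) = r P le_top s
      rw [hb, recon_aux H n e l hsum U.2.1 (fun i => Λ ⟨U.1, U.2.1⟩ i)
        (fun i => hΛ ⟨U.1, U.2.1⟩ i) (r P le_top s), map_sum]
      refine Finset.sum_congr rfl fun i _ => ?_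
      rw [map_mul, ← cU_aU H U.2.1, ← ha, hα, hcU]

end Main

end Groth.Agent.H22.ProjBaseChange
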