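import Mathlib
import Groth.Prelude.Def_ega3
import Groth.Agent.H22.IntegralSection
import Groth.Agent.H22.ProjBaseChange

/-! Fibrations between normal integral schemes and algebraic closedness of function fields. -/

set_option autoImplicit false
set_option linter.style.haveILetI false
universe u

open AlgebraicGeometry CategoryTheory CategoryTheory.Limits TopologicalSpace Opposite

namespace Groth.Agent.H22.FibrationNormal

variable {X Y : Scheme.{u}} [IsIntegral X] [IsIntegral Y] (f : X ⟶ Y)

theorem genericPoint_mem_of_nonempty (Z : Scheme.{u}) [IsIntegral Z] (U : Z.Opens)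
    (hne : (U : Set Z).Nonempty) : genericPoint Z ∈ U :=
  ((genericPoint_spec Z).mem_open_set_iff U.isOpen).mpr (by simpa using hne)

theorem stalkToFunctionField_germ (h : f.base (genericPoint X) ⤳ genericPoint Y) (U : Y.Opens)
    (hU : genericPoint Y ∈ U) (a : Γ(Y, U)) :
    CohIII.stalkToFunctionField f (genericPoint Y) h (Y.presheaf.germ U (genericPoint Y) hU a) =
      X.presheaf.germ (f ⁻¹ᵁ U) (genericPoint X) (h.mem_open U.isOpen hU) (f.app U a) := by
  unfold CohIII.stalkToFunctionField
  rw [RingHom.comp_apply]
  have h1 : (Y.presheaf.stalkSpecializes h).hom (Y.presheaf.germ U (genericPoint Y) hU a) =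
      Y.presheaf.germ U (f.base (genericPoint X)) (h.mem_open U.isOpen hU) a := by
    rw [← CommRingCat.comp_apply, TopCat.Presheaf.germ_stalkSpecializes]
  rw [h1]
  exact Scheme.Hom.germ_stalkMap_apply f U (genericPoint X) (h.mem_open U.isOpen hU) a


/-- `f.app U` is integral for `f` universally closed and `U` affine. -/
theorem isIntegral_app [UniversallyClosed f] (U : Y.Opens) (hU : IsAffineOpen U) :
    (f.app U).hom.IsIntegral := by
  haveI : IsAffine U.toScheme := hU
  have h1 : (f ∣_ U).appTop.hom.IsIntegral := isIntegral_appTop_of_universallyClosed (f ∣_ U)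
  have hU' : U.ι ''ᵁ ⊤ = U := Scheme.Opens.ι_image_top U
  have key : ∀ (V : Y.Opens), V = U → (f.app V).hom.IsIntegral → (f.app U).hom.IsIntegral := by
    rintro V rfl h; exact h
  refine key (U.ι ''ᵁ ⊤) hU' ?_
  rw [morphismRestrict_appTop] at h1
  have h2 : IsIso (X.presheaf.map (eqToHom (image_morphismRestrict_preimage f U ⊤)).op) := by
    haveI : IsIso (eqToHom (image_morphismRestrict_preimage f U ⊤)).op := inferInstance
    exact Functor.map_isIso _ _
  intro b
  obtain ⟨p, hp, hpb⟩ := h1 (X.presheaf.map (eqToHom (image_morphismRestrict_preimage f U ⊤)).op b)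
  refine ⟨p, hp, ?_⟩
  have hinj : Function.Injective
      (X.presheaf.map (eqToHom (image_morphismRestrict_preimage f U ⊤)).op).hom :=
    ((ConcreteCategory.isIso_iff_bijective _).mp h2).1
  apply hinj
  rw [map_zero, Polynomial.hom_eval₂]
  exact hpb

end Groth.Agent.H22.FibrationNormal
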