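import Mathlib
import Groth.Prelude.Def_ega3
import Groth.Agent.H22.IntegralSection
import Groth.Agent.H22.ProjBaseChange
import Groth.Agent.H22.FibrationNormal

/-! Fibrations between normal integral schemes and algebraic closedness of function fields, II. -/

set_option autoImplicit false
set_option linter.style.haveILetI false
universe u

open AlgebraicGeometry CategoryTheory CategoryTheory.Limits TopologicalSpace Opposite

namespace Groth.Agent.H22.FibrationNormal

variable {X Y : Scheme.{u}} [IsIntegral X] [IsIntegral Y] (f : X ⟶ Y)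

theorem isIso_app_of_closed_of_affine
    (hY : ∀ y : Y, IsIntegrallyClosed (Y.presheaf.stalk y))
    [UniversallyClosed f] (h : f.base (genericPoint X) ⤳ genericPoint Y)
    (hcl : ∀ x : X.functionField,
      (CohIII.stalkToFunctionField f (genericPoint Y) h).IsIntegralElem x →
      x ∈ (CohIII.stalkToFunctionField f (genericPoint Y) h).range)
    (U : Y.Opens) (hU : IsAffineOpen U) (hne : (U : Set Y).Nonempty) : IsIso (f.app U) := by
  set φ : Y.functionField →+* X.functionField :=
    CohIII.stalkToFunctionField f (genericPoint Y) h with hφ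
  have hηU : genericPoint Y ∈ U := genericPoint_mem_of_nonempty Y U hne
  have hηX : genericPoint X ∈ f ⁻¹ᵁ U := h.mem_open U.isOpen hηU
  haveI : Nonempty U := ⟨⟨_, hηU⟩⟩
  haveI : Nonempty (f ⁻¹ᵁ U) := ⟨⟨_, hηX⟩⟩
  haveI : IsIntegrallyClosed Γ(Y, U) := IntegralSection.isIntegrallyClosed_of_stalk hY U hU hne
  letI : Algebra Γ(Y, U) (Y.presheaf.stalk (genericPoint Y)) :=
    (Y.presheaf.germ U _ hηU).hom.toAlgebra
  haveI : IsFractionRing Γ(Y, U) (Y.presheaf.stalk (genericPoint Y)) :=
    IntegralSection.isFractionRing_stalk_of_eq_genericPoint _ rfl U hU hηU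
  have hint := isIntegral_app f U hU
  have hφinj : Function.Injective φ := RingHom.injective φ
  have hcomp : φ.comp (Y.presheaf.germ U _ hηU).hom =
      (X.presheaf.germ (f ⁻¹ᵁ U) _ hηX).hom.comp (f.app U).hom := by
    ext a; exact stalkToFunctionField_germ f h U hηU a
  have hmem : ∀ b : Γ(X, f ⁻¹ᵁ U), (X.presheaf.germ (f ⁻¹ᵁ U) _ hηX).hom b ∈ φ.range := by
    intro b
    apply hcl
    obtain ⟨p, hp, hpb⟩ := hint b
    refine ⟨p.map (Y.presheaf.germ U _ hηU).hom, hp.map _, ?_⟩
    rw [Polynomial.eval₂_map, hcomp, ← Polynomial.hom_eval₂, hpb, map_zero]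
  let e : Y.functionField ≃+* φ.range :=
    RingEquiv.ofBijective φ.rangeRestrict
      ⟨RingHom.injective _, φ.rangeRestrict_surjective⟩
  let ψ : Γ(X, f ⁻¹ᵁ U) →+* Y.functionField :=
    (e.symm : φ.range →+* Y.functionField).comp
      ((X.presheaf.germ (f ⁻¹ᵁ U) _ hηX).hom.codRestrict φ.range hmem)
  have hψ : ψ.comp (f.app U).hom = algebraMap Γ(Y, U) (Y.presheaf.stalk (genericPoint Y)) := by
    ext a
    change e.symm _ = (Y.presheaf.germ U _ hηU).hom a
    rw [RingEquiv.symm_apply_eq]
    apply Subtype.ext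
    change (X.presheaf.germ (f ⁻¹ᵁ U) _ hηX).hom ((f.app U).hom a) =
      φ ((Y.presheaf.germ U _ hηU).hom a)
    exact (stalkToFunctionField_germ f h U hηU a).symm
  have hbij := IntegralSection.bijective_of_isIntegral_of_retract_fractionRing (f.app U).hom
    hint ψ hψ
  exact (ConcreteCategory.isIso_iff_bijective _).mpr hbij

theorem isIso_app_of_closed
    (hY : ∀ y : Y, IsIntegrallyClosed (Y.presheaf.stalk y))
    [UniversallyClosed f] (h : f.base (genericPoint X) ⤳ genericPoint Y)
    (hcl : ∀ x : X.functionField,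
      (CohIII.stalkToFunctionField f (genericPoint Y) h).IsIntegralElem x →
      x ∈ (CohIII.stalkToFunctionField f (genericPoint Y) h).range)
    (U : Y.Opens) : IsIso (f.app U) := by
  let φs : Y.sheaf ⟶ (TopCat.Sheaf.pushforward CommRingCat f.base).obj X.sheaf := ⟨f.c⟩
  have hφ : IsIso φs := by
    refine TopCat.Sheaf.isIso_iff_isIso_basis (B := fun V : Y.affineOpens => (V : Y.Opens)) ?_ ?_
    · rw [Subtype.range_coe]
      exact Y.isBasis_affineOpens
    · intro V
      by_cases hne : ((V : Y.Opens) : Set Y).Nonempty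
      · exact isIso_app_of_closed_of_affine f hY h hcl V.1 V.2 hne
      · have hV : (V : Y.Opens) = ⊥ := by
          rw [Set.not_nonempty_iff_eq_empty] at hne
          exact Opens.ext hne
        change IsIso (f.app (V : Y.Opens))
        rw [ConcreteCategory.isIso_iff_bijective]
        have h1 : Subsingleton Γ(Y, (V : Y.Opens)) := by rw [hV]; infer_instance
        have h2 : Subsingleton Γ(X, f ⁻¹ᵁ (V : Y.Opens)) := by
          rw [hV]
          change Subsingleton Γ(X, ⊥)
          infer_instance
        refine ⟨fun a b _ => Subsingleton.elim a b, fun b => ⟨0, Subsingleton.elim _ _⟩⟩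
  haveI := hφ
  have h2 : IsIso φs.hom := (TopCat.Sheaf.forget CommRingCat Y).map_isIso φs
  exact NatIso.isIso_app_of_isIso φs.hom (op U)

end Groth.Agent.H22.FibrationNormal
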