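import Mathlib
import Groth.Prelude.Def_ega3
import Groth.Agent.H22.IntegralSection
import Groth.Agent.H22.ProjBaseChange
import Groth.Agent.H22.FibrationNormal
import Groth.Agent.H22.FibrationNormal2

/-! Fibrations between normal integral schemes and algebraic closedness of function fields, III. -/

set_option autoImplicit false
set_option linter.style.haveILetI false
universe u

open AlgebraicGeometry CategoryTheory CategoryTheory.Limits TopologicalSpace Opposite
open Groth.Agent.H22.ProjBaseChange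

namespace Groth.Agent.H22.FibrationNormal

theorem exists_mul_isIntegralElem {A K L : Type*} [CommRing A] [CommRing K] [CommRing L]
    [Algebra A K] [IsFractionRing A K] (φ : K →+* L) (t : L) (ht : φ.IsIntegralElem t) :
    ∃ m : A, m ∈ nonZeroDivisors A ∧
      (φ.comp (algebraMap A K)).IsIntegralElem (φ (algebraMap A K m) * t) := by
  letI : Algebra K L := φ.toAlgebra
  letI : Algebra A L := (φ.comp (algebraMap A K)).toAlgebra
  haveI : IsScalarTower A K L := IsScalarTower.of_algebraMap_eq (fun _ => rfl)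
  obtain ⟨⟨m, hm⟩, hint⟩ := IsIntegral.exists_multiple_integral_of_isLocalization
    (nonZeroDivisors A) (Rₘ := K) t ht
  refine ⟨m, hm, ?_⟩
  have : (⟨m, hm⟩ : nonZeroDivisors A) • t = φ (algebraMap A K m) * t := by
    rw [Submonoid.smul_def, Algebra.smul_def]; rfl
  rw [← this]; exact hint

theorem germ_r (Z : Scheme.{u}) {V₁ V₂ : Z.Opens} (hle : V₁ ≤ V₂) (x : Z) (hx : x ∈ V₁)
    (s : Γ(Z, V₂)) :
    Z.presheaf.germ V₁ x hx (r Z hle s) = Z.presheaf.germ V₂ x (hle hx) s := by
  unfold r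
  rw [← CommRingCat.comp_apply, TopCat.Presheaf.germ_res]

/-- A rational function which is regular on every affine open of `V` is regular on `V`. -/
theorem exists_section_of_forall_affine (Z : Scheme.{u}) [IsIntegral Z] (V : Z.Opens)
    (hV : genericPoint Z ∈ V) (u : Z.functionField)
    (H : ∀ (W : Z.Opens) (_ : IsAffineOpen W) (_ : W ≤ V) (hη : genericPoint Z ∈ W),
      ∃ c : Γ(Z, W), Z.presheaf.germ W _ hη c = u) :
    ∃ s : Γ(Z, V), Z.presheaf.germ V _ hV s = u := by
  let ι := {W : Z.Opens // IsAffineOpen W ∧ W ≤ V ∧ genericPoint Z ∈ W}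
  have hcover : V ≤ ⨆ W : ι, (W : Z.Opens) := by
    intro x hx
    obtain ⟨_, ⟨W, hW, rfl⟩, hxW, hWV⟩ := Z.isBasis_affineOpens.exists_subset_of_mem_open hx V.2
    exact Opens.mem_iSup.mpr
      ⟨⟨W, hW, hWV, genericPoint_mem_of_nonempty Z W ⟨x, hxW⟩⟩, hxW⟩
  have hex : ∀ W : ι, ∃ c : Γ(Z, W.1), Z.presheaf.germ W.1 _ W.2.2.2 c = u :=
    fun W => H W.1 W.2.1 W.2.2.1 W.2.2.2
  choose sf hsf using hex
  have hc : TopCat.Presheaf.IsCompatible Z.sheaf.1 (fun W : ι => (W : Z.Opens)) sf := by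
    intro W₁ W₂
    show r Z inf_le_left (sf W₁) = r Z inf_le_right (sf W₂)
    have hη : genericPoint Z ∈ W₁.1 ⊓ W₂.1 := ⟨W₁.2.2.2, W₂.2.2.2⟩
    apply germ_injective_of_isIntegral Z (genericPoint Z) hη
    rw [germ_r, germ_r, hsf, hsf]
  obtain ⟨s, hs, -⟩ := Z.sheaf.existsUnique_gluing' (fun W : ι => (W : Z.Opens)) V
    (fun W => homOfLE W.2.2.1) hcover sf hc
  refine ⟨s, ?_⟩
  obtain ⟨W, hW⟩ := Opens.mem_iSup.mp (hcover hV)
  have h1 : r Z W.2.2.1 s = sf W := hs W
  rw [← germ_r Z W.2.2.1 (genericPoint Z) W.2.2.2 s, h1, hsf]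

variable {X Y : Scheme.{u}} [IsIntegral X] [IsIntegral Y] (f : X ⟶ Y)

theorem mem_range_of_isIso_app
    (hX : ∀ x : X, IsIntegrallyClosed (X.presheaf.stalk x))
    (h : f.base (genericPoint X) ⤳ genericPoint Y)
    (hiso : ∀ U : Y.Opens, IsIso (f.app U))
    (t : X.functionField)
    (ht : (CohIII.stalkToFunctionField f (genericPoint Y) h).IsIntegralElem t) :
    t ∈ (CohIII.stalkToFunctionField f (genericPoint Y) h).range := by
  set φ : Y.functionField →+* X.functionField :=
    CohIII.stalkToFunctionField f (genericPoint Y) h with hφ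
  obtain ⟨_, ⟨U, hU, rfl⟩, hηU, -⟩ := Y.isBasis_affineOpens.exists_subset_of_mem_open
    (Set.mem_univ (genericPoint Y)) isOpen_univ
  have hηX : genericPoint X ∈ f ⁻¹ᵁ U := h.mem_open U.isOpen hηU
  haveI : Nonempty U := ⟨⟨_, hηU⟩⟩
  letI algY : Algebra Γ(Y, U) Y.functionField := (Y.presheaf.germ U _ hηU).hom.toAlgebra
  haveI : IsFractionRing Γ(Y, U) Y.functionField :=
    IntegralSection.isFractionRing_stalk_of_eq_genericPoint _ rfl U hU hηU
  obtain ⟨m, hm, hint⟩ := exists_mul_isIntegralElem (A := Γ(Y, U)) φ t ht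
  set u : X.functionField := φ (algebraMap Γ(Y, U) Y.functionField m) * t with hu_def
  have hcomp : φ.comp (algebraMap Γ(Y, U) Y.functionField) =
      (X.presheaf.germ (f ⁻¹ᵁ U) _ hηX).hom.comp (f.app U).hom := by
    ext a; exact stalkToFunctionField_germ f h U hηU a
  have H : ∀ (W : X.Opens) (_ : IsAffineOpen W) (_ : W ≤ f ⁻¹ᵁ U) (hη : genericPoint X ∈ W),
      ∃ c : Γ(X, W), X.presheaf.germ W _ hη c = u := by
    intro W hW hWV hη
    haveI : Nonempty W := ⟨⟨_, hη⟩⟩
    haveI : IsIntegrallyClosed Γ(X, W) :=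
      IntegralSection.isIntegrallyClosed_of_stalk hX W hW ⟨_, hη⟩
    letI : Algebra Γ(X, W) X.functionField := (X.presheaf.germ W _ hη).hom.toAlgebra
    haveI : IsFractionRing Γ(X, W) X.functionField :=
      IntegralSection.isFractionRing_stalk_of_eq_genericPoint _ rfl W hW hη
    have hu : IsIntegral Γ(X, W) u := by
      obtain ⟨p, hp, hpu⟩ := hint
      refine ⟨p.map ((r X hWV).comp (f.app U).hom), hp.map _, ?_⟩
      rw [Polynomial.eval₂_map]
      have h1 : (algebraMap Γ(X, W) X.functionField).comp ((r X hWV).comp (f.app U).hom) =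
          φ.comp (algebraMap Γ(Y, U) Y.functionField) := by
        rw [hcomp]
        ext a
        exact germ_r X hWV (genericPoint X) hη _
      rw [h1]; exact hpu
    obtain ⟨c, hc⟩ := IsIntegrallyClosed.algebraMap_eq_of_integral hu
    exact ⟨c, hc⟩
  obtain ⟨s, hs⟩ := exists_section_of_forall_affine X (f ⁻¹ᵁ U) hηX u H
  obtain ⟨a, ha⟩ := ((ConcreteCategory.isIso_iff_bijective _).mp (hiso U)).2 s
  have hφinj : Function.Injective φ := RingHom.injective φ
  have hne : φ (algebraMap Γ(Y, U) Y.functionField m) ≠ 0 := by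
    intro h0
    have h1 : algebraMap Γ(Y, U) Y.functionField m = 0 := hφinj (h0.trans (map_zero φ).symm)
    have h2 : m = 0 := IsFractionRing.injective Γ(Y, U) Y.functionField
      (h1.trans (map_zero _).symm)
    exact nonZeroDivisors.ne_zero hm h2
  refine ⟨(algebraMap Γ(Y, U) Y.functionField m)⁻¹ * (Y.presheaf.germ U _ hηU a), ?_⟩
  have h3 : φ (Y.presheaf.germ U _ hηU a) = u := by
    rw [stalkToFunctionField_germ f h U hηU a, ha, hs]
  rw [map_mul, map_inv₀, h3, hu_def, ← mul_assoc, inv_mul_cancel₀ hne, one_mul]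

end Groth.Agent.H22.FibrationNormal
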