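import Mathlib
import Groth.Prelude.Def_ega3
import Groth.Agent.H22.FibrationNormal3
import Groth.Agent.H22.BirIsoNhd
import Groth.Agent.H22.NormalizationIso
import Groth.Agent.H99.FieldDim
import Groth.Agent.H96.WeilDim
import Groth.Agent.S10830

/-! Fibrations between integral proper schemes of the same dimension are birational. -/

set_option autoImplicit false
set_option linter.style.haveILetI false
universe u

open AlgebraicGeometry CategoryTheory CategoryTheory.Limits TopologicalSpace Opposite

namespace Groth.Agent.H22.FibrationBir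

/-- a point which is alone in its fibre is isolated in its fibre -/
theorem isOpen_singleton_asFiber {X Y : Scheme.{u}} (f : X ⟶ Y) (x : X)
    (hx : ∀ z, f z = f x → z = x) : IsOpen ({f.asFiber x} : Set (f.fiber (f x))) := by
  have : ({f.asFiber x} : Set (f.fiber (f x))) = Set.univ := by
    ext t
    simp only [Set.mem_singleton_iff, Set.mem_univ, iff_true]
    apply (f.fiberι (f x)).isEmbedding.injective
    rw [f.fiberι_asFiber]
    exact hx _ (Groth.Agent.H48.CycFib.map_fiberι f (f x) t)
  rw [this]; exact isOpen_univ

theorem eq_genericPoint_of_map_eq (k : Type u) [Field k] {X Y : Scheme.{u}} [IsIntegral X]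
    [IsIntegral Y] (pX : X ⟶ Spec (CommRingCat.of k)) (pY : Y ⟶ Spec (CommRingCat.of k))
    [LocallyOfFiniteType pX] [LocallyOfFiniteType pY] [CompactSpace X]
    (f : X ⟶ Y) (hf : f ≫ pY = pX) (hdim : topologicalKrullDim X = topologicalKrullDim Y)
    (z : X) (hz : f z = genericPoint Y) : z = genericPoint X := by
  subst hf
  haveI : LocallyOfFiniteType f := locallyOfFiniteType_of_comp f pY
  have hfin : topologicalKrullDim X ≠ ⊤ :=
    (Groth.Agent.H96.WeilDim.topologicalKrullDim_lt_top_of_locallyOfFiniteType k (f ≫ pY)).ne
  obtain ⟨n, -, hn⟩ := Groth.Agent.H99.FieldDim.deltaCompat_comp f pY z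
  have h1 := Groth.Agent.H99.FieldDim.topologicalKrullDim_closure (f ≫ pY) z
  have h2 := Groth.Agent.H99.FieldDim.topologicalKrullDim_closure pY (genericPoint Y)
  have h3 : topologicalKrullDim ↥(closure ({genericPoint Y} : Set Y)) = topologicalKrullDim Y := by
    rw [(genericPoint_spec Y).def]
    exact (Homeomorph.Set.univ Y).isHomeomorph.topologicalKrullDim_eq
  by_contra hne
  have hcl : closure ({z} : Set X) ≠ Set.univ := by
    intro h
    apply hne
    have : IsGenericPoint z Set.univ := h
    exact this.eq (genericPoint_spec X)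
  have h4 := Groth.Agent.S10830.result X hfin (closure {z}) isClosed_closure hcl
  rw [h1, hdim, ← h3, h2, hn, hz] at h4
  have h5 : (Groth.Agent.H99.FieldDim.delta pY (genericPoint Y)).toNat ≤
      (Groth.Agent.H99.FieldDim.delta pY (genericPoint Y) + n).toNat := by omega
  exact absurd h4 (not_lt.mpr (by exact_mod_cast h5))

theorem bijective_of_isIso_app (k : Type u) [Field k] {X Y : Scheme.{u}} [IsIntegral X]
    [IsIntegral Y] (pX : X ⟶ Spec (CommRingCat.of k)) (pY : Y ⟶ Spec (CommRingCat.of k))
    [LocallyOfFiniteType pX] [LocallyOfFiniteType pY] [CompactSpace X]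
    (f : X ⟶ Y) [IsSeparated f] [QuasiCompact f]
    (hf : f ≫ pY = pX) (hdim : topologicalKrullDim X = topologicalKrullDim Y)
    (h : f.base (genericPoint X) ⤳ genericPoint Y)
    (hiso : ∀ U : Y.Opens, IsIso (f.app U)) :
    Function.Bijective (CohIII.stalkToFunctionField f (genericPoint Y) h) := by
  haveI : LocallyOfFiniteType f := by
    haveI : LocallyOfFiniteType (f ≫ pY) := by rw [hf]; infer_instance
    exact locallyOfFiniteType_of_comp f pY
  have hins : Inseparable (genericPoint Y) (f (genericPoint X)) :=
    (h.antisymm ((genericPoint_spec Y).specializes (Set.mem_univ _))).symm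
  have hη : f (genericPoint X) = genericPoint Y := hins.eq.symm
  obtain ⟨V, hVi, hV⟩ :=
    Groth.Agent.H22.NormalizationIso.exists_isIso_morphismRestrict_of_bijective_app f
      (fun U _ => (ConcreteCategory.isIso_iff_bijective _).mp (hiso U))
  have hmem : f (genericPoint X) ∈ V := by
    by_contra hn
    exact hV _ hn (f.asFiber (genericPoint X)) (isOpen_singleton_asFiber f _
      (fun z hz => eq_genericPoint_of_map_eq k pX pY f hf hdim z (hz.trans hη)))
  haveI := hVi
  have h5 : IsIso (f.stalkMap (genericPoint X)) :=
    Groth.Agent.H22.BirIsoNhd.isIso_stalkMap_of_isIso_restrict f V _ hmem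
  have h6 : IsIso (Y.presheaf.stalkSpecializes h) :=
    (Y.presheaf.stalkCongr hins).isIso_hom
  unfold CohIII.stalkToFunctionField
  rw [RingHom.coe_comp]
  exact ((ConcreteCategory.isIso_iff_bijective _).mp h5).comp
    ((ConcreteCategory.isIso_iff_bijective _).mp h6)

end Groth.Agent.H22.FibrationBir
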