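import Mathlib

/-! A surjective morphism of schemes which is injective on sections is an epimorphism;
fibrations with closed range are surjective. -/

set_option autoImplicit false
set_option linter.style.haveILetI false
universe u

open AlgebraicGeometry CategoryTheory CategoryTheory.Limits TopologicalSpace Opposite

namespace Groth.Agent.H22.FibrationEpi

theorem eq_of_comp_eq {X Y B : Scheme.{u}} (r : X ⟶ Y) (hs : Function.Surjective r.base)
    (hinj : ∀ U : Y.Opens, Function.Injective (r.app U)) (a b : Y ⟶ B)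
    (hab : r ≫ a = r ≫ b) : a = b := by
  have hbase : a.base = b.base := by
    ext y
    obtain ⟨x, rfl⟩ := hs y
    have h1 : (r ≫ a).base x = (r ≫ b).base x := by rw [hab]
    simpa using h1
  refine Scheme.Hom.ext hbase (fun U => ?_)
  haveI hmono : Mono (r.app (b ⁻¹ᵁ U)) := ConcreteCategory.mono_of_injective _ (hinj _)
  rw [← cancel_mono (r.app (b ⁻¹ᵁ U))]
  have h0 := Scheme.Hom.congr_app hab U
  have e1 : r ⁻¹ᵁ a ⁻¹ᵁ U = r ⁻¹ᵁ b ⁻¹ᵁ U := congrArg (fun f : X ⟶ B => f ⁻¹ᵁ U) hab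
  have h1 : a.app U ≫ r.app (a ⁻¹ᵁ U) =
      (b.app U ≫ r.app (b ⁻¹ᵁ U)) ≫ X.presheaf.map (eqToHom e1).op :=
    (Scheme.Hom.comp_app r a U).symm.trans (h0.trans
      (congrArg (· ≫ X.presheaf.map (eqToHom e1).op) (Scheme.Hom.comp_app r b U)))
  have h2 : ∀ (V : X.Opens) (i : op V ⟶ op V), X.presheaf.map i = 𝟙 _ := by
    intro V i
    rw [Subsingleton.elim i (𝟙 _), X.presheaf.map_id]
  rw [Category.assoc, Scheme.Hom.naturality, ← Category.assoc, h1, Category.assoc,
    ← Functor.map_comp, h2, Category.comp_id]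

theorem eq_bot_of_subsingleton {Y : Scheme.{u}} (U : Y.Opens) [Subsingleton Γ(Y, U)] : U = ⊥ := by
  have h1 : Y.basicOpen (1 : Γ(Y, U)) = U := Y.basicOpen_of_isUnit isUnit_one
  rw [← h1, Subsingleton.elim (1 : Γ(Y, U)) 0, Scheme.basicOpen_zero]

theorem surjective_of_isClosed_range {X Y : Scheme.{u}} (r : X ⟶ Y)
    (hcl : IsClosed (Set.range r.base))
    (hinj : ∀ U : Y.Opens, Function.Injective (r.app U)) : Function.Surjective r.base := by
  intro y
  by_contra hy
  let U : Y.Opens := ⟨(Set.range r.base)ᶜ, hcl.isOpen_compl⟩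
  have hU : r ⁻¹ᵁ U = ⊥ := by
    ext x
    simp only [Opens.coe_bot, Set.mem_empty_iff_false, iff_false]
    intro hx
    exact hx ⟨x, rfl⟩
  have h1 : Subsingleton Γ(X, r ⁻¹ᵁ U) := by rw [hU]; infer_instance
  have h2 : Subsingleton Γ(Y, U) := (hinj U).subsingleton
  have h3 := eq_bot_of_subsingleton U
  have h4 : y ∈ U := hy
  rw [h3] at h4
  exact h4

end Groth.Agent.H22.FibrationEpi
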