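import Mathlib
import Groth.Agent.H22.ProjBaseChange

/-! For `f : X ⟶ S` with `O_S → f_* O_X` an isomorphism and `p : Y ⟶ S` finite locally free,
the projection `Y ×_S X ⟶ Y` induces isomorphisms on sections over preimages of opens of `S`. -/

set_option autoImplicit false
universe u

open AlgebraicGeometry CategoryTheory CategoryTheory.Limits TopologicalSpace Opposite

namespace Groth.Agent.H22.FibrationFEt

open Groth.Agent.H22.ProjBaseChange

theorem appLE_top_top {A B : Scheme.{u}} (g : A ⟶ B) (e : (⊤ : A.Opens) ≤ g ⁻¹ᵁ ⊤) :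
    g.appLE ⊤ ⊤ e = g.appTop := by
  simp [Scheme.Hom.appLE, Scheme.Hom.appTop]

/-- Dual basis for a finite locally free morphism to an affine scheme. -/
theorem exists_dualBasis {T S₀ : Scheme.{u}} (q : T ⟶ S₀) [IsAffine S₀] [IsFinite q] [Flat q]
    [LocallyOfFinitePresentation q] :
    ∃ (n : ℕ) (e : Fin n → Γ(T, ⊤)) (l : Fin n → (Γ(T, ⊤) →+ Γ(S₀, ⊤))),
      (∀ i α β, l i (φ0 q α * β) = α * l i β) ∧ (∀ β, β = ∑ i, φ0 q (l i β) * e i) := by
  haveI : IsAffine T := isAffine_of_isAffineHom q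
  have e1 : φ0 q = q.appTop.hom := by
    unfold φ0
    rw [appLE_top_top]
  rw [e1]
  have h1 : q.appTop.hom.Finite := ((HasAffineProperty.iff_of_isAffine (P := @IsFinite)).mp
    (inferInstance : IsFinite q)).2
  have h2 : q.appTop.hom.Flat := (HasRingHomProperty.iff_of_isAffine (P := @Flat)).mp inferInstance
  have h3 : q.appTop.hom.FinitePresentation :=
    (HasRingHomProperty.iff_of_isAffine (P := @LocallyOfFinitePresentation)).mp inferInstance
  letI : Algebra Γ(S₀, ⊤) Γ(T, ⊤) := q.appTop.hom.toAlgebra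
  haveI : Module.Finite Γ(S₀, ⊤) Γ(T, ⊤) := h1
  haveI : Module.Flat Γ(S₀, ⊤) Γ(T, ⊤) := h2
  haveI : Algebra.FinitePresentation Γ(S₀, ⊤) Γ(T, ⊤) := h3
  haveI : Module.FinitePresentation Γ(S₀, ⊤) Γ(T, ⊤) :=
    Module.FinitePresentation.of_finite_of_finitePresentation _ _
  haveI : Module.Projective Γ(S₀, ⊤) Γ(T, ⊤) := Module.Flat.projective_of_finitePresentation
  obtain ⟨n, fπ, g, -, -, hfg⟩ :=
    Module.Finite.exists_comp_eq_id_of_projective Γ(S₀, ⊤) Γ(T, ⊤)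
  refine ⟨n, fun i => fπ (Pi.single i 1),
    fun i => ((LinearMap.proj i).comp g).toAddMonoidHom, ?_, ?_⟩
  · intro i α β
    show (g (q.appTop.hom α * β)) i = α * (g β) i
    have : q.appTop.hom α * β = α • β := (Algebra.smul_def α β).symm
    rw [this, map_smul]
    rfl
  · intro β
    show β = ∑ i, q.appTop.hom ((g β) i) * fπ (Pi.single i 1)
    have h4 : β = fπ (g β) := (LinearMap.congr_fun hfg β).symm
    conv_lhs => rw [h4]
    have h5 : g β = ∑ i, (g β) i • (Pi.single i 1 : Fin n → Γ(S₀, ⊤)) := by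
      ext j
      simp [Finset.sum_apply, Pi.single_apply]
    conv_lhs => rw [h5]
    rw [map_sum]
    refine Finset.sum_congr rfl fun i _ => ?_
    rw [map_smul, Algebra.smul_def]
    rfl


theorem isIso_of_arrow_iso {A B A' B' : CommRingCat.{u}} {a : A ⟶ B} {b : A' ⟶ B'}
    (e : Arrow.mk a ≅ Arrow.mk b) (h : IsIso a) : IsIso b :=
  ((MorphismProperty.isomorphisms CommRingCat).arrow_mk_iso_iff e).mp h

/-- Affine case: for `V ⊆ S` affine open, `Γ(Y, p⁻¹V) → Γ(Y ×_S X, pr⁻¹p⁻¹V)` is an isomorphism. -/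
theorem isIso_app_of_affine {X Y S : Scheme.{u}} (p : Y ⟶ S) (f : X ⟶ S) [IsFinite p] [Flat p]
    [LocallyOfFinitePresentation p]
    (hf : ∀ U : S.Opens, Function.Bijective (f.app U)) {V : S.Opens} (hV : IsAffineOpen V) :
    IsIso ((pullback.fst p f).app (p ⁻¹ᵁ V)) := by
  have H0 := (IsPullback.of_hasPullback p f).flip
  have H' := Scheme.Hom.isPullback_resLE H0 (US := V) (UT := p ⁻¹ᵁ V) (UX := f ⁻¹ᵁ V)
    le_rfl le_rfl rfl
  haveI : IsAffine V.toScheme := hV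
  have hq : p.resLE V (p ⁻¹ᵁ V) le_rfl = p ∣_ V := Scheme.Hom.resLE_eq_morphismRestrict p
  haveI : IsFinite (p.resLE V (p ⁻¹ᵁ V) le_rfl) := by rw [hq]; infer_instance
  haveI : Flat (p.resLE V (p ⁻¹ᵁ V) le_rfl) := by rw [hq]; infer_instance
  haveI : LocallyOfFinitePresentation (p.resLE V (p ⁻¹ᵁ V) le_rfl) := by
    rw [hq]; infer_instance
  haveI : IsAffine (p ⁻¹ᵁ V).toScheme := isAffine_of_isAffineHom (p.resLE V (p ⁻¹ᵁ V) le_rfl)
  obtain ⟨n, e, l, hl, hsum⟩ := exists_dualBasis (p.resLE V (p ⁻¹ᵁ V) le_rfl)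
  have hw : Function.Bijective (f.resLE V (f ⁻¹ᵁ V) le_rfl).appTop := by
    rw [← ConcreteCategory.isIso_iff_bijective]
    have h1 : IsIso (f.appLE V (f ⁻¹ᵁ V) le_rfl) := by
      rw [Scheme.Hom.appLE_eq_app, ConcreteCategory.isIso_iff_bijective]
      exact hf V
    exact isIso_of_arrow_iso (arrowResLEAppIso f V (f ⁻¹ᵁ V) le_rfl).symm h1
  have hb := bijective_appTop H' n e l hl hsum hw
  rw [← ConcreteCategory.isIso_iff_bijective] at hb
  have h2 := isIso_of_arrow_iso (arrowResLEAppIso (pullback.fst p f) (p ⁻¹ᵁ V) _ _) hb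
  rw [Scheme.Hom.appLE] at h2
  have hEq : pullback.fst p f ⁻¹ᵁ (p ⁻¹ᵁ V) ≤
      pullback.snd p f ⁻¹ᵁ (f ⁻¹ᵁ V) ⊓ pullback.fst p f ⁻¹ᵁ (p ⁻¹ᵁ V) := by
    refine le_inf ?_ le_rfl
    rw [← Scheme.Hom.comp_preimage, ← Scheme.Hom.comp_preimage, pullback.condition]
  have h3 : ∀ (e' : pullback.snd p f ⁻¹ᵁ (f ⁻¹ᵁ V) ⊓ pullback.fst p f ⁻¹ᵁ (p ⁻¹ᵁ V) ≤
      pullback.fst p f ⁻¹ᵁ (p ⁻¹ᵁ V)),
      IsIso ((pullback p f).presheaf.map (homOfLE e').op) := by
    intro e'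
    haveI : IsIso (homOfLE e') := ⟨homOfLE hEq, Subsingleton.elim _ _, Subsingleton.elim _ _⟩
    infer_instance
  have e' : pullback.snd p f ⁻¹ᵁ (f ⁻¹ᵁ V) ⊓ pullback.fst p f ⁻¹ᵁ (p ⁻¹ᵁ V) ≤
      pullback.fst p f ⁻¹ᵁ (p ⁻¹ᵁ V) := inf_le_right
  haveI := h3 e'
  haveI : IsIso ((pullback.fst p f).app (p ⁻¹ᵁ V) ≫
      (pullback p f).presheaf.map (homOfLE e').op) := h2
  exact IsIso.of_isIso_comp_right ((pullback.fst p f).app (p ⁻¹ᵁ V))
    ((pullback p f).presheaf.map (homOfLE e').op)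


/-- For every open `V ⊆ S`, `Γ(Y, p⁻¹V) → Γ(Y ×_S X, pr⁻¹p⁻¹V)` is an isomorphism. -/
theorem isIso_app {X Y S : Scheme.{u}} (p : Y ⟶ S) (f : X ⟶ S) [IsFinite p] [Flat p]
    [LocallyOfFinitePresentation p]
    (hf : ∀ U : S.Opens, Function.Bijective (f.app U)) (V : S.Opens) :
    IsIso ((pullback.fst p f).app (p ⁻¹ᵁ V)) := by
  let prc : Y.sheaf ⟶ (TopCat.Sheaf.pushforward CommRingCat (pullback.fst p f).base).obj
      (pullback p f).sheaf := ⟨(pullback.fst p f).c⟩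
  let φ := (TopCat.Sheaf.pushforward CommRingCat p.base).map prc
  have hφ : IsIso φ := by
    refine TopCat.Sheaf.isIso_iff_isIso_basis (B := fun V : S.affineOpens => (V : S.Opens)) ?_ ?_
    · rw [Subtype.range_coe]
      exact S.isBasis_affineOpens
    · intro V
      exact isIso_app_of_affine p f hf V.2
  haveI := hφ
  have h2 : IsIso φ.hom := (TopCat.Sheaf.forget CommRingCat S).map_isIso φ
  exact NatIso.isIso_app_of_isIso φ.hom (op V)

end Groth.Agent.H22.FibrationFEt
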