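import Mathlib
import Groth.Prelude.Def_FEt

/-! Morphisms inducing isomorphisms on sections over preimages of opens of a base: unique
extension of maps into schemes affine over the base.  (Adapted from helper6's `PurityFF`.) -/

set_option autoImplicit false
set_option linter.style.haveILetI false
universe u

open AlgebraicGeometry CategoryTheory CategoryTheory.Limits Opposite TopologicalSpace

namespace Groth.Agent.H22.FibrationGlue

/-- `i : Z ⟶ T` induces isomorphisms on sections over the preimages under `g : T ⟶ X` of the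
opens of the base `X`. -/
structure GP {Z T X : Scheme.{u}} (i : Z ⟶ T) (g : T ⟶ X) : Prop where
  iso : ∀ V : X.Opens, IsIso (i.app (g ⁻¹ᵁ V))

theorem GP.isIso_appTop {Z T X : Scheme.{u}} {i : Z ⟶ T} {g : T ⟶ X} (h : GP i g) :
    IsIso i.appTop :=
  h.iso ⊤

theorem isIso_app_congr {Z T : Scheme.{u}} (i : Z ⟶ T) {U₁ U₂ : T.Opens} (e : U₁ = U₂)
    (h : IsIso (i.app U₁)) : IsIso (i.app U₂) := by
  subst e; exact h

theorem GP.of_isPullback {Z T X Z' T' : Scheme.{u}} {i : Z ⟶ T} {g : T ⟶ X} (h : GP i g)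
    {i' : Z' ⟶ T'} {j' : Z' ⟶ Z} {j : T' ⟶ T} (sq : IsPullback i' j' j i) [IsOpenImmersion j]
    (V₀ : X.Opens) (hj : j.opensRange = g ⁻¹ᵁ V₀) : GP i' (j ≫ g) := by
  haveI : IsOpenImmersion j' :=
    MorphismProperty.of_isPullback (P := @IsOpenImmersion) sq inferInstance
  have hr' : j'.opensRange = i ⁻¹ᵁ j.opensRange := by
    apply Opens.ext
    have e : j' = sq.isoPullback.hom ≫ pullback.snd j i := (sq.isoPullback_hom_snd).symm
    show Set.range j' = i ⁻¹' Set.range j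
    rw [e, Scheme.Hom.comp_base, TopCat.coe_comp, Set.range_comp,
      Set.range_eq_univ.mpr (sq.isoPullback.hom.surjective), Set.image_univ,
      Scheme.Pullback.range_snd]
  refine ⟨fun V => ?_⟩
  set U : T.Opens := g ⁻¹ᵁ (V ⊓ V₀) with hU
  have hUle : U ≤ j.opensRange := by
    rw [hj, hU]
    exact g.preimage_mono inf_le_right
  haveI h1 : IsIso (j.app U) := Scheme.Hom.isIso_app j U hUle
  haveI h2 : IsIso (j'.app (i ⁻¹ᵁ U)) :=
    Scheme.Hom.isIso_app j' (i ⁻¹ᵁ U) (by rw [hr']; exact i.preimage_mono hUle)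
  haveI h3 : IsIso (i.app U) := h.iso (V ⊓ V₀)
  have key := Scheme.Hom.congr_app sq.w U
  rw [Scheme.Hom.comp_app, Scheme.Hom.comp_app] at key
  have h4 : IsIso (j.app U ≫ i'.app (j ⁻¹ᵁ U)) := by
    rw [key]
    have h6 : ∀ {A B : Z'.Opens} (e : A = B), IsIso (Z'.presheaf.map (eqToHom e).op) := by
      rintro A B rfl
      rw [eqToHom_refl, op_id, Z'.presheaf.map_id]
      infer_instance
    exact IsIso.comp_isIso' (IsIso.comp_isIso' h3 h2) (h6 _)
  have h5 : IsIso (i'.app (j ⁻¹ᵁ U)) := IsIso.of_isIso_comp_left (j.app U) _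
  refine isIso_app_congr i' ?_ h5
  apply Opens.ext
  show j ⁻¹' (g ⁻¹' ((V : Set X) ∩ V₀)) = (j ≫ g) ⁻¹' (V : Set X)
  ext t
  simp only [Set.mem_preimage, Set.mem_inter_iff, Scheme.Hom.comp_base, TopCat.coe_comp,
    Function.comp_apply]
  refine ⟨fun h => h.1, fun h => ⟨h, ?_⟩⟩
  have : j t ∈ j.opensRange := ⟨t, rfl⟩
  rw [hj] at this
  exact this


/-- For affine `Y`, every ring map `Γ(Y, ⊤) ⟶ Γ(X, ⊤)` comes from a morphism `X ⟶ Y`. -/
theorem exists_hom_appTop_eq (X Y : Scheme.{u}) [IsAffine Y] (φ : Γ(Y, ⊤) ⟶ Γ(X, ⊤)) :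
    ∃ g : X ⟶ Y, g.appTop = φ := by
  refine ⟨(ΓSpec.adjunction.homEquiv X (op Γ(Y, ⊤))) φ.op ≫ Y.isoSpec.inv, ?_⟩
  have h1 : Y.isoSpec.inv.appTop = (Scheme.ΓSpecIso Γ(Y, ⊤)).inv := by
    have h := congrArg Scheme.Hom.appTop (Scheme.isoSpec_inv_toSpecΓ Y)
    rw [Scheme.Hom.comp_appTop, Scheme.toSpecΓ_appTop, Scheme.Hom.id_appTop] at h
    rw [← cancel_epi (Scheme.ΓSpecIso Γ(Y, ⊤)).hom, h, Iso.hom_inv_id]
  rw [Scheme.Hom.comp_appTop, h1, ΓSpec_adjunction_homEquiv_eq, Iso.inv_hom_id_assoc]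

/-- If `i.appTop` is an isomorphism, morphisms to an affine scheme extend uniquely along `i`. -/
theorem existsUnique_extension' {Z T Y : Scheme.{u}} [IsAffine Y] (i : Z ⟶ T)
    (hiso : IsIso i.appTop) (f : Z ⟶ Y) : ∃! g : T ⟶ Y, i ≫ g = f := by
  obtain ⟨g, hg⟩ := exists_hom_appTop_eq T Y (f.appTop ≫ inv i.appTop)
  refine ⟨g, ?_, ?_⟩
  · apply ext_of_isAffine
    rw [Scheme.Hom.comp_appTop, hg, Category.assoc, IsIso.inv_hom_id, Category.comp_id]
  · intro g' hg'
    apply ext_of_isAffine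
    rw [hg]
    have h2 := congrArg Scheme.Hom.appTop hg'
    rw [Scheme.Hom.comp_appTop] at h2
    rw [← h2, Category.assoc, IsIso.hom_inv_id, Category.comp_id]

theorem GP.hom_ext_affine {Z T X Y : Scheme.{u}} [IsAffine Y] {i : Z ⟶ T} {g : T ⟶ X}
    (h : GP i g) (g₁ g₂ : T ⟶ Y) (hg : i ≫ g₁ = i ≫ g₂) : g₁ = g₂ :=
  (existsUnique_extension' i h.isIso_appTop (i ≫ g₁)).unique rfl hg.symm

theorem opensRange_fst {T X X' : Scheme.{u}} (g : T ⟶ X) (u : X' ⟶ X) [IsOpenImmersion u] :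
    (pullback.fst g u).opensRange = g ⁻¹ᵁ u.opensRange :=
  Opens.ext (Scheme.Pullback.range_fst g u)

/-- The base change of a `GP` pair along the preimage of an open immersion into the base. -/
theorem GP.pullback_fst {Z T X X' : Scheme.{u}} {i : Z ⟶ T} {g : T ⟶ X} (h : GP i g)
    (u : X' ⟶ X) [IsOpenImmersion u] :
    GP (pullback.fst (pullback.fst g u) i) (pullback.fst g u ≫ g) :=
  h.of_isPullback (IsPullback.of_hasPullback (pullback.fst g u) i) u.opensRange
    (opensRange_fst g u)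

/-- Uniqueness of extensions into a scheme affine over a base. -/
theorem GP.hom_ext {X Y' Z T : Scheme.{u}} (p' : Y' ⟶ X) [IsAffineHom p'] {i : Z ⟶ T}
    {g : T ⟶ X} (h : GP i g) (ψ₁ ψ₂ : T ⟶ Y') (hp₁ : ψ₁ ≫ p' = g) (hp₂ : ψ₂ ≫ p' = g)
    (hi : i ≫ ψ₁ = i ≫ ψ₂) : ψ₁ = ψ₂ := by
  let 𝒰 := X.affineCover
  refine Scheme.Cover.hom_ext (𝒰.pullback₁ g) _ _ fun k => ?_
  change pullback.fst g (𝒰.f k) ≫ ψ₁ = pullback.fst g (𝒰.f k) ≫ ψ₂
  haveI : IsAffine (pullback p' (𝒰.f k)) := isAffine_of_isAffineHom (pullback.snd p' (𝒰.f k))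
  have hk := h.pullback_fst (𝒰.f k)
  let μ₁ : pullback g (𝒰.f k) ⟶ pullback p' (𝒰.f k) :=
    pullback.lift (pullback.fst g (𝒰.f k) ≫ ψ₁) (pullback.snd g (𝒰.f k))
      (by rw [Category.assoc, hp₁]; exact pullback.condition)
  let μ₂ : pullback g (𝒰.f k) ⟶ pullback p' (𝒰.f k) :=
    pullback.lift (pullback.fst g (𝒰.f k) ≫ ψ₂) (pullback.snd g (𝒰.f k))
      (by rw [Category.assoc, hp₂]; exact pullback.condition)
  have hμ : μ₁ = μ₂ := by
    apply hk.hom_ext_affine
    apply pullback.hom_ext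
    · simp only [μ₁, μ₂, Category.assoc, pullback.lift_fst]
      rw [pullback.condition_assoc, pullback.condition_assoc, hi]
    · simp only [μ₁, μ₂, Category.assoc, pullback.lift_snd]
  have h1 : pullback.fst g (𝒰.f k) ≫ ψ₁ = μ₁ ≫ pullback.fst p' (𝒰.f k) := by
    simp only [μ₁, pullback.lift_fst]
  have h2 : pullback.fst g (𝒰.f k) ≫ ψ₂ = μ₂ ≫ pullback.fst p' (𝒰.f k) := by
    simp only [μ₂, pullback.lift_fst]
  rw [h1, h2, hμ]


/-- Existence of extensions into a scheme affine over a base. -/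
theorem GP.exists_extension {X Y' Z T : Scheme.{u}} (p' : Y' ⟶ X) [IsAffineHom p'] {i : Z ⟶ T}
    {g : T ⟶ X} (h : GP i g) (f : Z ⟶ Y') (hf : f ≫ p' = i ≫ g) :
    ∃ ψ : T ⟶ Y', i ≫ ψ = f ∧ ψ ≫ p' = g := by
  let 𝒰 := X.affineCover
  let 𝒱 := 𝒰.pullback₁ g
  have hpk : ∀ k, GP (pullback.fst (pullback.fst g (𝒰.f k)) i) (pullback.fst g (𝒰.f k) ≫ g) :=
    fun k => h.pullback_fst (𝒰.f k)
  haveI : ∀ k, IsAffine (pullback p' (𝒰.f k)) := fun k =>
    isAffine_of_isAffineHom (pullback.snd p' (𝒰.f k))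
  -- local data
  let fk : ∀ k, pullback (pullback.fst g (𝒰.f k)) i ⟶ pullback p' (𝒰.f k) := fun k =>
    pullback.lift (pullback.snd (pullback.fst g (𝒰.f k)) i ≫ f)
      (pullback.fst (pullback.fst g (𝒰.f k)) i ≫ pullback.snd g (𝒰.f k))
      (by rw [Category.assoc, hf, ← pullback.condition_assoc, Category.assoc, pullback.condition])
  have hex : ∀ k, ∃ μ : pullback g (𝒰.f k) ⟶ pullback p' (𝒰.f k),
      pullback.fst (pullback.fst g (𝒰.f k)) i ≫ μ = fk k := fun k =>
    (existsUnique_extension' _ (hpk k).isIso_appTop (fk k)).exists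
  choose μ hμ using hex
  have hμsnd : ∀ k, μ k ≫ pullback.snd p' (𝒰.f k) = pullback.snd g (𝒰.f k) := by
    intro k
    apply (hpk k).hom_ext_affine
    rw [reassoc_of% (hμ k)]
    simp only [fk, pullback.lift_snd]
  have hμp : ∀ k, (μ k ≫ pullback.fst p' (𝒰.f k)) ≫ p' = pullback.fst g (𝒰.f k) ≫ g := by
    intro k
    rw [Category.assoc, pullback.condition, reassoc_of% (hμsnd k), pullback.condition]
  have hμi : ∀ k, pullback.fst (pullback.fst g (𝒰.f k)) i ≫ μ k ≫ pullback.fst p' (𝒰.f k) =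
      pullback.snd (pullback.fst g (𝒰.f k)) i ≫ f := by
    intro k
    rw [reassoc_of% (hμ k)]
    simp only [fk, pullback.lift_fst]
  -- glue
  have compat : ∀ k l : 𝒰.I₀, pullback.fst (pullback.fst g (𝒰.f k)) (pullback.fst g (𝒰.f l)) ≫
        μ k ≫ pullback.fst p' (𝒰.f k) =
      pullback.snd (pullback.fst g (𝒰.f k)) (pullback.fst g (𝒰.f l)) ≫
        μ l ≫ pullback.fst p' (𝒰.f l) := by
    intro k l
    set a := pullback.fst (pullback.fst g (𝒰.f k)) (pullback.fst g (𝒰.f l)) with ha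
    set b := pullback.snd (pullback.fst g (𝒰.f k)) (pullback.fst g (𝒰.f l)) with hb
    have hab : a ≫ pullback.fst g (𝒰.f k) = b ≫ pullback.fst g (𝒰.f l) := pullback.condition
    have hrange : (a ≫ pullback.fst g (𝒰.f k)).opensRange =
        g ⁻¹ᵁ ((𝒰.f k).opensRange ⊓ (𝒰.f l).opensRange) := by
      apply Opens.ext
      show Set.range (a ≫ pullback.fst g (𝒰.f k)) = _
      rw [ha, Scheme.Pullback.range_fst_comp, Scheme.Pullback.range_fst,
        Scheme.Pullback.range_fst]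
      rfl
    have hkl : GP (pullback.fst (a ≫ pullback.fst g (𝒰.f k)) i)
        ((a ≫ pullback.fst g (𝒰.f k)) ≫ g) :=
      h.of_isPullback (IsPullback.of_hasPullback (a ≫ pullback.fst g (𝒰.f k)) i) _ hrange
    apply hkl.hom_ext p'
    · have e5 := hμp k
      rw [Category.assoc] at e5
      simp only [Category.assoc]
      rw [e5]
    · have e6 := hμp l
      rw [Category.assoc] at e6
      simp only [Category.assoc]
      rw [e6, reassoc_of% hab]
    · -- factor through the local pullbacks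
      let νk : pullback (a ≫ pullback.fst g (𝒰.f k)) i ⟶ pullback (pullback.fst g (𝒰.f k)) i :=
        pullback.lift (pullback.fst _ _ ≫ a) (pullback.snd _ _)
          (by rw [Category.assoc]; exact pullback.condition)
      let νl : pullback (a ≫ pullback.fst g (𝒰.f k)) i ⟶ pullback (pullback.fst g (𝒰.f l)) i :=
        pullback.lift (pullback.fst _ _ ≫ b) (pullback.snd _ _)
          (by rw [Category.assoc, ← hab]; exact pullback.condition)
      have e1 : pullback.fst (a ≫ pullback.fst g (𝒰.f k)) i ≫ a =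
          νk ≫ pullback.fst (pullback.fst g (𝒰.f k)) i := by
        simp only [νk, pullback.lift_fst]
      have e2 : pullback.fst (a ≫ pullback.fst g (𝒰.f k)) i ≫ b =
          νl ≫ pullback.fst (pullback.fst g (𝒰.f l)) i := by
        simp only [νl, pullback.lift_fst]
      rw [reassoc_of% e1, reassoc_of% e2, hμi k, hμi l]
      simp only [νk, νl, pullback.lift_snd_assoc]
  let ψ : T ⟶ Y' := Scheme.Cover.glueMorphisms 𝒱 (fun k => μ k ≫ pullback.fst p' (𝒰.f k))
    (fun k l => compat k l)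
  have hψ : ∀ k : 𝒰.I₀, pullback.fst g (𝒰.f k) ≫ ψ = μ k ≫ pullback.fst p' (𝒰.f k) := fun k =>
    Scheme.Cover.ι_glueMorphisms 𝒱 _ (fun k l => compat k l) k
  refine ⟨ψ, ?_, ?_⟩
  · refine Scheme.Cover.hom_ext (𝒱.pullback₁ i) _ _ fun k => ?_
    change pullback.fst i (pullback.fst g (𝒰.f k)) ≫ i ≫ ψ =
      pullback.fst i (pullback.fst g (𝒰.f k)) ≫ f
    rw [pullback.condition_assoc, hψ k]
    have e3 : pullback.snd i (pullback.fst g (𝒰.f k)) =
        (pullbackSymmetry _ _).hom ≫ pullback.fst (pullback.fst g (𝒰.f k)) i := by simp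
    have e4 : pullback.fst i (pullback.fst g (𝒰.f k)) =
        (pullbackSymmetry _ _).hom ≫ pullback.snd (pullback.fst g (𝒰.f k)) i := by simp
    rw [e3, e4, Category.assoc, hμi k, Category.assoc]
  · refine Scheme.Cover.hom_ext 𝒱 _ _ fun k => ?_
    change pullback.fst g (𝒰.f k) ≫ ψ ≫ p' = pullback.fst g (𝒰.f k) ≫ g
    rw [reassoc_of% (hψ k), ← hμp k, Category.assoc]

end Groth.Agent.H22.FibrationGlue
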