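import Mathlib
import Groth.Agent.H22.FibrationFEt
import Groth.Agent.H22.FibrationGlue

/-! `FEt.restrict f` is fully faithful when `O_S → f_* O_X` is an isomorphism. -/

set_option autoImplicit false
set_option linter.style.haveILetI false
universe u

open AlgebraicGeometry CategoryTheory CategoryTheory.Limits Opposite TopologicalSpace

namespace Groth.Agent.H22.FibrationFF

open Groth.Agent.H22.FibrationGlue

theorem gp_fst {X S Y : Scheme.{u}} (f : X ⟶ S)
    (hf : ∀ U : S.Opens, Function.Bijective (f.app U)) (p : Y ⟶ S) [IsFinite p] [Etale p] :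
    GP (pullback.fst p f) p :=
  ⟨fun V => Groth.Agent.H22.FibrationFEt.isIso_app p f hf V⟩

theorem comp_fst_comp {X U Y₁ Y₂ : Scheme.{u}} (j : U ⟶ X) (p₁ : Y₁ ⟶ X) (p₂ : Y₂ ⟶ X)
    (φ : pullback p₁ j ⟶ pullback p₂ j) (hw : φ ≫ pullback.snd p₂ j = pullback.snd p₁ j) :
    (φ ≫ pullback.fst p₂ j) ≫ p₂ = pullback.fst p₁ j ≫ p₁ := by
  rw [Category.assoc, pullback.condition, reassoc_of% hw, pullback.condition]

set_option backward.isDefEq.respectTransparency.types false in
theorem restrict_full {X S : Scheme.{u}} (f : X ⟶ S)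
    (hf : ∀ U : S.Opens, Function.Bijective (f.app U)) : (FEt.restrict f).Full := by
  refine ⟨fun {Y₁ Y₂} φ' => ?_⟩
  have : IsFinite Y₁.hom := Y₁.prop.1
  have : Etale Y₁.hom := Y₁.prop.2
  have : IsFinite Y₂.hom := Y₂.prop.1
  have : Etale Y₂.hom := Y₂.prop.2
  have hw : φ'.left ≫ pullback.snd Y₂.hom f = pullback.snd Y₁.hom f :=
    MorphismProperty.Over.w φ'
  let ψ : pullback Y₁.hom f ⟶ Y₂.left := φ'.left ≫ pullback.fst Y₂.hom f
  have hψ : ψ ≫ Y₂.hom = pullback.fst Y₁.hom f ≫ Y₁.hom :=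
    comp_fst_comp f Y₁.hom Y₂.hom φ'.left hw
  obtain ⟨φ, hφ2, hφ1⟩ := (gp_fst f hf Y₁.hom).exists_extension Y₂.hom ψ hψ
  refine ⟨MorphismProperty.Over.homMk φ hφ1 trivial, ?_⟩
  apply MorphismProperty.Over.Hom.ext
  apply pullback.hom_ext
  · change pullback.lift _ _ _ ≫ _ = _
    rw [pullback.lift_fst]
    exact hφ2
  · change pullback.lift _ _ _ ≫ _ = _
    rw [pullback.lift_snd]
    exact hw.symm

set_option backward.isDefEq.respectTransparency.types false in
theorem restrict_faithful {X S : Scheme.{u}} (f : X ⟶ S)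
    (hf : ∀ U : S.Opens, Function.Bijective (f.app U)) : (FEt.restrict f).Faithful := by
  refine ⟨fun {Y₁ Y₂} φ₁ φ₂ hφ => ?_⟩
  have : IsFinite Y₁.hom := Y₁.prop.1
  have : Etale Y₁.hom := Y₁.prop.2
  have : IsFinite Y₂.hom := Y₂.prop.1
  apply MorphismProperty.Over.Hom.ext
  apply (gp_fst f hf Y₁.hom).hom_ext Y₂.hom
  · exact MorphismProperty.Over.w φ₁
  · exact MorphismProperty.Over.w φ₂
  · have h1 := congrArg (fun φ => φ.left ≫ pullback.fst Y₂.hom f) hφ
    change pullback.lift _ _ _ ≫ _ = pullback.lift _ _ _ ≫ _ at h1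
    rw [pullback.lift_fst, pullback.lift_fst] at h1
    exact h1

end Groth.Agent.H22.FibrationFF
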