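import Mathlib
import Groth.Agent.H22.DiscPurity

/-! A map between finite flat modules over a Noetherian ring which is bijective on the fibres over
all primes of height `≤ 1` is bijective (determinant + Krull's principal ideal theorem). -/

set_option autoImplicit false
universe u

namespace Groth.Agent.H22.FibreIso

open TensorProduct

/-- The fibre of `φ` at the prime `𝔮` (computed over some field `K` with `ker (A → K) = 𝔮`) is
bijective. -/
def FibreBij {A : Type u} [CommRing A] {C B : Type u} [AddCommGroup C] [Module A C]
    [AddCommGroup B] [Module A B] (φ : C →ₗ[A] B) (𝔮 : Ideal A) : Prop :=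
  ∃ (K : Type u) (_ : Field K) (_ : Algebra A K),
    RingHom.ker (algebraMap A K) = 𝔮 ∧ Function.Bijective (φ.baseChange K)

/-- Free case. -/
theorem bijective_of_free {R : Type u} [CommRing R] [IsNoetherianRing R] {M N : Type u}
    [AddCommGroup M] [Module R M] [AddCommGroup N] [Module R N] [Module.Finite R M]
    [Module.Free R M] [Module.Finite R N] [Module.Free R N] (f : M →ₗ[R] N)
    (H : ∀ 𝔮 : Ideal R, 𝔮.IsPrime → 𝔮.height ≤ 1 → FibreBij f 𝔮) : Function.Bijective f := by
  cases subsingleton_or_nontrivial R
  · haveI := Module.subsingleton R M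
    haveI := Module.subsingleton R N
    exact ⟨fun _ _ _ => Subsingleton.elim _ _, fun y => ⟨0, Subsingleton.elim _ _⟩⟩
  have hrank : Module.finrank R M = Module.finrank R N := by
    obtain ⟨𝔮₀, h𝔮₀⟩ := Ideal.nonempty_minimalPrimes (I := (⊥ : Ideal R)) bot_ne_top
    haveI hp : 𝔮₀.IsPrime := h𝔮₀.1.1
    have hht : 𝔮₀.height ≤ 1 := by
      have : 𝔮₀.height = 0 := Ideal.height_eq_zero_iff.mpr h𝔮₀
      rw [this]; exact zero_le
    obtain ⟨K, _, _, hker, hbij⟩ := H 𝔮₀ hp hht
    have e := LinearEquiv.ofBijective (f.baseChange K) hbij
    have := e.finrank_eq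
    rwa [Module.finrank_baseChange, Module.finrank_baseChange] at this
  let e : N ≃ₗ[R] M := LinearEquiv.ofFinrankEq N M hrank.symm
  let g : M →ₗ[R] M := e.toLinearMap ∘ₗ f
  have hd : IsUnit (LinearMap.det g) := by
    apply DiscPurity.isUnit_of_forall_height_le_one
    intro 𝔮 hp hht hmem
    obtain ⟨K, _, _, hker, hbij⟩ := H 𝔮 hp hht
    have h1 : LinearMap.det (g.baseChange K) = algebraMap R K (LinearMap.det g) :=
      LinearMap.det_baseChange g
    have h2 : algebraMap R K (LinearMap.det g) = 0 := by
      rw [← RingHom.mem_ker, hker]; exact hmem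
    have h3 : Function.Bijective (g.baseChange K) := by
      have : g.baseChange K = (e.toLinearMap.baseChange K) ∘ₗ (f.baseChange K) :=
        LinearMap.baseChange_comp ..
      rw [this]
      exact (LinearEquiv.baseChange R K N M e).bijective.comp hbij
    have h4 : IsUnit (LinearMap.det (g.baseChange K)) :=
      (LinearMap.isUnit_iff_isUnit_det _).mp ((Module.End.isUnit_iff _).mpr h3)
    rw [h1, h2] at h4
    exact not_isUnit_zero h4
  have hgb : Function.Bijective g :=
    (Module.End.isUnit_iff g).mp ((LinearMap.isUnit_iff_isUnit_det g).mpr hd)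
  have : (f : M → N) = e.symm ∘ g := by
    ext x; simp [g]
  rw [this]
  exact e.symm.bijective.comp hgb

/-- Transport of the fibre condition to the localization at a prime. -/
theorem fibreBij_baseChange_atPrime {A : Type u} [CommRing A] {C B : Type u} [AddCommGroup C]
    [Module A C] [AddCommGroup B] [Module A B] (φ : C →ₗ[A] B) (J : Ideal A) [J.IsPrime]
    (𝔮' : Ideal (Localization.AtPrime J)) [h𝔮' : 𝔮'.IsPrime]
    (h : FibreBij φ (𝔮'.comap (algebraMap A (Localization.AtPrime J)))) :
    FibreBij (φ.baseChange (Localization.AtPrime J)) 𝔮' := by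
  obtain ⟨K, _, _, hker, hbij⟩ := h
  have hunits : ∀ s : J.primeCompl, IsUnit (algebraMap A K s) := by
    intro s
    rw [isUnit_iff_ne_zero, Ne, ← RingHom.mem_ker, hker, Ideal.mem_comap]
    intro hs
    exact h𝔮'.ne_top (Ideal.eq_top_of_isUnit_mem _ hs (IsLocalization.map_units _ s))
  let algK : Localization.AtPrime J →+* K :=
    IsLocalization.lift (M := J.primeCompl) (g := algebraMap A K) hunits
  letI : Algebra (Localization.AtPrime J) K := algK.toAlgebra
  haveI : IsScalarTower A (Localization.AtPrime J) K :=
    IsScalarTower.of_algebraMap_eq (fun x => (IsLocalization.lift_eq hunits x).symm)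
  refine ⟨K, inferInstance, inferInstance, ?_, ?_⟩
  · have h1 : (RingHom.ker (algebraMap (Localization.AtPrime J) K)).comap
        (algebraMap A (Localization.AtPrime J)) =
        𝔮'.comap (algebraMap A (Localization.AtPrime J)) := by
      rw [← hker]
      ext x
      simp only [Ideal.mem_comap, RingHom.mem_ker, ← IsScalarTower.algebraMap_apply]
    have h2 := IsLocalization.map_comap J.primeCompl (Localization.AtPrime J)
      (RingHom.ker (algebraMap (Localization.AtPrime J) K))
    have h3 := IsLocalization.map_comap J.primeCompl (Localization.AtPrime J) 𝔮'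
    rw [← h2, ← h3]
    change Ideal.map _ (Ideal.comap _ _) = Ideal.map _ (Ideal.comap _ _)
    rw [h1]
  · let e₁ := TensorProduct.AlgebraTensorModule.cancelBaseChange A (Localization.AtPrime J) K K C
    let e₂ := TensorProduct.AlgebraTensorModule.cancelBaseChange A (Localization.AtPrime J) K K B
    have hcomm : ∀ x, e₂ ((φ.baseChange (Localization.AtPrime J)).baseChange K x) =
        φ.baseChange K (e₁ x) := by
      intro x
      induction x using TensorProduct.induction_on with
      | zero => simp
      | tmul k y =>
        induction y using TensorProduct.induction_on with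
        | zero => simp
        | tmul a c => simp [e₁, e₂]
        | add y y' hy hy' => simp only [tmul_add, map_add, hy, hy']
      | add x y hx hy => simp only [map_add, hx, hy]
    have : ((φ.baseChange (Localization.AtPrime J)).baseChange K : _ → _) =
        e₂.symm ∘ (φ.baseChange K) ∘ e₁ := by
      ext x
      simp [← hcomm]
    rw [this]
    exact e₂.symm.bijective.comp (hbij.comp e₁.bijective)

/-- **Bijectivity in codimension `≤ 1` implies bijectivity** for maps of finite flat modules over
a Noetherian ring. -/
theorem bijective_of_fibreBij {A : Type u} [CommRing A] [IsNoetherianRing A] {C B : Type u}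
    [AddCommGroup C] [Module A C] [AddCommGroup B] [Module A B] [Module.Finite A C]
    [Module.Flat A C] [Module.Finite A B] [Module.Flat A B] (φ : C →ₗ[A] B)
    (H : ∀ 𝔮 : Ideal A, 𝔮.IsPrime → 𝔮.height ≤ 1 → FibreBij φ 𝔮) : Function.Bijective φ := by
  refine bijective_of_isLocalized_maximal
    (fun P _ => Localization.AtPrime P ⊗[A] C)
    (fun P _ => TensorProduct.mk A (Localization.AtPrime P) C 1)
    (fun P _ => Localization.AtPrime P ⊗[A] B)
    (fun P _ => TensorProduct.mk A (Localization.AtPrime P) B 1) φ ?_
  intro P _
  have hmap : IsLocalizedModule.map P.primeCompl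
      (TensorProduct.mk A (Localization.AtPrime P) C 1)
      (TensorProduct.mk A (Localization.AtPrime P) B 1) φ =
      (φ.baseChange (Localization.AtPrime P)).restrictScalars A := by
    apply IsLocalizedModule.linearMap_ext P.primeCompl
      (TensorProduct.mk A (Localization.AtPrime P) C 1)
      (TensorProduct.mk A (Localization.AtPrime P) B 1)
    ext c
    exact IsLocalizedModule.map_apply P.primeCompl
      (TensorProduct.mk A (Localization.AtPrime P) C 1)
      (TensorProduct.mk A (Localization.AtPrime P) B 1) φ c
  rw [hmap]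
  change Function.Bijective (φ.baseChange (Localization.AtPrime P))
  haveI : Module.Free (Localization.AtPrime P) (Localization.AtPrime P ⊗[A] C) :=
    Module.free_of_flat_of_isLocalRing
  haveI : Module.Free (Localization.AtPrime P) (Localization.AtPrime P ⊗[A] B) :=
    Module.free_of_flat_of_isLocalRing
  apply bijective_of_free
  intro 𝔮' hp hht
  apply fibreBij_baseChange_atPrime
  apply H _ (Ideal.comap_isPrime _ _)
  have := IsLocalization.height_under P.primeCompl 𝔮'
  rw [Ideal.under] at this
  rw [this]
  exact hht

open CategoryTheory in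
/-- From pushout squares of commutative rings to the fibre condition. -/
theorem fibreBij_of_isPushout {A K C B C' B' : Type u} [CommRing A] [CommRing K] [CommRing C]
    [CommRing B] [CommRing C'] [CommRing B'] [Algebra A C] [Algebra A B] (φ : C →ₐ[A] B)
    (hK : IsField K) (aK : A →+* K) (kC : K →+* C') (iC : C →+* C') (kB : K →+* B')
    (iB : B →+* B') (ψ : C' →+* B')
    (hC : IsPushout (CommRingCat.ofHom aK) (CommRingCat.ofHom (algebraMap A C))
      (CommRingCat.ofHom kC) (CommRingCat.ofHom iC))
    (hB : IsPushout (CommRingCat.ofHom aK) (CommRingCat.ofHom (algebraMap A B))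
      (CommRingCat.ofHom kB) (CommRingCat.ofHom iB))
    (h1 : ψ.comp iC = iB.comp φ) (h2 : ψ.comp kC = kB) (hψ : Function.Bijective ψ) :
    FibreBij φ.toLinearMap (RingHom.ker aK) := by
  letI := hK.toField
  letI : Algebra A K := aK.toAlgebra
  letI : Algebra K C' := kC.toAlgebra
  letI : Algebra C C' := iC.toAlgebra
  letI : Algebra A C' := (kC.comp aK).toAlgebra
  haveI : IsScalarTower A K C' := .of_algebraMap_eq' rfl
  haveI : IsScalarTower A C C' := .of_algebraMap_eq' (congrArg CommRingCat.Hom.hom hC.w)
  haveI : Algebra.IsPushout A K C C' := CommRingCat.isPushout_iff_isPushout.mp hC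
  letI : Algebra K B' := kB.toAlgebra
  letI : Algebra B B' := iB.toAlgebra
  letI : Algebra A B' := (kB.comp aK).toAlgebra
  haveI : IsScalarTower A K B' := .of_algebraMap_eq' rfl
  haveI : IsScalarTower A B B' := .of_algebraMap_eq' (congrArg CommRingCat.Hom.hom hB.w)
  haveI : Algebra.IsPushout A K B B' := CommRingCat.isPushout_iff_isPushout.mp hB
  refine ⟨K, inferInstance, inferInstance, rfl, ?_⟩
  let eC : K ⊗[A] C ≃ₗ[K] C' := (Algebra.IsPushout.out (R := A) (S := K) (R' := C) (S' := C')).equiv
  let eB : K ⊗[A] B ≃ₗ[K] B' := (Algebra.IsPushout.out (R := A) (S := K) (R' := B) (S' := B')).equiv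
  have hcomm : ∀ x, eB (φ.toLinearMap.baseChange K x) = ψ (eC x) := by
    intro x
    induction x using TensorProduct.induction_on with
    | zero => simp
    | tmul k c =>
      rw [LinearMap.baseChange_tmul, IsBaseChange.equiv_tmul, IsBaseChange.equiv_tmul,
        Algebra.smul_def, Algebra.smul_def, map_mul]
      congr 1
      · exact (RingHom.congr_fun h2 k).symm
      · exact (RingHom.congr_fun h1 c).symm
    | add x y hx hy => simp only [map_add, hx, hy]
  have : (φ.toLinearMap.baseChange K : _ → _) = eB.symm ∘ ψ ∘ eC := by
    ext x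
    simp [← hcomm]
  rw [this]
  exact eB.symm.bijective.comp (hψ.comp eC.bijective)

end Groth.Agent.H22.FibreIso
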