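import Mathlib
import Groth.Agent.H22.FibreIsoAlg
import Groth.Agent.H22.DiscPuritySch

/-! A morphism between finite flat schemes over a locally Noetherian base which is an isomorphism
on the fibres over all points of codimension `≤ 1` is an isomorphism. -/

set_option autoImplicit false
universe u

open AlgebraicGeometry CategoryTheory CategoryTheory.Limits

namespace Groth.Agent.H22.FibreIso

/-- The kernel of the map on global sections induced by a morphism from the spectrum of a field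
is the prime ideal of the image point. -/
theorem ker_appTop_of_field {X T : Scheme.{u}} [IsAffine X] (t : T ⟶ X)
    (hT : IsField Γ(T, ⊤)) (z : T) :
    RingHom.ker t.appTop.hom = (X.toSpecΓ (t z)).asIdeal := by
  have h1 : X.toSpecΓ (t z) = Spec.map t.appTop (T.toSpecΓ z) := by
    have := Scheme.toSpecΓ_naturality t
    exact congr($(this).base z)
  rw [h1]
  have h2 : (T.toSpecΓ z).asIdeal = ⊥ := by
    letI := hT.toField
    exact (Ideal.eq_bot_or_top _).resolve_right (T.toSpecΓ z).isPrime.ne_top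
  change _ = Ideal.comap t.appTop.hom (T.toSpecΓ z).asIdeal
  rw [h2]
  rfl

/-- Local piece over an affine open of the base. -/
theorem isIso_restrict_of_fibres {S P Q : Scheme.{u}} [IsLocallyNoetherian S] (Φ : P ⟶ Q)
    (q : Q ⟶ S) [IsFinite q] [Flat q] [IsFinite (Φ ≫ q)] [Flat (Φ ≫ q)]
    (H : ∀ s : S, ringKrullDim (S.presheaf.stalk s) ≤ 1 →
      IsIso (pullback.map (Φ ≫ q) (S.fromSpecResidueField s) q (S.fromSpecResidueField s) Φ
        (𝟙 _) (𝟙 S) (by simp) (by simp)))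
    (V : S.Opens) (hV : IsAffineOpen V) : IsIso (Φ ∣_ (q ⁻¹ᵁ V)) := by
  haveI : IsAffine V.toScheme := hV
  have hQV : IsAffineOpen (q ⁻¹ᵁ V) := hV.preimage q
  haveI : IsAffine (q ⁻¹ᵁ V).toScheme := hQV
  have hPV : IsAffineOpen (Φ ⁻¹ᵁ (q ⁻¹ᵁ V)) := hV.preimage (Φ ≫ q)
  haveI : IsAffine (Φ ⁻¹ᵁ (q ⁻¹ᵁ V)).toScheme := hPV
  haveI : IsNoetherianRing Γ(S, V) := IsLocallyNoetherian.component_noetherian ⟨V, hV⟩
  haveI : IsNoetherianRing Γ(V.toScheme, ⊤) :=
    isNoetherianRing_of_ringEquiv _ V.topIso.symm.commRingCatIsoToRingEquiv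
  have hcomp : (Φ ≫ q) ∣_ V = Φ ∣_ (q ⁻¹ᵁ V) ≫ q ∣_ V := morphismRestrict_comp Φ q V
  have hf0 : IsFinite ((Φ ≫ q) ∣_ V) := inferInstance
  have hf1 : Flat ((Φ ≫ q) ∣_ V) := inferInstance
  haveI : IsFinite (Φ ∣_ (q ⁻¹ᵁ V) ≫ q ∣_ V) := by rw [← hcomp]; exact hf0
  haveI : Flat (Φ ∣_ (q ⁻¹ᵁ V) ≫ q ∣_ V) := by rw [← hcomp]; exact hf1
  set ΦV := Φ ∣_ (q ⁻¹ᵁ V) with hΦV
  set qV := q ∣_ V with hqV
  suffices h : Function.Bijective ΦV.appTop.hom by
    have : IsIso ΦV.appTop := (ConcreteCategory.isIso_iff_bijective _).mpr h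
    exact (HasAffineProperty.iff_of_isAffine (P := MorphismProperty.isomorphisms Scheme)).mpr
      ⟨inferInstance, this⟩
  letI algC : Algebra Γ(V.toScheme, ⊤) Γ((q ⁻¹ᵁ V).toScheme, ⊤) := qV.appTop.hom.toAlgebra
  letI algB : Algebra Γ(V.toScheme, ⊤) Γ((Φ ⁻¹ᵁ (q ⁻¹ᵁ V)).toScheme, ⊤) :=
    (ΦV ≫ qV).appTop.hom.toAlgebra
  let φ : Γ((q ⁻¹ᵁ V).toScheme, ⊤) →ₐ[Γ(V.toScheme, ⊤)] Γ((Φ ⁻¹ᵁ (q ⁻¹ᵁ V)).toScheme, ⊤) :=
    { ΦV.appTop.hom with
      commutes' := fun r => by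
        change ΦV.appTop.hom (qV.appTop.hom r) = (ΦV ≫ qV).appTop.hom r
        rw [Scheme.Hom.comp_appTop]
        rfl }
  haveI : Module.Finite Γ(V.toScheme, ⊤) Γ((q ⁻¹ᵁ V).toScheme, ⊤) := qV.finite_appTop
  haveI : Module.Flat Γ(V.toScheme, ⊤) Γ((q ⁻¹ᵁ V).toScheme, ⊤) := qV.flat_appTop
  haveI : Module.Finite Γ(V.toScheme, ⊤) Γ((Φ ⁻¹ᵁ (q ⁻¹ᵁ V)).toScheme, ⊤) :=
    (ΦV ≫ qV).finite_appTop
  haveI : Module.Flat Γ(V.toScheme, ⊤) Γ((Φ ⁻¹ᵁ (q ⁻¹ᵁ V)).toScheme, ⊤) :=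
    (ΦV ≫ qV).flat_appTop
  change Function.Bijective φ.toLinearMap
  apply bijective_of_fibreBij
  intro 𝔮 h𝔮 hht
  -- the point of `V` corresponding to `𝔮`
  set x' : Spec Γ(V.toScheme, ⊤) := ⟨𝔮, h𝔮⟩ with hx'
  set x : V.toScheme := V.toScheme.isoSpec.inv x' with hx
  have hxx' : V.toScheme.toSpecΓ x = x' := by
    rw [hx, ← Scheme.isoSpec_hom, ← Scheme.Hom.comp_apply, Iso.inv_hom_id]
    rfl
  set s : S := V.ι x with hs
  have hdim : ringKrullDim (S.presheaf.stalk s) ≤ 1 := by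
    let j : Spec Γ(V.toScheme, ⊤) ⟶ S := V.toScheme.isoSpec.inv ≫ V.ι
    have hj : j x' = s := by simp [j, hs, hx]
    have e1 : ringKrullDim (S.presheaf.stalk (j x')) =
        ringKrullDim ((Spec Γ(V.toScheme, ⊤)).presheaf.stalk x') :=
      ringKrullDim_eq_of_ringEquiv (asIso (j.stalkMap x')).commRingCatIsoToRingEquiv
    have loc : IsLocalization.AtPrime
        ((Spec.structureSheaf Γ(V.toScheme, ⊤)).presheaf.stalk x') 𝔮 :=
      StructureSheaf.IsLocalization.to_stalk _ x'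
    have e2 : ringKrullDim ((Spec Γ(V.toScheme, ⊤)).presheaf.stalk x') = 𝔮.height :=
      IsLocalization.AtPrime.ringKrullDim_eq_height 𝔮
        ((Spec.structureSheaf Γ(V.toScheme, ⊤)).presheaf.stalk x')
    rw [← hj, e1, e2]
    exact_mod_cast hht
  have hiso := H s hdim
  set t := S.fromSpecResidueField s with ht
  have hrange : Set.range t ⊆ Set.range V.ι := by
    rw [ht, Scheme.range_fromSpecResidueField]
    rintro _ rfl
    exact ⟨x, rfl⟩
  set tV : Spec (S.residueField s) ⟶ V.toScheme := IsOpenImmersion.lift V.ι t hrange with htV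
  have htV' : tV ≫ V.ι = t := IsOpenImmersion.lift_fac _ _ _
  -- the `Q`-side pullback square
  have pbQ : IsPullback (q ⁻¹ᵁ V).ι qV q V.ι := (isPullback_morphismRestrict q V).flip
  let lQ : pullback q t ⟶ (q ⁻¹ᵁ V).toScheme :=
    pbQ.lift (pullback.fst q t) (pullback.snd q t ≫ tV)
      (by rw [Category.assoc, htV', pullback.condition])
  have hlQ1 : lQ ≫ (q ⁻¹ᵁ V).ι = pullback.fst q t := pbQ.lift_fst ..
  have hlQ2 : lQ ≫ qV = pullback.snd q t ≫ tV := pbQ.lift_snd ..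
  have sqQ : IsPullback lQ (pullback.snd q t) qV tV := by
    apply IsPullback.of_right (h₁₂ := (q ⁻¹ᵁ V).ι) (h₂₂ := V.ι) ?_ hlQ2 pbQ
    rw [hlQ1, htV']
    exact IsPullback.of_hasPullback q t
  -- the `P`-side pullback square
  have pbP : IsPullback (Φ ⁻¹ᵁ (q ⁻¹ᵁ V)).ι (ΦV ≫ qV) (Φ ≫ q) V.ι := by
    rw [← hcomp]
    exact (isPullback_morphismRestrict (Φ ≫ q) V).flip
  let lP : pullback (Φ ≫ q) t ⟶ (Φ ⁻¹ᵁ (q ⁻¹ᵁ V)).toScheme :=
    pbP.lift (pullback.fst (Φ ≫ q) t) (pullback.snd (Φ ≫ q) t ≫ tV)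
      (by rw [Category.assoc, htV', pullback.condition])
  have hlP1 : lP ≫ (Φ ⁻¹ᵁ (q ⁻¹ᵁ V)).ι = pullback.fst (Φ ≫ q) t := pbP.lift_fst ..
  have hlP2 : lP ≫ ΦV ≫ qV = pullback.snd (Φ ≫ q) t ≫ tV := pbP.lift_snd ..
  have sqP : IsPullback lP (pullback.snd (Φ ≫ q) t) (ΦV ≫ qV) tV := by
    apply IsPullback.of_right (h₁₂ := (Φ ⁻¹ᵁ (q ⁻¹ᵁ V)).ι) (h₂₂ := V.ι) ?_ hlP2 pbP
    rw [hlP1, htV']
    exact IsPullback.of_hasPullback (Φ ≫ q) t
  have poQ := isPushout_appTop_of_isPullback sqQ.flip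
  have poP := isPushout_appTop_of_isPullback sqP.flip
  set pm := pullback.map (Φ ≫ q) t q t Φ (𝟙 _) (𝟙 S) (by simp) (by simp) with hpm
  have hpm1 : pm ≫ pullback.fst q t = pullback.fst (Φ ≫ q) t ≫ Φ := by
    rw [hpm]; exact pullback.lift_fst _ _ _
  have hpm2 : pm ≫ pullback.snd q t = pullback.snd (Φ ≫ q) t := by
    rw [hpm]; exact (pullback.lift_snd _ _ _).trans (Category.comp_id _)
  have hsq : lP ≫ ΦV = pm ≫ lQ := by
    rw [← cancel_mono (q ⁻¹ᵁ V).ι, Category.assoc, Category.assoc, hlQ1, hpm1,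
      hΦV, morphismRestrict_ι, ← Category.assoc, hlP1]
  have hK : IsField Γ(Spec (S.residueField s), ⊤) :=
    MulEquiv.isField (Field.toIsField (S.residueField s))
      (Scheme.ΓSpecIso (S.residueField s)).commRingCatIsoToRingEquiv.toMulEquiv
  have hker : RingHom.ker tV.appTop.hom = 𝔮 := by
    have z : Spec (S.residueField s) := Classical.arbitrary _
    rw [ker_appTop_of_field tV hK z]
    have : tV z = x := by
      apply V.ι.injective
      rw [← Scheme.Hom.comp_apply, htV', ht, Scheme.fromSpecResidueField_apply]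
    rw [this, hxx']
  have hψ : Function.Bijective pm.appTop.hom := by
    haveI : IsIso pm := hiso
    haveI : IsIso pm.appTop := inferInstanceAs (IsIso (pm.app ⊤))
    exact ConcreteCategory.bijective_of_isIso pm.appTop
  have key := fibreBij_of_isPushout (A := Γ(V.toScheme, ⊤)) (K := Γ(Spec (S.residueField s), ⊤))
    (C := Γ((q ⁻¹ᵁ V).toScheme, ⊤)) (B := Γ((Φ ⁻¹ᵁ (q ⁻¹ᵁ V)).toScheme, ⊤))
    (C' := Γ(pullback q t, ⊤)) (B' := Γ(pullback (Φ ≫ q) t, ⊤)) φ hK tV.appTop.hom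
    (pullback.snd q t).appTop.hom lQ.appTop.hom (pullback.snd (Φ ≫ q) t).appTop.hom
    lP.appTop.hom pm.appTop.hom poQ poP ?_ ?_ hψ
  · rw [hker] at key
    exact key
  · have := congrArg (fun f => f.appTop.hom) hsq
    simp only [Scheme.Hom.comp_appTop, CommRingCat.hom_comp] at this
    exact this.symm
  · have := congrArg (fun f => f.appTop.hom) hpm2
    simp only [Scheme.Hom.comp_appTop, CommRingCat.hom_comp] at this
    exact this

/-- **Isomorphism in codimension `≤ 1` on fibres implies isomorphism**, for a morphism between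
finite flat schemes over a locally Noetherian base. -/
theorem isIso_of_fibres {S P Q : Scheme.{u}} [IsLocallyNoetherian S] (Φ : P ⟶ Q)
    (q : Q ⟶ S) (p : P ⟶ S) (hp : Φ ≫ q = p) [IsFinite q] [Flat q] [IsFinite p] [Flat p]
    (H : ∀ s : S, ringKrullDim (S.presheaf.stalk s) ≤ 1 →
      IsIso (pullback.map p (S.fromSpecResidueField s) q (S.fromSpecResidueField s) Φ
        (𝟙 _) (𝟙 S) (by rw [hp, Category.comp_id]) (by simp))) : IsIso Φ := by
  subst hp
  have hsup : ⨆ V : S.affineOpens, q ⁻¹ᵁ V.1 = ⊤ := by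
    rw [← Scheme.Hom.preimage_iSup, iSup_affineOpens_eq_top]
    rfl
  have := (IsZariskiLocalAtTarget.iff_of_iSup_eq_top (P := MorphismProperty.isomorphisms Scheme)
    (f := Φ) (fun V : S.affineOpens => q ⁻¹ᵁ V.1) hsup).mpr
    (fun V => isIso_restrict_of_fibres Φ q H V.1 V.2)
  exact this

/-- A closed subset containing all points of codimension `0` is everything. -/
theorem eq_univ_of_isClosed_of_codim_zero {S : Scheme.{u}} (Z : Set S) (hZ : IsClosed Z)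
    (H : ∀ s : S, ringKrullDim (S.presheaf.stalk s) ≤ 1 → s ∈ Z) (x : S) : x ∈ Z := by
  obtain ⟨_, ⟨V, hV, rfl⟩, hxV, -⟩ :=
    S.isBasis_affineOpens.exists_subset_of_mem_open (Set.mem_univ x) isOpen_univ
  set 𝔭 := hV.primeIdealOf ⟨x, hxV⟩ with h𝔭
  obtain ⟨𝔭₀, hmin, hle⟩ := Ideal.exists_minimalPrimes_le (I := ⊥) (J := 𝔭.asIdeal) bot_le
  haveI : 𝔭₀.IsPrime := hmin.1.1
  set η' : PrimeSpectrum Γ(S, V) := ⟨𝔭₀, inferInstance⟩ with hη'
  have hη : hV.fromSpec η' ∈ V := DiscPurity.fromSpec_mem hV η'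
  have hdim : ringKrullDim (S.presheaf.stalk (hV.fromSpec η')) ≤ 1 := by
    rw [← DiscPurity.height_primeIdealOf hV _ hη, DiscPurity.primeIdealOf_fromSpec hV η']
    have : 𝔭₀.height = 0 := Ideal.height_eq_zero_iff.mpr hmin
    change ((𝔭₀.height : ℕ∞) : WithBot ℕ∞) ≤ 1
    rw [this]
    exact_mod_cast zero_le_one
  have hspec : hV.fromSpec η' ⤳ x := by
    have h1 : η' ⤳ 𝔭 := (PrimeSpectrum.le_iff_specializes η' 𝔭).mp hle
    have h2 := h1.map hV.fromSpec.continuous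
    rwa [h𝔭, hV.fromSpec_primeIdealOf ⟨x, hxV⟩] at h2
  exact hspec.mem_closed hZ (H _ hdim)

end Groth.Agent.H22.FibreIso
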