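import Mathlib.AlgebraicGeometry.Morphisms.FlatRank
import Mathlib.AlgebraicGeometry.Morphisms.QuasiFinite
import Mathlib.AlgebraicGeometry.Limits
import Mathlib.AlgebraicGeometry.Properties

/-!
# The rank of the ring of global functions of a scheme over a field (helper22)

`rkK π` for `π : P ⟶ Spec K` is the `K`-dimension (as a cardinal) of `Γ(P, ⊤)`.
-/

set_option autoImplicit false
universe u

namespace Groth.Agent.H22.FibreRank

open AlgebraicGeometry CategoryTheory Limits TopologicalSpace Opposite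

/-- The rank over `K` of the ring of global functions of a scheme over `Spec K`. -/
noncomputable def rkK {K : Type u} [Field K] {P : Scheme.{u}} (π : P ⟶ Spec (CommRingCat.of K)) :
    Cardinal.{u} :=
  letI := ((Scheme.ΓSpecIso (CommRingCat.of K)).inv ≫ π.appTop).hom.toAlgebra
  Module.rank K (Γ(P, ⊤) : Type u)

/-- Invariance under isomorphisms over `Spec K`. -/
theorem rkK_congr {K : Type u} [Field K] {P P' : Scheme.{u}} (π : P ⟶ Spec (CommRingCat.of K))
    (π' : P' ⟶ Spec (CommRingCat.of K)) (e : P ≅ P') (h : e.hom ≫ π' = π) : rkK π = rkK π' := by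
  unfold rkK
  let a1 := ((Scheme.ΓSpecIso (CommRingCat.of K)).inv ≫ π.appTop).hom.toAlgebra
  let a2 := ((Scheme.ΓSpecIso (CommRingCat.of K)).inv ≫ π'.appTop).hom.toAlgebra
  have hiso : IsIso e.hom.appTop := inferInstanceAs (IsIso (e.hom.app ⊤))
  let r : Γ(P', ⊤) ≃+* Γ(P, ⊤) :=
    RingEquiv.ofBijective e.hom.appTop.hom ((ConcreteCategory.isIso_iff_bijective _).mp hiso)
  have hcomm : ∀ k : K, r (algebraMap K Γ(P', ⊤) k) = algebraMap K Γ(P, ⊤) k := by
    intro k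
    have h1 : π.appTop = π'.appTop ≫ e.hom.appTop := by
      rw [← h, Scheme.Hom.comp_appTop]
    change e.hom.appTop.hom (((Scheme.ΓSpecIso (CommRingCat.of K)).inv ≫ π'.appTop).hom k) =
      ((Scheme.ΓSpecIso (CommRingCat.of K)).inv ≫ π.appTop).hom k
    rw [h1]
    rfl
  let ae : Γ(P', ⊤) ≃ₐ[K] Γ(P, ⊤) := AlgEquiv.ofRingEquiv (f := r) hcomm
  exact ae.toLinearEquiv.rank_eq.symm

theorem rkK_of_isEmpty {K : Type u} [Field K] {P : Scheme.{u}} (π : P ⟶ Spec (CommRingCat.of K))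
    [IsEmpty P] : rkK π = 0 := by
  unfold rkK
  let a1 := ((Scheme.ΓSpecIso (CommRingCat.of K)).inv ≫ π.appTop).hom.toAlgebra
  have : Subsingleton Γ(P, ⊤) := by
    have h : (⊤ : P.Opens) = ⊥ := by
      ext x
      exact isEmptyElim x
    rw [h]
    infer_instance
  exact rank_subsingleton' K _


/-- Sections over a disjoint union of two opens are pairs of sections. -/
theorem bijective_res_prod {P : Scheme.{u}} (U₁ U₂ W : P.Opens) (h₁ : U₁ ≤ W) (h₂ : U₂ ≤ W)
    (hW : W = U₁ ⊔ U₂) (hd : U₁ ⊓ U₂ = ⊥) :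
    Function.Bijective (fun s : Γ(P, W) =>
      (((P.presheaf.map (homOfLE h₁).op).hom s, (P.presheaf.map (homOfLE h₂).op).hom s) :
        Γ(P, U₁) × Γ(P, U₂))) := by
  subst hW
  let e : Γ(P, U₁ ⊔ U₂) ≅ CommRingCat.of (Γ(P, U₁) × Γ(P, U₂)) :=
    (P.sheaf.isProductOfDisjoint U₁ U₂ hd).conePointUniqueUpToIso
      (CommRingCat.prodFanIsLimit _ _)
  have he1 : e.hom ≫ CommRingCat.ofHom (RingHom.fst _ _) =
      P.presheaf.map (homOfLE le_sup_left).op :=
    IsLimit.conePointUniqueUpToIso_hom_comp _ _ (⟨WalkingPair.left⟩ : Discrete WalkingPair)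
  have he2 : e.hom ≫ CommRingCat.ofHom (RingHom.snd _ _) =
      P.presheaf.map (homOfLE le_sup_right).op :=
    IsLimit.conePointUniqueUpToIso_hom_comp _ _ (⟨WalkingPair.right⟩ : Discrete WalkingPair)
  have hfun : (fun s : Γ(P, U₁ ⊔ U₂) =>
      (((P.presheaf.map (homOfLE h₁).op).hom s, (P.presheaf.map (homOfLE h₂).op).hom s) :
        Γ(P, U₁) × Γ(P, U₂))) = e.hom.hom := by
    funext s
    refine Prod.ext ?_ ?_
    · exact (congr($he1 s)).symm
    · exact (congr($he2 s)).symm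
  rw [hfun]
  exact (ConcreteCategory.isIso_iff_bijective e.hom).mp inferInstance

/-- **Additivity** of the rank over complementary open subschemes. -/
theorem rkK_add {K : Type u} [Field K] {P : Scheme.{u}} (π : P ⟶ Spec (CommRingCat.of K))
    (U₁ U₂ : P.Opens) (h : IsCompl U₁ U₂) :
    rkK π = rkK (U₁.ι ≫ π) + rkK (U₂.ι ≫ π) := by
  unfold rkK
  let a0 := ((Scheme.ΓSpecIso (CommRingCat.of K)).inv ≫ π.appTop).hom.toAlgebra
  let a1 := ((Scheme.ΓSpecIso (CommRingCat.of K)).inv ≫ (U₁.ι ≫ π).appTop).hom.toAlgebra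
  let a2 := ((Scheme.ΓSpecIso (CommRingCat.of K)).inv ≫ (U₂.ι ≫ π).appTop).hom.toAlgebra
  have hbij := bijective_res_prod (P := P) (U₁.ι ''ᵁ ⊤) (U₂.ι ''ᵁ ⊤) ⊤ le_top le_top
    (by rw [U₁.ι_image_top, U₂.ι_image_top, h.sup_eq_top])
    (by rw [U₁.ι_image_top, U₂.ι_image_top, h.inf_eq_bot])
  let ρ : Γ(P, ⊤) →+* Γ(U₁.toScheme, ⊤) × Γ(U₂.toScheme, ⊤) :=
    RingHom.prod U₁.ι.appTop.hom U₂.ι.appTop.hom
  have hρ : Function.Bijective ρ := hbij
  let r : Γ(P, ⊤) ≃+* Γ(U₁.toScheme, ⊤) × Γ(U₂.toScheme, ⊤) := RingEquiv.ofBijective ρ hρ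
  have hcomm : ∀ k : K, r (algebraMap K Γ(P, ⊤) k) =
      algebraMap K (Γ(U₁.toScheme, ⊤) × Γ(U₂.toScheme, ⊤)) k := by
    intro k
    refine Prod.ext ?_ ?_
    · change U₁.ι.appTop.hom (((Scheme.ΓSpecIso (CommRingCat.of K)).inv ≫ π.appTop).hom k) =
        ((Scheme.ΓSpecIso (CommRingCat.of K)).inv ≫ (U₁.ι ≫ π).appTop).hom k
      rw [Scheme.Hom.comp_appTop]
      rfl
    · change U₂.ι.appTop.hom (((Scheme.ΓSpecIso (CommRingCat.of K)).inv ≫ π.appTop).hom k) =
        ((Scheme.ΓSpecIso (CommRingCat.of K)).inv ≫ (U₂.ι ≫ π).appTop).hom k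
      rw [Scheme.Hom.comp_appTop]
      rfl
  let ae : Γ(P, ⊤) ≃ₐ[K] Γ(U₁.toScheme, ⊤) × Γ(U₂.toScheme, ⊤) :=
    AlgEquiv.ofRingEquiv (f := r) hcomm
  rw [ae.toLinearEquiv.rank_eq, rank_prod']

/-- Every scheme over a field is flat over it. -/
theorem flat_of_field {K : Type u} [Field K] {Q : Scheme.{u}} (π : Q ⟶ Spec (CommRingCat.of K)) :
    Flat π := by
  rw [IsZariskiLocalAtSource.iff_of_openCover (P := @Flat) Q.affineCover]
  intro i
  obtain ⟨φ, hφ⟩ := Spec.map_surjective (Q.affineCover.f i ≫ π)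
  have h1 : Flat (Spec.map φ) := by
    rw [Flat.SpecMap_iff]
    algebraize [φ.hom]
    rw [← RingHom.algebraMap_toAlgebra φ.hom, RingHom.flat_algebraMap_iff]
    infer_instance
  exact hφ ▸ h1

/-- For a finite `K`-scheme the rank is the `Scheme.Hom.finrank` of the structure morphism. -/
theorem rkK_eq_finrank {K : Type u} [Field K] {Q : Scheme.{u}} (π : Q ⟶ Spec (CommRingCat.of K))
    [IsFinite π] (pt : ↥(Spec (CommRingCat.of K))) :
    rkK π = (π.finrank pt : Cardinal.{u}) := by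
  have : IsAffine Q := isAffine_of_isAffineHom π
  let φ : CommRingCat.of K ⟶ Γ(Q, ⊤) := (Scheme.ΓSpecIso (CommRingCat.of K)).inv ≫ π.appTop
  have hπ : π = Q.isoSpec.hom ≫ Spec.map φ := by
    have h1 := Scheme.isoSpec_hom_naturality π
    rw [Scheme.isoSpec_Spec_hom] at h1
    simp only [φ, Spec.map_comp]
    rw [reassoc_of% h1, ← Spec.map_comp, Iso.inv_hom_id, Spec.map_id, Category.comp_id]
  have hφf : IsFinite (Spec.map φ) := by
    have : Spec.map φ = Q.isoSpec.inv ≫ π := by rw [hπ, Iso.inv_hom_id_assoc]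
    rw [this]
    infer_instance
  have hφf' : φ.hom.Finite := (IsFinite.SpecMap_iff φ).mp hφf
  have hφfl : φ.hom.Flat := Flat.SpecMap_iff.mp (flat_of_field _)
  have hfl : Flat (Spec.map φ) := flat_of_field _
  unfold rkK
  algebraize [φ.hom]
  change Module.rank K Γ(Q, ⊤) = _
  conv_rhs => rw [hπ]
  rw [Scheme.Hom.finrank_comp_left_of_isIso, Scheme.Hom.finrank_SpecMap_eq_finrank hφf' hφfl]
  unfold RingHom.finrank
  rw [Module.rankAtStalk_eq_finrank_of_free]
  exact (Module.finrank_eq_rank K Γ(Q, ⊤)).symm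

end Groth.Agent.H22.FibreRank
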