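import Groth.Agent.H22.FibreRank

/-!
# The rank of fibres over field-valued points: base change, additivity, field extensions (helper22)
-/

set_option autoImplicit false
universe u

namespace Groth.Agent.H22.FibreRank

open AlgebraicGeometry CategoryTheory Limits TopologicalSpace Opposite

/-- The rank of the fibre of `f` over a `K`-point `g`. -/
noncomputable def rk {X S : Scheme.{u}} (f : X ⟶ S) {K : Type u} [Field K]
    (g : Spec (CommRingCat.of K) ⟶ S) : Cardinal.{u} :=
  rkK (pullback.snd f g)

theorem rkK_of_isPullback {X S P : Scheme.{u}} {f : X ⟶ S} {K : Type u} [Field K]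
    {g : Spec (CommRingCat.of K) ⟶ S} {a : P ⟶ X} {b : P ⟶ Spec (CommRingCat.of K)}
    (hP : IsPullback a b f g) : rkK b = rk f g :=
  rkK_congr b (pullback.snd f g) hP.isoPullback hP.isoPullback_hom_snd

/-- Pasting: the fibre of `f` over `h ≫ e` is the fibre of the base change of `f` over `h`. -/
theorem rk_comp {X S T : Scheme.{u}} (f : X ⟶ S) (e : T ⟶ S) {K : Type u} [Field K]
    (h : Spec (CommRingCat.of K) ⟶ T) : rk f (h ≫ e) = rk (pullback.snd f e) h := by
  have h1 := (IsPullback.of_hasPullback (pullback.snd f e) h).paste_horiz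
    (IsPullback.of_hasPullback f e)
  exact (rkK_of_isPullback h1).symm

/-- The fibre of an open subscheme. -/
theorem rk_open {X S : Scheme.{u}} (f : X ⟶ S) (U : X.Opens) {K : Type u} [Field K]
    (g : Spec (CommRingCat.of K) ⟶ S) :
    rk (U.ι ≫ f) g = rkK (((pullback.fst f g) ⁻¹ᵁ U).ι ≫ pullback.snd f g) :=
  (rkK_of_isPullback ((isPullback_morphismRestrict (pullback.fst f g) U).paste_vert
    (IsPullback.of_hasPullback f g))).symm

/-- Additivity of the fibre rank over complementary opens of the source. -/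
theorem rk_add {X S : Scheme.{u}} (f : X ⟶ S) (V W : X.Opens) (hVW : IsCompl V W) {K : Type u}
    [Field K] (g : Spec (CommRingCat.of K) ⟶ S) :
    rk f g = rk (V.ι ≫ f) g + rk (W.ι ≫ f) g := by
  rw [rk_open, rk_open]
  refine rkK_add _ _ _ ?_
  constructor
  · rw [disjoint_iff, ← Scheme.Hom.preimage_inf, hVW.inf_eq_bot]
    rfl
  · rw [codisjoint_iff, ← Scheme.Hom.preimage_sup, hVW.sup_eq_top]
    rfl

/-- The fibre rank of a finite flat morphism is its `finrank`. -/
theorem rk_eq_finrank {X S : Scheme.{u}} (f : X ⟶ S) [IsFinite f] [Flat f] {K : Type u} [Field K]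
    (g : Spec (CommRingCat.of K) ⟶ S) (pt : ↥(Spec (CommRingCat.of K))) :
    rk f g = (f.finrank (g pt) : Cardinal.{u}) := by
  unfold rk
  rw [rkK_eq_finrank _ pt, Scheme.Hom.finrank_pullback_snd]

theorem card_le_add_iff (d a : ℕ) (c : Cardinal.{u}) :
    (d : Cardinal.{u}) ≤ (a : Cardinal.{u}) + c ↔ ((d - a : ℕ) : Cardinal.{u}) ≤ c := by
  rcases lt_or_ge c Cardinal.aleph0 with hc | hc
  · obtain ⟨n, rfl⟩ := Cardinal.lt_aleph0.mp hc
    rw [← Nat.cast_add, Nat.cast_le, Nat.cast_le]
    omega
  · constructor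
    · intro _
      exact (Cardinal.nat_lt_aleph0 _).le.trans hc
    · intro _
      exact ((Cardinal.nat_lt_aleph0 _).le.trans hc).trans (le_add_self)

end Groth.Agent.H22.FibreRank
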