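import Groth.Agent.H22.FibreRank2
import Mathlib.AlgebraicGeometry.ResidueField

/-!
# Invariance of the fibre rank under field extensions (helper22)
-/

set_option autoImplicit false
universe u

namespace Groth.Agent.H22.FibreRank

open AlgebraicGeometry CategoryTheory Limits TopologicalSpace Opposite

instance subsingleton_SpecField (K : Type u) [Field K] : Subsingleton ↥(Spec (CommRingCat.of K)) :=
  inferInstanceAs (Subsingleton (PrimeSpectrum K))

/-- The point of the spectrum of a field. -/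
def ptK (K : Type u) [Field K] : ↥(Spec (CommRingCat.of K)) :=
  (⟨⊥, Ideal.isPrime_bot⟩ : PrimeSpectrum K)

instance isLocallyArtinian_SpecField (K : Type u) [Field K] :
    IsLocallyArtinian (Spec (CommRingCat.of K)) :=
  Scheme.isLocallyArtinianScheme_Spec.mpr (inferInstanceAs (IsArtinianRing K))

/-- **Invariance under field extension**, for a locally quasi-finite scheme over a field. -/
theorem le_rkK_baseChange_iff {K L : Type u} [Field K] [Field L] (ψ : K →+* L) :
    ∀ (d : ℕ) {P : Scheme.{u}} (π : P ⟶ Spec (CommRingCat.of K)) [LocallyQuasiFinite π],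
      (d : Cardinal.{u}) ≤ rkK π ↔
        (d : Cardinal.{u}) ≤ rkK (pullback.snd π (Spec.map (CommRingCat.ofHom ψ))) := by
  intro d
  induction d using Nat.strong_induction_on with
  | _ d ih =>
  intro P π _
  by_cases hP : IsEmpty P
  · have : IsEmpty ↥(pullback π (Spec.map (CommRingCat.ofHom ψ))) :=
      Function.isEmpty (pullback.fst π (Spec.map (CommRingCat.ofHom ψ)))
    rw [rkK_of_isEmpty, rkK_of_isEmpty]
  · rw [not_isEmpty_iff] at hP
    obtain ⟨z⟩ := hP
    rcases Nat.eq_zero_or_pos d with rfl | hd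
    · simp
    have hart : IsLocallyArtinian P := IsLocallyArtinian.of_locallyQuasiFinite π
    have hdisc : DiscreteTopology P := inferInstance
    let U₁ : P.Opens := ⟨{z}, isOpen_discrete _⟩
    let U₂ : P.Opens := ⟨{z}ᶜ, isOpen_discrete _⟩
    have hc : IsCompl U₁ U₂ := by
      constructor
      · rw [disjoint_iff]
        ext x
        simp [U₁, U₂]
      · rw [codisjoint_iff]
        ext x
        simp [U₁, U₂, em]
    set ψ' := Spec.map (CommRingCat.ofHom ψ) with hψ'
    have e1 := rkK_add π U₁ U₂ hc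
    have e2 : rkK (pullback.snd π ψ') = rk (U₁.ι ≫ π) ψ' + rk (U₂.ι ≫ π) ψ' :=
      rk_add π U₁ U₂ hc ψ'
    have hcpt : CompactSpace U₁ := by
      have : Subsingleton U₁ := by
        constructor
        rintro ⟨a, ha⟩ ⟨b, hb⟩
        exact Subtype.ext ((Set.mem_singleton_iff.mp ha).trans (Set.mem_singleton_iff.mp hb).symm)
      exact Finite.compactSpace
    have hqc : QuasiCompact (U₁.ι ≫ π) := HasAffineProperty.iff_of_isAffine.mpr hcpt
    have hfin : IsFinite (U₁.ι ≫ π) := IsFinite.of_locallyQuasiFinite _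
    have hflat : Flat (U₁.ι ≫ π) := flat_of_field _
    have e3 : rkK (U₁.ι ≫ π) = ((U₁.ι ≫ π).finrank (ptK K) : Cardinal.{u}) :=
      rkK_eq_finrank _ _
    have e4 : rk (U₁.ι ≫ π) ψ' = ((U₁.ι ≫ π).finrank (ptK K) : Cardinal.{u}) := by
      rw [rk_eq_finrank _ ψ' (ptK L), Subsingleton.elim (ψ' (ptK L)) (ptK K)]
    have ha : 1 ≤ (U₁.ι ≫ π).finrank (ptK K) := by
      have := Scheme.Hom.one_le_finrank_map (U₁.ι ≫ π) ⟨z, rfl⟩
      rwa [Subsingleton.elim ((U₁.ι ≫ π) ⟨z, rfl⟩) (ptK K)] at this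
    rw [e1, e2, e3, e4, card_le_add_iff, card_le_add_iff]
    exact ih (d - (U₁.ι ≫ π).finrank (ptK K)) (by omega) (U₂.ι ≫ π)


/-- A field-valued point factors through the residue field of its image. -/
theorem exists_factor_residueField {S : Scheme.{u}} {K : Type u} [Field K]
    (g : Spec (CommRingCat.of K) ⟶ S) (s : S) (hs : g (ptK K) = s) :
    ∃ φ : S.residueField s ⟶ CommRingCat.of K, g = Spec.map φ ≫ S.fromSpecResidueField s := by
  obtain rfl : s = g (IsLocalRing.closedPoint K) := by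
    rw [← hs]
    exact congrArg g (Subsingleton.elim _ _)
  exact ⟨_, (Scheme.descResidueField_stalkClosedPointTo_fromSpecResidueField K S g).symm⟩

open TensorProduct in
/-- Two field extensions of a field have a common extension. -/
theorem exists_common_ext_aux {k : Type u} [Field k] {K K' : Type u} [Field K] [Field K']
    (φ : k →+* K) (φ' : k →+* K') :
    ∃ (L : Type u) (_ : Field L) (ψ : K →+* L) (ψ' : K' →+* L), ψ.comp φ = ψ'.comp φ' := by
  algebraize [φ, φ']
  have hnt : Nontrivial (K ⊗[k] K') :=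
    Algebra.TensorProduct.nontrivial_of_algebraMap_injective_of_flat_left (R := k) (A := K)
      (B := K') (algebraMap k K').injective
  obtain ⟨m, hm⟩ := Ideal.exists_maximal (K ⊗[k] K')
  let _ : Field ((K ⊗[k] K') ⧸ m) := Ideal.Quotient.field m
  let ψ : K →+* (K ⊗[k] K') ⧸ m :=
    (Ideal.Quotient.mk m).comp (Algebra.TensorProduct.includeLeft : K →ₐ[k] _).toRingHom
  let ψ' : K' →+* (K ⊗[k] K') ⧸ m :=
    (Ideal.Quotient.mk m).comp (Algebra.TensorProduct.includeRight : K' →ₐ[k] _).toRingHom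
  refine ⟨_, inferInstance, ψ, ψ', ?_⟩
  ext x
  change Ideal.Quotient.mk m (Algebra.TensorProduct.includeLeft (algebraMap k K x)) =
    Ideal.Quotient.mk m (Algebra.TensorProduct.includeRight (algebraMap k K' x))
  rw [AlgHom.commutes, AlgHom.commutes]

/-- Two field-valued points with the same image become equal over a common field extension. -/
theorem exists_common_ext {S : Scheme.{u}} {K K' : Type u} [Field K] [Field K']
    (g : Spec (CommRingCat.of K) ⟶ S) (g' : Spec (CommRingCat.of K') ⟶ S)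
    (h : g (ptK K) = g' (ptK K')) :
    ∃ (L : Type u) (_ : Field L) (ψ : K →+* L) (ψ' : K' →+* L),
      Spec.map (CommRingCat.ofHom ψ) ≫ g = Spec.map (CommRingCat.ofHom ψ') ≫ g' := by
  obtain ⟨s, hs⟩ : ∃ s, g (ptK K) = s := ⟨_, rfl⟩
  obtain ⟨φ, hφ⟩ := exists_factor_residueField g s hs
  obtain ⟨φ', hφ'⟩ := exists_factor_residueField g' s (h ▸ hs)
  obtain ⟨L, hL, ψ, ψ', hcomp⟩ := exists_common_ext_aux (k := S.residueField s) φ.hom φ'.hom
  refine ⟨L, hL, ψ, ψ', ?_⟩
  have hcomp' : φ ≫ CommRingCat.ofHom ψ = φ' ≫ CommRingCat.ofHom ψ' := by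
    ext x
    exact congr($hcomp x)
  rw [hφ, hφ', ← Category.assoc, ← Category.assoc, ← Spec.map_comp, ← Spec.map_comp, hcomp']

/-- **The fibre rank only depends on the image point.** -/
theorem le_rk_iff_of_eq {X S : Scheme.{u}} (f : X ⟶ S) [LocallyQuasiFinite f] {K K' : Type u}
    [Field K] [Field K'] (g : Spec (CommRingCat.of K) ⟶ S) (g' : Spec (CommRingCat.of K') ⟶ S)
    (h : g (ptK K) = g' (ptK K')) (d : ℕ) :
    (d : Cardinal.{u}) ≤ rk f g ↔ (d : Cardinal.{u}) ≤ rk f g' := by
  have key : ∀ {K L : Type u} [Field K] [Field L] (ψ : K →+* L) (g : Spec (CommRingCat.of K) ⟶ S),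
      (d : Cardinal.{u}) ≤ rk f g ↔
        (d : Cardinal.{u}) ≤ rk f (Spec.map (CommRingCat.ofHom ψ) ≫ g) := by
    intro K L _ _ ψ g
    rw [rk_comp]
    exact le_rkK_baseChange_iff ψ d (pullback.snd f g)
  obtain ⟨L, _, ψ, ψ', hL⟩ := exists_common_ext g g' h
  rw [key ψ g, key ψ' g', hL]

end Groth.Agent.H22.FibreRank
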