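import Groth.Agent.H22.FibreRank3
import Mathlib.AlgebraicGeometry.ZariskisMainTheorem
import Mathlib.AlgebraicGeometry.Morphisms.UniversallyOpen
import Mathlib.AlgebraicGeometry.Morphisms.Etale

/-!
# Lower semicontinuity of the fibre rank of a flat, separated, locally quasi-finite morphism
locally of finite presentation (helper22)
-/

set_option autoImplicit false
universe u

namespace Groth.Agent.H22.FibreRank

open AlgebraicGeometry CategoryTheory Limits TopologicalSpace Opposite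

/-- The set of points over which the fibre has rank at least `d`. -/
def Big {X S : Scheme.{u}} (f : X ⟶ S) (d : ℕ) : Set S :=
  {s | ∃ (K : Type u) (_ : Field K) (g : Spec (CommRingCat.of K) ⟶ S),
    g (ptK K) = s ∧ (d : Cardinal.{u}) ≤ rk f g}

theorem mem_Big_iff {X S : Scheme.{u}} (f : X ⟶ S) [LocallyQuasiFinite f] {K : Type u} [Field K]
    (g : Spec (CommRingCat.of K) ⟶ S) (d : ℕ) :
    g (ptK K) ∈ Big f d ↔ (d : Cardinal.{u}) ≤ rk f g := by
  constructor
  · rintro ⟨K', _, g', h, hd⟩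
    exact (le_rk_iff_of_eq f g' g h d).mp hd
  · intro h
    exact ⟨K, _, g, rfl, h⟩

theorem exists_fieldPoint {S : Scheme.{u}} (s : S) :
    ∃ (K : Type u) (_ : Field K) (g : Spec (CommRingCat.of K) ⟶ S), g (ptK K) = s :=
  ⟨S.residueField s, inferInstance, S.fromSpecResidueField s,
    Scheme.fromSpecResidueField_apply _ _⟩

theorem Big_zero {X S : Scheme.{u}} (f : X ⟶ S) : Big f 0 = Set.univ := by
  ext s
  simp only [Set.mem_univ, iff_true]
  obtain ⟨K, _, g, hg⟩ := exists_fieldPoint s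
  exact ⟨K, _, g, hg, by simp⟩

theorem Big_antitone {X S : Scheme.{u}} (f : X ⟶ S) {d d' : ℕ} (h : d ≤ d') :
    Big f d' ⊆ Big f d := by
  rintro s ⟨K, _, g, hs, hd⟩
  exact ⟨K, _, g, hs, (Nat.cast_le.mpr h).trans hd⟩

set_option maxHeartbeats 800000 in
/-- **Lower semicontinuity of the fibre rank.** -/
theorem isOpen_Big (d : ℕ) : ∀ {X S : Scheme.{u}} (f : X ⟶ S) [Flat f]
    [LocallyOfFinitePresentation f] [IsSeparated f] [LocallyQuasiFinite f], IsOpen (Big f d) := by
  induction d using Nat.strong_induction_on with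
  | _ d ih =>
  intro X S f _ _ _ _
  rcases Nat.eq_zero_or_pos d with rfl | hdpos
  · rw [Big_zero]
    exact isOpen_univ
  rw [isOpen_iff_forall_mem_open]
  rintro _ ⟨K, _, g, rfl, hd⟩
  -- the fibre is nonempty
  have hne : Nonempty ↥(pullback f g) := by
    by_contra hemp
    rw [not_nonempty_iff] at hemp
    have h0 : rk f g = 0 := rkK_of_isEmpty _
    rw [h0] at hd
    have : (d : Cardinal.{u}) = 0 := le_antisymm hd (zero_le')
    rw [Nat.cast_eq_zero] at this
    omega
  obtain ⟨p⟩ := hne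
  have hx : f (pullback.fst f g p) = g (ptK K) := by
    rw [← Scheme.Hom.comp_apply, pullback.condition, Scheme.Hom.comp_apply]
    exact congrArg g (Subsingleton.elim _ _)
  obtain ⟨T, e, he, -, V, W, v, hVW, hfinV, hv⟩ :=
    exists_etale_isCompl_of_quasiFiniteAt f hx (f.quasiFiniteAt _)
  obtain ⟨u, hudef⟩ : ∃ u, pullback.snd f e v.1 = u := ⟨_, rfl⟩
  have hu : e u = g (ptK K) := by
    rw [← hudef, ← Scheme.Hom.comp_apply, ← pullback.condition, Scheme.Hom.comp_apply, hv, hx]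
  have ha : 1 ≤ (V.ι ≫ pullback.snd f e).finrank u := by
    have := Scheme.Hom.one_le_finrank_map (V.ι ≫ pullback.snd f e) v
    rwa [Scheme.Hom.comp_apply, Scheme.Opens.ι_apply, hudef] at this
  obtain ⟨K₀, _, h₀, hpt⟩ := exists_fieldPoint u
  have h1 : (d : Cardinal.{u}) ≤ rk f (h₀ ≫ e) := by
    refine (le_rk_iff_of_eq f g _ ?_ d).mp hd
    rw [Scheme.Hom.comp_apply, hpt, hu]
  rw [rk_comp, rk_add (pullback.snd f e) V W hVW,
    rk_eq_finrank (V.ι ≫ pullback.snd f e) _ (ptK _), hpt, card_le_add_iff] at h1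
  have hWopen := ih (d - (V.ι ≫ pullback.snd f e).finrank u) (by omega)
    (W.ι ≫ pullback.snd f e)
  have hVopen : IsOpen ((V.ι ≫ pullback.snd f e).finrank ⁻¹'
      {(V.ι ≫ pullback.snd f e).finrank u}) :=
    (Scheme.Hom.isLocallyConstant_finrank (V.ι ≫ pullback.snd f e)).isOpen_fiber _
  refine ⟨e '' (((V.ι ≫ pullback.snd f e).finrank ⁻¹' {(V.ι ≫ pullback.snd f e).finrank u}) ∩
      Big (W.ι ≫ pullback.snd f e) (d - (V.ι ≫ pullback.snd f e).finrank u)), ?_,
    e.isOpenMap _ (hVopen.inter hWopen), ?_⟩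
  · rintro _ ⟨t, ⟨ht1, K', _, h, ht, hd'⟩, rfl⟩
    refine ⟨K', _, h ≫ e, ?_, ?_⟩
    · rw [Scheme.Hom.comp_apply, ht]
    · rw [rk_comp, rk_add (pullback.snd f e) V W hVW,
        rk_eq_finrank (V.ι ≫ pullback.snd f e) _ (ptK _), ht, ht1, card_le_add_iff]
      exact hd'
  · exact ⟨u, ⟨rfl, K₀, _, h₀, hpt, h1⟩, hu⟩

end Groth.Agent.H22.FibreRank
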