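import Groth.Agent.H22.FibreRank4
import Groth.Agent.H7.FiniteDescent

/-!
# Constant fibre rank implies finite (helper22)
-/

set_option autoImplicit false
universe u

namespace Groth.Agent.H22.FibreRank

open AlgebraicGeometry CategoryTheory Limits TopologicalSpace Opposite

/-- All fibres of `f` over field-valued points have rank `r`. -/
def HasRank {X S : Scheme.{u}} (f : X ⟶ S) (r : ℕ) : Prop :=
  ∀ (K : Type u) [Field K] (g : Spec (CommRingCat.of K) ⟶ S), rk f g = (r : Cardinal.{u})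

theorem rk_of_isPullback_comp {Q T Q' T' : Scheme.{u}} {q : Q ⟶ T} {j : T' ⟶ T} {m : Q' ⟶ Q}
    {q' : Q' ⟶ T'} (hm : IsPullback m q' q j) {K : Type u} [Field K]
    (h : Spec (CommRingCat.of K) ⟶ T') : rk q (h ≫ j) = rk q' h :=
  (rkK_of_isPullback ((IsPullback.of_hasPullback q' h).paste_horiz hm)).symm

theorem isFinite_of_isCompl {P B : Scheme.{u}} (π : P ⟶ B) (V W : P.Opens) (hVW : IsCompl V W)
    [IsFinite (V.ι ≫ π)] [IsFinite (W.ι ≫ π)] : IsFinite π := by
  obtain ⟨H⟩ := nonempty_isColimit_binaryCofanMk_of_isCompl V.ι W.ι (by simpa using hVW)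
  let e : (V : Scheme.{u}) ⨿ (W : Scheme.{u}) ≅ P :=
    (coprodIsCoprod (V : Scheme.{u}) (W : Scheme.{u})).coconePointUniqueUpToIso H
  have h1 : coprod.inl ≫ e.hom = V.ι :=
    IsColimit.comp_coconePointUniqueUpToIso_hom _ H (⟨WalkingPair.left⟩ : Discrete WalkingPair)
  have h2 : coprod.inr ≫ e.hom = W.ι :=
    IsColimit.comp_coconePointUniqueUpToIso_hom _ H (⟨WalkingPair.right⟩ : Discrete WalkingPair)
  have h3 : e.hom ≫ π = coprod.desc (V.ι ≫ π) (W.ι ≫ π) := by
    apply coprod.hom_ext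
    · rw [← Category.assoc, h1, coprod.inl_desc]
    · rw [← Category.assoc, h2, coprod.inr_desc]
  have h4 : IsFinite (e.hom ≫ π) := h3 ▸ inferInstance
  exact (MorphismProperty.cancel_left_of_respectsIso @IsFinite e.hom π).mp h4

theorem nonempty_of_rk_ne_zero {X S : Scheme.{u}} (f : X ⟶ S) {K : Type u} [Field K]
    (g : Spec (CommRingCat.of K) ⟶ S) (h : rk f g ≠ 0) : Nonempty ↥(pullback f g) := by
  by_contra hemp
  rw [not_nonempty_iff] at hemp
  exact h (rkK_of_isEmpty _)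

theorem card_eq_sub {a r : ℕ} {c : Cardinal.{u}} (h : (a : Cardinal.{u}) + c = (r : Cardinal.{u})) :
    c = ((r - a : ℕ) : Cardinal.{u}) := by
  have hc : c < Cardinal.aleph0 := by
    refine lt_of_le_of_lt ?_ (Cardinal.nat_lt_aleph0 r)
    rw [← h]
    exact le_add_self
  obtain ⟨n, rfl⟩ := Cardinal.lt_aleph0.mp hc
  rw [← Nat.cast_add, Nat.cast_inj] at h
  rw [Nat.cast_inj]
  omega

set_option maxHeartbeats 1000000 in
/-- **A flat, separated, locally quasi-finite morphism locally of finite presentation with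
constant fibre rank is finite.** -/
theorem isFinite_of_hasRank (r : ℕ) : ∀ {X S : Scheme.{u}} (f : X ⟶ S) [Flat f]
    [LocallyOfFinitePresentation f] [IsSeparated f] [LocallyQuasiFinite f],
    HasRank f r → IsFinite f := by
  induction r using Nat.strong_induction_on with
  | _ r ih =>
  intro X S f _ _ _ _ hr
  rcases Nat.eq_zero_or_pos r with rfl | hrpos
  · have : IsEmpty X := by
      by_contra hne
      rw [not_isEmpty_iff] at hne
      obtain ⟨x⟩ := hne
      obtain ⟨K, _, g, hg⟩ := exists_fieldPoint (f x)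
      obtain ⟨p, -, -⟩ := Scheme.Pullback.exists_preimage_pullback (f := f) (g := g) x (ptK K)
        hg.symm
      have h0 := hr K g
      unfold rk rkK at h0
      let _ := ((Scheme.ΓSpecIso (CommRingCat.of K)).inv ≫ (pullback.snd f g).appTop).hom.toAlgebra
      have hnt : Nontrivial Γ(pullback f g, ⊤) := by
        exact @Scheme.component_nontrivial (pullback f g) ⊤ ⟨⟨p, trivial⟩⟩
      rw [Nat.cast_zero, rank_zero_iff] at h0
      exact not_subsingleton _ h0
    infer_instance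
  apply IsZariskiLocalAtTarget.of_forall_exists_morphismRestrict (P := @IsFinite)
  intro s
  obtain ⟨K, _, g, hg⟩ := exists_fieldPoint s
  have hne : Nonempty ↥(pullback f g) := by
    apply nonempty_of_rk_ne_zero
    rw [hr K g]
    exact_mod_cast hrpos.ne'
  obtain ⟨p⟩ := hne
  have hx : f (pullback.fst f g p) = s := by
    rw [← Scheme.Hom.comp_apply, pullback.condition, Scheme.Hom.comp_apply, ← hg]
    exact congrArg g (Subsingleton.elim _ _)
  obtain ⟨T, e, he, -, V, W, v, hVW, hfinV, hv⟩ :=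
    exists_etale_isCompl_of_quasiFiniteAt f hx (f.quasiFiniteAt _)
  obtain ⟨u, hudef⟩ : ∃ u, pullback.snd f e v.1 = u := ⟨_, rfl⟩
  have hu : e u = s := by
    rw [← hudef, ← Scheme.Hom.comp_apply, ← pullback.condition, Scheme.Hom.comp_apply, hv, hx]
  have ha : 1 ≤ (V.ι ≫ pullback.snd f e).finrank u := by
    have := Scheme.Hom.one_le_finrank_map (V.ι ≫ pullback.snd f e) v
    rwa [Scheme.Hom.comp_apply, Scheme.Opens.ι_apply, hudef] at this
  obtain ⟨a, hadef⟩ : ∃ a, (V.ι ≫ pullback.snd f e).finrank u = a := ⟨_, rfl⟩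
  rw [hadef] at ha
  let O : T.Opens := ⟨(V.ι ≫ pullback.snd f e).finrank ⁻¹' {a},
    (Scheme.Hom.isLocallyConstant_finrank (V.ι ≫ pullback.snd f e)).isOpen_fiber _⟩
  have huO : u ∈ O := hadef
  have hm : IsPullback (pullback.snd f e ⁻¹ᵁ O).ι (pullback.snd f e ∣_ O) (pullback.snd f e) O.ι :=
    (isPullback_morphismRestrict (pullback.snd f e) O).flip
  have hV' := (isPullback_morphismRestrict (pullback.snd f e ⁻¹ᵁ O).ι V).paste_vert hm
  have hW' := (isPullback_morphismRestrict (pullback.snd f e ⁻¹ᵁ O).ι W).paste_vert hm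
  have hfV' : IsFinite (((pullback.snd f e ⁻¹ᵁ O).ι ⁻¹ᵁ V).ι ≫ (pullback.snd f e ∣_ O)) :=
    MorphismProperty.of_isPullback (P := @IsFinite) hV' hfinV
  have hW1 : Flat (((pullback.snd f e ⁻¹ᵁ O).ι ⁻¹ᵁ W).ι ≫ (pullback.snd f e ∣_ O)) :=
    MorphismProperty.of_isPullback (P := @Flat) hW' inferInstance
  have hW2 : LocallyOfFinitePresentation
      (((pullback.snd f e ⁻¹ᵁ O).ι ⁻¹ᵁ W).ι ≫ (pullback.snd f e ∣_ O)) :=
    MorphismProperty.of_isPullback (P := @LocallyOfFinitePresentation) hW' inferInstance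
  have hW3 : IsSeparated (((pullback.snd f e ⁻¹ᵁ O).ι ⁻¹ᵁ W).ι ≫ (pullback.snd f e ∣_ O)) :=
    MorphismProperty.of_isPullback (P := @IsSeparated) hW' inferInstance
  have hW4 : LocallyQuasiFinite (((pullback.snd f e ⁻¹ᵁ O).ι ⁻¹ᵁ W).ι ≫ (pullback.snd f e ∣_ O)) :=
    MorphismProperty.of_isPullback (P := @LocallyQuasiFinite) hW' inferInstance
  have hrW : HasRank (((pullback.snd f e ⁻¹ᵁ O).ι ⁻¹ᵁ W).ι ≫ (pullback.snd f e ∣_ O)) (r - a) := by
    intro K' _ h
    have h1 := hr K' ((h ≫ O.ι) ≫ e)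
    have h2 : (V.ι ≫ pullback.snd f e).finrank ((h ≫ O.ι) (ptK K')) = a := (h (ptK K')).2
    rw [rk_comp, rk_add (pullback.snd f e) V W hVW,
      rk_eq_finrank (V.ι ≫ pullback.snd f e) _ (ptK _), h2, rk_of_isPullback_comp hW' h] at h1
    exact card_eq_sub h1
  have hfW' : IsFinite (((pullback.snd f e ⁻¹ᵁ O).ι ⁻¹ᵁ W).ι ≫ (pullback.snd f e ∣_ O)) :=
    ih (r - a) (by omega) _ hrW
  have hcompl : IsCompl ((pullback.snd f e ⁻¹ᵁ O).ι ⁻¹ᵁ V) ((pullback.snd f e ⁻¹ᵁ O).ι ⁻¹ᵁ W) := by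
    constructor
    · rw [disjoint_iff, ← Scheme.Hom.preimage_inf, hVW.inf_eq_bot]
      rfl
    · rw [codisjoint_iff, ← Scheme.Hom.preimage_sup, hVW.sup_eq_top]
      rfl
  have hfinq' : IsFinite (pullback.snd f e ∣_ O) := isFinite_of_isCompl _ _ _ hcompl
  have hbig : IsPullback ((pullback.snd f e ⁻¹ᵁ O).ι ≫ pullback.fst f e) (pullback.snd f e ∣_ O) f
      (O.ι ≫ e) := hm.paste_horiz (IsPullback.of_hasPullback f e)
  have hfin2 : IsFinite (pullback.snd f (O.ι ≫ e)) := by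
    rw [← hbig.isoPullback_inv_snd]
    infer_instance
  let S₀ : S.Opens := ⟨Set.range (O.ι ≫ e), (O.ι ≫ e).isOpenMap.isOpen_range⟩
  refine ⟨S₀, ⟨⟨u, huO⟩, ?_⟩,
    Groth.Agent.H7.isFinite_morphismRestrict_of_isFinite_snd f (O.ι ≫ e) hfin2 S₀ rfl⟩
  rw [Scheme.Hom.comp_apply]
  exact hu

end Groth.Agent.H22.FibreRank
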