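import Groth.Agent.H22.FibreRank5
import Groth.Prelude.Def_Mor2

/-!
# The degree function of a flat, separated, locally quasi-finite morphism with finite fibre ranks
(helper22)
-/

set_option autoImplicit false
universe u

namespace Groth.Agent.H22.FibreRank

open AlgebraicGeometry CategoryTheory Limits TopologicalSpace Opposite

theorem card_eq_of_forall_le_iff {c : Cardinal.{u}} {m : ℕ}
    (h : ∀ d : ℕ, (d : Cardinal.{u}) ≤ c ↔ d ≤ m) : c = (m : Cardinal.{u}) := by
  apply le_antisymm
  · by_contra hlt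
    rw [not_le] at hlt
    have h1 : ((m + 1 : ℕ) : Cardinal.{u}) ≤ c := by
      rw [Nat.cast_add, Nat.cast_one]
      exact Cardinal.add_one_le_of_lt hlt
    have := (h (m + 1)).mp h1
    omega
  · exact (h m).mpr le_rfl

/-- A degree function: `deg s` is the fibre rank at `s`. -/
structure IsDeg {X S : Scheme.{u}} (f : X ⟶ S) (deg : S → ℕ) : Prop where
  mem_iff : ∀ (s : S) (d : ℕ), s ∈ Big f d ↔ d ≤ deg s

theorem IsDeg.rk_eq {X S : Scheme.{u}} {f : X ⟶ S} [LocallyQuasiFinite f] {deg : S → ℕ}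
    (h : IsDeg f deg) {K : Type u} [Field K] (g : Spec (CommRingCat.of K) ⟶ S) :
    rk f g = (deg (g (ptK K)) : Cardinal.{u}) :=
  card_eq_of_forall_le_iff fun d => by rw [← mem_Big_iff, h.mem_iff]

theorem IsDeg.isClosed {X S : Scheme.{u}} {f : X ⟶ S} [Flat f] [LocallyOfFinitePresentation f]
    [IsSeparated f] [LocallyQuasiFinite f] {deg : S → ℕ} (h : IsDeg f deg) (r : ℕ) :
    IsClosed {s : S | deg s ≤ r} := by
  have : {s : S | deg s ≤ r} = (Big f (r + 1))ᶜ := by
    ext s
    simp only [Set.mem_setOf_eq, Set.mem_compl_iff, h.mem_iff]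
    omega
  rw [this]
  exact (isOpen_Big (r + 1) f).isClosed_compl

/-- The base change along `g` is finite locally free of degree `r` iff `deg ∘ g = r`. -/
theorem IsDeg.isFinLocFreeOfDeg_iff {X S : Scheme.{u}} {f : X ⟶ S} [Flat f]
    [LocallyOfFinitePresentation f] [IsSeparated f] [LocallyQuasiFinite f] {deg : S → ℕ}
    (h : IsDeg f deg) (T : Scheme.{u}) (g : T ⟶ S) (r : ℕ) :
    Mor2.IsFinLocFreeOfDeg r (pullback.snd f g) ↔ ∀ t : T, deg (g t) = r := by
  constructor
  · rintro ⟨⟨hfin, hflat, hlfp⟩, hrank⟩ t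
    obtain ⟨K, _, k, hk⟩ := exists_fieldPoint t
    have h1 := rk_eq_finrank (pullback.snd f g) k (ptK K)
    rw [← rk_comp, h.rk_eq, hk, hrank, Scheme.Hom.comp_apply, hk] at h1
    exact_mod_cast h1
  · intro hdeg
    have hr : HasRank (pullback.snd f g) r := by
      intro K _ k
      rw [← rk_comp, h.rk_eq, Scheme.Hom.comp_apply, hdeg]
    have hfin : IsFinite (pullback.snd f g) := isFinite_of_hasRank r _ hr
    refine ⟨⟨hfin, inferInstance, inferInstance⟩, fun y => ?_⟩
    obtain ⟨K, _, k, hk⟩ := exists_fieldPoint y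
    have h1 := rk_eq_finrank (pullback.snd f g) k (ptK K)
    rw [hr K k, hk] at h1
    exact_mod_cast h1.symm

/-- Existence of the degree function when the fibre ranks are bounded. -/
theorem exists_isDeg_of_le {X S : Scheme.{u}} (f : X ⟶ S) (n : ℕ)
    (hn : ∀ (K : Type u) [Field K] (g : Spec (CommRingCat.of K) ⟶ S), rk f g ≤ (n : Cardinal.{u})) :
    ∃ deg : S → ℕ, (∀ s, deg s ≤ n) ∧ IsDeg f deg := by
  classical
  refine ⟨fun s => Nat.findGreatest (fun d => s ∈ Big f d) n, fun s => Nat.findGreatest_le n,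
    ⟨fun s d => ?_⟩⟩
  constructor
  · intro hd
    have hdn : d ≤ n := by
      obtain ⟨K, _, g, -, hg⟩ := hd
      exact_mod_cast hg.trans (hn K g)
    exact Nat.le_findGreatest hdn hd
  · intro hd
    refine Big_antitone f hd ?_
    exact Nat.findGreatest_spec (P := fun d => s ∈ Big f d) (Nat.zero_le n)
      (by rw [Big_zero]; trivial)

end Groth.Agent.H22.FibreRank
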