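import Groth.Agent.H22.FibreRank6
import Mathlib.AlgebraicGeometry.Morphisms.FinitePresentation

/-!
# Constructibility of the fibre rank of a flat, separated, quasi-finite morphism of finite
presentation (helper22)
-/

set_option autoImplicit false
universe u

namespace Groth.Agent.H22.FibreRank

open AlgebraicGeometry CategoryTheory Limits TopologicalSpace Opposite Topology

/-- The fibre of `f` over every field-valued point at `s` has rank `r`. -/
def RankAt {X S : Scheme.{u}} (f : X ⟶ S) (s : S) (r : ℕ) : Prop :=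
  ∀ (K : Type u) [Field K] (g : Spec (CommRingCat.of K) ⟶ S), g (ptK K) = s →
    rk f g = (r : Cardinal.{u})

theorem rankAt_of_rk_eq {X S : Scheme.{u}} (f : X ⟶ S) [LocallyQuasiFinite f] {K : Type u}
    [Field K] (g : Spec (CommRingCat.of K) ⟶ S) {r : ℕ} (h : rk f g = (r : Cardinal.{u})) :
    RankAt f (g (ptK K)) r := by
  intro K' _ g' hg'
  refine card_eq_of_forall_le_iff fun d => ?_
  rw [le_rk_iff_of_eq f g' g hg' d, h, Nat.cast_le]

theorem RankAt.unique {X S : Scheme.{u}} {f : X ⟶ S} {s : S} {r r' : ℕ} (h : RankAt f s r)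
    (h' : RankAt f s r') : r = r' := by
  obtain ⟨K, _, g, hg⟩ := exists_fieldPoint s
  have := (h K g hg).symm.trans (h' K g hg)
  exact_mod_cast this

theorem rk_eq_zero_of_notMem_range {X S : Scheme.{u}} (f : X ⟶ S) {K : Type u} [Field K]
    (g : Spec (CommRingCat.of K) ⟶ S) (h : g (ptK K) ∉ Set.range f) : rk f g = 0 := by
  have : IsEmpty ↥(pullback f g) := by
    constructor
    intro p
    apply h
    refine ⟨pullback.fst f g p, ?_⟩
    rw [← Scheme.Hom.comp_apply, pullback.condition, Scheme.Hom.comp_apply]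
    exact congrArg g (Subsingleton.elim _ _)
  exact rkK_of_isEmpty _

theorem rk_ne_zero_of_mem_range {X S : Scheme.{u}} (f : X ⟶ S) {K : Type u} [Field K]
    (g : Spec (CommRingCat.of K) ⟶ S) (h : g (ptK K) ∈ Set.range f) : rk f g ≠ 0 := by
  obtain ⟨x, hx⟩ := h
  obtain ⟨p, -, -⟩ := Scheme.Pullback.exists_preimage_pullback (f := f) (g := g) x (ptK K) hx
  intro h0
  unfold rk rkK at h0
  let _ := ((Scheme.ΓSpecIso (CommRingCat.of K)).inv ≫ (pullback.snd f g).appTop).hom.toAlgebra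
  have hnt : Nontrivial Γ(pullback f g, ⊤) :=
    @Scheme.component_nontrivial (pullback f g) ⊤ ⟨⟨p, trivial⟩⟩
  rw [rank_zero_iff] at h0
  exact not_subsingleton _ h0

set_option maxHeartbeats 1000000 in
/-- **Local constancy of the fibre rank for the constructible topology.** -/
theorem exists_isConstructible_rankAt (r : ℕ) : ∀ {X S : Scheme.{u}} [IsAffine S] (f : X ⟶ S)
    [Flat f] [LocallyOfFinitePresentation f] [IsSeparated f] [LocallyQuasiFinite f]
    [QuasiCompact f] (s : S), RankAt f s r →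
    ∃ C : Set S, IsConstructible C ∧ s ∈ C ∧ ∀ s' ∈ C, RankAt f s' r := by
  induction r using Nat.strong_induction_on with
  | _ r ih =>
  intro X S _ f _ _ _ _ _ s hs
  obtain ⟨K, _, g, hg⟩ := exists_fieldPoint s
  rcases Nat.eq_zero_or_pos r with rfl | hrpos
  · refine ⟨(Set.range f)ᶜ, ?_, ?_, ?_⟩
    · rw [← Set.image_univ]
      exact (f.isConstructible_image IsConstructible.univ).compl
    · intro hmem
      have h0 := hs K g hg
      rw [Nat.cast_zero] at h0
      exact rk_ne_zero_of_mem_range f g (hg ▸ hmem) h0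
    · intro s' hs' K' _ g' hg'
      rw [Nat.cast_zero]
      exact rk_eq_zero_of_notMem_range f g' (hg' ▸ hs')
  have hne : Nonempty ↥(pullback f g) := by
    apply nonempty_of_rk_ne_zero
    rw [hs K g hg]
    exact_mod_cast hrpos.ne'
  obtain ⟨p⟩ := hne
  have hx : f (pullback.fst f g p) = s := by
    rw [← Scheme.Hom.comp_apply, pullback.condition, Scheme.Hom.comp_apply, ← hg]
    exact congrArg g (Subsingleton.elim _ _)
  obtain ⟨T, e, he, -, V, W, v, hVW, hfinV, hv⟩ :=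
    exists_etale_isCompl_of_quasiFiniteAt f hx (f.quasiFiniteAt _)
  obtain ⟨u, hudef⟩ : ∃ u, pullback.snd f e v.1 = u := ⟨_, rfl⟩
  have hu : e u = s := by
    rw [← hudef, ← Scheme.Hom.comp_apply, ← pullback.condition, Scheme.Hom.comp_apply, hv, hx]
  have ha : 1 ≤ (V.ι ≫ pullback.snd f e).finrank u := by
    have := Scheme.Hom.one_le_finrank_map (V.ι ≫ pullback.snd f e) v
    rwa [Scheme.Hom.comp_apply, Scheme.Opens.ι_apply, hudef] at this
  obtain ⟨a, hadef⟩ : ∃ a, (V.ι ≫ pullback.snd f e).finrank u = a := ⟨_, rfl⟩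
  rw [hadef] at ha
  let O : T.Opens := ⟨(V.ι ≫ pullback.snd f e).finrank ⁻¹' {a},
    (Scheme.Hom.isLocallyConstant_finrank (V.ι ≫ pullback.snd f e)).isOpen_fiber _⟩
  have huO : u ∈ O := hadef
  obtain ⟨O', hO'aff, huO', hO'O⟩ := exists_isAffineOpen_mem_and_subset huO
  have hWcl : IsClosedImmersion W.ι := by
    have hVW' : (W : Set ↥(pullback f e)) = (↑V)ᶜ :=
      eq_compl_iff_isCompl.mpr (hVW.map TopologicalSpace.Opens.frameHom).symm
    exact .of_isPreimmersion _ (by simpa [hVW'] using V.2)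
  have hm : IsPullback (pullback.snd f e ⁻¹ᵁ O').ι (pullback.snd f e ∣_ O') (pullback.snd f e)
      O'.ι := (isPullback_morphismRestrict (pullback.snd f e) O').flip
  have hW' := (isPullback_morphismRestrict (pullback.snd f e ⁻¹ᵁ O').ι W).paste_vert hm
  have hW1 : Flat (((pullback.snd f e ⁻¹ᵁ O').ι ⁻¹ᵁ W).ι ≫ (pullback.snd f e ∣_ O')) :=
    MorphismProperty.of_isPullback (P := @Flat) hW' inferInstance
  have hW2 : LocallyOfFinitePresentation
      (((pullback.snd f e ⁻¹ᵁ O').ι ⁻¹ᵁ W).ι ≫ (pullback.snd f e ∣_ O')) :=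
    MorphismProperty.of_isPullback (P := @LocallyOfFinitePresentation) hW' inferInstance
  have hW3 : IsSeparated (((pullback.snd f e ⁻¹ᵁ O').ι ⁻¹ᵁ W).ι ≫ (pullback.snd f e ∣_ O')) :=
    MorphismProperty.of_isPullback (P := @IsSeparated) hW' inferInstance
  have hW4 : LocallyQuasiFinite
      (((pullback.snd f e ⁻¹ᵁ O').ι ⁻¹ᵁ W).ι ≫ (pullback.snd f e ∣_ O')) :=
    MorphismProperty.of_isPullback (P := @LocallyQuasiFinite) hW' inferInstance
  have hW5 : QuasiCompact (((pullback.snd f e ⁻¹ᵁ O').ι ⁻¹ᵁ W).ι ≫ (pullback.snd f e ∣_ O')) :=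
    MorphismProperty.of_isPullback (P := @QuasiCompact) hW' inferInstance
  have hO'aff' : IsAffine (O' : Scheme.{u}) := hO'aff
  -- the rank computation over `O'`
  have hcomp : ∀ {K' : Type u} [Field K'] (h : Spec (CommRingCat.of K') ⟶ (O' : Scheme.{u})),
      rk f (h ≫ O'.ι ≫ e) = (a : Cardinal.{u}) +
        rk (((pullback.snd f e ⁻¹ᵁ O').ι ⁻¹ᵁ W).ι ≫ (pullback.snd f e ∣_ O')) h := by
    intro K' _ h
    have h2 : (V.ι ≫ pullback.snd f e).finrank ((h ≫ O'.ι) (ptK K')) = a :=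
      hO'O (h (ptK K')).2
    rw [← Category.assoc, rk_comp, rk_add (pullback.snd f e) V W hVW,
      rk_eq_finrank (V.ι ≫ pullback.snd f e) _ (ptK _), h2, rk_of_isPullback_comp hW' h]
  have hrW : RankAt (((pullback.snd f e ⁻¹ᵁ O').ι ⁻¹ᵁ W).ι ≫ (pullback.snd f e ∣_ O'))
      (⟨u, huO'⟩ : ↥O'.toScheme) (r - a) := by
    intro K' _ h hh
    have h1 := hs K' (h ≫ O'.ι ≫ e) (by
      rw [Scheme.Hom.comp_apply, Scheme.Hom.comp_apply, hh]
      exact hu)
    rw [hcomp h] at h1
    exact card_eq_sub h1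
  have hale : a ≤ r := by
    obtain ⟨K', _, h, hh⟩ := exists_fieldPoint (S := O'.toScheme) ⟨u, huO'⟩
    have h1 := hs K' (h ≫ O'.ι ≫ e) (by
      rw [Scheme.Hom.comp_apply, Scheme.Hom.comp_apply, hh]
      exact hu)
    rw [hcomp h] at h1
    have : (a : Cardinal.{u}) ≤ (r : Cardinal.{u}) := h1 ▸ self_le_add_right _ _
    exact_mod_cast this
  obtain ⟨CW, hCW, huCW, hCWr⟩ := ih (r - a) (by omega)
    (((pullback.snd f e ⁻¹ᵁ O').ι ⁻¹ᵁ W).ι ≫ (pullback.snd f e ∣_ O')) _ hrW
  have hqc : QuasiCompact (O'.ι ≫ e) :=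
    HasAffineProperty.iff_of_isAffine.mpr (inferInstanceAs (CompactSpace (O' : Scheme.{u})))
  refine ⟨(O'.ι ≫ e) '' CW, (O'.ι ≫ e).isConstructible_image hCW, ⟨_, huCW, ?_⟩, ?_⟩
  · rw [Scheme.Hom.comp_apply]
    exact hu
  · rintro _ ⟨t, ht, rfl⟩
    obtain ⟨K', _, h, hh⟩ := exists_fieldPoint t
    have h1 := hcomp h
    rw [hCWr t ht K' h hh, ← Nat.cast_add, Nat.add_sub_cancel' hale] at h1
    have := rankAt_of_rk_eq f (h ≫ O'.ι ≫ e) h1
    rwa [Scheme.Hom.comp_apply, hh] at this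

end Groth.Agent.H22.FibreRank
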