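import Groth.Agent.H22.FibreRank7
import Groth.Agent.H17.ConsTop
import Groth.Agent.H38.Spectral

/-!
# Retrocompactness of the level sets of the degree function (helper22)
-/

set_option autoImplicit false
universe u

namespace Groth.Agent.H22.FibreRank

open AlgebraicGeometry CategoryTheory Limits TopologicalSpace Opposite Topology

/-- Existence of the degree function in the quasi-compact case. -/
theorem exists_isDeg_of_quasiCompact {X S : Scheme.{u}} (f : X ⟶ S) [LocallyQuasiFinite f]
    [QuasiCompact f] : ∃ deg : S → ℕ, IsDeg f deg := by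
  choose K hK g hg using fun s : S => exists_fieldPoint s
  refine ⟨fun s => (pullback.snd f (g s)).finrank (ptK (K s)), ⟨fun s d => ?_⟩⟩
  have hfin : IsFinite (pullback.snd f (g s)) := IsFinite.of_locallyQuasiFinite _
  have h1 : rk f (g s) = ((pullback.snd f (g s)).finrank (ptK (K s)) : Cardinal.{u}) :=
    rkK_eq_finrank _ _
  have h2 := mem_Big_iff f (g s) d
  rw [hg s] at h2
  change s ∈ Big f d ↔ d ≤ (pullback.snd f (g s)).finrank (ptK (K s))
  rw [h2, h1, Nat.cast_le]

set_option maxHeartbeats 800000 in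
theorem isCompact_level_inter_affine {X S : Scheme.{u}} (f : X ⟶ S) [Flat f]
    [LocallyOfFinitePresentation f] [IsSeparated f] [LocallyQuasiFinite f] [QuasiCompact f]
    {deg : S → ℕ} (h : IsDeg f deg) (r : ℕ) (U₀ : S.Opens) (hU₀ : IsAffineOpen U₀) :
    IsCompact ({s : S | deg s = r} ∩ (U₀ : Set S)) := by
  have hpb : IsPullback (f ⁻¹ᵁ U₀).ι (f ∣_ U₀) f U₀.ι := (isPullback_morphismRestrict f U₀).flip
  have h1 : Flat (f ∣_ U₀) := MorphismProperty.of_isPullback (P := @Flat) hpb inferInstance
  have h2 : LocallyOfFinitePresentation (f ∣_ U₀) :=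
    MorphismProperty.of_isPullback (P := @LocallyOfFinitePresentation) hpb inferInstance
  have h3 : IsSeparated (f ∣_ U₀) :=
    MorphismProperty.of_isPullback (P := @IsSeparated) hpb inferInstance
  have h4 : LocallyQuasiFinite (f ∣_ U₀) :=
    MorphismProperty.of_isPullback (P := @LocallyQuasiFinite) hpb inferInstance
  have h5 : QuasiCompact (f ∣_ U₀) :=
    MorphismProperty.of_isPullback (P := @QuasiCompact) hpb inferInstance
  have haff : IsAffine (U₀ : Scheme.{u}) := hU₀
  have hrank : ∀ t : ↥U₀.toScheme, RankAt (f ∣_ U₀) t (deg (U₀.ι t)) := by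
    intro t K _ k hk
    rw [← rk_of_isPullback_comp hpb k, h.rk_eq, Scheme.Hom.comp_apply, hk]
  choose C hC htC hCr using fun t : ↥U₀.toScheme =>
    exists_isConstructible_rankAt (deg (U₀.ι t)) (f ∣_ U₀) t (hrank t)
  have hdegC : ∀ t, ∀ t' ∈ C t, deg (U₀.ι t') = deg (U₀.ι t) :=
    fun t t' ht' => (hrank t').unique (hCr t t' ht')
  let Z : Set ↥U₀.toScheme := {t | deg (U₀.ι t) = r}
  have hZ : IsClosed[constructibleTopology ↥U₀.toScheme] Z := by
    rw [← @isOpen_compl_iff _ _ (constructibleTopology ↥U₀.toScheme)]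
    have hZc : Zᶜ = ⋃ t : {t // t ∈ Zᶜ}, C t.1 := by
      ext t'
      simp only [Set.mem_compl_iff, Set.mem_iUnion]
      constructor
      · intro ht'
        exact ⟨⟨t', ht'⟩, htC t'⟩
      · rintro ⟨⟨t, ht⟩, ht'⟩ hZ'
        apply ht
        change deg (U₀.ι t) = r
        rw [← hdegC t t' ht']
        exact hZ'
    rw [hZc]
    exact @isOpen_iUnion _ _ (constructibleTopology ↥U₀.toScheme) _
      fun t => Groth.Agent.H17.consOpen_of_isConstructible (hC t.1)
  have hZcpt : IsCompact Z := Groth.Agent.H38.isCompact_of_isClosed_constructibleTopology hZ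
  have himg : {s : S | deg s = r} ∩ (U₀ : Set S) = U₀.ι '' Z := by
    ext s
    constructor
    · rintro ⟨hs, hsU⟩
      exact ⟨⟨s, hsU⟩, hs, rfl⟩
    · rintro ⟨t, ht, rfl⟩
      exact ⟨ht, t.2⟩
  rw [himg]
  exact hZcpt.image U₀.ι.continuous

/-- The level sets of the degree function are retrocompact. -/
theorem isRetrocompact_level {X S : Scheme.{u}} (f : X ⟶ S) [Flat f]
    [LocallyOfFinitePresentation f] [IsSeparated f] [LocallyQuasiFinite f] [QuasiCompact f]
    {deg : S → ℕ} (h : IsDeg f deg) (r : ℕ) : IsRetrocompact {s : S | deg s = r} := by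
  intro U hUc hUo
  obtain ⟨A, hAfin, hUA⟩ :=
    isCompact_and_isOpen_iff_finite_and_eq_biUnion_affineOpens.mp ⟨hUc, hUo⟩
  rw [hUA, Set.inter_iUnion₂]
  exact hAfin.isCompact_biUnion fun U₀ _ => isCompact_level_inter_affine f h r U₀.1 U₀.2

end Groth.Agent.H22.FibreRank
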