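import Mathlib
import Groth.Agent.H20.MaxPointFibre

/-!
# Global sections of a fibre contained in an affine open
(helper22; for S14042)
-/

set_option autoImplicit false
universe u

open AlgebraicGeometry CategoryTheory CategoryTheory.Limits TopologicalSpace

namespace Groth.Agent.H22.FibreSections

/-- If the fibre of `f` over `y ∈ V` lies in the affine open `W ≤ f ⁻¹ V`, then the global sections
of the scheme-theoretic fibre are `Γ(X, W) ⊗_{Γ(Y, V)} κ(y)`. -/
theorem isPushout_fibre {X Y : Scheme.{u}} (f : X ⟶ Y) (y : Y) {V : Y.Opens}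
    (hV : IsAffineOpen V) (hyV : y ∈ V) {W : X.Opens} (hW : IsAffineOpen W)
    (e : W ≤ f ⁻¹ᵁ V) (hfib : f ⁻¹' {y} ⊆ W) :
    ∃ β : Γ(X, W) ⟶ Γ(pullback f (Y.fromSpecResidueField y), ⊤),
      IsPushout (f.appLE V W e) (Y.presheaf.germ V y hyV ≫ Y.residue y) β
        ((Scheme.ΓSpecIso (Y.residueField y)).inv ≫
          (pullback.snd f (Y.fromSpecResidueField y)).appTop) := by
  let g := Y.fromSpecResidueField y
  have H : IsPullback (pullback.fst f g) (pullback.snd f g) f g := IsPullback.of_hasPullback _ _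
  have hUST : (⊤ : (Spec (Y.residueField y)).Opens) ≤ g ⁻¹ᵁ V := by
    intro t _
    change g t ∈ V
    rw [Scheme.fromSpecResidueField_apply]
    exact hyV
  have hUY : (⊤ : (pullback f g).Opens) = pullback.fst f g ⁻¹ᵁ W ⊓ pullback.snd f g ⁻¹ᵁ ⊤ := by
    ext z
    simp only [Opens.coe_top, Set.mem_univ, Opens.coe_inf, Set.mem_inter_iff, true_iff]
    refine ⟨?_, trivial⟩
    apply hfib
    change f (pullback.fst f g z) = y
    have h1 : f (pullback.fst f g z) = g (pullback.snd f g z) := by
      rw [← Scheme.Hom.comp_apply, ← Scheme.Hom.comp_apply, pullback.condition]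
    rw [h1, Scheme.fromSpecResidueField_apply]
  have hiso := isIso_pushoutSection_of_isAffineOpen H hUST e hUY hV (isAffineOpen_top _) hW
  have hPO := (isIso_pushoutSection_iff H hUST e hUY).mp hiso
  refine ⟨(pullback.fst f g).appLE W ⊤ (by rw [hUY]; exact inf_le_left),
    IsPushout.of_iso hPO (Iso.refl _) (Iso.refl _)
    (Scheme.ΓSpecIso (Y.residueField y)) (Iso.refl _) ?_ ?_ ?_ ?_⟩
  · simp
  · rw [Groth.Agent.H20.fromSpecResidueField_appLE y V hyV hUST]
    simp
  · simp
  · simp only [Iso.refl_hom, Category.comp_id, Iso.hom_inv_id_assoc]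
    rw [Scheme.Hom.appTop, Scheme.Hom.app_eq_appLE]
    rfl

end Groth.Agent.H22.FibreSections
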