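import Groth.Agent.H17.GenericRange

/-!
# A field mapping into a finitely generated algebra over another field has algebraic image
-/

set_option autoImplicit false
set_option linter.style.haveILetI false
universe u

namespace Groth.Agent.H22.FieldInFG

open Polynomial

section seq

variable {R S : Type*} [CommRing R] [CommRing S]

/-- Euclid-type sequence: `a 0 = r`, `a (n+1) = a n * (a n + 1)`. -/
def eseq (r : R) : ℕ → R
  | 0 => r
  | n + 1 => eseq r n * (eseq r n + 1)

@[simp] lemma eseq_zero (r : R) : eseq r 0 = r := rfl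
@[simp] lemma eseq_succ (r : R) (n : ℕ) : eseq r (n + 1) = eseq r n * (eseq r n + 1) := rfl

lemma map_eseq (f : R →+* S) (r : R) (n : ℕ) : f (eseq r n) = eseq (f r) n := by
  induction n with
  | zero => rfl
  | succ n ih => simp [ih]

lemma eseq_add_one_dvd (r : R) {n m : ℕ} (h : n < m) : eseq r n + 1 ∣ eseq r m := by
  induction m with
  | zero => omega
  | succ m ih =>
    rcases Nat.lt_succ_iff_lt_or_eq.mp h with h' | rfl
    · exact (ih h').trans (Dvd.intro _ rfl)
    · exact Dvd.intro_left _ rfl

lemma isCoprime_eseq (r : R) {n m : ℕ} (h : n < m) :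
    IsCoprime (eseq r n + 1) (eseq r m + 1) := by
  obtain ⟨c, hc⟩ := eseq_add_one_dvd r h
  refine ⟨-c, 1, ?_⟩
  rw [hc]; ring

end seq

section poly

variable (k : Type*) [Field k]

lemma monic_eseq_X (n : ℕ) : (eseq (X : k[X]) n).Monic ∧ 0 < (eseq (X : k[X]) n).natDegree := by
  induction n with
  | zero => exact ⟨monic_X, by simp⟩
  | succ n ih =>
    have h1 : (eseq (X : k[X]) n + 1).Monic := by
      refine ih.1.add_of_left ?_
      rw [degree_one]
      exact natDegree_pos_iff_degree_pos.mp ih.2
    refine ⟨ih.1.mul h1, ?_⟩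
    rw [eseq_succ, (ih.1).natDegree_mul h1]
    omega

lemma monic_eseq_X_add_one (n : ℕ) : (eseq (X : k[X]) n + 1).Monic := by
  refine (monic_eseq_X k n).1.add_of_left ?_
  rw [degree_one]
  exact natDegree_pos_iff_degree_pos.mp (monic_eseq_X k n).2

lemma not_isUnit_eseq_X_add_one (n : ℕ) : ¬ IsUnit (eseq (X : k[X]) n + 1) := by
  intro h
  have h1 : (eseq (X : k[X]) n + 1).natDegree = 0 := natDegree_eq_zero_of_isUnit h
  have h2 : (eseq (X : k[X]) n + 1).natDegree = (eseq (X : k[X]) n).natDegree := by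
    apply natDegree_add_eq_left_of_degree_lt
    rw [degree_one]
    exact natDegree_pos_iff_degree_pos.mp (monic_eseq_X k n).2
  have := (monic_eseq_X k n).2
  omega

end poly

/-- A nonzero polynomial over a field lies in only finitely many maximal ideals. -/
lemma finite_maximal_of_mem {k : Type*} [Field k] (g : k[X]) (hg : g ≠ 0) :
    {M : Ideal k[X] | M.IsMaximal ∧ g ∈ M}.Finite := by
  refine (Ideal.finite_minimalPrimes_of_isNoetherianRing k[X] (Ideal.span {g})).subset ?_
  rintro M ⟨hM, hgM⟩
  refine ⟨⟨hM.isPrime, (Ideal.span_singleton_le_iff_mem M).mpr hgM⟩, ?_⟩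
  rintro p ⟨hp, hgp⟩ hpM
  have hp0 : p ≠ ⊥ := by
    rintro rfl
    exact hg (by simpa using (Ideal.span_singleton_le_iff_mem _).mp hgp)
  have : p.IsMaximal := hp.isMaximal hp0
  exact (this.eq_of_le hM.ne_top hpM).ge

/-- If `K` is a field, `B` a domain of finite type over a field `k` and `φ : K →+* B` a ring
homomorphism, then every element of the image of `φ` is algebraic over `k`. -/
theorem isAlgebraic_of_field_hom {k B : Type u} [Field k] [CommRing B] [IsDomain B] [Algebra k B]
    [Algebra.FiniteType k B] {K : Type*} [Field K] (φ : K →+* B) (l : K) :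
    IsAlgebraic k (φ l) := by
  by_contra htr
  set t : B := φ l with ht
  have hinj : Function.Injective (aeval (R := k) t) := transcendental_iff_injective.mp htr
  letI : Algebra k[X] B := (aeval (R := k) t).toRingHom.toAlgebra
  have hmap : ∀ p : k[X], algebraMap k[X] B p = aeval t p := fun _ => rfl
  haveI : IsScalarTower k k[X] B := IsScalarTower.of_algebraMap_eq (fun c => by
    rw [hmap, ← Polynomial.C_eq_algebraMap, aeval_C])
  haveI : Algebra.FiniteType k[X] B := Algebra.FiniteType.of_restrictScalars_finiteType k k[X] B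
  haveI : (nilradical k[X]).IsPrime := by
    rw [nilradical_eq_zero]; exact Ideal.isPrime_bot
  have hq : (⊥ : Ideal B).comap (algebraMap k[X] B) = nilradical k[X] := by
    rw [nilradical_eq_zero]
    ext p
    simp only [Ideal.mem_comap, Ideal.mem_bot, Ideal.zero_eq_bot]
    rw [hmap]
    exact ⟨fun h => hinj (by rw [h, map_zero]), fun h => by rw [h, map_zero]⟩
  haveI : (⊥ : Ideal B).IsPrime := Ideal.isPrime_bot
  obtain ⟨g, hg, hrange⟩ := Groth.Agent.H17.exists_notMem_forall_mem_range_comap (A := k[X])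
    (B := B) ⊥ hq
  have hg0 : g ≠ 0 := by
    intro h; apply hg; rw [h]; exact zero_mem _
  -- the units
  have hunit : ∀ n, IsUnit (algebraMap k[X] B (eseq (X : k[X]) n + 1)) := by
    intro n
    have h1 : algebraMap k[X] B (eseq (X : k[X]) n + 1) = φ (eseq l n + 1) := by
      rw [hmap, map_add, map_one, map_add, map_one]
      have e1 : aeval (R := k) t (eseq (X : k[X]) n) = eseq t n := by
        have := map_eseq (aeval (R := k) t).toRingHom (X : k[X]) n
        simpa using this
      rw [e1, map_eseq φ]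
    rw [h1]
    have hne : eseq l n + 1 ≠ 0 := by
      intro h0
      rw [h0, map_zero] at h1
      have := hinj (by rw [← hmap, h1, map_zero] : aeval (R := k) t (eseq (X : k[X]) n + 1) =
        aeval (R := k) t 0)
      exact (monic_eseq_X_add_one k n).ne_zero this
    exact (IsUnit.mk0 _ hne).map φ
  -- choose maximal ideals
  have hex : ∀ n, ∃ M : Ideal k[X], M.IsMaximal ∧ eseq (X : k[X]) n + 1 ∈ M := by
    intro n
    obtain ⟨M, hM, hle⟩ := Ideal.exists_le_maximal (Ideal.span {eseq (X : k[X]) n + 1})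
      (by rw [Ne, Ideal.span_singleton_eq_top]; exact not_isUnit_eseq_X_add_one k n)
    exact ⟨M, hM, (Ideal.span_singleton_le_iff_mem M).mp hle⟩
  choose M hMmax hMmem using hex
  have hMinj : Function.Injective M := by
    intro n m hnm
    by_contra hne
    wlog hlt : n < m generalizing n m
    · exact this hnm.symm (Ne.symm hne) (lt_of_le_of_ne (not_lt.mp hlt) (Ne.symm hne))
    obtain ⟨a, b, hab⟩ := isCoprime_eseq (X : k[X]) hlt
    have h1 : (1 : k[X]) ∈ M m := by
      rw [← hab]
      exact (M m).add_mem ((M m).mul_mem_left _ (hnm ▸ hMmem n)) ((M m).mul_mem_left _ (hMmem m))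
    exact (hMmax m).ne_top ((Ideal.eq_top_iff_one _).mpr h1)
  have hgM : ∀ n, g ∈ M n := by
    intro n
    by_contra hgn
    haveI := (hMmax n).isPrime
    obtain ⟨Q, hQ⟩ := hrange ⟨M n, (hMmax n).isPrime⟩ hgn
    have h1 : eseq (X : k[X]) n + 1 ∈ (PrimeSpectrum.comap (algebraMap k[X] B) Q).asIdeal := by
      rw [hQ]; exact hMmem n
    have h2 : algebraMap k[X] B (eseq (X : k[X]) n + 1) ∈ Q.asIdeal := h1
    exact Q.isPrime.ne_top (Ideal.eq_top_of_isUnit_mem _ h2 (hunit n))
  have hfin := finite_maximal_of_mem g hg0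
  have hsub : Set.range M ⊆ {M : Ideal k[X] | M.IsMaximal ∧ g ∈ M} := by
    rintro _ ⟨n, rfl⟩
    exact ⟨hMmax n, hgM n⟩
  exact (Set.infinite_range_of_injective hMinj) (hfin.subset hsub)

end Groth.Agent.H22.FieldInFG

namespace Groth.Agent.H22.FieldInFG

open Polynomial

/-- If `K` is a field, `B` an algebra of finite type over a field `k` and `φ : K →+* B` a ring
homomorphism, then every element of the image of `φ` is integral over `k`. -/
theorem isIntegral_of_field_hom {k B : Type u} [Field k] [CommRing B] [Algebra k B]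
    [Algebra.FiniteType k B] {K : Type*} [Field K] (φ : K →+* B) (l : K) :
    IsIntegral k (φ l) := by
  classical
  haveI : IsNoetherianRing B := Algebra.FiniteType.isNoetherianRing k B
  have hfin : (minimalPrimes B).Finite := minimalPrimes.finite_of_isNoetherianRing B
  have key : ∀ Q ∈ minimalPrimes B, ∃ P : k[X], P.Monic ∧ aeval (φ l) P ∈ Q := by
    intro Q hQ
    haveI : Q.IsPrime := hQ.1.1
    have h1 := isAlgebraic_of_field_hom (k := k) (B := B ⧸ Q) ((Ideal.Quotient.mk Q).comp φ) l
    obtain ⟨P, hP, hPz⟩ := h1.isIntegral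
    refine ⟨P, hP, ?_⟩
    rw [← Ideal.Quotient.eq_zero_iff_mem]
    rw [← aeval_def] at hPz
    have : (Ideal.Quotient.mk Q) (aeval (φ l) P) = aeval ((Ideal.Quotient.mk Q) (φ l)) P := by
      have := aeval_algHom_apply (Ideal.Quotient.mkₐ k Q) (φ l) P
      simpa using this.symm
    rw [this]
    exact hPz
  choose! P hP hPQ using key
  let G : k[X] := ∏ Q ∈ hfin.toFinset, P Q
  have hG : G.Monic := monic_prod_of_monic _ _ (fun Q hQ => hP Q (hfin.mem_toFinset.mp hQ))
  have hnil : aeval (φ l) G ∈ nilradical B := by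
    change _ ∈ (⊥ : Ideal B).radical
    rw [← Ideal.sInf_minimalPrimes, Ideal.mem_sInf]
    intro Q hQ
    have hQ' : Q ∈ hfin.toFinset := hfin.mem_toFinset.mpr hQ
    change aeval (φ l) (∏ Q ∈ hfin.toFinset, P Q) ∈ Q
    rw [← Finset.mul_prod_erase _ _ hQ', map_mul]
    exact Q.mul_mem_right _ (hPQ Q hQ)
  obtain ⟨N, hN⟩ := hnil
  refine ⟨G ^ N, hG.pow N, ?_⟩
  rw [← aeval_def, map_pow, hN]

end Groth.Agent.H22.FieldInFG
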