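import Mathlib

/-!
# Rank of a closed fibre of a flat algebra is bounded by the generic rank

`A₀ → B` flat, `A₀ → R` injective with `R` local with residue field `k`, `K = Frac A₀`,
`B ↪ L` with `L` finite over `K`: then `dim_k (k ⊗_{A₀} B) ≤ [L : K]`.
-/

set_option autoImplicit false
universe u

open TensorProduct IsLocalRing CategoryTheory CategoryTheory.Limits

namespace Groth.Agent.H22.FlatRank

section Core

variable {A₀ B R K L : Type u} [CommRing A₀] [CommRing B] [Algebra A₀ B] [Module.Flat A₀ B]
  [CommRing R] [IsLocalRing R] [Algebra A₀ R]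
  [Field K] [Algebra A₀ K] [IsFractionRing A₀ K] [Field L] [Algebra K L] [Module.Finite K L]
  [Algebra A₀ L] [IsScalarTower A₀ K L]

theorem finrank_le (hR : Function.Injective (algebraMap A₀ R))
    (ψ : B →ₗ[A₀] L) (hψ : Function.Injective ψ) :
    Module.finrank (ResidueField R) (ResidueField R ⊗[A₀] B) ≤ Module.finrank K L := by
  classical
  let k := ResidueField R
  -- a basis of `k ⊗ B` among the elements `1 ⊗ b`
  let s : Set (k ⊗[A₀] B) := Set.range (fun b : B => (1 : k) ⊗ₜ[A₀] b)
  have hs : Submodule.span k s = ⊤ := by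
    rw [eq_top_iff]
    intro x _
    induction x using TensorProduct.induction_on with
    | zero => exact Submodule.zero_mem _
    | tmul c b =>
      have : c ⊗ₜ[A₀] b = c • ((1 : k) ⊗ₜ[A₀] b) := by
        rw [TensorProduct.smul_tmul', smul_eq_mul, mul_one]
      rw [this]
      exact Submodule.smul_mem _ _ (Submodule.subset_span ⟨b, rfl⟩)
    | add x y hx hy => exact Submodule.add_mem _ (hx trivial) (hy trivial)
  obtain ⟨T, hTs, hTspan, hTli⟩ := exists_linearIndependent k s
  have hTtop : Submodule.span k T = ⊤ := by rw [hTspan, hs]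
  -- lifts to `B`
  have hlift : ∀ t : T, ∃ b : B, (1 : k) ⊗ₜ[A₀] b = t.1 := fun t => hTs t.2
  choose w hw using hlift
  -- the `R`-module `M = R ⊗ B`
  let M := R ⊗[A₀] B
  let e : k ⊗[R] M ≃ₗ[k] k ⊗[A₀] B := TensorProduct.AlgebraTensorModule.cancelBaseChange A₀ R k k B
  let v : T → M := fun t => (1 : R) ⊗ₜ[A₀] w t
  have hv : LinearIndependent k (TensorProduct.mk R k M 1 ∘ v) := by
    have h1 : (TensorProduct.mk R k M 1 ∘ v) = e.symm ∘ (fun t : T => t.1) := by
      funext t
      simp only [Function.comp_apply, v, e, TensorProduct.mk_apply]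
      rw [← hw t, TensorProduct.AlgebraTensorModule.cancelBaseChange_symm_tmul]
    rw [h1]
    exact hTli.map' e.symm.toLinearMap (LinearEquiv.ker e.symm)
  have hvR : LinearIndependent R v := Module.IsLocalRing.linearIndependent_of_flat v hv
  -- descend to `A₀`
  have hvA : LinearIndependent A₀ v := by
    refine hvR.restrict_scalars ?_
    intro a b hab
    apply hR
    simpa [Algebra.smul_def] using hab
  have hwA : LinearIndependent A₀ w := by
    have : v = (TensorProduct.mk A₀ R B 1) ∘ w := rfl
    rw [this] at hvA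
    exact LinearIndependent.of_comp _ hvA
  have hψw : LinearIndependent A₀ (ψ ∘ w) :=
    hwA.map' ψ (LinearMap.ker_eq_bot.mpr hψ)
  have hK : LinearIndependent K (ψ ∘ w) :=
    (LinearIndependent.iff_fractionRing A₀ K).mp hψw
  have : Finite T := hK.finite
  let _ : Fintype T := Fintype.ofFinite T
  have h1 : Fintype.card T ≤ Module.finrank K L := hK.fintype_card_le_finrank
  let bT : Module.Basis T k (k ⊗[A₀] B) := Module.Basis.mk hTli (by
    rw [Subtype.range_coe_subtype]; exact hTtop.ge)
  have h2 : Module.finrank k (k ⊗[A₀] B) = Fintype.card T := Module.finrank_eq_card_basis bT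
  exact h2 ▸ h1

end Core

section Pushout

/-- Pushout form: `P` is the pushout of `A₀ → B` (flat) and `A₀ → k = R/𝔪`. -/
theorem finrank_le_of_isPushout {A₀ B P : CommRingCat.{u}} (R : Type u) [CommRing R]
    [IsLocalRing R] {K L : Type u} [Field K] [Field L]
    (φ : A₀ ⟶ B) (hφ : φ.hom.Flat) (γ : A₀ ⟶ CommRingCat.of (ResidueField R)) (β : B ⟶ P)
    (σ : CommRingCat.of (ResidueField R) ⟶ P) (hpo : IsPushout φ γ β σ)
    (ρ : A₀ →+* R) (hρ : Function.Injective ρ) (hγ : γ.hom = (residue R).comp ρ)
    (ι : A₀ →+* K) (hι : letI := ι.toAlgebra; IsFractionRing A₀ K)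
    (κ : K →+* L) (hfin : letI := κ.toAlgebra; Module.Finite K L)
    (ψ : B →+* L) (hψ : Function.Injective ψ) (hcomm : ψ.comp φ.hom = κ.comp ι) :
    (letI := σ.hom.toAlgebra; Module.finrank (ResidueField R) P) ≤
      (letI := κ.toAlgebra; Module.finrank K L) := by
  letI algB : Algebra A₀ B := φ.hom.toAlgebra
  letI algR : Algebra A₀ R := ρ.toAlgebra
  letI algK : Algebra A₀ K := ι.toAlgebra
  letI algL : Algebra K L := κ.toAlgebra
  letI algL' : Algebra A₀ L := (κ.comp ι).toAlgebra
  haveI : IsScalarTower A₀ K L := IsScalarTower.of_algebraMap_eq' rfl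
  haveI : IsFractionRing A₀ K := hι
  haveI : Module.Finite K L := hfin
  haveI : Module.Flat A₀ B := hφ
  letI algP : Algebra (ResidueField R) P := σ.hom.toAlgebra
  -- the `A₀`-linear map `B → L`
  let ψ' : B →ₗ[A₀] L :=
    { toFun := ψ
      map_add' := map_add ψ
      map_smul' := fun a b => by
        have h1 : ψ (φ.hom a) = κ (ι a) := congrArg (fun g : A₀ →+* L => g a) hcomm
        simp only [Algebra.smul_def, RingHom.id_apply, map_mul]
        rw [show algebraMap A₀ B a = φ.hom a from rfl, h1]
        rfl }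
  have hmain := finrank_le (A₀ := A₀) (B := B) (R := R) (K := K) (L := L) hρ ψ' hψ
  -- identify `k ⊗ B` with `P`
  have hγ' : γ = CommRingCat.ofHom (algebraMap A₀ (ResidueField R)) := by
    ext a
    rw [hγ]
    rfl
  have hφ' : φ = CommRingCat.ofHom (algebraMap A₀ B) := rfl
  have hpo' := hpo.flip
  rw [hγ', hφ'] at hpo'
  let e := (CommRingCat.isPushout_tensorProduct A₀ (ResidueField R) B).isoIsPushout _ _ hpo'
  have he : CommRingCat.ofHom
      (Algebra.TensorProduct.includeLeftRingHom (R := A₀) (A := ResidueField R) (B := B)) ≫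
        e.hom = σ :=
    IsPushout.inl_isoIsPushout_hom _ _ _ _
  let e' : (ResidueField R ⊗[A₀] B) ≃ₐ[ResidueField R] P :=
    AlgEquiv.ofRingEquiv (f := e.commRingCatIsoToRingEquiv) (fun c => by
      have := congrArg (fun g => g.hom c) he
      simp only [CommRingCat.hom_comp, CommRingCat.hom_ofHom, RingHom.comp_apply,
        Algebra.TensorProduct.includeLeftRingHom_apply] at this
      exact this)
  rw [← e'.toLinearEquiv.finrank_eq]
  exact hmain

end Pushout

end Groth.Agent.H22.FlatRank
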