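import Mathlib
import Groth.Agent.H22.FlatRank

/-!
# Rank semicontinuity for flat algebras along a specialization of primes
(helper22; for S3207)

`finrank_le_module`: version of `FlatRank.finrank_le` with a module `L`.
`finrank_le_of_specializes`: `A₀ → B` flat, `R` a local `A₀`-algebra with residue field `k`,
`K` a field which is an `R`-algebra generated by fractions of `A₀`:
`dim_k (k ⊗ B) ≤ dim_K (K ⊗ B)`.
-/

set_option autoImplicit false
universe u

open TensorProduct IsLocalRing CategoryTheory CategoryTheory.Limits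

namespace Groth.Agent.H22.FlatRank2

section Core

variable {A₀ B R K L : Type u} [CommRing A₀] [CommRing B] [Algebra A₀ B] [Module.Flat A₀ B]
  [CommRing R] [IsLocalRing R] [Algebra A₀ R]
  [Field K] [Algebra A₀ K] [IsFractionRing A₀ K] [AddCommGroup L] [Module K L] [Module.Finite K L]
  [Module A₀ L] [IsScalarTower A₀ K L]

theorem finrank_le_module (hR : Function.Injective (algebraMap A₀ R))
    (ψ : B →ₗ[A₀] L) (hψ : Function.Injective ψ) :
    Module.finrank (ResidueField R) (ResidueField R ⊗[A₀] B) ≤ Module.finrank K L := by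
  classical
  let k := ResidueField R
  let s : Set (k ⊗[A₀] B) := Set.range (fun b : B => (1 : k) ⊗ₜ[A₀] b)
  have hs : Submodule.span k s = ⊤ := by
    rw [eq_top_iff]
    intro x _
    induction x using TensorProduct.induction_on with
    | zero => exact Submodule.zero_mem _
    | tmul c b =>
      have : c ⊗ₜ[A₀] b = c • ((1 : k) ⊗ₜ[A₀] b) := by
        rw [TensorProduct.smul_tmul', smul_eq_mul, mul_one]
      rw [this]
      exact Submodule.smul_mem _ _ (Submodule.subset_span ⟨b, rfl⟩)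
    | add x y hx hy => exact Submodule.add_mem _ (hx trivial) (hy trivial)
  obtain ⟨T, hTs, hTspan, hTli⟩ := exists_linearIndependent k s
  have hTtop : Submodule.span k T = ⊤ := by rw [hTspan, hs]
  have hlift : ∀ t : T, ∃ b : B, (1 : k) ⊗ₜ[A₀] b = t.1 := fun t => hTs t.2
  choose w hw using hlift
  let M := R ⊗[A₀] B
  let e : k ⊗[R] M ≃ₗ[k] k ⊗[A₀] B := TensorProduct.AlgebraTensorModule.cancelBaseChange A₀ R k k B
  let v : T → M := fun t => (1 : R) ⊗ₜ[A₀] w t
  have hv : LinearIndependent k (TensorProduct.mk R k M 1 ∘ v) := by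
    have h1 : (TensorProduct.mk R k M 1 ∘ v) = e.symm ∘ (fun t : T => t.1) := by
      funext t
      simp only [Function.comp_apply, v, e, TensorProduct.mk_apply]
      rw [← hw t, TensorProduct.AlgebraTensorModule.cancelBaseChange_symm_tmul]
    rw [h1]
    exact hTli.map' e.symm.toLinearMap (LinearEquiv.ker e.symm)
  have hvR : LinearIndependent R v := Module.IsLocalRing.linearIndependent_of_flat v hv
  have hvA : LinearIndependent A₀ v := by
    refine hvR.restrict_scalars ?_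
    intro a b hab
    apply hR
    simpa [Algebra.smul_def] using hab
  have hwA : LinearIndependent A₀ w := by
    have : v = (TensorProduct.mk A₀ R B 1) ∘ w := rfl
    rw [this] at hvA
    exact LinearIndependent.of_comp _ hvA
  have hψw : LinearIndependent A₀ (ψ ∘ w) :=
    hwA.map' ψ (LinearMap.ker_eq_bot.mpr hψ)
  have hK : LinearIndependent K (ψ ∘ w) :=
    (LinearIndependent.iff_fractionRing A₀ K).mp hψw
  have : Finite T := hK.finite
  let _ : Fintype T := Fintype.ofFinite T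
  have h1 : Fintype.card T ≤ Module.finrank K L := hK.fintype_card_le_finrank
  let bT : Module.Basis T k (k ⊗[A₀] B) := Module.Basis.mk hTli (by
    rw [Subtype.range_coe_subtype]; exact hTtop.ge)
  have h2 : Module.finrank k (k ⊗[A₀] B) = Fintype.card T := Module.finrank_eq_card_basis bT
  exact h2 ▸ h1

end Core

section Spec

variable {A₀ B R K : Type u} [CommRing A₀] [CommRing B] [Algebra A₀ B] [Module.Flat A₀ B]
  [CommRing R] [IsLocalRing R] [Algebra A₀ R] [Field K] [Algebra A₀ K] [Algebra R K]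
  [IsScalarTower A₀ R K]

set_option maxHeartbeats 1000000 in
theorem finrank_le_of_specializes
    (hfrac : ∀ c : K, ∃ a b : A₀, algebraMap A₀ K b ≠ 0 ∧
      c * algebraMap A₀ K b = algebraMap A₀ K a)
    [Module.Finite K (K ⊗[A₀] B)] :
    Module.finrank (ResidueField R) (ResidueField R ⊗[A₀] B) ≤
      Module.finrank K (K ⊗[A₀] B) := by
  classical
  let I : Ideal A₀ := RingHom.ker (algebraMap A₀ K)
  let q : Ideal R := RingHom.ker (algebraMap R K)
  haveI hqp : q.IsPrime := RingHom.ker_isPrime _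
  haveI : Nontrivial (R ⧸ q) := Ideal.Quotient.nontrivial_iff.mpr hqp.ne_top
  haveI : IsLocalRing (R ⧸ q) :=
    IsLocalRing.of_surjective' (Ideal.Quotient.mk q) Ideal.Quotient.mk_surjective
  letI algA₁K : Algebra (A₀ ⧸ I) K := (RingHom.kerLift (algebraMap A₀ K)).toAlgebra
  haveI : IsScalarTower A₀ (A₀ ⧸ I) K := IsScalarTower.of_algebraMap_eq' rfl
  have hIq : I ≤ q.comap (algebraMap A₀ R) := by
    intro a ha
    rw [Ideal.mem_comap, RingHom.mem_ker, ← IsScalarTower.algebraMap_apply]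
    exact ha
  have hqI : q.comap (algebraMap A₀ R) ≤ I := by
    intro a ha
    rw [Ideal.mem_comap, RingHom.mem_ker, ← IsScalarTower.algebraMap_apply] at ha
    exact ha
  letI algA₁R₁ : Algebra (A₀ ⧸ I) (R ⧸ q) :=
    (Ideal.quotientMap q (algebraMap A₀ R) hIq).toAlgebra
  have hinj : Function.Injective (algebraMap (A₀ ⧸ I) (R ⧸ q)) :=
    Ideal.quotientMap_injective' hqI
  haveI : IsScalarTower A₀ (A₀ ⧸ I) (R ⧸ q) := IsScalarTower.of_algebraMap_eq' rfl
  -- `K` is the fraction field of `A₀ ⧸ I`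
  have hKinj : Function.Injective (algebraMap (A₀ ⧸ I) K) := RingHom.kerLift_injective _
  haveI : IsDomain (A₀ ⧸ I) := hKinj.isDomain _
  haveI : IsFractionRing (A₀ ⧸ I) K := by
    refine ⟨?_, ?_, ?_⟩
    · rintro ⟨y, hy⟩
      apply IsUnit.mk0
      intro h0
      have : y = 0 := hKinj (by rw [h0, map_zero])
      exact (nonZeroDivisors.ne_zero hy) this
    · intro c
      obtain ⟨a, b, hb, hab⟩ := hfrac c
      have hb' : (Ideal.Quotient.mk I b) ∈ nonZeroDivisors (A₀ ⧸ I) := by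
        rw [mem_nonZeroDivisors_iff_ne_zero]
        intro h0
        apply hb
        have : algebraMap (A₀ ⧸ I) K (Ideal.Quotient.mk I b) = 0 := by rw [h0, map_zero]
        exact this
      exact ⟨(Ideal.Quotient.mk I a, ⟨Ideal.Quotient.mk I b, hb'⟩), hab⟩
    · intro x y hxy
      exact ⟨1, by rw [hKinj hxy]⟩
  -- the base change `B₁ = A₁ ⊗ B`
  let ψ : (A₀ ⧸ I) ⊗[A₀] B →ₗ[A₀ ⧸ I] K ⊗[A₀ ⧸ I] ((A₀ ⧸ I) ⊗[A₀] B) :=
    TensorProduct.mk (A₀ ⧸ I) K ((A₀ ⧸ I) ⊗[A₀] B) 1
  have hψ : Function.Injective ψ := by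
    have h1 := Module.Flat.rTensor_preserves_injective_linearMap (M := (A₀ ⧸ I) ⊗[A₀] B)
      (Algebra.linearMap (A₀ ⧸ I) K) hKinj
    have h2 : (ψ : (A₀ ⧸ I) ⊗[A₀] B → _) =
        (LinearMap.rTensor ((A₀ ⧸ I) ⊗[A₀] B) (Algebra.linearMap (A₀ ⧸ I) K)) ∘
          (TensorProduct.lid (A₀ ⧸ I) ((A₀ ⧸ I) ⊗[A₀] B)).symm := by
      funext b
      simp [ψ]
    rw [h2]
    exact h1.comp (LinearEquiv.injective _)
  let eK : K ⊗[A₀ ⧸ I] ((A₀ ⧸ I) ⊗[A₀] B) ≃ₗ[K] K ⊗[A₀] B :=
    TensorProduct.AlgebraTensorModule.cancelBaseChange A₀ (A₀ ⧸ I) K K B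
  haveI : Module.Finite K (K ⊗[A₀ ⧸ I] ((A₀ ⧸ I) ⊗[A₀] B)) := Module.Finite.equiv eK.symm
  have key := finrank_le_module (A₀ := A₀ ⧸ I) (B := (A₀ ⧸ I) ⊗[A₀] B) (R := R ⧸ q) (K := K)
    (L := K ⊗[A₀ ⧸ I] ((A₀ ⧸ I) ⊗[A₀] B)) hinj ψ hψ
  rw [eK.finrank_eq] at key
  refine le_trans (le_of_eq ?_) key
  -- identify the residue fields
  let ek : ResidueField (R ⧸ q) ⊗[A₀ ⧸ I] ((A₀ ⧸ I) ⊗[A₀] B) ≃ₗ[ResidueField (R ⧸ q)]
      ResidueField (R ⧸ q) ⊗[A₀] B :=
    TensorProduct.AlgebraTensorModule.cancelBaseChange A₀ (A₀ ⧸ I) (ResidueField (R ⧸ q))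
      (ResidueField (R ⧸ q)) B
  rw [ek.finrank_eq]
  haveI : IsLocalHom (Ideal.Quotient.mk q) := IsLocalHom.of_surjective _ Ideal.Quotient.mk_surjective
  let i₀ : ResidueField R →+* ResidueField (R ⧸ q) := ResidueField.map (Ideal.Quotient.mk q)
  have hi₀ : Function.Bijective i₀ := by
    refine ⟨RingHom.injective _, fun x => ?_⟩
    obtain ⟨y, rfl⟩ := residue_surjective x
    obtain ⟨z, rfl⟩ := Ideal.Quotient.mk_surjective y
    exact ⟨residue R z, rfl⟩
  let i₁ : ResidueField R ≃ₐ[A₀] ResidueField (R ⧸ q) :=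
    AlgEquiv.ofBijective ⟨i₀, fun a => rfl⟩ hi₀
  let j : ResidueField R ⊗[A₀] B ≃ₐ[A₀] ResidueField (R ⧸ q) ⊗[A₀] B :=
    Algebra.TensorProduct.congr i₁ AlgEquiv.refl
  exact Algebra.finrank_eq_of_equiv_equiv i₁.toRingEquiv j.toRingEquiv (by
    ext c
    simp [j, Algebra.TensorProduct.algebraMap_apply])

end Spec

section Pushout

/-- A pushout square of commutative rings identifies the corner with the tensor product. -/
theorem nonempty_algEquiv_of_isPushout {A₀ B P : CommRingCat.{u}} (F : Type u) [CommRing F]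
    [Algebra A₀ B] [Algebra A₀ F] [Algebra F P] (β : B ⟶ P)
    (hpo : IsPushout (CommRingCat.ofHom (algebraMap A₀ B)) (CommRingCat.ofHom (algebraMap A₀ F)) β
      (CommRingCat.ofHom (algebraMap F P))) :
    Nonempty (F ⊗[A₀] B ≃ₐ[F] P) := by
  have hpo' := hpo.flip
  let e := (CommRingCat.isPushout_tensorProduct A₀ F B).isoIsPushout _ _ hpo'
  have he : CommRingCat.ofHom
      (Algebra.TensorProduct.includeLeftRingHom (R := A₀) (A := F) (B := B)) ≫
        e.hom = CommRingCat.ofHom (algebraMap F P) :=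
    IsPushout.inl_isoIsPushout_hom _ _ _ _
  exact ⟨AlgEquiv.ofRingEquiv (f := e.commRingCatIsoToRingEquiv) (fun c => by
      have := congrArg (fun g => g.hom c) he
      simp only [CommRingCat.hom_comp, CommRingCat.hom_ofHom, RingHom.comp_apply,
        Algebra.TensorProduct.includeLeftRingHom_apply] at this
      exact this)⟩

/-- Rank semicontinuity, pushout form. -/
theorem finrank_le_of_isPushout₂ {A₀ B P P' : CommRingCat.{u}} (R : Type u) [CommRing R]
    [IsLocalRing R] (K : Type u) [Field K] (φ : A₀ ⟶ B) (hφ : φ.hom.Flat)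
    (γ : A₀ ⟶ CommRingCat.of (ResidueField R)) (β : B ⟶ P)
    (σ : CommRingCat.of (ResidueField R) ⟶ P) (hpo : IsPushout φ γ β σ)
    (γ' : A₀ ⟶ CommRingCat.of K) (β' : B ⟶ P') (σ' : CommRingCat.of K ⟶ P')
    (hpo' : IsPushout φ γ' β' σ')
    (ρ : A₀ →+* R) (hγ : γ.hom = (residue R).comp ρ) (θ : R →+* K) (hγ' : γ'.hom = θ.comp ρ)
    (hfrac : ∀ c : K, ∃ a b : A₀, γ'.hom b ≠ 0 ∧ c * γ'.hom b = γ'.hom a)
    (hfin : letI := σ'.hom.toAlgebra; Module.Finite K P') :
    (letI := σ.hom.toAlgebra; Module.finrank (ResidueField R) P) ≤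
      (letI := σ'.hom.toAlgebra; Module.finrank K P') := by
  letI algB : Algebra A₀ B := φ.hom.toAlgebra
  letI algR : Algebra A₀ R := ρ.toAlgebra
  letI algK : Algebra A₀ K := γ'.hom.toAlgebra
  letI algRK : Algebra R K := θ.toAlgebra
  haveI : IsScalarTower A₀ R K := IsScalarTower.of_algebraMap_eq' hγ'
  haveI : Module.Flat A₀ B := hφ
  letI algP : Algebra (ResidueField R) P := σ.hom.toAlgebra
  letI algP' : Algebra K P' := σ'.hom.toAlgebra
  have hγ2 : γ = CommRingCat.ofHom (algebraMap A₀ (ResidueField R)) := by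
    ext a
    rw [hγ]
    rfl
  obtain ⟨e'⟩ := nonempty_algEquiv_of_isPushout (A₀ := A₀) (B := B) (P := P') K β' hpo'
  haveI : Module.Finite K P' := hfin
  haveI : Module.Finite K (K ⊗[A₀] B) := Module.Finite.equiv e'.symm.toLinearEquiv
  have key := finrank_le_of_specializes (A₀ := A₀) (B := B) (R := R) (K := K) hfrac
  rw [e'.toLinearEquiv.finrank_eq] at key
  refine le_trans (le_of_eq ?_) key
  subst hγ2
  obtain ⟨e⟩ := nonempty_algEquiv_of_isPushout (A₀ := A₀) (B := B) (P := P) (ResidueField R) β hpo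
  exact e.toLinearEquiv.finrank_eq.symm

end Pushout

end Groth.Agent.H22.FlatRank2
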