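import Groth.Agent.H22.ExtendValPoints
import Groth.Prelude.Def_CurvBase

/-!
# Morphisms out of an integral scheme with valuation-ring closed points are determined by
(and exist for) the morphism on the generic point (helper22)
-/

set_option autoImplicit false
universe u

namespace Groth.Agent.H22.FunFieldHom

open AlgebraicGeometry CategoryTheory TopologicalSpace Opposite Scheme

/-- A morphism to an affine scheme factors through `toSpecΓ`. -/
theorem eq_toSpecΓ_comp {X : Scheme.{u}} (R : CommRingCat.{u}) (f : X ⟶ Spec R) :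
    f = X.toSpecΓ ≫ Spec.map ((Scheme.ΓSpecIso R).inv ≫ f.appTop) := by
  rw [Spec.map_comp, ← Scheme.toSpecΓ_naturality_assoc, AlgebraicGeometry.toSpecΓ_SpecMap_ΓSpecIso_inv,
    Category.comp_id]

/-- The composite `Spec 𝒪_{X,x} ⟶ X ⟶ Spec k` is `Spec` of the structure map `k → 𝒪_{X,x}`. -/
theorem fromSpecStalk_comp_over (k : Type u) [Field k] (X : Scheme.{u})
    [X.Over (Spec (CommRingCat.of k))] (x : X) :
    X.fromSpecStalk x ≫ (X ↘ Spec (CommRingCat.of k)) =
      Spec.map (CommRingCat.ofHom (Curv2.stalkMap k X x)) := by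
  conv_lhs => rw [eq_toSpecΓ_comp _ (X ↘ Spec (CommRingCat.of k))]
  rw [Scheme.fromSpecStalk_toSpecΓ_assoc, ← Spec.map_comp]
  rfl

/-- Let `Y` be proper over `S` and `X` a compact integral `S`-scheme all of whose closed points
have valuation-ring stalks. Then every `S`-morphism `Spec K(X) ⟶ Y` extends uniquely to an
`S`-morphism `X ⟶ Y`. -/
theorem existsUnique_of_fromSpecStalk_genericPoint {S X Y : Scheme.{u}}
    (p : Y ⟶ S) [IsProper p] (q : X ⟶ S) [IsIntegral X] [CompactSpace X]
    (hP : ∀ x : X, IsClosed ({x} : Set X) →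
      ∃ _ : IsDomain (X.presheaf.stalk x), ValuationRing (X.presheaf.stalk x))
    (φ₀ : Spec (X.presheaf.stalk (genericPoint X)) ⟶ Y)
    (hφ₀ : φ₀ ≫ p = X.fromSpecStalk (genericPoint X) ≫ q) :
    ∃! u : X ⟶ Y, u ≫ p = q ∧ X.fromSpecStalk (genericPoint X) ≫ u = φ₀ := by
  have hdense : ∀ U : X.Opens, genericPoint X ∈ U → Dense (U : Set X) := by
    intro U hU
    exact (U.2.dense ⟨_, hU⟩)
  have hdom : ∀ U : X.Opens, genericPoint X ∈ U → IsDominant U.ι := by
    intro U hU
    constructor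
    rw [DenseRange, Scheme.Opens.range_ι]
    exact hdense U hU
  obtain ⟨U, hxU, f, hf1, hf2⟩ := spread_out_of_isGermInjective' q p φ₀ hφ₀
  obtain ⟨g', ⟨hg1, hg2⟩, -⟩ :=
    ExtendValPoints.existsUnique_extension_of_valuationRing_closedPoints p q
      (fun x _ => inferInstance) hP U (hdense U hxU) f hf2
  refine ⟨g', ⟨hg2, ?_⟩, ?_⟩
  · rw [hf1, ← hg1, ← Category.assoc, Scheme.Opens.fromSpecStalkOfMem_ι]
  · rintro u ⟨hu1, hu2⟩
    obtain ⟨W, hxW, hW⟩ := spread_out_unique_of_isGermInjective' (x := genericPoint X) u g'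
      (by rw [hu2, hf1, ← hg1, ← Category.assoc, Scheme.Opens.fromSpecStalkOfMem_ι])
    have := hdom W hxW
    exact ext_of_isDominant_of_isSeparated p (by rw [hu1, hg2]) W.ι hW

end Groth.Agent.H22.FunFieldHom
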