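import Mathlib

/-!
# Residue field at the generic point as a fraction field of sections
(helper22; for S14042)
-/

set_option autoImplicit false
universe u

open AlgebraicGeometry CategoryTheory CategoryTheory.Limits TopologicalSpace

namespace Groth.Agent.H22.FunFieldRes

/-- The residue field at the generic point is the fraction field of the sections over any
nonempty affine open. -/
theorem isFractionRing_residueField {Y : Scheme.{u}} [IsIntegral Y] {V : Y.Opens}
    (hV : IsAffineOpen V) (η : Y) (hη : η = genericPoint Y) (hηV : η ∈ V) :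
    letI := (Y.presheaf.germ V η hηV ≫ Y.residue η).hom.toAlgebra
    IsFractionRing Γ(Y, V) (Y.residueField η) := by
  subst hη
  haveI : Nonempty V := ⟨⟨_, hηV⟩⟩
  letI alg : Algebra Γ(Y, V) (Y.residueField (genericPoint Y)) :=
    (Y.presheaf.germ V (genericPoint Y) hηV ≫ Y.residue (genericPoint Y)).hom.toAlgebra
  have hfr := functionField_isFractionRing_of_isAffineOpen Y V hV
  have hbij : Function.Bijective (Y.residue (genericPoint Y)).hom :=
    ⟨RingHom.injective (R := Y.functionField) _, Y.residue_surjective _⟩
  let e₀ : Y.functionField ≃+* Y.residueField (genericPoint Y) := RingEquiv.ofBijective _ hbij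
  let e : Y.functionField ≃ₐ[Γ(Y, V)] Y.residueField (genericPoint Y) :=
    AlgEquiv.ofRingEquiv (f := e₀) (fun a => rfl)
  exact IsLocalization.isLocalization_of_algEquiv _ e

theorem injective_germ_residue {X : Scheme.{u}} [IsIntegral X] (W : X.Opens)
    (hξW : genericPoint X ∈ W) :
    Function.Injective
      (X.presheaf.germ W (genericPoint X) hξW ≫ X.residue (genericPoint X)).hom := by
  rw [CommRingCat.hom_comp]
  exact (RingHom.injective (R := X.functionField) (X.residue (genericPoint X)).hom).comp
    (germ_injective_of_isIntegral X (genericPoint X) hξW)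

theorem appLE_germ_residue {X Y : Scheme.{u}} (f : X ⟶ Y) (V : Y.Opens) (W : X.Opens)
    (e : W ≤ f ⁻¹ᵁ V) (x : X) (hxW : x ∈ W) :
    f.appLE V W e ≫ X.presheaf.germ W x hxW ≫ X.residue x =
      Y.presheaf.germ V (f x) (e hxW) ≫ Y.residue (f x) ≫ f.residueFieldMap x := by
  rw [Scheme.residue_residueFieldMap, Scheme.Hom.germ_stalkMap_assoc, Scheme.Hom.appLE,
    Category.assoc]
  congr 1
  rw [← Category.assoc, X.presheaf.germ_res]

end Groth.Agent.H22.FunFieldRes
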