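import Mathlib
import Groth.Agent.H20.GenericFiniteIntegral
import Groth.Agent.H46.GenFree.Scheme
import Groth.Agent.H48.RelDelta

/-!
# Generic degree of a dominant morphism of integral schemes of the same dimension
(helper22; for S14041)
-/

set_option autoImplicit false
set_option linter.unusedSectionVars false
set_option linter.style.haveILetI false
universe u

open AlgebraicGeometry CategoryTheory CategoryTheory.Limits TopologicalSpace

namespace Groth.Agent.H22.GenDeg

open Groth.Agent.H48

section Restrict

/-- A property local at the target passes to smaller opens. -/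
theorem restrict_of_le {X Y : Scheme.{u}} (f : X ⟶ Y) (P : MorphismProperty Scheme.{u})
    [IsZariskiLocalAtTarget P] {V W : Y.Opens} (h : P (f ∣_ V)) (hWV : W ≤ V) : P (f ∣_ W) := by
  have h1 : P ((f ∣_ V) ∣_ (V.ι ⁻¹ᵁ W)) := IsZariskiLocalAtTarget.restrict h _
  rw [P.arrow_mk_iso_iff (morphismRestrictRestrict f V _)] at h1
  have : V.ι ''ᵁ (V.ι ⁻¹ᵁ W) = W := by
    rw [Scheme.Hom.image_preimage_eq_opensRange_inf, Scheme.Opens.opensRange_ι]
    exact inf_eq_right.mpr hWV
  rwa [this] at h1

end Restrict

section Bridge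

/-- The rank of a finite morphism to the spectrum of a field is the dimension of the ring of
global sections. -/
theorem finrank_eq_finrank_sections {K : Type u} [Field K] {T : Scheme.{u}}
    (c : T ⟶ Spec (CommRingCat.of K)) [IsFinite c] (s : ↥(Spec (CommRingCat.of K))) :
    c.finrank s =
      (letI := ((Scheme.ΓSpecIso (CommRingCat.of K)).inv ≫ c.appTop).hom.toAlgebra
       Module.finrank K Γ(T, ⊤)) := by
  haveI : IsAffine T := isAffine_of_isAffineHom c
  letI alg : Algebra K Γ(T, ⊤) :=
    ((Scheme.ΓSpecIso (CommRingCat.of K)).inv ≫ c.appTop).hom.toAlgebra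
  have h1 : c = T.isoSpec.hom ≫ Spec.map (CommRingCat.ofHom (algebraMap K Γ(T, ⊤))) := by
    change c = T.isoSpec.hom ≫ Spec.map ((Scheme.ΓSpecIso (CommRingCat.of K)).inv ≫ c.appTop)
    rw [Spec.map_comp, ← Scheme.isoSpec_Spec_inv, Scheme.isoSpec_hom_naturality_assoc,
      Iso.hom_inv_id, Category.comp_id]
  have hfin : IsFinite (Spec.map (CommRingCat.ofHom (algebraMap K Γ(T, ⊤)))) := by
    have : IsFinite (T.isoSpec.hom ≫ Spec.map (CommRingCat.ofHom (algebraMap K Γ(T, ⊤)))) := by
      rw [← h1]; infer_instance
    exact (MorphismProperty.cancel_left_of_respectsIso @IsFinite _ _).mp this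
  haveI : Module.Finite K Γ(T, ⊤) := by
    have := (IsFinite.SpecMap_iff _).mp hfin
    exact this
  conv_lhs => rw [h1]
  rw [Scheme.Hom.finrank_comp_left_of_isIso, Scheme.Hom.finrank_SpecMap_algebraMap,
    Module.rankAtStalk_eq_finrank_of_free]
  rfl

end Bridge

section GenericFibre

variable {X Y : Scheme.{u}} [IsIntegral X] (f : X ⟶ Y)
  (hC : ∀ x : X, f.base x = f.base (genericPoint X) → x = genericPoint X)

include hC in
theorem subsingleton_fiber : Subsingleton ↥(f.fiber (f.base (genericPoint X))) := by
  refine ⟨fun a b => ?_⟩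
  apply (f.fiberι _).isEmbedding.injective
  rw [hC _ (CycFib.map_fiberι f _ a), hC _ (CycFib.map_fiberι f _ b)]

include hC in
theorem isReduced_fiber : IsReduced (f.fiber (f.base (genericPoint X))) := by
  haveI : ∀ p : ↥(f.fiber (f.base (genericPoint X))),
      _root_.IsReduced ((f.fiber (f.base (genericPoint X))).presheaf.stalk p) := by
    intro p
    have hp : f.fiberι _ p = genericPoint X := hC _ (CycFib.map_fiberι f _ p)
    have hsurj := (f.fiberι (f.base (genericPoint X))).stalkMap_surjective p
    have hfield : IsField (X.presheaf.stalk (f.fiberι _ p)) := by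
      rw [hp]
      exact Field.toIsField X.functionField
    letI := hfield.toField
    have hinj : Function.Injective ((f.fiberι (f.base (genericPoint X))).stalkMap p).hom :=
      RingHom.injective _
    let e := RingEquiv.ofBijective ((f.fiberι (f.base (genericPoint X))).stalkMap p).hom
      ⟨hinj, hsurj⟩
    exact isReduced_of_injective e.symm.toRingHom e.symm.injective
  exact isReduced_of_isReduced_stalk _

include hC in
theorem isIso_asFiberHom : IsIso (f.asFiberHom (genericPoint X)) := by
  haveI := subsingleton_fiber f hC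
  haveI := isReduced_fiber f hC
  haveI : IsClosedImmersion (f.asFiberHom (genericPoint X)) :=
    IsClosedImmersion.of_isPreimmersion _ (isClosed_discrete _)
  haveI : Surjective (f.asFiberHom (genericPoint X)) :=
    ⟨fun p => ⟨IsLocalRing.closedPoint _, Subsingleton.elim _ _⟩⟩
  exact isIso_of_isClosedImmersion_of_surjective _

include hC in
theorem finrank_generic
    [IsFinite (f.fiberToSpecResidueField (f.base (genericPoint X)))]
    (hfin : letI := (f.residueFieldMap (genericPoint X)).hom.toAlgebra
      Module.Finite (Y.residueField (f.base (genericPoint X))) (X.residueField (genericPoint X)))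
    (s : ↥(Spec (Y.residueField (f.base (genericPoint X))))) :
    (f.fiberToSpecResidueField (f.base (genericPoint X))).finrank s =
      (letI := (f.residueFieldMap (genericPoint X)).hom.toAlgebra
       Module.finrank (Y.residueField (f.base (genericPoint X)))
        (X.residueField (genericPoint X))) := by
  letI alg := (f.residueFieldMap (genericPoint X)).hom.toAlgebra
  haveI := hfin
  haveI := isIso_asFiberHom f hC
  have h := f.asFiberHom_fiberToSpecResidueField (genericPoint X)
  have h2 : (f.asFiberHom (genericPoint X) ≫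
      f.fiberToSpecResidueField (f.base (genericPoint X))).finrank s =
      (f.fiberToSpecResidueField (f.base (genericPoint X))).finrank s := by
    rw [Scheme.Hom.finrank_comp_left_of_isIso]
  rw [← h2]
  have h3 : f.asFiberHom (genericPoint X) ≫
      f.fiberToSpecResidueField (f.base (genericPoint X)) =
      Spec.map (CommRingCat.ofHom (algebraMap (Y.residueField (f.base (genericPoint X)))
        (X.residueField (genericPoint X)))) := h
  rw [h3, Scheme.Hom.finrank_SpecMap_algebraMap, Module.rankAtStalk_eq_finrank_of_free]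
  rfl

end GenericFibre

section FibreRank

variable {X Y : Scheme.{u}} (f : X ⟶ Y) (W : Y.Opens) [IsFinite (f ∣_ W)] [Flat (f ∣_ W)]

/-- Over an open `W` on which `f` is finite and flat, the fibre over `y ∈ W` is finite of rank
the rank of `f ∣_ W` at `y`. -/
theorem fiber_rank (y : Y) (hy : y ∈ W) :
    ∃ _ : IsFinite (f.fiberToSpecResidueField y),
      ∀ s, (f.fiberToSpecResidueField y).finrank s = (f ∣_ W).finrank ⟨y, hy⟩ := by
  let g := Y.fromSpecResidueField y
  have hrange : Set.range g ⊆ Set.range W.ι := by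
    rw [Scheme.range_fromSpecResidueField, Scheme.Opens.range_ι]
    simpa using hy
  let g' : Spec (Y.residueField y) ⟶ W := IsOpenImmersion.lift W.ι g hrange
  have hg' : g' ≫ W.ι = g := IsOpenImmersion.lift_fac _ _ _
  have sqR := (isPullback_morphismRestrict f W).flip
  let t : pullback f g ⟶ f ⁻¹ᵁ W := sqR.lift (pullback.fst f g) (pullback.snd f g ≫ g')
    (by rw [Category.assoc, hg', pullback.condition])
  have ht1 : t ≫ (f ⁻¹ᵁ W).ι = pullback.fst f g := sqR.lift_fst _ _ _
  have ht2 : t ≫ f ∣_ W = pullback.snd f g ≫ g' := sqR.lift_snd _ _ _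
  have sq : IsPullback t (pullback.snd f g) (f ∣_ W) g' := by
    refine IsPullback.of_right ?_ ht2 sqR
    rw [ht1, hg']
    exact IsPullback.of_hasPullback f g
  have hfin : IsFinite (pullback.snd f g) := MorphismProperty.of_isPullback sq inferInstance
  refine ⟨hfin, fun s => ?_⟩
  change (pullback.snd f g).finrank s = _
  rw [Scheme.Hom.finrank_of_isPullback t (pullback.snd f g) (f ∣_ W) g' sq s]
  congr 1
  apply W.ι.isEmbedding.injective
  rw [← Scheme.Hom.comp_apply, hg']
  exact Scheme.fromSpecResidueField_apply y s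

end FibreRank

section Main

theorem topologicalKrullDim_eq_delta_genericPoint {k : Type u} [Field k] {X : Scheme.{u}}
    (q : X ⟶ Spec (CommRingCat.of k)) [LocallyOfFiniteType q] [IrreducibleSpace X] :
    topologicalKrullDim ↥X = (((FieldDim.δ q (genericPoint X)).toNat : ℕ∞) : WithBot ℕ∞) := by
  haveI : JacobsonSpace X := LocallyOfFiniteType.jacobsonSpace q
  rw [FieldDim.topologicalKrullDim_eq_iSup q]
  apply le_antisymm
  · refine iSup_le fun x => ?_
    have hsp : genericPoint X ⤳ x := (genericPoint_spec X).specializes trivial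
    have h1 := CycDim6.delta_mono X (FieldDim.δ q) (FieldDim.isDimFun q) hsp
    have h2 : (FieldDim.δ q x).toNat ≤ (FieldDim.δ q (genericPoint X)).toNat :=
      Int.toNat_le_toNat h1
    exact_mod_cast h2
  · exact le_iSup (fun x : X => (((FieldDim.δ q x).toNat : ℕ∞) : WithBot ℕ∞)) (genericPoint X)

variable (k : Type u) [Field k] {X Y : Scheme.{u}}
    [X.Over (Spec (CommRingCat.of k))] [Y.Over (Spec (CommRingCat.of k))]
    [LocallyOfFiniteType (X ↘ Spec (CommRingCat.of k))]
    [QuasiCompact (X ↘ Spec (CommRingCat.of k))]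
    [LocallyOfFiniteType (Y ↘ Spec (CommRingCat.of k))]
    [QuasiCompact (Y ↘ Spec (CommRingCat.of k))]
    [IsIntegral X] [IsIntegral Y] (f : X ⟶ Y) [IsDominant f]
    (hf : f ≫ (Y ↘ Spec (CommRingCat.of k)) = X ↘ Spec (CommRingCat.of k))
    (hdim : topologicalKrullDim ↥X = topologicalKrullDim ↥Y)

include hf hdim in
theorem main :
    (letI := (f.residueFieldMap (genericPoint ↥X)).hom.toAlgebra;
      Module.Finite (Y.residueField (f.base (genericPoint ↥X)))
        (X.residueField (genericPoint ↥X))) ∧
    ∃ U : Y.Opens, Nonempty ↥U ∧ ∀ y : Y, y ∈ U →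
      IsFinite (pullback.snd f (Y.fromSpecResidueField y)) ∧
        (letI := ((Scheme.ΓSpecIso (CommRingCat.of (Y.residueField y))).inv ≫
            (pullback.snd f (Y.fromSpecResidueField y)).appTop).hom.toAlgebra;
          Module.finrank (Y.residueField y)
            ↑(Γ(pullback f (Y.fromSpecResidueField y), ⊤))) =
        (letI := (f.residueFieldMap (genericPoint ↥X)).hom.toAlgebra;
          Module.finrank (Y.residueField (f.base (genericPoint ↥X)))
            (X.residueField (genericPoint ↥X))) := by
  let qY := Y ↘ Spec (CommRingCat.of k)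
  haveI : LocallyOfFiniteType (f ≫ qY) := by rw [hf]; infer_instance
  haveI : LocallyOfFiniteType f := locallyOfFiniteType_of_comp f qY
  haveI : IsLocallyNoetherian X :=
    LocallyOfFiniteType.isLocallyNoetherian (X ↘ Spec (CommRingCat.of k))
  haveI : CompactSpace X :=
    QuasiCompact.compactSpace_of_compactSpace (X ↘ Spec (CommRingCat.of k))
  haveI : IsNoetherian X := {}
  haveI : QuasiCompact f := inferInstance
  have hfξ : f.base (genericPoint X) = genericPoint Y :=
    Groth.Agent.H20.map_genericPoint_of_isDominant f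
  -- the generic fibre is a single point
  have hδ := RelDelta.deltaCompat_comp qY f
  have hdX := topologicalKrullDim_eq_delta_genericPoint (f ≫ qY)
  have hdY := topologicalKrullDim_eq_delta_genericPoint qY
  have heq : FieldDim.δ (f ≫ qY) (genericPoint X) = FieldDim.δ qY (genericPoint Y) := by
    rw [hdX, hdY] at hdim
    have h1 : (FieldDim.δ (f ≫ qY) (genericPoint X)).toNat =
        (FieldDim.δ qY (genericPoint Y)).toNat := by exact_mod_cast hdim
    have h2 := FieldDim.delta_nonneg (f ≫ qY) (genericPoint X)
    have h3 := FieldDim.delta_nonneg qY (genericPoint Y)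
    omega
  have hC' : ∀ x : X, f.base x = genericPoint Y → x = genericPoint X := by
    intro x hx
    by_contra hne
    have hsp : genericPoint X ⤳ x := (genericPoint_spec X).specializes trivial
    have hlt := (FieldDim.isDimFun (f ≫ qY) _ _ hsp (Ne.symm hne)).1
    obtain ⟨m, -, hm⟩ := hδ x
    rw [hx] at hm
    omega
  have hC : ∀ x : X, f.base x = f.base (genericPoint X) → x = genericPoint X := by
    intro x hx
    exact hC' x (hx.trans hfξ)
  have hfinite := (Groth.Agent.H20.quasiFiniteAt_genericPoint_iff f).mp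
    ((Groth.Agent.H20.quasiFiniteAt_genericPoint_iff_forall_eq f).mpr hC')
  refine ⟨hfinite, ?_⟩
  obtain ⟨V, hV, hVne, hVfin⟩ :=
    Groth.Agent.H20.exists_isFinite_morphismRestrict_of_forall_eq_of_quasiCompact f hC'
  obtain ⟨U₁, hU₁d, hU₁flat, hU₁fp⟩ := Groth.Agent.H46.GenFree.generic_flatness f
  have hηV : genericPoint Y ∈ V := by
    change genericPoint Y ∈ (V : Set Y)
    rw [(genericPoint_spec Y).mem_open_set_iff V.isOpen]
    obtain ⟨v⟩ := hVne
    exact ⟨v.1, trivial, v.2⟩
  have hηU : genericPoint Y ∈ U₁ := by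
    change genericPoint Y ∈ (U₁ : Set Y)
    rw [(genericPoint_spec Y).mem_open_set_iff U₁.isOpen]
    obtain ⟨u, hu⟩ := hU₁d.nonempty
    exact ⟨u, trivial, hu⟩
  let W : Y.Opens := U₁ ⊓ V
  have hηW : genericPoint Y ∈ W := ⟨hηU, hηV⟩
  haveI h1 : IsZariskiLocalAtTarget @Flat.{u} :=
    HasRingHomProperty.instIsZariskiLocalAtTarget (P := @Flat) (Q := RingHom.Flat)
  haveI h2 : IsZariskiLocalAtTarget @LocallyOfFinitePresentation.{u} :=
    HasRingHomProperty.instIsZariskiLocalAtTarget (P := @LocallyOfFinitePresentation)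
      (Q := RingHom.FinitePresentation)
  haveI : IsFinite (f ∣_ W) := restrict_of_le f @IsFinite hVfin inf_le_right
  haveI : Flat (f ∣_ W) := restrict_of_le f @Flat hU₁flat inf_le_left
  haveI : LocallyOfFinitePresentation (f ∣_ W) :=
    restrict_of_le f @LocallyOfFinitePresentation hU₁fp inf_le_left
  haveI : Nonempty ↥(W : Scheme.{u}) := ⟨⟨genericPoint Y, hηW⟩⟩
  haveI : IsIntegral (W : Scheme.{u}) := isIntegral_of_isOpenImmersion W.ι
  haveI : IrreducibleSpace ↥(W : Scheme.{u}) := irreducibleSpace_of_isIntegral _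
  haveI : PreconnectedSpace ↥(W : Scheme.{u}) := inferInstance
  have hlc := Scheme.Hom.isLocallyConstant_finrank (f ∣_ W)
  have hξW : f.base (genericPoint X) ∈ W := hfξ ▸ hηW
  refine ⟨W, ⟨⟨genericPoint Y, hηW⟩⟩, fun y hy => ?_⟩
  obtain ⟨hfy, hry⟩ := fiber_rank f W y hy
  obtain ⟨hfξ', hrξ⟩ := fiber_rank f W (f.base (genericPoint X)) hξW
  refine ⟨hfy, ?_⟩
  haveI := hfy
  haveI := hfξ'
  let pty : ↥(Spec (CommRingCat.of (Y.residueField y))) :=
    IsLocalRing.closedPoint (Y.residueField y)
  let ptξ : ↥(Spec (Y.residueField (f.base (genericPoint X)))) :=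
    IsLocalRing.closedPoint (Y.residueField (f.base (genericPoint X)))
  have e1 := finrank_eq_finrank_sections (K := Y.residueField y)
    (f.fiberToSpecResidueField y) pty
  have e2 := finrank_generic f hC hfinite ptξ
  have e3 : (f ∣_ W).finrank ⟨y, hy⟩ = (f ∣_ W).finrank ⟨f.base (genericPoint X), hξW⟩ :=
    hlc.apply_eq_of_preconnectedSpace _ _
  rw [← e2, hrξ ptξ, ← e3, ← hry pty, e1]
  rfl

end Main

end Groth.Agent.H22.GenDeg
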