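import Mathlib

/-!
# Finite sets of generic points in Noetherian sober spaces
-/

set_option autoImplicit false
open TopologicalSpace

namespace Groth.Agent.H22.GenPts

variable {α : Type*} [TopologicalSpace α] [NoetherianSpace α] [QuasiSober α]

/-- A closed subset of a Noetherian sober space is a finite union of closures of its points. -/
theorem exists_finite_generic {C : Set α} (hC : IsClosed C) :
    ∃ E : Set α, E.Finite ∧ E ⊆ C ∧ ∀ x ∈ C, ∃ η ∈ E, x ∈ closure {η} := by
  obtain ⟨S, hSf, hSc, hSi, rfl⟩ := NoetherianSpace.exists_finite_set_isClosed_irreducible hC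
  have hex : ∀ t : S, ∃ x, IsGenericPoint x (t : Set α) :=
    fun t => QuasiSober.sober (hSi t t.2) (hSc t t.2)
  choose g hg using hex
  have : Finite S := hSf
  refine ⟨Set.range g, Set.finite_range g, ?_, ?_⟩
  · rintro _ ⟨t, rfl⟩
    exact ⟨t, t.2, (hg t).mem⟩
  · rintro x ⟨t, ht, hxt⟩
    refine ⟨g ⟨t, ht⟩, ⟨⟨t, ht⟩, rfl⟩, ?_⟩
    rw [(hg ⟨t, ht⟩).def]; exact hxt

/-- Variant with maximal points. -/
theorem exists_finite_maximal [T0Space α] {C : Set α} (hC : IsClosed C) :
    ∃ E : Set α, E.Finite ∧ E ⊆ C ∧ (∀ x ∈ C, ∃ η ∈ E, x ∈ closure {η}) ∧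
      ∀ η ∈ E, ∀ z ∈ C, η ∈ closure {z} → z = η := by
  obtain ⟨E₀, hfin, hsub, hcov⟩ := exists_finite_generic hC
  let _ : Preorder α := specializationPreorder α
  have hle : ∀ a b : α, a ≤ b ↔ a ∈ closure {b} := fun a b => specializes_iff_mem_closure
  refine ⟨{m | Maximal (· ∈ E₀) m}, hfin.subset fun m hm => hm.1, fun m hm => hsub hm.1, ?_, ?_⟩
  · intro x hx
    obtain ⟨e, he, hxe⟩ := hcov x hx
    obtain ⟨m, hem, hm⟩ := hfin.exists_le_maximal he
    refine ⟨m, hm, ?_⟩
    have h1 : e ∈ closure {m} := (hle e m).mp hem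
    exact (closure_minimal (Set.singleton_subset_iff.mpr h1) isClosed_closure) hxe
  · intro η hη z hz hηz
    obtain ⟨e, he, hze⟩ := hcov z hz
    have h1 : η ∈ closure {e} :=
      (closure_minimal (Set.singleton_subset_iff.mpr hze) isClosed_closure) hηz
    have h2 : e ≤ η := hη.2 he ((hle η e).mpr h1)
    have h3 : z ∈ closure {η} :=
      (closure_minimal (Set.singleton_subset_iff.mpr ((hle e η).mp h2)) isClosed_closure) hze
    exact ((specializes_iff_mem_closure.mpr hηz).antisymm (specializes_iff_mem_closure.mpr h3)).eq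

end Groth.Agent.H22.GenPts
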