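import Mathlib

/-! Integral elements of a geometrically reduced algebra over a field are killed by every
derivation over the field. -/

set_option autoImplicit false
universe u

open TensorProduct Polynomial

namespace Groth.Agent.H22.GeomRedDiff

/-- In a reduced algebra over a perfect field the universal derivation kills integral elements. -/
theorem D_eq_zero_of_isReduced_of_perfectField (K B : Type u) [Field K] [PerfectField K]
    [CommRing B] [Algebra K B] [IsReduced B] (t : B) (ht : IsIntegral K t) :
    KaehlerDifferential.D K B t = 0 := by
  set Q := minpoly K t with hQ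
  have hrad : IsRadical Q := minpoly.isRadical K t
  have hne : Q ≠ 0 := minpoly.ne_zero ht
  have hsq : Squarefree Q := (isRadical_iff_squarefree_or_zero.mp hrad).resolve_right hne
  have hsep : Q.Separable := PerfectField.separable_iff_squarefree.mpr hsq
  obtain ⟨a, b, hab⟩ := hsep
  have h1 : aeval t b * aeval t (derivative Q) = 1 := by
    have := congrArg (aeval t) hab
    simpa [hQ, minpoly.aeval] using this
  have h2 : aeval t (derivative Q) • KaehlerDifferential.D K B t = 0 := by
    rw [← Derivation.map_aeval, hQ, minpoly.aeval, map_zero]
  calc KaehlerDifferential.D K B t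
      = (aeval t b * aeval t (derivative Q)) • KaehlerDifferential.D K B t := by rw [h1, one_smul]
    _ = 0 := by rw [mul_smul, h2, smul_zero]

/-- The universal derivation of a geometrically reduced algebra over a field kills integral
elements. -/
theorem D_eq_zero_of_isReduced_tensor (k A : Type u) [Field k] [CommRing A] [Algebra k A]
    (hred : IsReduced (AlgebraicClosure k ⊗[k] A)) (s : A) (hs : IsIntegral k s) :
    KaehlerDifferential.D k A s = 0 := by
  letI : Algebra A (AlgebraicClosure k ⊗[k] A) := Algebra.TensorProduct.rightAlgebra
  have ht : IsIntegral (AlgebraicClosure k) ((1 : AlgebraicClosure k) ⊗ₜ[k] s) :=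
    IsIntegral.tmul 1 hs
  have h0 := D_eq_zero_of_isReduced_of_perfectField (AlgebraicClosure k)
    (AlgebraicClosure k ⊗[k] A) _ ht
  have h1 : KaehlerDifferential.tensorKaehlerEquivBase k (AlgebraicClosure k) A
      (AlgebraicClosure k ⊗[k] A) ((1 : AlgebraicClosure k) ⊗ₜ[k] KaehlerDifferential.D k A s) =
      0 := by
    rw [KaehlerDifferential.tensorKaehlerEquivBase_tmul, one_smul, KaehlerDifferential.map_D]
    exact h0
  have h2 : (1 : AlgebraicClosure k) ⊗ₜ[k] KaehlerDifferential.D k A s = 0 :=
    (LinearEquiv.map_eq_zero_iff _).mp h1
  exact Module.Flat.tensorProduct_mk_injective k (Ω[A⁄k]) (AlgebraicClosure k)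
    (by simpa using h2)

/-- Every derivation of a geometrically reduced algebra over a field kills integral elements. -/
theorem derivation_eq_zero (k A M : Type u) [Field k] [CommRing A] [Algebra k A]
    [AddCommGroup M] [Module A M] [Module k M] [IsScalarTower k A M]
    (hred : IsReduced (AlgebraicClosure k ⊗[k] A)) (D : Derivation k A M) (s : A)
    (hs : IsIntegral k s) : D s = 0 := by
  rw [← D.liftKaehlerDifferential_comp_D, D_eq_zero_of_isReduced_tensor k A hred s hs, map_zero]

end Groth.Agent.H22.GeomRedDiff
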