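import Mathlib
import Groth.Agent.H39.SmoothStalk

/-! Global functions of a quasi-compact quasi-separated scheme smooth over a field form a
geometrically reduced algebra. -/

set_option autoImplicit false
universe u

open AlgebraicGeometry CategoryTheory CategoryTheory.Limits TensorProduct

namespace Groth.Agent.H22.GeomRedSections

/-- A scheme smooth over a field is reduced. -/
theorem isReduced_of_smooth_field (K : Type u) [Field K] {Y : Scheme.{u}}
    (p : Y ⟶ Spec (CommRingCat.of K)) [Smooth p] : IsReduced Y := by
  haveI : ∀ y : Y, _root_.IsReduced (Y.presheaf.stalk y) := fun y => by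
    apply Groth.Agent.H39.SmoothStalk.isReduced_stalk_of_mem_smoothLocus p y
    · rw [p.smoothLocus_eq_top]; trivial
    · infer_instance
  exact isReduced_of_isReduced_stalk Y

end Groth.Agent.H22.GeomRedSections
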