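import Mathlib
import Groth.Agent.H22.GeomRedSections

/-! Global functions of a qcqs scheme smooth over a field: tensor with the algebraic closure is
reduced. -/

set_option autoImplicit false
universe u

open AlgebraicGeometry CategoryTheory CategoryTheory.Limits TensorProduct

namespace Groth.Agent.H22.GeomRedSections

/-- Pushout square of global sections for the base change of a qcqs scheme along a field
extension. -/
theorem isPushout_sections (k K : Type u) [Field k] [Field K] (φ : k →+* K) {X : Scheme.{u}}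
    (f : X ⟶ Spec (CommRingCat.of k)) [CompactSpace X] [QuasiSeparatedSpace X] :
    IsPushout (CommRingCat.ofHom φ) ((Scheme.ΓSpecIso (CommRingCat.of k)).inv ≫ f.appTop)
      ((Scheme.ΓSpecIso (CommRingCat.of K)).inv ≫
        (pullback.snd f (Spec.map (CommRingCat.ofHom φ))).appTop)
      (pullback.fst f (Spec.map (CommRingCat.ofHom φ))).appTop := by
  have : Flat (Spec.map (CommRingCat.ofHom φ)) := by
    rw [HasRingHomProperty.Spec_iff (P := @Flat)]
    show φ.Flat
    letI := φ.toAlgebra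
    exact (inferInstance : Module.Flat k K)
  have H := IsPullback.of_hasPullback f (Spec.map (CommRingCat.ofHom φ))
  have h1 := isIso_pushoutSection_of_isQuasiSeparated_of_flat_right H
    (US := ⊤) (UT := ⊤) (UX := ⊤) (UY := ⊤) le_top le_top (by simp)
    (isAffineOpen_top _) (isAffineOpen_top _) isCompact_univ isQuasiSeparated_univ
  rw [isIso_pushoutSection_iff] at h1
  have e1 : ∀ {A B : Scheme.{u}} (g : A ⟶ B) (e : (⊤ : A.Opens) ≤ g ⁻¹ᵁ ⊤),
      g.appLE ⊤ ⊤ e = g.appTop := by
    intro A B g e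
    simp [Scheme.Hom.appLE, Scheme.Hom.appTop]
  simp only [e1] at h1
  have s : IsPushout (CommRingCat.ofHom φ) (Scheme.ΓSpecIso (CommRingCat.of k)).inv
      (Scheme.ΓSpecIso (CommRingCat.of K)).inv (Spec.map (CommRingCat.ofHom φ)).appTop :=
    IsPushout.of_vert_isIso ⟨Scheme.ΓSpecIso_inv_naturality (CommRingCat.ofHom φ)⟩
  exact s.paste_vert h1.flip

end Groth.Agent.H22.GeomRedSections

namespace Groth.Agent.H22.GeomRedSections

/-- For a quasi-compact quasi-separated scheme `X` smooth over a field `k`, the ring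
`k̄ ⊗[k] Γ(X, O_X)` is reduced. -/
theorem isReduced_tensor_sections (k : Type u) [Field k] {X : Scheme.{u}}
    (f : X ⟶ Spec (CommRingCat.of k)) [Smooth f] [CompactSpace X] [QuasiSeparatedSpace X] :
    letI : Algebra k Γ(X, ⊤) :=
      ((Scheme.ΓSpecIso (CommRingCat.of k)).inv ≫ f.appTop).hom.toAlgebra
    _root_.IsReduced (AlgebraicClosure k ⊗[k] Γ(X, ⊤)) := by
  letI : Algebra k Γ(X, ⊤) :=
    ((Scheme.ΓSpecIso (CommRingCat.of k)).inv ≫ f.appTop).hom.toAlgebra
  let K := AlgebraicClosure k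
  let φ : k →+* K := algebraMap k K
  have hP := isPushout_sections k K φ f
  let Y := pullback f (Spec.map (CommRingCat.ofHom φ))
  haveI : IsReduced Y :=
    isReduced_of_smooth_field K (pullback.snd f (Spec.map (CommRingCat.ofHom φ)))
  letI : Algebra K Γ(Y, ⊤) := ((Scheme.ΓSpecIso (CommRingCat.of K)).inv ≫
    (pullback.snd f (Spec.map (CommRingCat.ofHom φ))).appTop).hom.toAlgebra
  letI : Algebra Γ(X, ⊤) Γ(Y, ⊤) :=
    (pullback.fst f (Spec.map (CommRingCat.ofHom φ))).appTop.hom.toAlgebra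
  letI : Algebra k Γ(Y, ⊤) := (((Scheme.ΓSpecIso (CommRingCat.of K)).inv ≫
    (pullback.snd f (Spec.map (CommRingCat.ofHom φ))).appTop).hom.comp φ).toAlgebra
  haveI : IsScalarTower k K Γ(Y, ⊤) := .of_algebraMap_eq' rfl
  haveI : IsScalarTower k Γ(X, ⊤) Γ(Y, ⊤) :=
    .of_algebraMap_eq' (congrArg CommRingCat.Hom.hom hP.w)
  haveI : Algebra.IsPushout k K Γ(X, ⊤) Γ(Y, ⊤) := CommRingCat.isPushout_iff_isPushout.mp hP
  let e : K ⊗[k] Γ(X, ⊤) ≃ₐ[K] Γ(Y, ⊤) := Algebra.IsPushout.equiv k K Γ(X, ⊤) Γ(Y, ⊤)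
  exact isReduced_of_injective e.toRingEquiv.toRingHom e.injective

end Groth.Agent.H22.GeomRedSections
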