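import Mathlib.AlgebraicGeometry.SpreadingOut
import Mathlib.AlgebraicGeometry.Stalk

/-!
# Germ-injectivity at a point with domain stalk, for reduced schemes with finitely many
irreducible components (helper22)
-/

set_option autoImplicit false
universe u

namespace Groth.Agent.H22.GermInjDomain

open AlgebraicGeometry CategoryTheory TopologicalSpace Opposite Scheme

/-- If the stalk at `x` is a domain, every irreducible component through `x` is the closure of the
image of the generic point of `Spec 𝒪_{X,x}`. -/
theorem eq_closure_of_mem_irreducibleComponents {X : Scheme.{u}} (x : X)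
    [IsDomain (X.presheaf.stalk x)] (Z : Set X) (hZ : Z ∈ irreducibleComponents X) (hxZ : x ∈ Z) :
    Z = closure {X.fromSpecStalk x ⟨⊥, Ideal.isPrime_bot⟩} := by
  have hZc : IsClosed Z := isClosed_of_mem_irreducibleComponents Z hZ
  obtain ⟨η, hη⟩ := QuasiSober.sober hZ.1 hZc
  have hηx : η ⤳ x := by
    rw [specializes_iff_mem_closure, hη.def]
    exact hxZ
  have hmem : η ∈ Set.range (X.fromSpecStalk x) := by
    rw [Scheme.range_fromSpecStalk]
    exact hηx
  obtain ⟨P, rfl⟩ := hmem
  have hbot : (⟨⊥, Ideal.isPrime_bot⟩ : PrimeSpectrum (X.presheaf.stalk x)) ⤳ P := by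
    rw [← PrimeSpectrum.le_iff_specializes]
    exact bot_le (a := P.asIdeal)
  have hy := hbot.map (X.fromSpecStalk x).continuous
  have hsub : Z ⊆ closure {X.fromSpecStalk x ⟨⊥, Ideal.isPrime_bot⟩} := by
    rw [← hη.def]
    exact specializes_iff_closure_subset.mp hy
  exact (hZ.eq_of_subset (isIrreducible_singleton.closure) hsub)

/-- A reduced scheme with finitely many irreducible components is germ-injective at every point
whose local ring is a domain. -/
theorem isGermInjectiveAt_of_isDomain_stalk {X : Scheme.{u}} [IsReduced X]
    (hfin : (irreducibleComponents X).Finite) (x : X) [IsDomain (X.presheaf.stalk x)] :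
    X.IsGermInjectiveAt x := by
  classical
  set y := X.fromSpecStalk x ⟨⊥, Ideal.isPrime_bot⟩ with hy
  -- the union of the components not containing `x`
  let C : Set X := ⋃ Z ∈ {Z ∈ irreducibleComponents X | x ∉ Z}, Z
  have hC : IsClosed C := by
    refine Set.Finite.isClosed_biUnion (hfin.subset (fun Z hZ => hZ.1)) ?_
    intro Z hZ
    exact isClosed_of_mem_irreducibleComponents Z hZ.1
  have hxC : x ∉ C := by
    simp only [C, Set.mem_iUnion, not_exists]
    rintro Z hZ hxZ
    exact hZ.2 hxZ
  let W : X.Opens := ⟨Cᶜ, hC.isOpen_compl⟩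
  have hxW : x ∈ W := hxC
  have hWsub : (W : Set X) ⊆ closure {y} := by
    intro w hw
    have h1 := irreducibleComponent_mem_irreducibleComponents w
    by_cases hx : x ∈ irreducibleComponent w
    · rw [← eq_closure_of_mem_irreducibleComponents x _ h1 hx]
      exact mem_irreducibleComponent
    · exfalso
      apply hw
      simp only [C, Set.mem_iUnion]
      exact ⟨irreducibleComponent w, ⟨h1, hx⟩, mem_irreducibleComponent⟩
  have hWirr : IsPreirreducible (W : Set X) :=
    (isIrreducible_singleton (x := y)).closure.isPreirreducible.open_subset W.2 hWsub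
  have : IrreducibleSpace W.toScheme :=
    Subtype.irreducibleSpace ⟨⟨x, hxW⟩, hWirr⟩
  have : IsReduced W.toScheme := isReduced_of_isOpenImmersion W.ι
  have : IsIntegral W.toScheme := isIntegral_of_irreducibleSpace_of_isReduced _
  have h2 : X.IsGermInjectiveAt (W.ι ⟨x, hxW⟩) := inferInstance
  exact h2

end Groth.Agent.H22.GermInjDomain
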