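import Mathlib.AlgebraicGeometry.SpreadingOut
import Mathlib.AlgebraicGeometry.Properties

/-!
# Reduced schemes with finitely many irreducible components are germ-injective (helper22)
-/

set_option autoImplicit false
universe u

namespace Groth.Agent.H22.GermInjReduced

open AlgebraicGeometry CategoryTheory TopologicalSpace Opposite Scheme

/-- A reduced scheme with finitely many irreducible components is germ-injective at every point. -/
theorem isGermInjectiveAt_of_isReduced_of_finite {X : Scheme.{u}} [IsReduced X]
    (hfin : (irreducibleComponents X).Finite) (x : X) : X.IsGermInjectiveAt x := by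
  classical
  -- the union of the components not containing `x`
  let C : Set X := ⋃ Z ∈ {Z ∈ irreducibleComponents X | x ∉ Z}, Z
  have hC : IsClosed C := by
    refine Set.Finite.isClosed_biUnion (hfin.subset (fun Z hZ => hZ.1)) ?_
    intro Z hZ
    exact isClosed_of_mem_irreducibleComponents Z hZ.1
  have hxC : x ∉ C := by
    simp only [C, Set.mem_iUnion, not_exists]
    rintro Z hZ hxZ
    exact hZ.2 hxZ
  obtain ⟨W, hW, hxW, hWC⟩ := exists_isAffineOpen_mem_and_subset (x := x)
    (U := ⟨Cᶜ, hC.isOpen_compl⟩) hxC
  refine ⟨⟨W, hxW, hW, ?_⟩⟩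
  rw [injective_iff_map_eq_zero]
  intro s hs
  rw [← basicOpen_eq_bot_iff]
  -- `s` vanishes on a neighbourhood `N` of `x`
  have hs' : X.presheaf.germ W x hxW s = X.presheaf.germ W x hxW 0 := by rw [hs, map_zero]
  obtain ⟨N, hxN, i₁, i₂, hN⟩ := X.presheaf.germ_eq x hxW hxW _ _ hs'
  rw [map_zero] at hN
  by_contra hne
  obtain ⟨w, hw⟩ : ∃ w, w ∈ X.basicOpen s := by
    by_contra h
    apply hne
    ext t
    simp only [Opens.coe_bot, Set.mem_empty_iff_false, iff_false]
    intro ht
    exact h ⟨t, ht⟩
  have hwW : w ∈ W := X.basicOpen_le s hw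
  -- the irreducible component of `w` contains `x`
  have h1 := irreducibleComponent_mem_irreducibleComponents w
  have hxZ : x ∈ irreducibleComponent w := by
    by_contra hx
    have : w ∈ C := by
      simp only [C, Set.mem_iUnion]
      exact ⟨irreducibleComponent w, ⟨h1, hx⟩, mem_irreducibleComponent⟩
    exact hWC hwW this
  -- two nonempty opens of the irreducible set meet
  obtain ⟨t, htZ, htB, htN⟩ := h1.1.2 (X.basicOpen s) N (X.basicOpen s).2 N.2
    ⟨w, mem_irreducibleComponent, hw⟩ ⟨x, hxZ, hxN⟩
  have htW : t ∈ W := X.basicOpen_le s htB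
  have hunit := (X.mem_basicOpen s t htW).mp htB
  have hzero : X.presheaf.germ W t htW s = 0 := by
    have h2 := X.presheaf.germ_res_apply i₁ t htN s
    rw [← h2, hN, map_zero]
  rw [hzero] at hunit
  have : Nontrivial (X.presheaf.stalk t) := inferInstance
  exact not_isUnit_zero hunit

end Groth.Agent.H22.GermInjReduced
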