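import Mathlib.RingTheory.Flat.Basic
import Mathlib.RingTheory.TensorProduct.Basic
import Mathlib.RingTheory.Ideal.Maps

/-!
# Algebra of the canonical map `Gr_n(f) ⊗ B → Gr_n(f')` over a chart of a square (helper22)

For a commutative square of rings `A' → A`, `A' → B'`, `A → B`, `B' → B` and ideals `J' ⊆ A'`, `J ⊆ A`
with `J' A ⊆ J`: `idIncl : J' → J`, `idBC : A ⊗[A'] J' → J`,
`grSq : B ⊗[B'] (B' ⊗[A'] J') → B ⊗[A] J`; `grSq` is surjective when `J = J' A` and injective when
moreover `A' → A` is flat.  (Generalises helper44's `sqMap` from kernels to arbitrary ideals.)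
-/

set_option autoImplicit false
universe u
open TensorProduct Function

namespace Groth.Agent.H22.GrAlg

section
variable (A' A B' B : Type u) [CommRing A'] [CommRing A] [CommRing B'] [CommRing B]
  [Algebra A' A] [Algebra A B] [Algebra A' B'] [Algebra B' B] [Algebra A' B]
  [IsScalarTower A' A B] [IsScalarTower A' B' B]
  (J' : Ideal A') (J : Ideal A) (hJ : J'.map (algebraMap A' A) ≤ J)

/-- `J' → J`, `x ↦ g x`. -/
def idIncl : J' →ₗ[A'] J where
  toFun x := ⟨algebraMap A' A x, hJ (Ideal.mem_map_of_mem _ x.2)⟩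
  map_add' x y := by
    apply Subtype.ext
    change algebraMap A' A ((x : A') + y) = algebraMap A' A x + algebraMap A' A y
    rw [map_add]
  map_smul' r x := by
    apply Subtype.ext
    change algebraMap A' A (r * (x : A')) = r • algebraMap A' A x
    rw [map_mul, Algebra.smul_def]

theorem idIncl_coe (x : J') : (idIncl A' A J' J hJ x : A) = algebraMap A' A x := rfl

/-- `A ⊗[A'] J' → J`, `a ⊗ x ↦ a g(x)`. -/
noncomputable def idBC : A ⊗[A'] J' →ₗ[A] J :=
  (idIncl A' A J' J hJ).liftBaseChange A

theorem idBC_tmul (a : A) (x : J') : idBC A' A J' J hJ (a ⊗ₜ x) = a • idIncl A' A J' J hJ x := by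
  rw [idBC, LinearMap.liftBaseChange_tmul]

theorem idBC_surjective (h : J = J'.map (algebraMap A' A)) : Surjective (idBC A' A J' J hJ) := by
  have key : ∀ x ∈ Submodule.span A ((algebraMap A' A) '' (J' : Set A')),
      ∃ t, (idBC A' A J' J hJ t : A) = x := by
    intro x hx
    induction hx using Submodule.span_induction with
    | mem x hx =>
      obtain ⟨x', hx', rfl⟩ := hx
      exact ⟨1 ⊗ₜ ⟨x', hx'⟩, by rw [idBC_tmul, one_smul]; rfl⟩
    | zero => exact ⟨0, by rw [map_zero]; rfl⟩
    | add x y _ _ hx hy =>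
      obtain ⟨t, rfl⟩ := hx
      obtain ⟨t', rfl⟩ := hy
      exact ⟨t + t', by rw [map_add]; rfl⟩
    | smul r x _ hx =>
      obtain ⟨t, rfl⟩ := hx
      exact ⟨r • t, by rw [_root_.map_smul]; rfl⟩
  intro y
  have hy : (y : A) ∈ J'.map (algebraMap A' A) := by
    rw [← h]; exact y.2
  obtain ⟨t, ht⟩ := key y hy
  exact ⟨t, Subtype.ext ht⟩

theorem idBC_injective [Module.Flat A' A] : Injective (idBC A' A J' J hJ) := by
  have h1 : Injective ((Submodule.subtype J').lTensor A) :=
    Module.Flat.lTensor_preserves_injective_linearMap _ Subtype.val_injective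
  have h2 : ∀ t, ((idBC A' A J' J hJ t : J) : A) =
      TensorProduct.rid A' A (((Submodule.subtype J').lTensor A) t) := by
    intro t
    induction t using TensorProduct.induction_on with
    | zero => simp
    | tmul r x =>
      rw [idBC_tmul, LinearMap.lTensor_tmul, TensorProduct.rid_tmul]
      change r * algebraMap A' A x = (x : A') • r
      rw [Algebra.smul_def, mul_comm]
    | add x y hx hy =>
      rw [map_add, map_add, map_add, ← hx, ← hy]
      rfl
  intro t t' htt
  apply h1
  apply (TensorProduct.rid A' A).injective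
  rw [← h2, ← h2, htt]

/-- The algebraic model of the canonical map `u^* Gr(f) → Gr(f')` over a chart. -/
noncomputable def grSq : B ⊗[B'] (B' ⊗[A'] J') →ₗ[B] B ⊗[A] J :=
  (LinearMap.baseChange B (idBC A' A J' J hJ)) ∘ₗ
    ((AlgebraTensorModule.cancelBaseChange A' A B B J').symm.toLinearMap ∘ₗ
      (AlgebraTensorModule.cancelBaseChange A' B' B B J').toLinearMap)

theorem grSq_one_tmul (x : J') :
    grSq A' A B' B J' J hJ ((1 : B) ⊗ₜ[B'] ((1 : B') ⊗ₜ[A'] x)) =
      (1 : B) ⊗ₜ[A] idIncl A' A J' J hJ x := by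
  unfold grSq
  rw [LinearMap.comp_apply, LinearMap.comp_apply, LinearEquiv.coe_coe, LinearEquiv.coe_coe,
    AlgebraTensorModule.cancelBaseChange_tmul, one_smul,
    AlgebraTensorModule.cancelBaseChange_symm_tmul, LinearMap.baseChange_tmul, idBC_tmul, one_smul]

theorem grSq_surjective (h : J = J'.map (algebraMap A' A)) : Surjective (grSq A' A B' B J' J hJ) := by
  unfold grSq
  rw [LinearMap.coe_comp, LinearMap.coe_comp]
  refine Surjective.comp ?_ (Surjective.comp (LinearEquiv.surjective _) (LinearEquiv.surjective _))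
  exact LinearMap.lTensor_surjective _ (idBC_surjective A' A J' J hJ h)

/-- `grSq` is injective as soon as `idBC` is bijective. -/
theorem grSq_injective_of_bijective (h : Bijective (idBC A' A J' J hJ)) :
    Injective (grSq A' A B' B J' J hJ) := by
  unfold grSq
  rw [LinearMap.coe_comp, LinearMap.coe_comp]
  refine Injective.comp ?_ (Injective.comp (LinearEquiv.injective _) (LinearEquiv.injective _))
  let e : A ⊗[A'] J' ≃ₗ[A] J := LinearEquiv.ofBijective (idBC A' A J' J hJ) h
  have : LinearMap.baseChange B (idBC A' A J' J hJ) =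
      (LinearEquiv.baseChange A B _ _ e).toLinearMap := by
    ext t
    rfl
  rw [this]
  exact LinearEquiv.injective _

theorem grSq_injective [Module.Flat A' A] (h : J = J'.map (algebraMap A' A)) :
    Injective (grSq A' A B' B J' J hJ) :=
  grSq_injective_of_bijective A' A B' B J' J hJ
    ⟨idBC_injective A' A J' J hJ, idBC_surjective A' A J' J hJ h⟩

end
end Groth.Agent.H22.GrAlg
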