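import Groth.Agent.H44.ConormalSquare
import Groth.Prelude.Def_OmegaPn

/-!
# Sections of powers of kernel ideals over arbitrary opens (helper22)

* `exists_idealSect_eq_of_locally_mem`: a function on any open which lies affine-locally in `K.ideal`
  is a section of `ClSub.idealMod K`.
* `idealSect_res_mem`: converse.
* `map_ker_le`: `g♯` maps the kernel ideal of `i'` into that of `i` for a commutative square.
* `powPull`: pull back sections of `(i'.ker)^n` to sections of `(i.ker)^n` along `g` (any open).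
-/

set_option autoImplicit false
universe u
open CategoryTheory Limits Opposite AlgebraicGeometry TopologicalSpace Scheme.Modules

namespace Groth.Agent.H22.GrIdeal

open Groth.Agent.H44

section General
variable {X : Scheme.{u}} (K : X.IdealSheafData)

/-- A function on any open `O` which lies in `K.ideal` affine-locally is a section of the ideal module
of `K` over `O`. -/
theorem exists_idealSect_eq_of_locally_mem (O : X.Opens) (t : Γ(X, O))
    (ht : ∀ x ∈ O, ∃ (U : X.Opens) (hU : IsAffineOpen U) (hUO : U ≤ O), x ∈ U ∧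
      X.presheaf.map (homOfLE hUO).op t ∈ K.ideal ⟨U, hU⟩) :
    ∃ σ : Γ(ClSub.idealMod K, O), OmegaSh.idealSect K O σ = t := by
  have h0 : (ClSub.toSubscheme K).app O (OmegaSh.strSect X O t) = 0 := by
    refine modules_section_ext _ _ _ fun x hx => ?_
    obtain ⟨U, hU, hUO, hxU, hmem⟩ := ht x hx
    refine ⟨U, hUO, hxU, ?_⟩
    rw [← hom_app_presheaf_map, map_zero, ← OmegaSh.strSect_map,
      toSubscheme_app_eq_zero_iff K hU]
    exact hmem
  refine ⟨OmegaSh.kerLift (ClSub.toSubscheme K) O (OmegaSh.strSect X O t) h0, ?_⟩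
  rw [OmegaSh.idealSect_apply]
  change OmegaSh.fnSect X O ((kernel.ι (ClSub.toSubscheme K)).app O _) = t
  rw [OmegaSh.ι_kerLift]
  rfl

/-- The restriction to an affine open of a section of the ideal module lies in the ideal. -/
theorem idealSect_res_mem {O U : X.Opens} (hU : IsAffineOpen U) (hUO : U ≤ O)
    (σ : Γ(ClSub.idealMod K, O)) :
    X.presheaf.map (homOfLE hUO).op (OmegaSh.idealSect K O σ) ∈ K.ideal ⟨U, hU⟩ := by
  rw [← idealSect_map]
  exact (idealSectEquiv K hU _).2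

end General

section Square
variable {Z X Z' X' : Scheme.{u}} (i : Z ⟶ X) (i' : Z' ⟶ X') [QuasiCompact i] [QuasiCompact i']
  (g : X ⟶ X') (gZ : Z ⟶ Z') (hsq : gZ ≫ i' = i ≫ g)

include hsq in
/-- `g♯` maps the kernel of `i'♯` into the kernel of `i♯` over affine charts. -/
theorem map_ker_le {U' : X'.Opens} (hU' : IsAffineOpen U') {U : X.Opens} (hU : IsAffineOpen U)
    (e : U ≤ g ⁻¹ᵁ U') :
    (i'.ker.ideal ⟨U', hU'⟩).map (g.appLE U' U e).hom ≤ i.ker.ideal ⟨U, hU⟩ := by
  rw [Ideal.map_le_iff_le_comap]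
  intro a ha
  rw [Scheme.Hom.ker_apply, RingHom.mem_ker] at ha
  rw [Ideal.mem_comap, Scheme.Hom.ker_apply, RingHom.mem_ker]
  have h1 : g.appLE U' U e ≫ i.app U = (i ≫ g).appLE U' (i ⁻¹ᵁ U) (i.preimage_mono e) := by
    rw [← Scheme.Hom.appLE_eq_app, Scheme.Hom.appLE_comp_appLE]
  have h2 : (i ≫ g).appLE U' (i ⁻¹ᵁ U) (i.preimage_mono e) =
      i'.app U' ≫ gZ.appLE (i' ⁻¹ᵁ U') (i ⁻¹ᵁ U) (by
        have : gZ ⁻¹ᵁ (i' ⁻¹ᵁ U') = i ⁻¹ᵁ (g ⁻¹ᵁ U') := by
          change (gZ ≫ i') ⁻¹ᵁ U' = (i ≫ g) ⁻¹ᵁ U'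
          rw [hsq]
        rw [this]
        exact i.preimage_mono e) := by
    rw [← Scheme.Hom.appLE_eq_app, Scheme.Hom.appLE_comp_appLE]
    exact appLE_congr hsq.symm _ _ _ _
  have h3 := congr($(h1.trans h2) a)
  rw [CommRingCat.comp_apply, CommRingCat.comp_apply, ha, map_zero] at h3
  exact h3

include hsq in
/-- `g♯` maps the `n`-th power of the kernel of `i'♯` into that of `i♯` over affine charts. -/
theorem map_ker_pow_le (n : ℕ) {U' : X'.Opens} (hU' : IsAffineOpen U') {U : X.Opens}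
    (hU : IsAffineOpen U) (e : U ≤ g ⁻¹ᵁ U') :
    ((i'.ker ^ n).ideal ⟨U', hU'⟩).map (g.appLE U' U e).hom ≤ (i.ker ^ n).ideal ⟨U, hU⟩ := by
  rw [Scheme.IdealSheafData.ideal_pow, Scheme.IdealSheafData.ideal_pow, Pi.pow_apply, Pi.pow_apply,
    Ideal.map_pow]
  exact Ideal.pow_right_mono (map_ker_le i i' g gZ hsq hU' hU e) n

include hsq in
theorem exists_powPull (n : ℕ) (U' : X'.Opens) (s' : Γ(ClSub.idealMod (i'.ker ^ n), U')) :
    ∃ s : Γ(ClSub.idealMod (i.ker ^ n), g ⁻¹ᵁ U'),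
      OmegaSh.idealSect (i.ker ^ n) (g ⁻¹ᵁ U') s =
        g.app U' (OmegaSh.idealSect (i'.ker ^ n) U' s') := by
  refine exists_idealSect_eq_of_locally_mem _ _ _ fun x hx => ?_
  obtain ⟨U'', hU'', hxU'', hU''le⟩ :=
    Opens.isBasis_iff_nbhd.mp X'.isBasis_affineOpens (show g.base x ∈ U' from hx)
  obtain ⟨U, hU, hxU, hUle⟩ :=
    Opens.isBasis_iff_nbhd.mp X.isBasis_affineOpens (show x ∈ g ⁻¹ᵁ U'' from hxU'')
  refine ⟨U, hU, hUle.trans (g.preimage_mono hU''le), hxU, ?_⟩
  have h1 : X.presheaf.map (homOfLE (hUle.trans (g.preimage_mono hU''le))).op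
      (g.app U' (OmegaSh.idealSect (i'.ker ^ n) U' s')) =
      g.appLE U'' U hUle (X'.presheaf.map (homOfLE hU''le).op
        (OmegaSh.idealSect (i'.ker ^ n) U' s')) := by
    rw [← CommRingCat.comp_apply, ← CommRingCat.comp_apply, Scheme.Hom.map_appLE,
      Scheme.Hom.app_eq_appLE, Scheme.Hom.appLE_map]
  rw [h1]
  exact map_ker_pow_le i i' g gZ hsq n hU'' hU hUle
    (Ideal.mem_map_of_mem _ (idealSect_res_mem _ hU'' hU''le s'))

/-- Pull a section of `(i'.ker)^n` back to a section of `(i.ker)^n` (over any open). -/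
noncomputable def powPull (n : ℕ) (U' : X'.Opens) (s' : Γ(ClSub.idealMod (i'.ker ^ n), U')) :
    Γ(ClSub.idealMod (i.ker ^ n), g ⁻¹ᵁ U') :=
  (exists_powPull i i' g gZ hsq n U' s').choose

theorem idealSect_powPull (n : ℕ) (U' : X'.Opens) (s' : Γ(ClSub.idealMod (i'.ker ^ n), U')) :
    OmegaSh.idealSect (i.ker ^ n) (g ⁻¹ᵁ U') (powPull i i' g gZ hsq n U' s') =
      g.app U' (OmegaSh.idealSect (i'.ker ^ n) U' s') :=
  (exists_powPull i i' g gZ hsq n U' s').choose_spec

end Square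

end Groth.Agent.H22.GrIdeal
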