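import Groth.Agent.H22.GrAlg
import Groth.Agent.H22.GrIdeal

/-!
# Chart description of the canonical map `gZ^* Gr_n(i') ⟶ Gr_n(i)` of a square (helper22)

Generalises helper44's `ConormalSquare` from the conormal sheaf to `Gr_n = i^*(I^n)`.

* `grEquiv`: `Γ(Gr_n(j), j⁻¹U) ≃ Γ(X, j⁻¹U) ⊗ (j.ker^n)(U)` over an affine chart;
* `gr_chart_description`: the canonical map is `GrAlg.grSq` in charts;
* `grMap_epi_of_isPullback`, `grMap_isIso_of_isPullback_of_flat`.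
-/

set_option autoImplicit false
universe u
open CategoryTheory Limits Opposite AlgebraicGeometry TopologicalSpace TensorProduct Scheme.Modules

namespace Groth.Agent.H22.GrChart

open Groth.Agent.H44 Groth.Agent.H22.GrIdeal Groth.Agent.H22

section GrEquiv
variable {X Y : Scheme.{u}} (j : X ⟶ Y) (n : ℕ) {U : Y.Opens} (hU : IsAffineOpen U)
  {U' : X.Opens} (hU' : IsAffineOpen U') (le : U' ≤ j ⁻¹ᵁ U)

instance isQuasicoherent_grMod : (PrinPart.grMod j n).IsQuasicoherent := by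
  unfold PrinPart.grMod
  infer_instance

/-- Sections of `Gr_n(j)` over an affine chart. -/
noncomputable def grEquiv :
    letI := (j.appLE U U' le).hom.toAlgebra
    Γ(PrinPart.grMod j n, U') ≃ₗ[Γ(X, U')]
      Γ(X, U') ⊗[Γ(Y, U)] ((j.ker ^ n).ideal ⟨U, hU⟩) :=
  letI := (j.appLE U U' le).hom.toAlgebra
  pullbackSectionsEquiv j (ClSub.idealMod (j.ker ^ n)) hU' hU le ≪≫ₗ
    LinearEquiv.baseChange Γ(Y, U) Γ(X, U') _ _ (idealSectEquiv (j.ker ^ n) hU)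

theorem grEquiv_pullSectLE (σ : Γ(ClSub.idealMod (j.ker ^ n), U)) :
    letI := (j.appLE U U' le).hom.toAlgebra
    grEquiv j n hU hU' le (pullSectLE j (ClSub.idealMod (j.ker ^ n)) U U' le σ) =
      (1 : Γ(X, U')) ⊗ₜ[Γ(Y, U)] idealSectEquiv (j.ker ^ n) hU σ := by
  letI := (j.appLE U U' le).hom.toAlgebra
  have h := pullbackSectionsEquiv_pullSectLE j (ClSub.idealMod (j.ker ^ n)) hU' hU le σ
  refine (congrArg (LinearEquiv.baseChange Γ(Y, U) Γ(X, U') _ _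
    (idealSectEquiv (j.ker ^ n) hU)) h).trans ?_
  rw [LinearEquiv.baseChange_tmul]

include hU hU' in
theorem span_gr_generators :
    Submodule.span Γ(X, U') (Set.range fun σ : Γ(ClSub.idealMod (j.ker ^ n), U) =>
      (pullSectLE j (ClSub.idealMod (j.ker ^ n)) U U' le σ : Γ(PrinPart.grMod j n, U'))) = ⊤ := by
  rw [eq_top_iff]
  intro x _
  refine pullback_sections_induction j (ClSub.idealMod (j.ker ^ n)) hU hU' le Set.univ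
    (by rw [Submodule.span_univ]) (fun x => x ∈ Submodule.span Γ(X, U')
    (Set.range fun σ : Γ(ClSub.idealMod (j.ker ^ n), U) =>
      (pullSectLE j (ClSub.idealMod (j.ker ^ n)) U U' le σ : Γ(PrinPart.grMod j n, U')))) ?_ ?_ ?_ ?_ x
  · exact Submodule.zero_mem _
  · exact fun x y hx hy => Submodule.add_mem _ hx hy
  · exact fun a x hx => Submodule.smul_mem _ a hx
  · exact fun σ _ => Submodule.subset_span ⟨σ, rfl⟩

end GrEquiv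

section Description
variable {Z X Z' X' : Scheme.{u}} {i : Z ⟶ X} {i' : Z' ⟶ X'} [IsClosedImmersion i]
  [IsClosedImmersion i'] {g : X ⟶ X'} {gZ : Z ⟶ Z'} {n : ℕ}
  (φ : (Scheme.Modules.pullback gZ).obj (PrinPart.grMod i' n) ⟶ PrinPart.grMod i n)
  (hφ : PrinPart.IsGrMap i i' g gZ n φ)

include hφ in
/-- Value of the canonical map on generators over a chart. -/
theorem grMap_pullSectLE (t : SqChart i i' g) (s' : Γ(ClSub.idealMod (i'.ker ^ n), t.V')) :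
    φ.app (i ⁻¹ᵁ t.V) (pullSectLE gZ (PrinPart.grMod i' n) (i' ⁻¹ᵁ t.V') (i ⁻¹ᵁ t.V) (t.leW hφ.1)
        (pullSectLE i' (ClSub.idealMod (i'.ker ^ n)) t.V' (i' ⁻¹ᵁ t.V') le_rfl s')) =
      pullSectLE i (ClSub.idealMod (i.ker ^ n)) t.V (i ⁻¹ᵁ t.V) le_rfl
        ((ClSub.idealMod (i.ker ^ n)).presheaf.map (homOfLE t.le).op
          (powPull i i' g gZ hφ.1 n t.V' s')) := by
  have key := hφ.2 t.V' s' (powPull i i' g gZ hφ.1 n t.V' s')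
    (idealSect_powPull i i' g gZ hφ.1 n t.V' s') (i ⁻¹ᵁ t.V) (t.leW hφ.1) (i.preimage_mono t.le)
  rw [← hom_app_resLE] at key
  rw [pullSectLE_of_res i (ClSub.idealMod (i.ker ^ n)) t.le (i ⁻¹ᵁ t.V) le_rfl, pullSectLE_self]
  exact key


include hφ in
/-- `g♯` maps `(i'.ker^n)(V')` into `(i.ker^n)(V)` over a chart. -/
theorem SqChart.hJ (t : SqChart i i' g) :
    letI _a1 : Algebra Γ(X', t.V') Γ(X, t.V) := (g.appLE t.V' t.V t.le).hom.toAlgebra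
    ((i'.ker ^ n).ideal ⟨t.V', t.hV'⟩).map (algebraMap Γ(X', t.V') Γ(X, t.V)) ≤
      (i.ker ^ n).ideal ⟨t.V, t.hV⟩ :=
  map_ker_pow_le i i' g gZ hφ.1 n t.hV' t.hV t.le

include hφ in
/-- Left-hand side of the chart description on generators. -/
theorem gr_chart_generator_left (t : SqChart i i' g) (s' : Γ(ClSub.idealMod (i'.ker ^ n), t.V')) :
    letI _a1 : Algebra Γ(X', t.V') Γ(X, t.V) := (g.appLE t.V' t.V t.le).hom.toAlgebra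
    letI _a2 : Algebra Γ(X, t.V) Γ(Z, i ⁻¹ᵁ t.V) := (i.appLE t.V (i ⁻¹ᵁ t.V) le_rfl).hom.toAlgebra
    grEquiv i n t.hV t.hW le_rfl (φ.app (i ⁻¹ᵁ t.V)
        (pullSectLE gZ (PrinPart.grMod i' n) (i' ⁻¹ᵁ t.V') (i ⁻¹ᵁ t.V) (t.leW hφ.1)
          (pullSectLE i' (ClSub.idealMod (i'.ker ^ n)) t.V' (i' ⁻¹ᵁ t.V') le_rfl s'))) =
      (1 : Γ(Z, i ⁻¹ᵁ t.V)) ⊗ₜ[Γ(X, t.V)]
        GrAlg.idIncl Γ(X', t.V') Γ(X, t.V) ((i'.ker ^ n).ideal ⟨t.V', t.hV'⟩)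
          ((i.ker ^ n).ideal ⟨t.V, t.hV⟩) (SqChart.hJ φ hφ t)
          (idealSectEquiv (i'.ker ^ n) t.hV' s') := by
  letI _a1 : Algebra Γ(X', t.V') Γ(X, t.V) := (g.appLE t.V' t.V t.le).hom.toAlgebra
  letI _a2 : Algebra Γ(X, t.V) Γ(Z, i ⁻¹ᵁ t.V) := (i.appLE t.V (i ⁻¹ᵁ t.V) le_rfl).hom.toAlgebra
  refine (congrArg (grEquiv i n t.hV t.hW le_rfl) (grMap_pullSectLE φ hφ t s')).trans ?_
  refine (grEquiv_pullSectLE i n t.hV t.hW le_rfl _).trans ?_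
  congr 1
  apply Subtype.ext
  change OmegaSh.idealSect (i.ker ^ n) t.V _ =
    g.appLE t.V' t.V t.le (OmegaSh.idealSect (i'.ker ^ n) t.V' s')
  rw [idealSect_map, idealSect_powPull]
  rfl


include hφ in
/-- Right-hand side of the chart description on generators. -/
theorem gr_chart_generator_right (t : SqChart i i' g)
    (s' : Γ(ClSub.idealMod (i'.ker ^ n), t.V')) :
    letI _a1 : Algebra Γ(X', t.V') Γ(X, t.V) := (g.appLE t.V' t.V t.le).hom.toAlgebra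
    letI _a2 : Algebra Γ(X, t.V) Γ(Z, i ⁻¹ᵁ t.V) := (i.appLE t.V (i ⁻¹ᵁ t.V) le_rfl).hom.toAlgebra
    letI _a3 : Algebra Γ(X', t.V') Γ(Z', i' ⁻¹ᵁ t.V') :=
      (i'.appLE t.V' (i' ⁻¹ᵁ t.V') le_rfl).hom.toAlgebra
    letI _a4 : Algebra Γ(Z', i' ⁻¹ᵁ t.V') Γ(Z, i ⁻¹ᵁ t.V) :=
      (gZ.appLE (i' ⁻¹ᵁ t.V') (i ⁻¹ᵁ t.V) (t.leW hφ.1)).hom.toAlgebra
    letI _a5 : Algebra Γ(X', t.V') Γ(Z, i ⁻¹ᵁ t.V) :=
      ((i ≫ g).appLE t.V' (i ⁻¹ᵁ t.V) (i.preimage_mono t.le)).hom.toAlgebra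
    ∀ [IsScalarTower Γ(X', t.V') Γ(X, t.V) Γ(Z, i ⁻¹ᵁ t.V)]
      [IsScalarTower Γ(X', t.V') Γ(Z', i' ⁻¹ᵁ t.V') Γ(Z, i ⁻¹ᵁ t.V)],
      GrAlg.grSq Γ(X', t.V') Γ(X, t.V) Γ(Z', i' ⁻¹ᵁ t.V') Γ(Z, i ⁻¹ᵁ t.V)
        ((i'.ker ^ n).ideal ⟨t.V', t.hV'⟩) ((i.ker ^ n).ideal ⟨t.V, t.hV⟩) (SqChart.hJ φ hφ t)
        ((pullbackSectionsEquiv gZ (PrinPart.grMod i' n) t.hW t.hW' (t.leW hφ.1) ≪≫ₗ
          LinearEquiv.baseChange Γ(Z', i' ⁻¹ᵁ t.V') Γ(Z, i ⁻¹ᵁ t.V) _ _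
            (grEquiv i' n t.hV' t.hW' le_rfl))
          (pullSectLE gZ (PrinPart.grMod i' n) (i' ⁻¹ᵁ t.V') (i ⁻¹ᵁ t.V) (t.leW hφ.1)
            (pullSectLE i' (ClSub.idealMod (i'.ker ^ n)) t.V' (i' ⁻¹ᵁ t.V') le_rfl s'))) =
      (1 : Γ(Z, i ⁻¹ᵁ t.V)) ⊗ₜ[Γ(X, t.V)]
        GrAlg.idIncl Γ(X', t.V') Γ(X, t.V) ((i'.ker ^ n).ideal ⟨t.V', t.hV'⟩)
          ((i.ker ^ n).ideal ⟨t.V, t.hV⟩) (SqChart.hJ φ hφ t)
          (idealSectEquiv (i'.ker ^ n) t.hV' s') := by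
  letI _a1 : Algebra Γ(X', t.V') Γ(X, t.V) := (g.appLE t.V' t.V t.le).hom.toAlgebra
  letI _a2 : Algebra Γ(X, t.V) Γ(Z, i ⁻¹ᵁ t.V) := (i.appLE t.V (i ⁻¹ᵁ t.V) le_rfl).hom.toAlgebra
  letI _a3 : Algebra Γ(X', t.V') Γ(Z', i' ⁻¹ᵁ t.V') :=
    (i'.appLE t.V' (i' ⁻¹ᵁ t.V') le_rfl).hom.toAlgebra
  letI _a4 : Algebra Γ(Z', i' ⁻¹ᵁ t.V') Γ(Z, i ⁻¹ᵁ t.V) :=
    (gZ.appLE (i' ⁻¹ᵁ t.V') (i ⁻¹ᵁ t.V) (t.leW hφ.1)).hom.toAlgebra
  letI _a5 : Algebra Γ(X', t.V') Γ(Z, i ⁻¹ᵁ t.V) :=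
    ((i ≫ g).appLE t.V' (i ⁻¹ᵁ t.V) (i.preimage_mono t.le)).hom.toAlgebra
  intro _ _
  have h1 := pullbackSectionsEquiv_pullSectLE gZ (PrinPart.grMod i' n) t.hW t.hW' (t.leW hφ.1)
    (pullSectLE i' (ClSub.idealMod (i'.ker ^ n)) t.V' (i' ⁻¹ᵁ t.V') le_rfl s')
  have h2 := grEquiv_pullSectLE i' n t.hV' t.hW' le_rfl s'
  rw [LinearEquiv.trans_apply, h1, LinearEquiv.baseChange_tmul, h2]
  exact GrAlg.grSq_one_tmul _ _ _ _ _ _ _ _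

set_option maxRecDepth 4000 in
include hφ in
/-- Chart description of the canonical map `gZ^* Gr_n(i') ⟶ Gr_n(i)` of a commutative square. -/
theorem gr_chart_description (t : SqChart i i' g) :
    letI _a1 : Algebra Γ(X', t.V') Γ(X, t.V) := (g.appLE t.V' t.V t.le).hom.toAlgebra
    letI _a2 : Algebra Γ(X, t.V) Γ(Z, i ⁻¹ᵁ t.V) := (i.appLE t.V (i ⁻¹ᵁ t.V) le_rfl).hom.toAlgebra
    letI _a3 : Algebra Γ(X', t.V') Γ(Z', i' ⁻¹ᵁ t.V') :=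
      (i'.appLE t.V' (i' ⁻¹ᵁ t.V') le_rfl).hom.toAlgebra
    letI _a4 : Algebra Γ(Z', i' ⁻¹ᵁ t.V') Γ(Z, i ⁻¹ᵁ t.V) :=
      (gZ.appLE (i' ⁻¹ᵁ t.V') (i ⁻¹ᵁ t.V) (t.leW hφ.1)).hom.toAlgebra
    letI _a5 : Algebra Γ(X', t.V') Γ(Z, i ⁻¹ᵁ t.V) :=
      ((i ≫ g).appLE t.V' (i ⁻¹ᵁ t.V) (i.preimage_mono t.le)).hom.toAlgebra
    ∀ [IsScalarTower Γ(X', t.V') Γ(X, t.V) Γ(Z, i ⁻¹ᵁ t.V)]
      [IsScalarTower Γ(X', t.V') Γ(Z', i' ⁻¹ᵁ t.V') Γ(Z, i ⁻¹ᵁ t.V)]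
      (y : Γ((Scheme.Modules.pullback gZ).obj (PrinPart.grMod i' n), i ⁻¹ᵁ t.V)),
      grEquiv i n t.hV t.hW le_rfl (φ.app (i ⁻¹ᵁ t.V) y) =
        GrAlg.grSq Γ(X', t.V') Γ(X, t.V) Γ(Z', i' ⁻¹ᵁ t.V') Γ(Z, i ⁻¹ᵁ t.V)
          ((i'.ker ^ n).ideal ⟨t.V', t.hV'⟩) ((i.ker ^ n).ideal ⟨t.V, t.hV⟩) (SqChart.hJ φ hφ t)
          ((pullbackSectionsEquiv gZ (PrinPart.grMod i' n) t.hW t.hW' (t.leW hφ.1) ≪≫ₗ
            LinearEquiv.baseChange Γ(Z', i' ⁻¹ᵁ t.V') Γ(Z, i ⁻¹ᵁ t.V) _ _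
              (grEquiv i' n t.hV' t.hW' le_rfl)) y) := by
  intro _ _
  refine pullback_sections_fun_ext gZ (PrinPart.grMod i' n) t.hW' t.hW (t.leW hφ.1) _
    (span_gr_generators i' n t.hV' t.hW' le_rfl) _ _ ?_ ?_ ?_ ?_ ?_
  · intro x y
    exact (congrArg _ (map_add (φ.app (i ⁻¹ᵁ t.V)).hom x y)).trans (LinearEquiv.map_add _ _ _)
  · intro a x
    exact (congrArg _ (Scheme.Modules.Hom.app_smul φ a x)).trans (LinearEquiv.map_smul _ _ _)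
  · intro x y
    exact (congrArg _ (LinearEquiv.map_add _ x y)).trans (LinearMap.map_add _ _ _)
  · intro a x
    exact (congrArg _ (LinearEquiv.map_smul _ a x)).trans (LinearMap.map_smul _ _ _)
  · rintro _ ⟨s', rfl⟩
    exact (gr_chart_generator_left φ hφ t s').trans (gr_chart_generator_right φ hφ t s').symm


omit [IsClosedImmersion i] [IsClosedImmersion i'] in
/-- In a cartesian square the `n`-th power of the kernel over a chart is the extension of the one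
below. -/
theorem ker_pow_eq_map_of_isPullback [IsClosedImmersion i] [IsClosedImmersion i']
    (hsq : IsPullback i gZ g i') (n : ℕ) (t : SqChart i i' g) :
    (i.ker ^ n).ideal ⟨t.V, t.hV⟩ =
      ((i'.ker ^ n).ideal ⟨t.V', t.hV'⟩).map (g.appLE t.V' t.V t.le).hom := by
  have h := ker_eq_map_of_isPullback hsq t
  rw [Scheme.Hom.appLE_eq_app, Scheme.Hom.appLE_eq_app] at h
  rw [Scheme.IdealSheafData.ideal_pow, Scheme.IdealSheafData.ideal_pow, Pi.pow_apply, Pi.pow_apply,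
    Ideal.map_pow, Scheme.Hom.ker_apply, Scheme.Hom.ker_apply, h]

include hφ in
/-- Surjectivity (and injectivity for flat `g`) of the canonical map over a chart of a cartesian
square. -/
theorem gr_chart_surjective (hsq : IsPullback i gZ g i') (t : SqChart i i' g) :
    Function.Surjective (φ.app (i ⁻¹ᵁ t.V)) ∧
      (Flat g → Function.Injective (φ.app (i ⁻¹ᵁ t.V))) := by
  letI _a1 : Algebra Γ(X', t.V') Γ(X, t.V) := (g.appLE t.V' t.V t.le).hom.toAlgebra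
  letI _a2 : Algebra Γ(X, t.V) Γ(Z, i ⁻¹ᵁ t.V) := (i.appLE t.V (i ⁻¹ᵁ t.V) le_rfl).hom.toAlgebra
  letI _a3 : Algebra Γ(X', t.V') Γ(Z', i' ⁻¹ᵁ t.V') :=
    (i'.appLE t.V' (i' ⁻¹ᵁ t.V') le_rfl).hom.toAlgebra
  letI _a4 : Algebra Γ(Z', i' ⁻¹ᵁ t.V') Γ(Z, i ⁻¹ᵁ t.V) :=
    (gZ.appLE (i' ⁻¹ᵁ t.V') (i ⁻¹ᵁ t.V) (t.leW hφ.1)).hom.toAlgebra
  letI _a5 : Algebra Γ(X', t.V') Γ(Z, i ⁻¹ᵁ t.V) :=
    ((i ≫ g).appLE t.V' (i ⁻¹ᵁ t.V) (i.preimage_mono t.le)).hom.toAlgebra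
  haveI tw1 : IsScalarTower Γ(X', t.V') Γ(X, t.V) Γ(Z, i ⁻¹ᵁ t.V) :=
    IsScalarTower.of_algebraMap_eq' (by
      change ((i ≫ g).appLE t.V' (i ⁻¹ᵁ t.V) (i.preimage_mono t.le)).hom =
        (i.appLE t.V (i ⁻¹ᵁ t.V) le_rfl).hom.comp (g.appLE t.V' t.V t.le).hom
      rw [← CommRingCat.hom_comp, Scheme.Hom.appLE_comp_appLE])
  haveI tw2 : IsScalarTower Γ(X', t.V') Γ(Z', i' ⁻¹ᵁ t.V') Γ(Z, i ⁻¹ᵁ t.V) :=
    IsScalarTower.of_algebraMap_eq' (by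
      change ((i ≫ g).appLE t.V' (i ⁻¹ᵁ t.V) (i.preimage_mono t.le)).hom =
        (gZ.appLE (i' ⁻¹ᵁ t.V') (i ⁻¹ᵁ t.V) (t.leW hφ.1)).hom.comp
          (i'.appLE t.V' (i' ⁻¹ᵁ t.V') le_rfl).hom
      rw [← CommRingCat.hom_comp, Scheme.Hom.appLE_comp_appLE]
      exact congrArg _ (Groth.Agent.H44.appLE_congr hφ.1.symm _ _ _ _))
  have hker : (i.ker ^ n).ideal ⟨t.V, t.hV⟩ =
      ((i'.ker ^ n).ideal ⟨t.V', t.hV'⟩).map (algebraMap Γ(X', t.V') Γ(X, t.V)) :=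
    ker_pow_eq_map_of_isPullback hsq n t
  have hdesc := gr_chart_description φ hφ t
  refine ⟨fun z => ?_, fun hflat => ?_⟩
  · obtain ⟨u, hu⟩ := GrAlg.grSq_surjective Γ(X', t.V') Γ(X, t.V) Γ(Z', i' ⁻¹ᵁ t.V')
      Γ(Z, i ⁻¹ᵁ t.V) _ _ (SqChart.hJ φ hφ t) hker (grEquiv i n t.hV t.hW le_rfl z)
    refine ⟨(pullbackSectionsEquiv gZ (PrinPart.grMod i' n) t.hW t.hW' (t.leW hφ.1) ≪≫ₗ
      LinearEquiv.baseChange Γ(Z', i' ⁻¹ᵁ t.V') Γ(Z, i ⁻¹ᵁ t.V) _ _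
        (grEquiv i' n t.hV' t.hW' le_rfl)).symm u, ?_⟩
    apply (grEquiv i n t.hV t.hW le_rfl).injective
    rw [hdesc, LinearEquiv.apply_symm_apply, hu]
  · haveI : Module.Flat Γ(X', t.V') Γ(X, t.V) := by
      have h1 : (g.appLE t.V' t.V t.le).hom.Flat :=
        HasRingHomProperty.appLE (P := @Flat) g hflat ⟨t.V', t.hV'⟩ ⟨t.V, t.hV⟩ t.le
      exact h1
    intro y₁ y₂ h
    have h3 := congrArg (grEquiv i n t.hV t.hW le_rfl) h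
    rw [hdesc, hdesc] at h3
    exact (LinearEquiv.injective _) (GrAlg.grSq_injective _ _ _ _ _ _ _ hker h3)

include hφ in
/-- **In a cartesian square of closed immersions the canonical map `gZ^* Gr_n(i') ⟶ Gr_n(i)` is an
epimorphism, and an isomorphism when `g` is flat.** -/
theorem grMap_epi_and_isIso_of_isPullback (hsq : IsPullback i gZ g i') :
    Epi φ ∧ (Flat g → IsIso φ) := by
  have hcov : ∀ z : Z, ∃ t : SqChart i i' g, z ∈ i ⁻¹ᵁ t.V := fun z => by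
    obtain ⟨t, hzt, -⟩ := exists_sqChart i i' g gZ hφ.1 z ⊤ trivial
    exact ⟨t, hzt⟩
  have hepi : Epi φ := epi_of_surjective_on_cover φ (fun t : SqChart i i' g => i ⁻¹ᵁ t.V) hcov
    (fun t => t.hW) (fun t => (gr_chart_surjective φ hφ hsq t).1)
  refine ⟨hepi, fun hflat => ?_⟩
  haveI : Mono φ := mono_of_injective_on_basis φ (fun t : SqChart i i' g => i ⁻¹ᵁ t.V)
    (isBasis_sqChart i i' g gZ hφ.1) (fun t => (gr_chart_surjective φ hφ hsq t).2 hflat)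
  exact isIso_of_mono_of_epi φ

end Description

end Groth.Agent.H22.GrChart
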