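import Groth.Agent.H22.GrAlg
import Mathlib.RingTheory.Flat.Equalizer
import Mathlib.RingTheory.IsTensorProduct
import Mathlib.LinearAlgebra.TensorProduct.RightExactness
import Mathlib.RingTheory.Ideal.Quotient.Operations

/-!
# Algebra of the canonical map `Gr_n` for a section (helper22)

`B' → A' → B'` a retraction with kernel `I'`, `B' → B` any ring map, `A = B ⊗[B'] A'`.  If
`B' ⊗[A'] I'^k = I'^k/I'^(k+1)` is flat over `B'` for `k < n`, then `A ⊗[A'] I'^n → A` is injective,
hence `GrAlg.idBC` is bijective for `J' = I'^n`, `J = J' A`.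
-/

set_option autoImplicit false
universe u
open TensorProduct Function

namespace Groth.Agent.H22.GrSecAlg

section KerMk
variable {A' B' : Type u} [CommRing A'] [CommRing B'] [Algebra A' B']
  (Q : Type u) [AddCommGroup Q] [Module A' Q]

/-- For `A' → B'` surjective with kernel `I'`, the kernel of `Q → B' ⊗[A'] Q` is `I' Q`. -/
theorem ker_mk_one (hs : Surjective (algebraMap A' B')) :
    LinearMap.ker (TensorProduct.mk A' B' Q 1) =
      RingHom.ker (algebraMap A' B') • (⊤ : Submodule A' Q) := by
  have hs' : Surjective (Algebra.ofId A' B') := hs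
  let e := Ideal.quotientKerAlgEquivOfSurjective hs'
  have h1 : TensorProduct.mk A' B' Q 1 =
      (TensorProduct.congr e.toLinearEquiv (LinearEquiv.refl A' Q)).toLinearMap ∘ₗ
        TensorProduct.mk A' (A' ⧸ RingHom.ker (Algebra.ofId A' B')) Q 1 := by
    ext q
    simp
  rw [h1, LinearEquiv.ker_comp, LinearMap.ker_tensorProductMk]
  rfl

end KerMk

section IdBC
variable (A' A : Type u) [CommRing A'] [CommRing A] [Algebra A' A]
  (J' : Ideal A') (J : Ideal A) (hJ : J'.map (algebraMap A' A) ≤ J)

/-- `GrAlg.idBC` is injective as soon as `A ⊗[A'] J' → A ⊗[A'] A'` is. -/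
theorem idBC_injective_of_lTensor (h1 : Injective ((Submodule.subtype J').lTensor A)) :
    Injective (GrAlg.idBC A' A J' J hJ) := by
  have h2 : ∀ t, ((GrAlg.idBC A' A J' J hJ t : J) : A) =
      TensorProduct.rid A' A (((Submodule.subtype J').lTensor A) t) := by
    intro t
    induction t using TensorProduct.induction_on with
    | zero => simp
    | tmul r x =>
      rw [GrAlg.idBC_tmul, LinearMap.lTensor_tmul, TensorProduct.rid_tmul]
      change r * algebraMap A' A x = (x : A') • r
      rw [Algebra.smul_def, mul_comm]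
    | add x y hx hy =>
      rw [map_add, map_add, map_add, ← hx, ← hy]
      rfl
  intro t t' htt
  apply h1
  apply (TensorProduct.rid A' A).injective
  rw [← h2, ← h2, htt]

end IdBC

section Step
variable (B' A' B A : Type u) [CommRing B'] [CommRing A'] [CommRing B] [CommRing A]
  [Algebra B' A'] [Algebra A' B'] [IsScalarTower B' A' B']
  [Algebra B' B] [Algebra A' A] [Algebra B A] [Algebra B' A]
  [IsScalarTower B' A' A] [IsScalarTower B' B A] [Algebra.IsPushout B' B A' A]

include B' in
omit [Algebra B' B] [Algebra A' A] [Algebra B A] [Algebra B' A] [IsScalarTower B' A' A]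
  [IsScalarTower B' B A] [Algebra.IsPushout B' B A' A] in
theorem algebraMap_surjective : Surjective (algebraMap A' B') := fun b =>
  ⟨algebraMap B' A' b, by
    rw [← IsScalarTower.algebraMap_apply B' A' B']
    rfl⟩

variable {A'} in
/-- `N → B' ⊗[A'] N`, `x ↦ 1 ⊗ x`, as a `B'`-linear map (for the `B'`-structure through the
section). -/
noncomputable def piK (N : Submodule A' A') : N →ₗ[B'] B' ⊗[A'] N where
  toFun x := (1 : B') ⊗ₜ[A'] x
  map_add' x y := TensorProduct.tmul_add _ _ _
  map_smul' b x := by
    rw [RingHom.id_apply, ← algebraMap_smul A' b x, ← TensorProduct.smul_tmul,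
      algebraMap_smul, TensorProduct.smul_tmul']

variable {A'} in
theorem piK_apply (N : Submodule A' A') (x : N) : piK B' N x = (1 : B') ⊗ₜ[A'] x := rfl

variable {A'} in
theorem piK_surjective (N : Submodule A' A') : Surjective (piK B' N) := by
  intro z
  induction z using TensorProduct.induction_on with
  | zero => exact ⟨0, map_zero _⟩
  | tmul b x =>
    obtain ⟨a, rfl⟩ := algebraMap_surjective B' A' b
    refine ⟨a • x, ?_⟩
    rw [piK_apply, ← TensorProduct.smul_tmul, Algebra.smul_def, mul_one]
  | add x y hx hy =>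
    obtain ⟨x', rfl⟩ := hx
    obtain ⟨y', rfl⟩ := hy
    exact ⟨x' + y', map_add _ _ _⟩

variable {A'} in
/-- Exactness of `I' N → N → B' ⊗[A'] N`. -/
theorem piK_eq_zero_iff (N : Submodule A' A') (x : N) :
    piK B' N x = 0 ↔ (x : A') ∈ RingHom.ker (algebraMap A' B') • N := by
  have h := ker_mk_one (A' := A') (B' := B') N (algebraMap_surjective B' A')
  rw [← Submodule.mem_smul_top_iff, ← h, LinearMap.mem_ker]
  rfl

include B in
/-- The step: `A ⊗[A'] N₁ → A ⊗[A'] N` is injective when `N₁ = I' N` and `B' ⊗[A'] N` is `B'`-flat. -/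
theorem lTensor_inclusion_injective (N₁ N : Submodule A' A') (hle : N₁ ≤ N)
    (hN : N₁ = RingHom.ker (algebraMap A' B') • N) [Module.Flat B' (B' ⊗[A'] N)] :
    Injective ((Submodule.inclusion hle).lTensor A) := by
  -- the `B'`-linear version
  have hB : Injective (((Submodule.inclusion hle).restrictScalars B').lTensor B) := by
    refine LinearMap.lTensor_injective_of_exact_of_flat (piK B' N) (piK_surjective B' N) _
      (Submodule.inclusion_injective hle) ?_ B
    intro x
    rw [piK_eq_zero_iff, ← hN]
    constructor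
    · intro hx
      exact ⟨⟨x.1, hx⟩, rfl⟩
    · rintro ⟨y, rfl⟩
      exact y.2
  -- transport along `A ⊗[A'] M ≃ B ⊗[B'] M`
  have hnat : ∀ z : B ⊗[B'] N₁,
      ((Submodule.inclusion hle).lTensor A) ((Algebra.IsPushout.cancelBaseChange B' B A' A N₁).symm z) =
        (Algebra.IsPushout.cancelBaseChange B' B A' A N).symm
          ((((Submodule.inclusion hle).restrictScalars B').lTensor B) z) := by
    intro z
    induction z using TensorProduct.induction_on with
    | zero => simp
    | tmul b x =>
      rw [Algebra.IsPushout.cancelBaseChange_symm_tmul, LinearMap.lTensor_tmul,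
        LinearMap.lTensor_tmul, Algebra.IsPushout.cancelBaseChange_symm_tmul]
      rfl
    | add x y hx hy => rw [map_add, map_add, map_add, map_add, hx, hy]
  intro t t' htt
  obtain ⟨z, rfl⟩ := (Algebra.IsPushout.cancelBaseChange B' B A' A N₁).symm.surjective t
  obtain ⟨z', rfl⟩ := (Algebra.IsPushout.cancelBaseChange B' B A' A N₁).symm.surjective t'
  rw [hnat, hnat] at htt
  rw [hB ((Algebra.IsPushout.cancelBaseChange B' B A' A N).symm.injective htt)]

include B in
/-- `A ⊗[A'] I'^n → A ⊗[A'] A'` is injective when `I'^k/I'^(k+1)` is `B'`-flat for `k < n`; here the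
powers are given as a family `Jf k = I'^k`. -/
theorem lTensor_subtype_injective (Jf : ℕ → Ideal A')
    (hJf : ∀ k, Jf k = RingHom.ker (algebraMap A' B') ^ k) (n : ℕ)
    (hfl : ∀ k < n, Module.Flat B' (B' ⊗[A'] Jf k)) :
    Injective ((Submodule.subtype (Jf n)).lTensor A) := by
  induction n with
  | zero =>
    have htop : Jf 0 = ⊤ := by rw [hJf 0, pow_zero, Ideal.one_eq_top]
    have hbij : Bijective (Submodule.subtype (Jf 0)) :=
      ⟨Subtype.val_injective, fun a => ⟨⟨a, by rw [htop]; trivial⟩, rfl⟩⟩
    let e : Jf 0 ≃ₗ[A'] A' := LinearEquiv.ofBijective _ hbij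
    have : (Submodule.subtype (Jf 0)).lTensor A = (e.lTensor A).toLinearMap := rfl
    rw [this]
    exact (e.lTensor A).injective
  | succ n ih =>
    have hle : Jf (n + 1) ≤ Jf n := by
      rw [hJf, hJf]
      exact Ideal.pow_le_pow_right (Nat.le_succ n)
    have hN : Jf (n + 1) = RingHom.ker (algebraMap A' B') • Jf n := by
      rw [hJf, hJf, pow_succ', smul_eq_mul]
    have := hfl n (Nat.lt_succ_self n)
    have h1 := lTensor_inclusion_injective B' A' B A (Jf (n + 1)) (Jf n) hle hN
    have h2 := ih (fun k hk => hfl k (Nat.lt_succ_of_lt hk))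
    have h3 : (Submodule.subtype (Jf (n + 1))).lTensor A =
        ((Submodule.subtype (Jf n)).lTensor A) ∘ₗ ((Submodule.inclusion hle).lTensor A) := by
      rw [← LinearMap.lTensor_comp]
      rfl
    rw [h3, LinearMap.coe_comp]
    exact h2.comp h1

end Step

end Groth.Agent.H22.GrSecAlg
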