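import Groth.Agent.H22.GrChart
import Groth.Agent.H22.GrSecAlg
import Groth.Agent.H44.ConormalSplit
import Groth.Agent.H71.QCoh.FlatSections
import Mathlib.AlgebraicGeometry.Morphisms.Flat

/-!
# The canonical map `u^* Gr_n(f) ⟶ Gr_n(f')` for a section `f` and its base change `f'` (helper22)

`g : X ⟶ Y` with section `f` (a closed immersion), `X' = X ×_Y Y'`, `f'` the induced section.
* `isPullback_section`: `Y' = Y ×_X X'`;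
* `SecChart`: charts adapted to the sections (`Γ(X', V) = Γ(X, V') ⊗ Γ(Y', W)`);
* `grMap_isIso_of_section`: the canonical map is an isomorphism when the `Gr_k(f)`, `k < n`, are
  flat over charts.
-/

set_option autoImplicit false
universe u
open CategoryTheory Limits Opposite AlgebraicGeometry TopologicalSpace TensorProduct Scheme.Modules

namespace Groth.Agent.H22.GrSection

open Groth.Agent.H44 Groth.Agent.H22.GrIdeal Groth.Agent.H22.GrChart Groth.Agent.H22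

section Pullback
variable {X Y X' Y' : Scheme.{u}} {g : X ⟶ Y} {f : Y ⟶ X} (hf : f ≫ g = 𝟙 Y)
  {u : Y' ⟶ Y} {v : X' ⟶ X} {g' : X' ⟶ Y'} (hsq : IsPullback v g' g u)
  {f' : Y' ⟶ X'} (hf' : f' ≫ g' = 𝟙 Y') (hf'v : f' ≫ v = u ≫ f)

include hf hsq hf' hf'v in
/-- The square of sections is cartesian. -/
theorem isPullback_section : IsPullback f' u v f := by
  refine IsPullback.of_right ?_ hf'v hsq.flip
  rw [hf', hf]
  exact IsPullback.of_horiz_isIso ⟨by simp⟩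

include hf hsq hf' hf'v in
theorem isClosedImmersion_section [IsClosedImmersion f] : IsClosedImmersion f' :=
  MorphismProperty.of_isPullback (P := @IsClosedImmersion)
    (isPullback_section hf hsq hf' hf'v).flip inferInstance

end Pullback

section SecChart
variable {X Y X' Y' : Scheme.{u}} (g : X ⟶ Y) (f : Y ⟶ X) [IsClosedImmersion f]
  (u : Y' ⟶ Y) (v : X' ⟶ X) (g' : X' ⟶ Y') (f' : Y' ⟶ X')

/-- Charts adapted to the sections: a retraction chart `V'` of `(f, g)` and an affine open `W₀` of `Y'`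
mapping into `f⁻¹V'`. -/
structure SecChart extends RetrChart f g g where
  W₀ : Y'.Opens
  hW₀ : IsAffineOpen W₀
  hW₀le : W₀ ≤ u ⁻¹ᵁ (f ⁻¹ᵁ U)

variable {g f u v g' f'}

/-- The chart of `X'`. -/
def SecChart.VX (t : SecChart g f u) (v : X' ⟶ X) (g' : X' ⟶ Y') : X'.Opens :=
  v ⁻¹ᵁ t.U ⊓ g' ⁻¹ᵁ t.W₀

theorem SecChart.VX_le (t : SecChart g f u) : t.VX v g' ≤ v ⁻¹ᵁ t.U := inf_le_left

variable (hf : f ≫ g = 𝟙 Y) (hsq : IsPullback v g' g u)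
  (hf' : f' ≫ g' = 𝟙 Y') (hf'v : f' ≫ v = u ≫ f)

include hf' hf'v in
theorem SecChart.preimage_VX (t : SecChart g f u) : f' ⁻¹ᵁ (t.VX v g') = t.W₀ := by
  change f' ⁻¹ᵁ (v ⁻¹ᵁ t.U) ⊓ f' ⁻¹ᵁ (g' ⁻¹ᵁ t.W₀) = t.W₀
  rw [← Scheme.Hom.comp_preimage, ← Scheme.Hom.comp_preimage, hf', hf'v, Scheme.Hom.comp_preimage]
  exact inf_eq_right.mpr t.hW₀le

include hsq in
theorem SecChart.isAffineOpen_VX (t : SecChart g f u) : IsAffineOpen (t.VX v g') := by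
  have hUST : t.W₀ ≤ u ⁻¹ᵁ (f ⁻¹ᵁ t.U) := t.hW₀le
  have hUSX : t.U ≤ g ⁻¹ᵁ (f ⁻¹ᵁ t.U) := t.hg
  haveI : IsAffine ((f ⁻¹ᵁ t.U : Y.Opens) : Scheme.{u}) := t.hU'
  haveI : IsAffine ((t.W₀ : Y'.Opens) : Scheme.{u}) := t.hW₀
  haveI : IsAffine ((t.U : X.Opens) : Scheme.{u}) := t.hU
  exact .of_isIso (Scheme.Hom.isPullback_resLE hsq hUST hUSX rfl).isoPullback.hom

include hf' hf'v in
theorem SecChart.VX_le_preimage (t : SecChart g f u) :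
    t.VX v g' ≤ g' ⁻¹ᵁ (f' ⁻¹ᵁ (t.VX v g')) := by
  rw [t.preimage_VX hf' hf'v]
  exact inf_le_right

include hf' hf'v in
theorem SecChart.preimage_VX_le (t : SecChart g f u) :
    f' ⁻¹ᵁ (t.VX v g') ≤ u ⁻¹ᵁ (f ⁻¹ᵁ t.U) := by
  rw [t.preimage_VX hf' hf'v]
  exact t.hW₀le

include hsq hf' hf'v in
/-- `Γ(X', V) = Γ(X, V') ⊗ Γ(Y', W)` over a section chart. -/
theorem SecChart.isPushout (t : SecChart g f u) :
    IsPushout (g.appLE (f ⁻¹ᵁ t.U) t.U t.hg)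
      (u.appLE (f ⁻¹ᵁ t.U) (f' ⁻¹ᵁ (t.VX v g')) (t.preimage_VX_le hf' hf'v))
      (v.appLE t.U (t.VX v g') t.VX_le)
      (g'.appLE (f' ⁻¹ᵁ (t.VX v g')) (t.VX v g') (t.VX_le_preimage hf' hf'v)) := by
  have hUY : t.VX v g' = v ⁻¹ᵁ t.U ⊓ g' ⁻¹ᵁ (f' ⁻¹ᵁ (t.VX v g')) := by
    rw [t.preimage_VX hf' hf'v]
    rfl
  have hWaff : IsAffineOpen (f' ⁻¹ᵁ (t.VX v g')) := by
    rw [t.preimage_VX hf' hf'v]
    exact t.hW₀
  have h1 := isIso_pushoutSection_of_isAffineOpen hsq (US := f ⁻¹ᵁ t.U)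
    (UT := f' ⁻¹ᵁ (t.VX v g')) (UX := t.U) (UY := t.VX v g') (t.preimage_VX_le hf' hf'v) t.hg hUY
    t.hU' hWaff t.hU
  exact (isIso_pushoutSection_iff hsq (t.preimage_VX_le hf' hf'v) t.hg hUY).mp h1

/-- The square chart attached to a section chart. -/
def SecChart.toSqChart [IsClosedImmersion f'] (t : SecChart g f u)
    (hV : IsAffineOpen (t.VX v g')) : SqChart f' f v where
  V' := t.U
  V := t.VX v g'
  hV' := t.hU
  hV := hV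
  le := t.VX_le
  hc' := t.hc
  hc := fun x _ => by
    change x ∈ coborder (Set.range f'.base)
    rw [IsClosed.coborder_eq f'.isClosedEmbedding.isClosed_range]
    trivial

include hf hf' hf'v in
theorem exists_secChart (y' : Y') (O : Y'.Opens) (hy : y' ∈ O) :
    ∃ t : SecChart g f u, y' ∈ f' ⁻¹ᵁ (t.VX v g') ∧ f' ⁻¹ᵁ (t.VX v g') ≤ O := by
  obtain ⟨t₀, hz, -⟩ := exists_retrChart f g hf (u.base y') ⊤ trivial
  obtain ⟨W₀, hW₀, hyW₀, hW₀le⟩ := Opens.isBasis_iff_nbhd.mp Y'.isBasis_affineOpens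
    (show y' ∈ O ⊓ u ⁻¹ᵁ (f ⁻¹ᵁ t₀.U) from ⟨hy, hz⟩)
  refine ⟨⟨t₀, W₀, hW₀, hW₀le.trans inf_le_right⟩, ?_, ?_⟩
  · rw [SecChart.preimage_VX hf' hf'v]
    exact hyW₀
  · rw [SecChart.preimage_VX hf' hf'v]
    exact hW₀le.trans inf_le_left

include hf hf' hf'v in
theorem isBasis_secChart :
    Opens.IsBasis (Set.range (fun t : SecChart g f u => f' ⁻¹ᵁ (t.VX v g'))) := by
  rw [Opens.isBasis_iff_nbhd]
  intro W x hx
  obtain ⟨t, hxt, htW⟩ := exists_secChart hf hf' hf'v x W hx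
  exact ⟨_, ⟨t, rfl⟩, hxt, htW⟩

set_option maxHeartbeats 1600000 in
set_option maxRecDepth 4000 in
include hf hsq hf' hf'v in
/-- Injectivity of the canonical map over a section chart, when the `Gr_k(f)`, `k < n`, are flat over
the chart. -/
theorem gr_secChart_injective [IsClosedImmersion f'] {n : ℕ}
    (φ : (Scheme.Modules.pullback u).obj (PrinPart.grMod f n) ⟶ PrinPart.grMod f' n)
    (hφ : PrinPart.IsGrMap f' f v u n φ) (t : SecChart g f u)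
    (hfl : ∀ k < n,
      letI := (f.appLE t.U (f ⁻¹ᵁ t.U) le_rfl).hom.toAlgebra
      Module.Flat Γ(Y, f ⁻¹ᵁ t.U) (Γ(Y, f ⁻¹ᵁ t.U) ⊗[Γ(X, t.U)] ((f.ker ^ k).ideal ⟨t.U, t.hU⟩))) :
    Function.Injective (φ.app (f' ⁻¹ᵁ (t.VX v g'))) := by
  let T : SqChart f' f v := t.toSqChart (f' := f') (t.isAffineOpen_VX hsq)
  change Function.Injective (φ.app (f' ⁻¹ᵁ T.V))
  letI _a1 : Algebra Γ(X, T.V') Γ(X', T.V) := (v.appLE T.V' T.V T.le).hom.toAlgebra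
  letI _a2 : Algebra Γ(X', T.V) Γ(Y', f' ⁻¹ᵁ T.V) :=
    (f'.appLE T.V (f' ⁻¹ᵁ T.V) le_rfl).hom.toAlgebra
  letI _a3 : Algebra Γ(X, T.V') Γ(Y, f ⁻¹ᵁ T.V') :=
    (f.appLE T.V' (f ⁻¹ᵁ T.V') le_rfl).hom.toAlgebra
  letI _a4 : Algebra Γ(Y, f ⁻¹ᵁ T.V') Γ(Y', f' ⁻¹ᵁ T.V) :=
    (u.appLE (f ⁻¹ᵁ T.V') (f' ⁻¹ᵁ T.V) (T.leW hφ.1)).hom.toAlgebra
  letI _a5 : Algebra Γ(X, T.V') Γ(Y', f' ⁻¹ᵁ T.V) :=
    ((f' ≫ v).appLE T.V' (f' ⁻¹ᵁ T.V) (f'.preimage_mono T.le)).hom.toAlgebra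
  haveI tw1 : IsScalarTower Γ(X, T.V') Γ(X', T.V) Γ(Y', f' ⁻¹ᵁ T.V) :=
    IsScalarTower.of_algebraMap_eq' (by
      change ((f' ≫ v).appLE T.V' (f' ⁻¹ᵁ T.V) (f'.preimage_mono T.le)).hom =
        (f'.appLE T.V (f' ⁻¹ᵁ T.V) le_rfl).hom.comp (v.appLE T.V' T.V T.le).hom
      rw [← CommRingCat.hom_comp, Scheme.Hom.appLE_comp_appLE])
  haveI tw2 : IsScalarTower Γ(X, T.V') Γ(Y, f ⁻¹ᵁ T.V') Γ(Y', f' ⁻¹ᵁ T.V) :=
    IsScalarTower.of_algebraMap_eq' (by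
      change ((f' ≫ v).appLE T.V' (f' ⁻¹ᵁ T.V) (f'.preimage_mono T.le)).hom =
        (u.appLE (f ⁻¹ᵁ T.V') (f' ⁻¹ᵁ T.V) (T.leW hφ.1)).hom.comp
          (f.appLE T.V' (f ⁻¹ᵁ T.V') le_rfl).hom
      rw [← CommRingCat.hom_comp, Scheme.Hom.appLE_comp_appLE]
      exact congrArg _ (Groth.Agent.H44.appLE_congr hφ.1.symm _ _ _ _))
  -- the section structure
  have le3 : T.V ≤ (v ≫ g) ⁻¹ᵁ (f ⁻¹ᵁ T.V') := T.le.trans (v.preimage_mono t.hg)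
  letI _b1 : Algebra Γ(Y, f ⁻¹ᵁ T.V') Γ(X, T.V') := (g.appLE (f ⁻¹ᵁ T.V') T.V' t.hg).hom.toAlgebra
  letI _b2 : Algebra Γ(Y', f' ⁻¹ᵁ T.V) Γ(X', T.V) :=
    (g'.appLE (f' ⁻¹ᵁ T.V) T.V (t.VX_le_preimage hf' hf'v)).hom.toAlgebra
  letI _b3 : Algebra Γ(Y, f ⁻¹ᵁ T.V') Γ(X', T.V) :=
    ((v ≫ g).appLE (f ⁻¹ᵁ T.V') T.V le3).hom.toAlgebra
  haveI tw3 : IsScalarTower Γ(Y, f ⁻¹ᵁ T.V') Γ(X, T.V') Γ(Y, f ⁻¹ᵁ T.V') :=
    IsScalarTower.of_algebraMap_eq' (by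
      change RingHom.id _ = (f.appLE T.V' (f ⁻¹ᵁ T.V') le_rfl).hom.comp
        (g.appLE (f ⁻¹ᵁ T.V') T.V' t.hg).hom
      rw [← CommRingCat.hom_comp, Scheme.Hom.appLE_comp_appLE]
      ext c
      have h1 := appLE_of_eq hf (U := f ⁻¹ᵁ T.V') (V := f ⁻¹ᵁ T.V')
        (le_rfl.trans ((Opens.map f.base).map (homOfLE t.hg)).le) (by exact le_rfl)
      rw [h1]
      exact (id_appLE_self _ _ c).symm)
  haveI tw4 : IsScalarTower Γ(Y, f ⁻¹ᵁ T.V') Γ(X, T.V') Γ(X', T.V) :=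
    IsScalarTower.of_algebraMap_eq' (by
      change ((v ≫ g).appLE (f ⁻¹ᵁ T.V') T.V le3).hom =
        (v.appLE T.V' T.V T.le).hom.comp (g.appLE (f ⁻¹ᵁ T.V') T.V' t.hg).hom
      rw [← CommRingCat.hom_comp, Scheme.Hom.appLE_comp_appLE])
  haveI tw5 : IsScalarTower Γ(Y, f ⁻¹ᵁ T.V') Γ(Y', f' ⁻¹ᵁ T.V) Γ(X', T.V) :=
    IsScalarTower.of_algebraMap_eq' (by
      change ((v ≫ g).appLE (f ⁻¹ᵁ T.V') T.V le3).hom =
        (g'.appLE (f' ⁻¹ᵁ T.V) T.V (t.VX_le_preimage hf' hf'v)).hom.comp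
          (u.appLE (f ⁻¹ᵁ T.V') (f' ⁻¹ᵁ T.V) (T.leW hφ.1)).hom
      rw [← CommRingCat.hom_comp, Scheme.Hom.appLE_comp_appLE]
      exact congrArg _ (Groth.Agent.H44.appLE_congr hsq.w _ _ _ _))
  haveI hpo : Algebra.IsPushout Γ(Y, f ⁻¹ᵁ T.V') Γ(Y', f' ⁻¹ᵁ T.V) Γ(X, T.V') Γ(X', T.V) :=
    CommRingCat.isPushout_iff_isPushout.mp (t.isPushout hsq hf' hf'v).flip
  have hsq' : IsPullback f' u v f := isPullback_section hf hsq hf' hf'v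
  have hker : (f'.ker ^ n).ideal ⟨T.V, T.hV⟩ =
      ((f.ker ^ n).ideal ⟨T.V', T.hV'⟩).map (algebraMap Γ(X, T.V') Γ(X', T.V)) :=
    ker_pow_eq_map_of_isPullback hsq' n T
  have hJf : ∀ k, (f.ker ^ k).ideal ⟨T.V', T.hV'⟩ =
      RingHom.ker (algebraMap Γ(X, T.V') Γ(Y, f ⁻¹ᵁ T.V')) ^ k := by
    intro k
    rw [Scheme.IdealSheafData.ideal_pow, Pi.pow_apply, Scheme.Hom.ker_apply]
    change _ = RingHom.ker (f.appLE T.V' (f ⁻¹ᵁ T.V') le_rfl).hom ^ k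
    rw [Scheme.Hom.appLE_eq_app]
  have hlT := GrSecAlg.lTensor_subtype_injective Γ(Y, f ⁻¹ᵁ T.V') Γ(X, T.V') Γ(Y', f' ⁻¹ᵁ T.V)
    Γ(X', T.V) (fun k => (f.ker ^ k).ideal ⟨T.V', T.hV'⟩) hJf n hfl
  have hbij : Function.Bijective (GrAlg.idBC Γ(X, T.V') Γ(X', T.V)
      ((f.ker ^ n).ideal ⟨T.V', T.hV'⟩) ((f'.ker ^ n).ideal ⟨T.V, T.hV⟩) (SqChart.hJ φ hφ T)) :=
    ⟨GrSecAlg.idBC_injective_of_lTensor _ _ _ _ _ hlT, GrAlg.idBC_surjective _ _ _ _ _ hker⟩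
  have hdesc := gr_chart_description φ hφ T
  intro y₁ y₂ h
  have h3 := congrArg (grEquiv f' n T.hV T.hW le_rfl) h
  rw [hdesc, hdesc] at h3
  exact (LinearEquiv.injective _) (GrAlg.grSq_injective_of_bijective _ _ _ _ _ _ _ hbij h3)

include hf hsq hf' hf'v in
/-- **The canonical map `u^* Gr_n(f) ⟶ Gr_n(f')` for a section `f` of `g` and the induced section `f'`
of the base change `g'` is an isomorphism when the `Gr_k(f)`, `k < n`, are flat over charts.** -/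
theorem grMap_isIso_of_section {n : ℕ}
    (φ : (Scheme.Modules.pullback u).obj (PrinPart.grMod f n) ⟶ PrinPart.grMod f' n)
    (hφ : PrinPart.IsGrMap f' f v u n φ)
    (hfl : ∀ k < n, ∀ (V' : X.Opens) (hV' : IsAffineOpen V'),
      letI := (f.appLE V' (f ⁻¹ᵁ V') le_rfl).hom.toAlgebra
      Module.Flat Γ(Y, f ⁻¹ᵁ V') (Γ(Y, f ⁻¹ᵁ V') ⊗[Γ(X, V')] ((f.ker ^ k).ideal ⟨V', hV'⟩))) :
    IsIso φ := by
  haveI : IsClosedImmersion f' := isClosedImmersion_section hf hsq hf' hf'v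
  haveI : Epi φ :=
    (grMap_epi_and_isIso_of_isPullback φ hφ (isPullback_section hf hsq hf' hf'v)).1
  haveI : Mono φ := mono_of_injective_on_basis φ
    (fun t : SecChart g f u => f' ⁻¹ᵁ (t.VX v g')) (isBasis_secChart hf hf' hf'v)
    (fun t => gr_secChart_injective hf hsq hf' hf'v φ hφ t (fun k hk => hfl k hk t.U t.hU))
  exact isIso_of_mono_of_epi φ

omit [IsClosedImmersion f] in
/-- Flatness of `Gr_k(f)` gives flatness over charts. -/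
theorem flat_chart_of_isFlat [IsClosedImmersion f] (k : ℕ) (h : FlatMod.IsFlat (PrinPart.grMod f k))
    (V' : X.Opens) (hV' : IsAffineOpen V') :
    letI := (f.appLE V' (f ⁻¹ᵁ V') le_rfl).hom.toAlgebra
    Module.Flat Γ(Y, f ⁻¹ᵁ V') (Γ(Y, f ⁻¹ᵁ V') ⊗[Γ(X, V')] ((f.ker ^ k).ideal ⟨V', hV'⟩)) := by
  letI := (f.appLE V' (f ⁻¹ᵁ V') le_rfl).hom.toAlgebra
  have hW : IsAffineOpen (f ⁻¹ᵁ V') := hV'.preimage f
  haveI : Module.Flat Γ(Y, f ⁻¹ᵁ V') Γ(PrinPart.grMod f k, f ⁻¹ᵁ V') :=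
    (Groth.Agent.H71.QCoh.isFlat_iff_flat_sections (PrinPart.grMod f k)).mp h ⟨_, hW⟩
  exact Module.Flat.of_linearEquiv (grEquiv f k hV' hW le_rfl).symm

omit [IsClosedImmersion f] in
/-- `Gr_0(f)` is flat over charts. -/
theorem flat_chart_zero [IsClosedImmersion f] (V' : X.Opens) (hV' : IsAffineOpen V') :
    letI := (f.appLE V' (f ⁻¹ᵁ V') le_rfl).hom.toAlgebra
    Module.Flat Γ(Y, f ⁻¹ᵁ V') (Γ(Y, f ⁻¹ᵁ V') ⊗[Γ(X, V')] ((f.ker ^ 0).ideal ⟨V', hV'⟩)) := by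
  letI := (f.appLE V' (f ⁻¹ᵁ V') le_rfl).hom.toAlgebra
  have htop : (f.ker ^ 0).ideal ⟨V', hV'⟩ = ⊤ := by
    rw [Scheme.IdealSheafData.ideal_pow, Pi.pow_apply, pow_zero, Ideal.one_eq_top]
  have hbij : Function.Bijective (Submodule.subtype ((f.ker ^ 0).ideal ⟨V', hV'⟩)) :=
    ⟨Subtype.val_injective, fun a => ⟨⟨a, by rw [htop]; trivial⟩, rfl⟩⟩
  let e : ((f.ker ^ 0).ideal ⟨V', hV'⟩) ≃ₗ[Γ(X, V')] Γ(X, V') := LinearEquiv.ofBijective _ hbij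
  let e' : Γ(Y, f ⁻¹ᵁ V') ⊗[Γ(X, V')] ((f.ker ^ 0).ideal ⟨V', hV'⟩) ≃ₗ[Γ(Y, f ⁻¹ᵁ V')]
      Γ(Y, f ⁻¹ᵁ V') :=
    (TensorProduct.AlgebraTensorModule.congr (LinearEquiv.refl _ _) e) ≪≫ₗ
      TensorProduct.AlgebraTensorModule.rid _ _ _
  exact Module.Flat.of_linearEquiv e'

end SecChart

end Groth.Agent.H22.GrSection
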