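import Mathlib.RingTheory.GradedAlgebra.Homogeneous.Ideal
import Mathlib.RingTheory.GradedAlgebra.FiniteType
import Mathlib.RingTheory.GradedAlgebra.Noetherian
import Mathlib.RingTheory.FiniteType
import Mathlib.Algebra.DirectSum.Internal
import Mathlib.Algebra.Algebra.Operations
import Mathlib.RingTheory.Noetherian.Basic
import Mathlib.RingTheory.Polynomial.Basic

set_option autoImplicit false
universe u

namespace Groth.Agent.H22

open DirectSum

variable {R A : Type u} [CommRing R] [CommRing A] [Algebra R A] (𝒜 : ℕ → Submodule R A)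
  [GradedAlgebra 𝒜]

/-- If every homogeneous element lies in a subalgebra (over the degree zero part), it is `⊤`. -/
theorem subalgebra_eq_top_of_homogeneous_mem (B : Subalgebra (𝒜 0) A)
    (h : ∀ n : ℕ, ∀ x ∈ 𝒜 n, x ∈ B) : B = ⊤ := by
  classical
  rw [eq_top_iff]
  intro x _
  rw [← DirectSum.sum_support_decompose 𝒜 x]
  exact Subalgebra.sum_mem _ (fun n _ => h n _ (SetLike.coe_mem _))

theorem irrelevant_eq_span_iff_adjoin_eq_top
    (E : Set A) (hE : ∀ e ∈ E, ∃ d : ℕ, 0 < d ∧ e ∈ 𝒜 d) :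
    (HomogeneousIdeal.irrelevant 𝒜).toIdeal = Ideal.span E ↔ Algebra.adjoin (𝒜 0) E = ⊤ := by
  classical
  have hspan_le : Ideal.span E ≤ (HomogeneousIdeal.irrelevant 𝒜).toIdeal := by
    rw [Ideal.span_le]
    intro e he
    obtain ⟨d, hd, hed⟩ := hE e he
    exact HomogeneousIdeal.mem_irrelevant_of_mem 𝒜 hd hed
  constructor
  · intro h
    apply subalgebra_eq_top_of_homogeneous_mem
    intro n
    induction n using Nat.strong_induction_on with
    | _ n ih =>
      intro x hx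
      rcases Nat.eq_zero_or_pos n with rfl | hn
      · exact Subalgebra.algebraMap_mem _ (⟨x, hx⟩ : 𝒜 0)
      · have hx' : x ∈ Ideal.span E := h ▸ HomogeneousIdeal.mem_irrelevant_of_mem 𝒜 hn hx
        obtain ⟨c, hc, hsum⟩ := Submodule.mem_span_set.mp hx'
        have hxn : x = (decompose 𝒜 x n : A) := (DirectSum.decompose_of_mem_same 𝒜 hx).symm
        rw [hxn, ← hsum, Finsupp.sum, DirectSum.decompose_sum, DFinsupp.finsetSum_apply,
          AddSubmonoidClass.coe_finsetSum]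
        refine Subalgebra.sum_mem _ (fun e he => ?_)
        obtain ⟨d, hd, hed⟩ := hE e (hc he)
        rw [smul_eq_mul, DirectSum.coe_decompose_mul_of_right_mem 𝒜 n hed]
        split_ifs with hdn
        · exact Subalgebra.mul_mem _ (ih (n - d) (Nat.sub_lt hn hd) _ (SetLike.coe_mem _))
            (Algebra.subset_adjoin (hc he))
        · exact Subalgebra.zero_mem _
  · intro h
    refine le_antisymm ?_ hspan_le
    intro x hx
    have key : ∀ y ∈ Algebra.adjoin (𝒜 0) E, ∃ a ∈ 𝒜 0, y - a ∈ Ideal.span E := by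
      intro y hy
      induction hy using Algebra.adjoin_induction with
      | mem e he => exact ⟨0, Submodule.zero_mem _, by simpa using Ideal.subset_span he⟩
      | algebraMap r => exact ⟨r, r.2, by simp [show algebraMap (𝒜 0) A r = (r : A) from rfl]⟩
      | add y z _ _ hy hz =>
        obtain ⟨a, ha, hya⟩ := hy
        obtain ⟨b, hb, hzb⟩ := hz
        refine ⟨a + b, Submodule.add_mem _ ha hb, ?_⟩
        have : y + z - (a + b) = (y - a) + (z - b) := by ring
        rw [this]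
        exact Ideal.add_mem _ hya hzb
      | mul y z _ _ hy hz =>
        obtain ⟨a, ha, hya⟩ := hy
        obtain ⟨b, hb, hzb⟩ := hz
        refine ⟨a * b, by simpa using SetLike.GradedMul.mul_mem ha hb, ?_⟩
        have : y * z - a * b = (y - a) * z + a * (z - b) := by ring
        rw [this]
        exact Ideal.add_mem _ (Ideal.mul_mem_right _ _ hya) (Ideal.mul_mem_left _ _ hzb)
    obtain ⟨a, ha, hxa⟩ := key x (h ▸ Algebra.mem_top)
    have ha' : a ∈ (HomogeneousIdeal.irrelevant 𝒜).toIdeal := by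
      have : a = x - (x - a) := by ring
      rw [this]
      exact Ideal.sub_mem _ hx (hspan_le hxa)
    have ha0 : a = 0 := by
      have h1 : GradedRing.proj 𝒜 0 a = 0 := ha'
      rwa [GradedRing.proj_apply, DirectSum.decompose_of_mem_same 𝒜 ha] at h1
    simpa [ha0] using hxa

theorem exists_finset_homogeneous_span_eq_irrelevant_of_fg
    (h : (HomogeneousIdeal.irrelevant 𝒜).toIdeal.FG) :
    ∃ s : Finset A, (∀ e ∈ s, ∃ d : ℕ, 0 < d ∧ e ∈ 𝒜 d) ∧
      (HomogeneousIdeal.irrelevant 𝒜).toIdeal = Ideal.span (s : Set A) := by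
  classical
  obtain ⟨T, hT⟩ := h
  let s : Finset A := T.biUnion
    (fun t => (decompose 𝒜 t).support.image (fun n => (decompose 𝒜 t n : A)))
  have hs : ∀ e ∈ s, ∃ d : ℕ, 0 < d ∧ e ∈ 𝒜 d := by
    intro e he
    obtain ⟨t, ht, he⟩ := Finset.mem_biUnion.mp he
    obtain ⟨n, hn, rfl⟩ := Finset.mem_image.mp he
    refine ⟨n, Nat.pos_of_ne_zero ?_, SetLike.coe_mem _⟩
    rintro rfl
    have ht' : t ∈ (HomogeneousIdeal.irrelevant 𝒜).toIdeal := hT ▸ Ideal.subset_span ht
    have h0 : (decompose 𝒜 t 0 : A) = 0 := ht'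
    rw [DFinsupp.mem_support_iff] at hn
    exact hn (Subtype.ext h0)
  refine ⟨s, hs, le_antisymm ?_ ?_⟩
  · rw [← hT, Ideal.span_le]
    intro t ht
    rw [← DirectSum.sum_support_decompose 𝒜 t]
    refine Ideal.sum_mem _ (fun n hn => Ideal.subset_span ?_)
    exact Finset.mem_biUnion.mpr ⟨t, ht, Finset.mem_image.mpr ⟨n, hn, rfl⟩⟩
  · rw [Ideal.span_le]
    intro e he
    obtain ⟨d, hd, hed⟩ := hs e he
    exact HomogeneousIdeal.mem_irrelevant_of_mem 𝒜 hd hed

theorem irrelevant_fg_iff_finiteType :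
    (HomogeneousIdeal.irrelevant 𝒜).toIdeal.FG ↔ Algebra.FiniteType (𝒜 0) A := by
  constructor
  · intro h
    obtain ⟨s, hs, hspan⟩ := exists_finset_homogeneous_span_eq_irrelevant_of_fg 𝒜 h
    exact ⟨⟨s, (irrelevant_eq_span_iff_adjoin_eq_top 𝒜 (s : Set A) hs).mp hspan⟩⟩
  · intro h
    obtain ⟨s, hs1, hs2⟩ := GradedAlgebra.exists_finset_adjoin_eq_top_and_homogeneous_ne_zero 𝒜
    have hs : ∀ e ∈ (s : Set A), ∃ d : ℕ, 0 < d ∧ e ∈ 𝒜 d := by
      intro e he
      obtain ⟨n, hn, hen⟩ := hs2 e he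
      exact ⟨n, Nat.pos_of_ne_zero hn, hen⟩
    exact ⟨s, ((irrelevant_eq_span_iff_adjoin_eq_top 𝒜 (s : Set A) hs).mpr hs1).symm⟩

/-- If `S₊ = span E` with `E` homogeneous (degrees given by `deg`), any homogeneous element of
positive degree `m` is a sum of products `a * e` with `e ∈ E` and `a` homogeneous of degree
`m - deg e`. -/
theorem mem_closure_mul_of_irrelevant_eq_span (E : Set A) (deg : A → ℕ)
    (hE : ∀ e ∈ E, 0 < deg e ∧ e ∈ 𝒜 (deg e))
    (h : (HomogeneousIdeal.irrelevant 𝒜).toIdeal = Ideal.span E) {m : ℕ} (hm : 0 < m) {x : A}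
    (hx : x ∈ 𝒜 m) :
    x ∈ AddSubmonoid.closure
      {y | ∃ e ∈ E, ∃ a ∈ 𝒜 (m - deg e), deg e ≤ m ∧ y = a * e} := by
  classical
  have hx' : x ∈ Ideal.span E := h ▸ HomogeneousIdeal.mem_irrelevant_of_mem 𝒜 hm hx
  obtain ⟨c, hc, hsum⟩ := Submodule.mem_span_set.mp hx'
  have hxn : x = (decompose 𝒜 x m : A) := (DirectSum.decompose_of_mem_same 𝒜 hx).symm
  rw [hxn, ← hsum, Finsupp.sum, DirectSum.decompose_sum, DFinsupp.finsetSum_apply,
    AddSubmonoidClass.coe_finsetSum]
  refine AddSubmonoid.sum_mem _ (fun e he => ?_)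
  obtain ⟨hd, hed⟩ := hE e (hc he)
  rw [smul_eq_mul, DirectSum.coe_decompose_mul_of_right_mem 𝒜 m hed]
  split_ifs with hdn
  · exact AddSubmonoid.subset_closure ⟨e, hc he, _, SetLike.coe_mem _, hdn, rfl⟩
  · exact AddSubmonoid.zero_mem _

theorem exists_forall_le_subset_irrelevant_pow [Algebra.FiniteType (𝒜 0) A] (n : ℕ) :
    ∃ m₀ : ℕ, ∀ m : ℕ, m₀ ≤ m →
      (𝒜 m : Set A) ⊆ ((HomogeneousIdeal.irrelevant 𝒜).toIdeal ^ n : Ideal A) := by
  classical
  obtain ⟨s, hs1, hs2⟩ := GradedAlgebra.exists_finset_adjoin_eq_top_and_homogeneous_ne_zero 𝒜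
  have hs : ∀ e ∈ (s : Set A), ∃ d : ℕ, 0 < d ∧ e ∈ 𝒜 d := by
    intro e he
    obtain ⟨n, hn, hen⟩ := hs2 e he
    exact ⟨n, Nat.pos_of_ne_zero hn, hen⟩
  have hspan := (irrelevant_eq_span_iff_adjoin_eq_top 𝒜 (s : Set A) hs).mpr hs1
  choose! deg hdeg using hs
  set D : ℕ := s.sup deg ⊔ 1 with hD
  have hDpos : 0 < D := lt_of_lt_of_le Nat.one_pos le_sup_right
  have hdegD : ∀ e ∈ s, deg e ≤ D := fun e he => (Finset.le_sup he).trans le_sup_left
  refine ⟨n * D, ?_⟩
  induction n with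
  | zero => intro m _ x _; simp
  | succ n ih =>
    intro m hm x hx
    have hmpos : 0 < m := lt_of_lt_of_le (Nat.mul_pos (Nat.succ_pos n) hDpos) hm
    have hmem := mem_closure_mul_of_irrelevant_eq_span 𝒜 (s : Set A) deg hdeg hspan hmpos hx
    clear hx
    show x ∈ ((HomogeneousIdeal.irrelevant 𝒜).toIdeal ^ (n + 1) : Ideal A)
    induction hmem using AddSubmonoid.closure_induction with
    | mem y hy =>
      obtain ⟨e, he, a, ha, hle, rfl⟩ := hy
      rw [pow_succ]
      refine Ideal.mul_mem_mul (ih (m - deg e) ?_ ha) ?_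
      · have := hdegD e he
        have h1 : (n + 1) * D = n * D + D := by ring
        omega
      · exact HomogeneousIdeal.mem_irrelevant_of_mem 𝒜 (hdeg e he).1 (hdeg e he).2
    | zero => exact Ideal.zero_mem _
    | add y z _ _ hy hz => exact Ideal.add_mem _ hy hz

end Groth.Agent.H22
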