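import Mathlib.RingTheory.GradedAlgebra.Radical
import Mathlib.RingTheory.GradedAlgebra.Homogeneous.Ideal

set_option autoImplicit false
universe u

namespace Groth.Agent.H22

open DirectSum

section

variable {R A : Type u} [CommRing R] [CommRing A] [Algebra R A]
variable (𝒜 : ℕ → Submodule R A) [GradedAlgebra 𝒜]

/-- The ideal of those `x` all of whose homogeneous components `x_m` satisfy `f * x_m ∈ p (d + m)`. -/
def tailIdeal (p : ℕ → AddSubgroup A) (d : ℕ) (f : A) (hf : f ∈ 𝒜 d)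
    (h1 : ∀ m n : ℕ, d ≤ n → ∀ a ∈ 𝒜 m, ∀ b ∈ p n, a * b ∈ p (m + n)) : Ideal A where
  carrier := {x | ∀ m, f * (decompose 𝒜 x m : A) ∈ p (d + m)}
  zero_mem' := by
    intro m
    simp
  add_mem' := by
    intro x y hx hy m
    rw [decompose_add, add_apply, Submodule.coe_add, mul_add]
    exact (p (d + m)).add_mem (hx m) (hy m)
  smul_mem' := by
    classical
    intro c x hx
    induction c using DirectSum.Decomposition.inductionOn 𝒜 with
    | zero =>
      intro m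
      simp
    | homogeneous c =>
      rename_i k
      intro m
      rw [smul_eq_mul]
      by_cases hkm : k ≤ m
      · rw [coe_decompose_mul_of_left_mem_of_le 𝒜 c.2 hkm]
        have := h1 k (d + (m - k)) (Nat.le_add_right _ _) c c.2 _ (hx (m - k))
        rw [show k + (d + (m - k)) = d + m by omega] at this
        rw [mul_left_comm]
        exact this
      · rw [coe_decompose_mul_of_left_mem_of_not_le 𝒜 c.2 hkm, mul_zero]
        exact (p (d + m)).zero_mem
    | add c c' hc hc' =>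
      intro m
      rw [add_smul, decompose_add, add_apply, Submodule.coe_add, mul_add]
      exact (p (d + m)).add_mem (hc m) (hc' m)

variable {𝒜}

theorem mem_tailIdeal_iff (p : ℕ → AddSubgroup A) (d : ℕ) (f : A) (hf : f ∈ 𝒜 d)
    (h1 : ∀ m n : ℕ, d ≤ n → ∀ a ∈ 𝒜 m, ∀ b ∈ p n, a * b ∈ p (m + n)) (x : A) :
    x ∈ tailIdeal 𝒜 p d f hf h1 ↔ ∀ m, f * (decompose 𝒜 x m : A) ∈ p (d + m) := Iff.rfl

theorem mem_tailIdeal_of_mem (p : ℕ → AddSubgroup A) (d : ℕ) (f : A) (hf : f ∈ 𝒜 d)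
    (h1 : ∀ m n : ℕ, d ≤ n → ∀ a ∈ 𝒜 m, ∀ b ∈ p n, a * b ∈ p (m + n)) {x : A} {m : ℕ}
    (hx : x ∈ 𝒜 m) :
    x ∈ tailIdeal 𝒜 p d f hf h1 ↔ f * x ∈ p (d + m) := by
  classical
  rw [mem_tailIdeal_iff]
  constructor
  · intro h
    have := h m
    rwa [decompose_of_mem_same 𝒜 hx] at this
  · intro h k
    by_cases hk : k = m
    · subst hk
      rwa [decompose_of_mem_same 𝒜 hx]
    · rw [decompose_of_mem_ne 𝒜 hx (Ne.symm hk), mul_zero]
      exact (p (d + k)).zero_mem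

theorem tailIdeal_isHomogeneous (p : ℕ → AddSubgroup A) (d : ℕ) (f : A) (hf : f ∈ 𝒜 d)
    (h1 : ∀ m n : ℕ, d ≤ n → ∀ a ∈ 𝒜 m, ∀ b ∈ p n, a * b ∈ p (m + n)) :
    (tailIdeal 𝒜 p d f hf h1).IsHomogeneous 𝒜 := by
  intro i x hx
  rw [mem_tailIdeal_of_mem p d f hf h1 (Subtype.prop _)]
  exact hx i

end

end Groth.Agent.H22
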