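import Groth.Agent.H22.Graded
import Mathlib.Algebra.Group.Submonoid.Finsupp
import Mathlib.Algebra.Module.GradedModule

set_option autoImplicit false
universe u

namespace Groth.Agent.H22

open DirectSum

section

variable {R A : Type u} [CommRing R] [CommRing A] [Algebra R A]
variable (𝒜 : ℕ → Submodule R A) [GradedAlgebra 𝒜]

/-- Every homogeneous element of degree `N` is an `𝒜 0`-combination of monomials of degree `N` in a
finite family of homogeneous algebra generators. -/
theorem mem_span_monomials {ι' : Type*} [Fintype ι'] (v : ι' → A)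
    (hs1 : Algebra.adjoin (𝒜 0) (Set.range v) = ⊤)
    (dv : ι' → ℕ) (hdv : ∀ i, v i ∈ 𝒜 (dv i)) (N : ℕ) (x : A) (hx : x ∈ 𝒜 N) :
    x ∈ Submodule.span (𝒜 0)
      {y | ∃ ai : ι' → ℕ, ∑ i, ai i * dv i = N ∧ y = ∏ i, v i ^ ai i} := by
  classical
  have hmem : x ∈ Submodule.span (𝒜 0) (Submonoid.closure (Set.range v) : Set A) := by
    rw [← Algebra.adjoin_eq_span, hs1]
    trivial
  rw [← decompose_of_mem_same 𝒜 hx]
  clear hx
  induction hmem using Submodule.span_induction with
  | mem z hz =>
    obtain ⟨ai, rfl⟩ := Submonoid.exists_of_mem_closure_range _ _ hz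
    have hdeg : (∏ i, v i ^ ai i) ∈ 𝒜 (∑ i, ai i • dv i) :=
      SetLike.prod_pow_mem_graded _ _ _ _ fun i _ => hdv i
    by_cases H : ∑ i, ai i • dv i = N
    · rw [decompose_of_mem_same 𝒜 (H ▸ hdeg)]
      exact Submodule.subset_span ⟨ai, by simpa using H, rfl⟩
    · rw [decompose_of_mem_ne 𝒜 hdeg H]
      exact Submodule.zero_mem _
  | zero => simp
  | add y z _ _ hy hz =>
    rw [decompose_add, add_apply, Submodule.coe_add]
    exact Submodule.add_mem _ hy hz
  | smul r y _ hy =>
    have : r • y = (r : A) * y := by rw [Algebra.smul_def]; rfl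
    rw [this, coe_decompose_mul_of_left_mem_zero 𝒜 r.2]
    have h2 : (r : A) * (decompose 𝒜 y N : A) = r • (decompose 𝒜 y N : A) := by
      rw [Algebra.smul_def]; rfl
    rw [h2]
    exact Submodule.smul_mem _ r hy

/-- `𝒜 0 • (𝒜 h * 𝒜 n) ⊆ 𝒜 h * 𝒜 n`. -/
theorem smul_mem_mul_graded {h n : ℕ} (r : 𝒜 0) {z : A} (hz : z ∈ (𝒜 h * 𝒜 n : Submodule R A)) :
    (r : A) * z ∈ (𝒜 h * 𝒜 n : Submodule R A) := by
  refine Submodule.mul_induction_on hz ?_ ?_
  · intro a ha b hb
    rw [← mul_assoc]
    refine Submodule.mul_mem_mul ?_ hb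
    have := SetLike.mul_mem_graded r.2 ha
    rwa [zero_add] at this
  · intro y z hy hz
    rw [mul_add]
    exact Submodule.add_mem _ hy hz

/-- For a finite type graded ring there are `n₀` and `h > 0` with `𝒜 (n + h) = 𝒜 h * 𝒜 n` for `n ≥ n₀`. -/
theorem exists_graded_shift_le [Algebra.FiniteType (𝒜 0) A] :
    ∃ n₀ h : ℕ, 0 < h ∧ ∀ n : ℕ, n₀ ≤ n → 𝒜 (n + h) ≤ (𝒜 h * 𝒜 n : Submodule R A) := by
  classical
  obtain ⟨s, hs1, hs2⟩ := GradedAlgebra.exists_finset_adjoin_eq_top_and_homogeneous_ne_zero 𝒜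
  choose! dv' hdv0' hdv' using hs2
  let v : s → A := fun i => (i : A)
  let dv : s → ℕ := fun i => dv' (i : A)
  have hdv0 : ∀ i, dv i ≠ 0 := fun i => hdv0' i i.2
  have hdv : ∀ i, v i ∈ 𝒜 (dv i) := fun i => hdv' i i.2
  have hrange : Set.range v = (s : Set A) := Subtype.range_coe
  let h : ℕ := ∏ i, dv i
  have hpos : 0 < h := Finset.prod_pos fun i _ => Nat.pos_of_ne_zero (hdv0 i)
  have hk : ∀ i, (h / dv i) * dv i = h := fun i =>
    Nat.div_mul_cancel (Finset.dvd_prod_of_mem dv (Finset.mem_univ i))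
  refine ⟨Fintype.card s * h, h, hpos, ?_⟩
  intro n hn x hx
  have hx' := mem_span_monomials 𝒜 v (hrange ▸ hs1) dv hdv (n + h) x hx
  clear hx
  induction hx' using Submodule.span_induction with
  | mem y hy =>
    obtain ⟨ai, hsum, rfl⟩ := hy
    -- some exponent is large
    obtain ⟨i, hi⟩ : ∃ i : s, h / dv i ≤ ai i := by
      by_contra hcon
      push Not at hcon
      have hlt : ∀ i : s, ai i * dv i ≤ h := by
        intro i
        have := hcon i
        calc ai i * dv i ≤ (h / dv i) * dv i := Nat.mul_le_mul_right _ this.le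
          _ = h := hk i
      have : ∑ i : s, ai i * dv i ≤ ∑ _i : s, h := Finset.sum_le_sum fun i _ => hlt i
      rw [Finset.sum_const, Finset.card_univ, smul_eq_mul] at this
      omega
    -- split the monomial
    let ai' : s → ℕ := Function.update ai i (ai i - h / dv i)
    have hsplit : ∏ j, v j ^ ai j = v i ^ (h / dv i) * ∏ j, v j ^ ai' j := by
      have h1 : ∀ j, v j ^ ai j = (if j = i then v i ^ (h / dv i) else 1) * v j ^ ai' j := by
        intro j
        by_cases hj : j = i
        · subst hj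
          simp only [ai', Function.update_self, if_true, ← pow_add]
          congr 1
          omega
        · simp [ai', hj]
      rw [Finset.prod_congr rfl fun j _ => h1 j, Finset.prod_mul_distrib, Finset.prod_ite_eq']
      simp
    have hA : v i ^ (h / dv i) ∈ 𝒜 h := by
      have := SetLike.pow_mem_graded (h / dv i) (hdv i)
      rwa [smul_eq_mul, hk i] at this
    have hB : (∏ j, v j ^ ai' j) ∈ 𝒜 n := by
      have hdeg : (∏ j, v j ^ ai' j) ∈ 𝒜 (∑ j, ai' j • dv j) :=
        SetLike.prod_pow_mem_graded _ _ _ _ fun j _ => hdv j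
      have hs' : ∑ j, ai' j • dv j = n := by
        have h2 : ∀ j, ai j * dv j = (if j = i then h else 0) + ai' j • dv j := by
          intro j
          by_cases hj : j = i
          · subst hj
            simp only [ai', Function.update_self, if_true, smul_eq_mul]
            have e1 : ai j = h / dv j + (ai j - h / dv j) := by omega
            calc ai j * dv j = (h / dv j + (ai j - h / dv j)) * dv j := by rw [← e1]
              _ = h + (ai j - h / dv j) * dv j := by rw [add_mul, hk j]
          · simp [ai', hj]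
        rw [Finset.sum_congr rfl fun j _ => h2 j, Finset.sum_add_distrib, Finset.sum_ite_eq'] at hsum
        simp only [Finset.mem_univ, if_true] at hsum
        omega
      rwa [hs'] at hdeg
    rw [hsplit]
    exact Submodule.mul_mem_mul hA hB
  | zero => exact Submodule.zero_mem _
  | add y z _ _ hy hz => exact Submodule.add_mem _ hy hz
  | smul r y _ hy =>
    have : r • y = (r : A) * y := by rw [Algebra.smul_def]; rfl
    rw [this]
    exact smul_mem_mul_graded 𝒜 r hy

end

end Groth.Agent.H22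

namespace Groth.Agent.H22

open DirectSum

section Module

variable {R A : Type u} [CommRing R] [CommRing A] [Algebra R A]
variable (𝒜 : ℕ → Submodule R A) [GradedAlgebra 𝒜]
variable {M : Type u} [AddCommGroup M] [Module R M] [Module A M] [IsScalarTower R A M]
variable (ℳ : ℕ → Submodule R M) [DirectSum.Decomposition ℳ] [SetLike.GradedSMul 𝒜 ℳ]

theorem graded_smul_mem {i j : ℕ} {a : A} {m : M} (ha : a ∈ 𝒜 i) (hm : m ∈ ℳ j) :
    a • m ∈ ℳ (i + j) :=
  SetLike.GradedSMul.smul_mem ha hm

/-- The homogeneous components of `a • z` for homogeneous `a`. -/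
theorem decompose_smul_of_mem {k : ℕ} {a : A} (ha : a ∈ 𝒜 k) (z : M) (N : ℕ) :
    (decompose ℳ (a • z) N : M) = if k ≤ N then a • (decompose ℳ z (N - k) : M) else 0 := by
  classical
  induction z using DirectSum.Decomposition.inductionOn ℳ with
  | zero => simp
  | homogeneous z =>
    rename_i l
    have hz : a • (z : M) ∈ ℳ (k + l) := graded_smul_mem 𝒜 ℳ ha z.2
    by_cases hkN : k ≤ N
    · rw [if_pos hkN]
      by_cases hl : l = N - k
      · subst hl
        have hN : k + (N - k) = N := by omega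
        have hz' : a • (z : M) ∈ ℳ N := by rw [hN] at hz; exact hz
        rw [decompose_of_mem_same ℳ hz', decompose_of_mem_same ℳ z.2]
      · have : k + l ≠ N := by omega
        rw [decompose_of_mem_ne ℳ hz this, decompose_of_mem_ne ℳ z.2 hl, smul_zero]
    · rw [if_neg hkN]
      have : k + l ≠ N := by omega
      rw [decompose_of_mem_ne ℳ hz this]
  | add y z hy hz =>
    rw [smul_add, decompose_add, add_apply, Submodule.coe_add, hy, hz]
    split_ifs
    · rw [decompose_add, add_apply, Submodule.coe_add, smul_add]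
    · simp

/-- The additive span of the elements `a • t` of degree `N`. -/
def genPiece (T : Set M) (e : M → ℕ) (N : ℕ) : AddSubmonoid M :=
  AddSubmonoid.closure {y | ∃ t ∈ T, ∃ a ∈ 𝒜 (N - e t), e t ≤ N ∧ y = a • t}

omit [DirectSum.Decomposition ℳ] [SetLike.GradedSMul 𝒜 ℳ] [IsScalarTower R A M] [Module R M] in
theorem smul_mem_genPiece (T : Set M) (e : M → ℕ) {k N : ℕ} (hkN : k ≤ N) {a : A} (ha : a ∈ 𝒜 k)
    {y : M} (hy : y ∈ genPiece 𝒜 T e (N - k)) : a • y ∈ genPiece 𝒜 T e N := by
  induction hy using AddSubmonoid.closure_induction with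
  | mem y hy =>
    obtain ⟨t, ht, b, hb, hle, rfl⟩ := hy
    refine AddSubmonoid.subset_closure ⟨t, ht, a * b, ?_, by omega, by rw [mul_smul]⟩
    have := SetLike.mul_mem_graded ha hb
    rwa [show k + (N - k - e t) = N - e t by omega] at this
  | zero => rw [smul_zero]; exact AddSubmonoid.zero_mem _
  | add y z _ _ hy hz => rw [smul_add]; exact AddSubmonoid.add_mem _ hy hz

/-- Graded pieces of a module generated by homogeneous elements. -/
theorem decompose_mem_genPiece (T : Set M) (e : M → ℕ) (hT : ∀ t ∈ T, t ∈ ℳ (e t))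
    {z : M} (hz : z ∈ Submodule.span A T) (N : ℕ) :
    (decompose ℳ z N : M) ∈ genPiece 𝒜 T e N := by
  classical
  induction hz using Submodule.span_induction generalizing N with
  | mem t ht =>
    by_cases hN : e t = N
    · rw [decompose_of_mem_same ℳ (hN ▸ hT t ht)]
      refine AddSubmonoid.subset_closure ⟨t, ht, 1, ?_, hN.le, by rw [one_smul]⟩
      rw [← hN, Nat.sub_self]
      exact SetLike.GradedOne.one_mem (A := 𝒜)
    · rw [decompose_of_mem_ne ℳ (hT t ht) hN]
      exact AddSubmonoid.zero_mem _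
  | zero => simp
  | add y z _ _ hy hz =>
    rw [decompose_add, add_apply, Submodule.coe_add]
    exact AddSubmonoid.add_mem _ (hy N) (hz N)
  | smul a z _ hz =>
    induction a using DirectSum.Decomposition.inductionOn 𝒜 generalizing N with
    | zero => simp
    | homogeneous a =>
      rename_i k
      rw [decompose_smul_of_mem 𝒜 ℳ a.2 z N]
      split_ifs with hkN
      · exact smul_mem_genPiece 𝒜 T e hkN a.2 (hz (N - k))
      · exact AddSubmonoid.zero_mem _
    | add a b ha hb =>
      rw [add_smul, decompose_add, add_apply, Submodule.coe_add]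
      exact AddSubmonoid.add_mem _ (ha N) (hb N)

omit [GradedAlgebra 𝒜] [SetLike.GradedSMul 𝒜 ℳ] [IsScalarTower R A M] in
/-- A finitely generated graded module has a finite set of homogeneous generators. -/
theorem exists_homogeneous_generators [Module.Finite A M] :
    ∃ (T : Finset M) (e : M → ℕ), (∀ t ∈ T, t ∈ ℳ (e t)) ∧ Submodule.span A (T : Set M) = ⊤ := by
  classical
  obtain ⟨S, hS⟩ := (Module.Finite.fg_top : (⊤ : Submodule A M).FG)
  let T : Finset M := S.biUnion fun t => (decompose ℳ t).support.image fun k => (decompose ℳ t k : M)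
  have hThom : ∀ t ∈ T, ∃ k, t ∈ ℳ k := by
    intro t ht
    obtain ⟨s, -, hs⟩ := Finset.mem_biUnion.mp ht
    obtain ⟨k, -, rfl⟩ := Finset.mem_image.mp hs
    exact ⟨k, Subtype.prop _⟩
  choose! e he using hThom
  refine ⟨T, e, he, ?_⟩
  rw [eq_top_iff, ← hS, Submodule.span_le]
  intro s hs
  rw [SetLike.mem_coe, ← DirectSum.sum_support_decompose ℳ s]
  refine Submodule.sum_mem _ fun k hk => Submodule.subset_span ?_
  exact Finset.mem_biUnion.mpr ⟨s, hs, Finset.mem_image.mpr ⟨k, hk, rfl⟩⟩

/-- EGA II 2.1.6 (ii): eventually `ℳ (n + h) = 𝒜 h • ℳ n`. -/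
theorem exists_graded_module_shift [Algebra.FiniteType (𝒜 0) A] [Module.Finite A M] :
    ∃ (n₁ h : ℕ), 0 < h ∧ ∀ n : ℕ, n₁ ≤ n →
      ℳ (n + h) = (𝒜 h : Submodule R A) • (ℳ n : Submodule R M) := by
  classical
  obtain ⟨n₀, h, hpos, hshift⟩ := exists_graded_shift_le 𝒜
  obtain ⟨T, e, he, hT⟩ := exists_homogeneous_generators (A := A) ℳ
  let D : ℕ := T.sup e
  refine ⟨n₀ + D, h, hpos, fun n hn => le_antisymm ?_ ?_⟩
  · intro x hx
    have hx' : x ∈ Submodule.span A (T : Set M) := hT ▸ Submodule.mem_top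
    have key := decompose_mem_genPiece 𝒜 ℳ (T : Set M) e he hx' (n + h)
    rw [decompose_of_mem_same ℳ hx] at key
    clear hx hx'
    induction key using AddSubmonoid.closure_induction with
    | mem y hy =>
      obtain ⟨t, ht, a, ha, hle, rfl⟩ := hy
      have hetD : e t ≤ D := Finset.le_sup (f := e) ht
      have ha' : a ∈ (𝒜 h * 𝒜 (n - e t) : Submodule R A) := by
        apply hshift (n - e t) (by omega)
        rwa [show n - e t + h = n + h - e t by omega]
      refine Submodule.mul_induction_on ha' ?_ ?_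
      · intro b hb c hc
        rw [mul_smul]
        refine Submodule.smul_mem_smul hb ?_
        have := graded_smul_mem 𝒜 ℳ hc (he t ht)
        rwa [show n - e t + e t = n by omega] at this
      · intro b c hb hc
        rw [add_smul]
        exact Submodule.add_mem _ hb hc
    | zero => exact Submodule.zero_mem _
    | add y z _ _ hy hz => exact Submodule.add_mem _ hy hz
  · rw [Submodule.smul_le]
    intro a ha m hm
    have := graded_smul_mem 𝒜 ℳ ha hm
    rwa [add_comm] at this

end Module

end Groth.Agent.H22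

namespace Groth.Agent.H22

section Pow

variable {R A : Type u} [CommRing R] [CommRing A] [Algebra R A]
variable (𝒜 : ℕ → Submodule R A) [GradedAlgebra 𝒜]

theorem graded_mul_le (i j : ℕ) : (𝒜 i * 𝒜 j : Submodule R A) ≤ 𝒜 (i + j) := by
  rw [Submodule.mul_le]
  intro a ha b hb
  exact SetLike.mul_mem_graded ha hb

theorem graded_pow_le (h m : ℕ) : ((𝒜 h : Submodule R A) ^ m) ≤ 𝒜 (m * h) := by
  induction m with
  | zero =>
    rw [pow_zero, zero_mul, Submodule.one_le]
    exact SetLike.GradedOne.one_mem (A := 𝒜)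
  | succ m ih =>
    rw [pow_succ, Nat.succ_mul]
    exact (mul_le_mul' ih le_rfl).trans (graded_mul_le 𝒜 _ _)

/-- EGA II 2.1.6 (v): there is `h > 0` with `𝒜 (m * h) = (𝒜 h)^m` for all `m > 0`. -/
theorem exists_graded_pow_eq [Algebra.FiniteType (𝒜 0) A] :
    ∃ h : ℕ, 0 < h ∧ ∀ m : ℕ, 0 < m → 𝒜 (m * h) = (𝒜 h : Submodule R A) ^ m := by
  obtain ⟨n₀, h₀, hpos, hshift⟩ := exists_graded_shift_le 𝒜
  -- iterate the shift
  have hiter : ∀ j n : ℕ, n₀ ≤ n → 𝒜 (n + j * h₀) ≤ ((𝒜 h₀ : Submodule R A) ^ j * 𝒜 n : Submodule R A) := by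
    intro j
    induction j with
    | zero =>
      intro n _
      rw [zero_mul, add_zero, pow_zero, one_mul]
    | succ j ih =>
      intro n hn
      have h1 : 𝒜 (n + (j + 1) * h₀) ≤ (𝒜 h₀ * 𝒜 (n + j * h₀) : Submodule R A) := by
        have := hshift (n + j * h₀) (by omega)
        rwa [show n + j * h₀ + h₀ = n + (j + 1) * h₀ by ring] at this
      refine h1.trans ?_
      rw [pow_succ', mul_assoc]
      exact mul_le_mul' le_rfl (ih n hn)
  let k := n₀ + 1
  let h := k * h₀
  have hh : 0 < h := Nat.mul_pos (Nat.succ_pos _) hpos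
  have hn₀h : n₀ ≤ h := by
    calc n₀ ≤ k := Nat.le_succ _
      _ = k * 1 := (mul_one k).symm
      _ ≤ k * h₀ := Nat.mul_le_mul_left k hpos
  have hshift' : ∀ n : ℕ, n₀ ≤ n → 𝒜 (n + h) ≤ (𝒜 h * 𝒜 n : Submodule R A) := by
    intro n hn
    refine (hiter k n hn).trans ?_
    exact mul_le_mul' (graded_pow_le 𝒜 h₀ k) le_rfl
  refine ⟨h, hh, ?_⟩
  intro m hm
  induction m with
  | zero => exact absurd hm (lt_irrefl 0)
  | succ m ih =>
    rcases Nat.eq_zero_or_pos m with rfl | hm'
    · rw [zero_add, one_mul, pow_one]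
    · refine le_antisymm ?_ (graded_pow_le 𝒜 h (m + 1))
      have h1 : 𝒜 ((m + 1) * h) ≤ (𝒜 h * 𝒜 (m * h) : Submodule R A) := by
        have := hshift' (m * h) (hn₀h.trans (Nat.le_mul_of_pos_left h hm'))
        rwa [show m * h + h = (m + 1) * h by ring] at this
      rw [pow_succ', ← ih hm']
      exact h1

end Pow

end Groth.Agent.H22
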