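import Mathlib.AlgebraicGeometry.Morphisms.Proper
import Mathlib.AlgebraicGeometry.Morphisms.Immersion
import Mathlib.AlgebraicGeometry.IdealSheaf.Functorial
import Mathlib.AlgebraicGeometry.Noetherian
import Mathlib.AlgebraicGeometry.PullbackCarrier

set_option autoImplicit false
universe u
open CategoryTheory CategoryTheory.Limits AlgebraicGeometry TopologicalSpace

namespace Groth.Agent.H22.GraphClosure

/-- Closure of the graph: a morphism `f : U ⟶ Y` from an open of `X` into a proper `S`-scheme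
extends after replacing `X` by a proper modification which is an isomorphism over `U`, provided
the graph morphism is quasi-compact. -/
theorem exists_proper_modification {X Y S : Scheme.{u}} (a : X ⟶ S) (b : Y ⟶ S)
    [IsProper b] (U : X.Opens) (f : (U : Scheme.{u}) ⟶ Y) (hf : f ≫ b = U.ι ≫ a)
    [QuasiCompact (pullback.lift U.ι f hf.symm : (U : Scheme.{u}) ⟶ pullback a b)] :
    ∃ (X' : Scheme.{u}) (p : X' ⟶ X) (f' : X' ⟶ Y), IsProper p ∧ IsIso (p ∣_ U) ∧ f' ≫ b = p ≫ a ∧
      (p ⁻¹ᵁ U).ι ≫ f' = (p ∣_ U) ≫ f := by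
  -- the graph
  let Γ : (U : Scheme.{u}) ⟶ pullback a b := pullback.lift U.ι f hf.symm
  let γ : (U : Scheme.{u}) ⟶ pullback (U.ι ≫ a) b := pullback.lift (𝟙 _) f (by simp [hf])
  let m : pullback (U.ι ≫ a) b ⟶ pullback a b :=
    pullback.map _ _ _ _ U.ι (𝟙 Y) (𝟙 S) (by simp) (by simp)
  have hm : IsOpenImmersion m := inferInstance
  have hγfst : γ ≫ pullback.fst (U.ι ≫ a) b = 𝟙 _ := pullback.lift_fst _ _ _
  have hγsnd : γ ≫ pullback.snd (U.ι ≫ a) b = f := pullback.lift_snd _ _ _
  have hmfst : m ≫ pullback.fst a b = pullback.fst (U.ι ≫ a) b ≫ U.ι := pullback.lift_fst _ _ _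
  have hmsnd : m ≫ pullback.snd a b = pullback.snd (U.ι ≫ a) b ≫ 𝟙 Y := pullback.lift_snd _ _ _
  have hΓfst : Γ ≫ pullback.fst a b = U.ι := pullback.lift_fst _ _ _
  have hΓsnd : Γ ≫ pullback.snd a b = f := pullback.lift_snd _ _ _
  have hγm : γ ≫ m = Γ := by
    apply pullback.hom_ext
    · rw [Category.assoc, hmfst, reassoc_of% hγfst, hΓfst]
    · rw [Category.assoc, hmsnd, reassoc_of% hγsnd, hΓsnd, Category.comp_id]
  have hγci : IsClosedImmersion γ := by
    have : IsClosedImmersion (γ ≫ pullback.fst (U.ι ≫ a) b) := by rw [hγfst]; infer_instance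
    exact IsClosedImmersion.of_comp γ (pullback.fst (U.ι ≫ a) b)
  have hΓimm : IsImmersion Γ := by rw [← hγm]; infer_instance
  have hrangem : Set.range m = pullback.fst a b ⁻¹' (U : Set X) := by
    rw [Scheme.Pullback.range_map]
    simp only [Scheme.Opens.range_ι, Scheme.Hom.id_base, TopCat.hom_id, ContinuousMap.coe_id,
      Set.range_id, Set.preimage_univ, Set.inter_univ]
  -- the scheme-theoretic image
  let X' : Scheme.{u} := Γ.image
  let ι : X' ⟶ pullback a b := Γ.imageι
  let j : (U : Scheme.{u}) ⟶ X' := Γ.toImage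
  have hjι : j ≫ ι = Γ := Γ.toImage_imageι
  have hj : IsOpenImmersion j := inferInstance
  have hrangeι : Set.range ι = closure (Set.range Γ) := by
    rw [Scheme.IdealSheafData.range_subschemeι, Scheme.Hom.support_ker]
  let p : X' ⟶ X := ι ≫ pullback.fst a b
  let f' : X' ⟶ Y := ι ≫ pullback.snd a b
  have hjp : j ≫ p = U.ι := by
    simp only [p, ← Category.assoc, hjι]
    exact hΓfst
  have hjf' : j ≫ f' = f := by
    simp only [f', ← Category.assoc, hjι]
    exact hΓsnd
  -- range of `j`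
  have hrangej : Set.range j = (p ⁻¹ᵁ U : Set X') := by
    apply subset_antisymm
    · rintro _ ⟨u, rfl⟩
      show p (j u) ∈ U
      rw [← Scheme.Hom.comp_apply, hjp]
      exact u.2
    · intro x' hx'
      have h1 : ι x' ∈ closure (Set.range Γ) := by rw [← hrangeι]; exact ⟨x', rfl⟩
      have h2 : ι x' ∈ Set.range m := by
        rw [hrangem]
        exact hx'
      obtain ⟨t, ht⟩ := h2
      have h3 : t ∈ m ⁻¹' closure (Set.range Γ) := by
        rw [Set.mem_preimage, ht]; exact h1
      rw [m.isOpenEmbedding.isOpenMap.preimage_closure_eq_closure_preimage m.continuous] at h3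
      have h4 : m ⁻¹' Set.range Γ = Set.range γ := by
        ext w
        constructor
        · rintro ⟨u, hu⟩
          refine ⟨u, m.isOpenEmbedding.injective ?_⟩
          rw [← Scheme.Hom.comp_apply, hγm]
          exact hu
        · rintro ⟨u, rfl⟩
          exact ⟨u, by rw [← hγm]; rfl⟩
      rw [h4, γ.isClosedEmbedding.isClosed_range.closure_eq] at h3
      obtain ⟨u, rfl⟩ := h3
      refine ⟨u, ι.isClosedEmbedding.injective ?_⟩
      rw [← Scheme.Hom.comp_apply, hjι, ← ht, ← Scheme.Hom.comp_apply, hγm]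
  let e : (U : Scheme.{u}) ≅ (p ⁻¹ᵁ U : X'.Opens) :=
    IsOpenImmersion.isoOfRangeEq j (p ⁻¹ᵁ U).ι (by rw [hrangej, Scheme.Opens.range_ι])
  have he : e.hom ≫ (p ⁻¹ᵁ U).ι = j := IsOpenImmersion.isoOfRangeEq_hom_fac _ _ _
  have hep : e.hom ≫ (p ∣_ U) = 𝟙 _ := by
    rw [← cancel_mono U.ι, Category.assoc, morphismRestrict_ι, reassoc_of% he, hjp,
      Category.id_comp]
  have hpe : p ∣_ U = e.inv := by
    rw [← cancel_epi e.hom, hep, e.hom_inv_id]
  refine ⟨X', p, f', ?_, ?_, ?_, ?_⟩
  · infer_instance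
  · rw [hpe]; infer_instance
  · simp only [f', p, Category.assoc, pullback.condition]
  · rw [← cancel_epi e.hom, reassoc_of% he, hjf', reassoc_of% hep]

end Groth.Agent.H22.GraphClosure
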