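import Groth.Agent.H6.Hartogs

/-!
# Sections of affine morphisms extend across closed subsets of depth ≥ 2 (helper22)
-/

set_option autoImplicit false
universe u

namespace Groth.Agent.H22.HartogsSection

open AlgebraicGeometry CategoryTheory Limits

/-- Depth of stalks is invariant under open immersions. -/
theorem depth_of_isOpenImmersion {W X : Scheme.{u}} [IsLocallyNoetherian X] (j : W ⟶ X)
    [IsOpenImmersion j] (w : W) :
    LocCoh.depth (W.presheaf.stalk w) (W.presheaf.stalk w) =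
      LocCoh.depth (X.presheaf.stalk (j w)) (X.presheaf.stalk (j w)) := by
  have : IsIso (j.stalkMap w) := inferInstance
  exact (Groth.Agent.H49.FibreDepth.depth_eq_of_ringEquiv
    (asIso (j.stalkMap w)).commRingCatIsoToRingEquiv).symm

variable {X P : Scheme.{u}} [IsLocallyNoetherian X] (U : X.Opens)
  (hU : ∀ x : X, x ∉ U → (2 : ℕ∞) ≤ LocCoh.depth (X.presheaf.stalk x) (X.presheaf.stalk x))
  (p : P ⟶ X) [IsAffineHom p]

include hU in
/-- Uniqueness: two lifts of an open immersion `j : W ⟶ X` to `P` which agree over `U` agree. -/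
theorem lift_unique {W : Scheme.{u}} (j : W ⟶ X) [IsOpenImmersion j] (a b : W ⟶ P)
    (ha : a ≫ p = j) (hb : b ≫ p = j) (hab : (j ⁻¹ᵁ U).ι ≫ a = (j ⁻¹ᵁ U).ι ≫ b) : a = b := by
  refine Scheme.Cover.hom_ext (X.affineCover.pullback₁ j) _ _ fun i => ?_
  change pullback.fst j (X.affineCover.f i) ≫ a = pullback.fst j (X.affineCover.f i) ≫ b
  let c := X.affineCover.f i
  let Wi := pullback j c
  let Pi := pullback p c
  haveI : IsAffine Pi := isAffine_of_isAffineHom (pullback.snd p c)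
  haveI : IsLocallyNoetherian Wi := isLocallyNoetherian_of_isOpenImmersion (pullback.fst j c ≫ j)
  let a' : Wi ⟶ Pi := pullback.lift (pullback.fst j c ≫ a) (pullback.snd j c)
    (by rw [Category.assoc, ha, pullback.condition])
  let b' : Wi ⟶ Pi := pullback.lift (pullback.fst j c ≫ b) (pullback.snd j c)
    (by rw [Category.assoc, hb, pullback.condition])
  let U' : Wi.Opens := (pullback.fst j c ≫ j) ⁻¹ᵁ U
  have hU' : ∀ w : Wi, w ∉ U' → (2 : ℕ∞) ≤ LocCoh.depth (Wi.presheaf.stalk w)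
      (Wi.presheaf.stalk w) := by
    intro w hw
    rw [depth_of_isOpenImmersion (pullback.fst j c ≫ j) w]
    exact hU _ hw
  have hfac : ∃ t : (U' : Scheme.{u}) ⟶ (j ⁻¹ᵁ U : Scheme.{u}),
      t ≫ (j ⁻¹ᵁ U).ι = U'.ι ≫ pullback.fst j c := by
    refine ⟨IsOpenImmersion.lift (j ⁻¹ᵁ U).ι (U'.ι ≫ pullback.fst j c) ?_,
      IsOpenImmersion.lift_fac _ _ _⟩
    rintro _ ⟨z, rfl⟩
    rw [Scheme.Opens.range_ι]
    exact z.2
  obtain ⟨t, ht⟩ := hfac
  have hab' : U'.ι ≫ a' = U'.ι ≫ b' := by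
    apply pullback.hom_ext
    · simp only [Category.assoc, a', b', pullback.lift_fst]
      rw [← Category.assoc, ← ht, Category.assoc, hab, ← Category.assoc, ht, Category.assoc]
    · simp only [Category.assoc, a', b', pullback.lift_snd]
  have key := Groth.Agent.H6.Hartogs.existsUnique_extension_of_depth Wi Pi U' hU' (U'.ι ≫ a')
  have h1 : a' = b' := key.unique rfl hab'.symm
  have h2 : pullback.fst j c ≫ a = a' ≫ pullback.fst p c := (pullback.lift_fst _ _ _).symm
  have h3 : pullback.fst j c ≫ b = b' ≫ pullback.fst p c := (pullback.lift_fst _ _ _).symm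
  rw [h2, h3, h1]

include hU in
/-- Sections of an affine morphism over `U` extend uniquely to `X` when the local rings of `X`
have depth `≥ 2` outside `U`. -/
theorem existsUnique_section (σU : (U : Scheme.{u}) ⟶ P) (hσU : σU ≫ p = U.ι) :
    ∃! σ : X ⟶ P, σ ≫ p = 𝟙 X ∧ U.ι ≫ σ = σU := by
  let 𝒰 := X.affineCover
  -- local pieces
  have hloc : ∀ i, ∃ s : 𝒰.X i ⟶ P, s ≫ p = 𝒰.f i ∧
      ∀ (T : Scheme.{u}) (t : T ⟶ 𝒰.X i) (t' : T ⟶ (U : Scheme.{u})),
        t ≫ 𝒰.f i = t' ≫ U.ι → t ≫ s = t' ≫ σU := by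
    intro i
    let c := 𝒰.f i
    let Pi := pullback p c
    haveI : IsAffine Pi := isAffine_of_isAffineHom (pullback.snd p c)
    haveI : IsLocallyNoetherian (𝒰.X i) := isLocallyNoetherian_of_isOpenImmersion c
    let Ui : (𝒰.X i).Opens := c ⁻¹ᵁ U
    have hUi : ∀ w : 𝒰.X i, w ∉ Ui → (2 : ℕ∞) ≤ LocCoh.depth ((𝒰.X i).presheaf.stalk w)
        ((𝒰.X i).presheaf.stalk w) := by
      intro w hw
      rw [depth_of_isOpenImmersion c w]
      exact hU _ hw
    let m : (Ui : Scheme.{u}) ⟶ Pi := pullback.lift ((c ∣_ U) ≫ σU) Ui.ι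
      (by rw [Category.assoc, hσU, morphismRestrict_ι])
    obtain ⟨g, hg, -⟩ := Groth.Agent.H6.Hartogs.existsUnique_extension_of_depth (𝒰.X i) Pi Ui hUi m
    have hgsnd : g ≫ pullback.snd p c = 𝟙 _ := by
      have key := Groth.Agent.H6.Hartogs.existsUnique_extension_of_depth (𝒰.X i) (𝒰.X i) Ui hUi
        Ui.ι
      refine key.unique ?_ (Category.comp_id _)
      rw [← Category.assoc, hg, pullback.lift_snd]
    refine ⟨g ≫ pullback.fst p c, ?_, ?_⟩
    · rw [Category.assoc, pullback.condition, ← Category.assoc, hgsnd, Category.id_comp]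
    · intro T t t' htt'
      have hrange : Set.range t ⊆ Ui.ι.opensRange := by
        rintro _ ⟨z, rfl⟩
        rw [Scheme.Opens.opensRange_ι]
        change c (t z) ∈ U
        rw [← Scheme.Hom.comp_apply, htt', Scheme.Hom.comp_apply]
        exact (t' z).2
      let t₀ : T ⟶ (Ui : Scheme.{u}) := IsOpenImmersion.lift Ui.ι t hrange
      have ht₀ : t₀ ≫ Ui.ι = t := IsOpenImmersion.lift_fac _ _ _
      have ht₀' : t₀ ≫ (c ∣_ U) = t' := by
        rw [← cancel_mono U.ι, Category.assoc, morphismRestrict_ι, ← Category.assoc, ht₀, htt']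
      rw [← ht₀, Category.assoc, ← Category.assoc Ui.ι, hg, pullback.lift_fst, ← Category.assoc,
        ht₀']
  choose s hs hs' using hloc
  have hglue : ∀ i j, pullback.fst (𝒰.f i) (𝒰.f j) ≫ s i = pullback.snd _ _ ≫ s j := by
    intro i j
    let jW := pullback.fst (𝒰.f i) (𝒰.f j) ≫ 𝒰.f i
    apply lift_unique U hU p jW
    · rw [Category.assoc, hs]
    · rw [Category.assoc, hs, ← pullback.condition]
    · rw [← Category.assoc, ← Category.assoc,
        hs' i _ ((jW ⁻¹ᵁ U).ι ≫ pullback.fst (𝒰.f i) (𝒰.f j)) (jW ∣_ U)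
        (by rw [Category.assoc, morphismRestrict_ι]),
        hs' j _ ((jW ⁻¹ᵁ U).ι ≫ pullback.snd (𝒰.f i) (𝒰.f j)) (jW ∣_ U)
        (by rw [Category.assoc, morphismRestrict_ι, ← pullback.condition])]
  let σ : X ⟶ P := 𝒰.glueMorphisms s hglue
  have hσ : ∀ i, 𝒰.f i ≫ σ = s i := fun i => 𝒰.ι_glueMorphisms s hglue i
  have hσp : σ ≫ p = 𝟙 X := by
    refine Scheme.Cover.hom_ext 𝒰 _ _ fun i => ?_
    rw [← Category.assoc, hσ, hs, Category.comp_id]
  have hσU : U.ι ≫ σ = σU := by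
    refine Scheme.Cover.hom_ext (𝒰.pullback₁ U.ι) _ _ fun i => ?_
    change pullback.fst U.ι (𝒰.f i) ≫ U.ι ≫ σ = pullback.fst U.ι (𝒰.f i) ≫ σU
    rw [← Category.assoc, pullback.condition, Category.assoc, hσ]
    exact hs' i _ _ _ pullback.condition.symm
  refine ⟨σ, ⟨hσp, hσU⟩, ?_⟩
  rintro σ' ⟨h1, h2⟩
  apply lift_unique U hU p (𝟙 X) σ' σ h1 hσp
  have h3 : ((𝟙 X) ⁻¹ᵁ U) = U := rfl
  have key : ∀ (V : X.Opens), V = U → V.ι ≫ σ' = V.ι ≫ σ := by
    rintro V rfl
    rw [h2, hσU]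
  exact key _ h3

end Groth.Agent.H22.HartogsSection
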