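import Groth.Agent.H48.FieldDim2
import Groth.Agent.H20.GenFibreImage

/-!
# Dimension of the image of a morphism of schemes locally of finite type over a field
-/

set_option autoImplicit false
set_option linter.style.haveILetI false
universe u

namespace Groth.Agent.H22.ImgDim

open AlgebraicGeometry CategoryTheory CategoryTheory.Limits TopologicalSpace

section Ring

variable {A B : Type u} [CommRing A] [CommRing B] [IsNoetherianRing A] [IsNoetherianRing B]
  [Algebra A B]

/-- Below a prime `Pₛ` of `B` there is a prime `P` with the same contraction `p` to `A`, and a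
minimal prime `Q₀ ≤ P`, such that `ht P ≤ ht (p / (Q₀ ∩ A))`. -/
theorem exists_prime_height_le (Ps : Ideal B) [Ps.IsPrime] :
    ∃ P Q₀ : Ideal B, P.IsPrime ∧ Q₀ ∈ minimalPrimes B ∧ Q₀ ≤ P ∧ P ≤ Ps ∧
      P.under A = Ps.under A ∧
      P.height ≤ ((Ps.under A).map (Ideal.Quotient.mk (Q₀.under A))).height := by
  set p := Ps.under A with hp
  haveI : p.IsPrime := Ideal.IsPrime.under A Ps
  set I := p.map (algebraMap A B) with hI
  have hIPs : I ≤ Ps := Ideal.map_comap_le
  obtain ⟨P, hPmin, hPle⟩ := Ideal.exists_minimalPrimes_le hIPs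
  haveI hPprime : P.IsPrime := hPmin.1.1
  have hunder : P.under A = p := by
    apply le_antisymm
    · exact Ideal.comap_mono hPle
    · exact Ideal.le_comap_map.trans (Ideal.comap_mono hPmin.1.2)
  obtain ⟨Q₀, hQ₀min, hQ₀P, hht⟩ := Groth.Agent.H48.DimIneq.exists_minimalPrimes_height_le P
  haveI hQ₀prime : Q₀.IsPrime := hQ₀min.1.1
  refine ⟨P, Q₀, hPprime, hQ₀min, hQ₀P, hPle, hunder, hht.trans ?_⟩
  set q₀ := Q₀.under A with hq₀
  haveI : q₀.IsPrime := Ideal.IsPrime.under A Q₀
  have hq₀p : q₀ ≤ p := by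
    rw [← hunder]; exact Ideal.comap_mono hQ₀P
  set P₁ := P.map (Ideal.Quotient.mk Q₀) with hP₁
  set p₁ := p.map (Ideal.Quotient.mk q₀) with hp₁
  haveI : P₁.IsPrime := Ideal.isPrime_map_quotientMk_of_isPrime hQ₀P
  haveI : p₁.IsPrime := Ideal.isPrime_map_quotientMk_of_isPrime hq₀p
  haveI hlies : P₁.LiesOver p₁ := by
    constructor
    ext a
    obtain ⟨r, rfl⟩ := Ideal.Quotient.mk_surjective a
    rw [Ideal.under_def, Ideal.mem_comap, Ideal.Quotient.algebraMap_mk_of_liesOver, hp₁, hP₁,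
      Ideal.mem_quotient_iff_mem hq₀p, Ideal.mem_quotient_iff_mem hQ₀P, ← hunder,
      Ideal.under_def, Ideal.mem_comap]
  have key := Ideal.height_le_height_add_of_liesOver p₁ P₁
  set J := p₁.map (algebraMap (A ⧸ q₀) (B ⧸ Q₀)) with hJ
  have hJP₁ : J ≤ P₁ := by
    rw [hJ, Ideal.map_le_iff_le_comap]
    exact (Ideal.over_def P₁ p₁).le
  have hmin : P₁ ∈ J.minimalPrimes := by
    refine ⟨⟨inferInstance, hJP₁⟩, ?_⟩
    rintro K ⟨hK, hJK⟩ hKP₁
    set K' := K.comap (Ideal.Quotient.mk Q₀) with hK'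
    haveI : K'.IsPrime := Ideal.comap_isPrime _ K
    have hIK' : I ≤ K' := by
      rw [hI, Ideal.map_le_iff_le_comap]
      intro a ha
      rw [Ideal.mem_comap, hK', Ideal.mem_comap]
      apply hJK
      have : (Ideal.Quotient.mk Q₀) (algebraMap A B a) =
          algebraMap (A ⧸ q₀) (B ⧸ Q₀) (Ideal.Quotient.mk q₀ a) := by
        rw [Ideal.Quotient.algebraMap_mk_of_liesOver]
      rw [this]
      exact Ideal.mem_map_of_mem _ (Ideal.mem_map_of_mem _ ha)
    have hK'P : K' ≤ P := by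
      intro b hb
      have h1 : (Ideal.Quotient.mk Q₀) b ∈ P₁ := hKP₁ hb
      rwa [hP₁, Ideal.mem_quotient_iff_mem hQ₀P] at h1
    have hPK' : P ≤ K' := hPmin.2 ⟨inferInstance, hIK'⟩ hK'P
    intro y hy
    obtain ⟨b, rfl⟩ := Ideal.Quotient.mk_surjective y
    rw [hP₁, Ideal.mem_quotient_iff_mem hQ₀P] at hy
    exact hPK' hy
  have hzero : (P₁.map (Ideal.Quotient.mk J)).height = 0 := by
    rw [Ideal.minimalPrimes_eq_comap] at hmin
    obtain ⟨M, hM, hMP₁⟩ := hmin
    have : P₁.map (Ideal.Quotient.mk J) = M := by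
      rw [← hMP₁, Ideal.map_comap_of_surjective _ Ideal.Quotient.mk_surjective]
    rw [this]
    haveI : M.IsPrime := hM.1.1
    exact Ideal.height_eq_zero_iff.mpr hM
  rw [hzero, add_zero] at key
  exact key

end Ring

end Groth.Agent.H22.ImgDim
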