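import Mathlib.AlgebraicGeometry.Morphisms.Separated
import Mathlib.AlgebraicGeometry.PullbackCarrier
import Groth.Agent.H22.LocalIsoInj

/-!
# A separated local isomorphism which is injective on maximal points is injective (helper22)
-/

set_option autoImplicit false
universe u

namespace Groth.Agent.H22.InjGeneric

open AlgebraicGeometry CategoryTheory CategoryTheory.Limits TopologicalSpace Opposite Scheme

/-- A maximal point: a point with no proper generizations. -/
def IsMaxPt {T : Type*} [TopologicalSpace T] (p : T) : Prop := ∀ q : T, q ⤳ p → q = p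

/-- In a quasi-sober `T₀` space, the closure of a maximal point is an irreducible component. -/
theorem closure_mem_irreducibleComponents_of_isMaxPt {T : Type*} [TopologicalSpace T]
    [QuasiSober T] {p : T} (hp : IsMaxPt p) : closure {p} ∈ irreducibleComponents T := by
  have hZ := irreducibleComponent_mem_irreducibleComponents p
  obtain ⟨η, hη⟩ := QuasiSober.sober hZ.1 (isClosed_of_mem_irreducibleComponents _ hZ)
  have h1 : η ⤳ p := by
    rw [specializes_iff_mem_closure, hη.def]
    exact mem_irreducibleComponent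
  rw [← hp η h1, hη.def]
  exact hZ

/-- In a quasi-sober space every point is a specialization of a maximal point. -/
theorem exists_isMaxPt_specializes {T : Type*} [TopologicalSpace T] [QuasiSober T] [T0Space T]
    (x : T) : ∃ ξ : T, IsMaxPt ξ ∧ ξ ⤳ x := by
  have hZ := irreducibleComponent_mem_irreducibleComponents x
  obtain ⟨η, hη⟩ := QuasiSober.sober hZ.1 (isClosed_of_mem_irreducibleComponents _ hZ)
  refine ⟨η, ?_, ?_⟩
  · intro η' h'
    have h1 : irreducibleComponent x ⊆ closure {η'} := by
      rw [← hη.def]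
      exact specializes_iff_closure_subset.mp h'
    have h2 : closure {η'} ⊆ irreducibleComponent x :=
      hZ.2 (isIrreducible_singleton (x := η')).closure h1
    have h3 : η ⤳ η' := by
      rw [specializes_iff_mem_closure, hη.def]
      exact h2 (subset_closure rfl)
    exact (h'.antisymm h3).eq
  · rw [specializes_iff_mem_closure, hη.def]
    exact mem_irreducibleComponent

variable {P X : Scheme.{u}} (g : P ⟶ X) [IsLocalIso g]

/-- Generizations lift along a local isomorphism. -/
theorem exists_specializes_of_isLocalIso (z : P) (ξ : X) (h : ξ ⤳ g z) :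
    ∃ z' : P, z' ⤳ z ∧ g z' = ξ := by
  obtain ⟨O, hzO, hO⟩ := IsLocalIso.exists_isOpenImmersion (f := g) z
  have hgen := (O.ι ≫ g).isOpenEmbedding.generalizingMap
  obtain ⟨w, hw1, hw2⟩ := @hgen (⟨z, hzO⟩ : O.toScheme) ξ h
  exact ⟨O.ι w, hw1.map O.ι.continuous, hw2⟩

/-- A point over a maximal point is maximal. -/
theorem isMaxPt_of_isMaxPt_apply (z : P) (h : IsMaxPt (g z)) : IsMaxPt z := by
  obtain ⟨O, hzO, hO⟩ := IsLocalIso.exists_isOpenImmersion (f := g) z
  intro w hw
  have hwO : w ∈ O := hw.mem_open O.2 hzO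
  have h1 : g w = g z := h _ (hw.map g.continuous)
  have h2 : (O.ι ≫ g) (⟨w, hwO⟩ : O.toScheme) = (O.ι ≫ g) (⟨z, hzO⟩ : O.toScheme) := h1
  have h3 := (O.ι ≫ g).isOpenEmbedding.injective h2
  exact congrArg Subtype.val h3

/-- The image of a maximal point under a local isomorphism is maximal. -/
theorem isMaxPt_apply_of_isMaxPt (z : P) (h : IsMaxPt z) : IsMaxPt (g z) := by
  obtain ⟨O, hzO, hO⟩ := IsLocalIso.exists_isOpenImmersion (f := g) z
  intro η hη
  have hemb := (O.ι ≫ g).isOpenEmbedding
  have hmem : η ∈ Set.range (O.ι ≫ g) :=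
    hη.mem_open hemb.isOpen_range ⟨(⟨z, hzO⟩ : O.toScheme), rfl⟩
  obtain ⟨w, rfl⟩ := hmem
  have h1 : w ⤳ (⟨z, hzO⟩ : O.toScheme) := hemb.isInducing.specializes_iff.mp hη
  have h2 : O.ι w ⤳ z := h1.map O.ι.continuous
  have h3 : O.ι w = z := h _ h2
  change g (O.ι w) = g z
  rw [h3]

omit [IsLocalIso g] in
/-- A point of `X ×_Y X` both of whose projections lie in an open `U` on which `f` is a
monomorphism lies on the diagonal. -/
theorem mem_range_diagonal_of_mono {X Y : Scheme.{u}} (f : X ⟶ Y) (U : X.Opens) [Mono (U.ι ≫ f)]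
    (z : ↑(pullback f f)) (h1 : pullback.fst f f z ∈ U) (h2 : pullback.snd f f z ∈ U) :
    z ∈ Set.range (pullback.diagonal f) := by
  let pt := (pullback f f).fromSpecResidueField z
  have hr1 : Set.range (pt ≫ pullback.fst f f) ⊆ Set.range U.ι := by
    rintro _ ⟨t, rfl⟩
    rw [Scheme.Opens.range_ι, Scheme.Hom.comp_apply]
    have : pt t = z := by
      have : pt t ∈ Set.range pt := ⟨t, rfl⟩
      rw [Scheme.range_fromSpecResidueField] at this
      exact this
    rw [this]
    exact h1
  have hr2 : Set.range (pt ≫ pullback.snd f f) ⊆ Set.range U.ι := by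
    rintro _ ⟨t, rfl⟩
    rw [Scheme.Opens.range_ι, Scheme.Hom.comp_apply]
    have : pt t = z := by
      have : pt t ∈ Set.range pt := ⟨t, rfl⟩
      rw [Scheme.range_fromSpecResidueField] at this
      exact this
    rw [this]
    exact h2
  let b₁ := IsOpenImmersion.lift U.ι (pt ≫ pullback.fst f f) hr1
  let b₂ := IsOpenImmersion.lift U.ι (pt ≫ pullback.snd f f) hr2
  have hb₁ : b₁ ≫ U.ι = pt ≫ pullback.fst f f := IsOpenImmersion.lift_fac _ _ _
  have hb₂ : b₂ ≫ U.ι = pt ≫ pullback.snd f f := IsOpenImmersion.lift_fac _ _ _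
  have hb : b₁ = b₂ := by
    rw [← cancel_mono (U.ι ≫ f), ← Category.assoc, ← Category.assoc, hb₁, hb₂, Category.assoc,
      Category.assoc, pullback.condition]
  have ha : pt ≫ pullback.fst f f = pt ≫ pullback.snd f f := by rw [← hb₁, ← hb₂, hb]
  have hpt : pt = (pt ≫ pullback.fst f f) ≫ pullback.diagonal f := by
    apply pullback.hom_ext
    · rw [Category.assoc, pullback.diagonal_fst, Category.comp_id]
    · rw [Category.assoc, pullback.diagonal_snd, Category.comp_id, ha]
  have hz : pt (IsLocalRing.closedPoint _) = z := by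
    have : pt (IsLocalRing.closedPoint _) ∈ Set.range pt := ⟨_, rfl⟩
    rw [Scheme.range_fromSpecResidueField] at this
    exact this
  refine ⟨(pt ≫ pullback.fst f f) (IsLocalRing.closedPoint _), ?_⟩
  rw [← Scheme.Hom.comp_apply, ← hpt, hz]

/-- **A separated local isomorphism injective on maximal points is injective.** -/
theorem injective_of_isSeparated_of_isLocalIso {X Y : Scheme.{u}} (f : X ⟶ Y) [IsSeparated f]
    [IsLocalIso f]
    (hinj : ∀ ξ ξ' : X, closure {ξ} ∈ irreducibleComponents X →
      closure {ξ'} ∈ irreducibleComponents X → f ξ = f ξ' → ξ = ξ') :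
    Function.Injective f := by
  intro x₁ x₂ h12
  obtain ⟨z, hz1, hz2⟩ := Scheme.Pullback.exists_preimage_pullback x₁ x₂ h12
  obtain ⟨ξ, hξmax, hξ⟩ := exists_isMaxPt_specializes x₁
  haveI : IsLocalIso (pullback.fst f f) := MorphismProperty.pullback_fst _ _ ‹_›
  haveI : IsLocalIso (pullback.snd f f) := MorphismProperty.pullback_snd _ _ ‹_›
  obtain ⟨z', hz'z, hz'ξ⟩ := exists_specializes_of_isLocalIso (pullback.fst f f) z ξ (hz1 ▸ hξ)
  have hz'max : IsMaxPt z' := isMaxPt_of_isMaxPt_apply (pullback.fst f f) z' (hz'ξ ▸ hξmax)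
  have hξ₂max : IsMaxPt (pullback.snd f f z') := isMaxPt_apply_of_isMaxPt _ z' hz'max
  have hfeq : f ξ = f (pullback.snd f f z') := by
    rw [← hz'ξ, ← Scheme.Hom.comp_apply, ← Scheme.Hom.comp_apply, pullback.condition]
  have hξeq : ξ = pullback.snd f f z' :=
    hinj _ _ (closure_mem_irreducibleComponents_of_isMaxPt hξmax)
      (closure_mem_irreducibleComponents_of_isMaxPt hξ₂max) hfeq
  obtain ⟨U, hξU, hU⟩ := IsLocalIso.exists_isOpenImmersion (f := f) ξ
  have hmem : z' ∈ Set.range (pullback.diagonal f) :=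
    mem_range_diagonal_of_mono f U z' (hz'ξ ▸ hξU) (hξeq ▸ hξU)
  have hcl : IsClosed (Set.range (pullback.diagonal f)) :=
    (pullback.diagonal f).isClosedEmbedding.isClosed_range
  obtain ⟨x, rfl⟩ := hz'z.mem_closed hcl hmem
  rw [← hz1, ← hz2, ← Scheme.Hom.comp_apply, ← Scheme.Hom.comp_apply, pullback.diagonal_fst,
    pullback.diagonal_snd]

end Groth.Agent.H22.InjGeneric
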