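import Mathlib

/-!
# The integral closure of a field in a reduced ring without nontrivial idempotents is a field
-/

set_option autoImplicit false
open AlgebraicGeometry

namespace Groth.Agent.H22.IntClField

/-- In a reduced ring with only trivial idempotents, a nonzero element integral over a field `k`
has an inverse that is again integral over `k`. -/
theorem exists_inv_of_isIntegral {k A : Type*} [Field k] [CommRing A] [Algebra k A] [IsReduced A]
    (hidem : ∀ e : A, IsIdempotentElem e → e = 0 ∨ e = 1) {a : A} (ha : IsIntegral k a)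
    (ha0 : a ≠ 0) : ∃ b : A, IsIntegral k b ∧ a * b = 1 := by
  classical
  let B : Subalgebra k A := Algebra.adjoin k {a}
  have hBint : ∀ x ∈ B, IsIntegral k x := by
    intro x hx
    have hle : B ≤ integralClosure k A :=
      Algebra.adjoin_le (by rintro _ rfl; exact ha)
    exact hle hx
  have : Module.Finite k B := ⟨(Submodule.fg_top _).mpr ha.fg_adjoin_singleton⟩
  have : IsArtinianRing B := IsArtinianRing.of_finite k B
  let a' : B := ⟨a, Algebra.subset_adjoin rfl⟩
  obtain ⟨n, y, hy⟩ := IsArtinian.exists_pow_succ_smul_dvd a' (1 : B)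
  have hy' : a ^ (n + 1) * (y : A) = a ^ n := by
    have := congrArg (Subtype.val) hy
    simpa [a', smul_eq_mul] using this
  -- `a ^ n = a ^ (n + j) * y ^ j`
  have hj : ∀ j : ℕ, a ^ n = a ^ (n + j) * (y : A) ^ j := by
    intro j
    induction j with
    | zero => simp
    | succ j ih =>
      calc a ^ n = a ^ (n + j) * (y : A) ^ j := ih
        _ = a ^ j * a ^ n * (y : A) ^ j := by rw [pow_add]; ring
        _ = a ^ j * (a ^ (n + 1) * (y : A)) * (y : A) ^ j := by rw [hy']
        _ = a ^ (n + (j + 1)) * (y : A) ^ (j + 1) := by ring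
  set e : A := a ^ n * (y : A) ^ n with he
  have hidem_e : IsIdempotentElem e := by
    change e * e = e
    calc e * e = (a ^ (n + n) * (y : A) ^ n) * (y : A) ^ n := by rw [he, pow_add]; ring
      _ = a ^ n * (y : A) ^ n := by rw [← hj n]
  rcases hidem e hidem_e with h0 | h1
  · exfalso
    have : a ^ n = 0 := by
      calc a ^ n = a ^ (n + n) * (y : A) ^ n := hj n
        _ = a ^ n * e := by rw [he, pow_add]; ring
        _ = 0 := by rw [h0, mul_zero]
    exact ha0 (IsReduced.eq_zero _ ⟨n, this⟩)
  · rcases Nat.eq_zero_or_pos n with hn | hn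
    · subst hn
      refine ⟨y, hBint _ y.2, ?_⟩
      simpa using hy'
    · refine ⟨a ^ (n - 1) * (y : A) ^ n, ?_, ?_⟩
      · apply hBint
        exact B.mul_mem (B.pow_mem a'.2 _) (B.pow_mem y.2 _)
      · calc a * (a ^ (n - 1) * (y : A) ^ n) = a ^ (n - 1 + 1) * (y : A) ^ n := by ring
          _ = e := by rw [Nat.sub_add_cancel hn]
          _ = 1 := h1

/-- The integral closure of a field in a nontrivial reduced ring with only trivial idempotents is a
field. -/
theorem isField_integralClosure {k A : Type*} [Field k] [CommRing A] [Algebra k A] [IsReduced A]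
    [Nontrivial A] (hidem : ∀ e : A, IsIdempotentElem e → e = 0 ∨ e = 1) :
    IsField (integralClosure k A) := by
  refine ⟨⟨0, 1, zero_ne_one⟩, mul_comm, ?_⟩
  rintro ⟨a, ha⟩ ha0
  have ha0' : a ≠ 0 := fun h => ha0 (Subtype.ext h)
  obtain ⟨b, hb, hab⟩ := exists_inv_of_isIntegral hidem ha ha0'
  exact ⟨⟨b, hb⟩, Subtype.ext hab⟩

/-- Global sections of a connected reduced scheme have only trivial idempotents. -/
theorem idempotent_eq_zero_or_one (X : Scheme) [ConnectedSpace X] [IsReduced X]
    (e : Γ(X, ⊤)) (he : IsIdempotentElem e) : e = 0 ∨ e = 1 := by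
  have hmul : e * (1 - e) = 0 := by
    have : e * e = e := he
    rw [mul_sub, mul_one, this, sub_self]
  have hdisj : X.basicOpen e ⊓ X.basicOpen (1 - e) = ⊥ := by
    rw [← Scheme.basicOpen_mul, hmul, Scheme.basicOpen_zero]
  have hcov : X.basicOpen e ⊔ X.basicOpen (1 - e) = ⊤ := by
    apply le_antisymm le_top
    have h1 : X.basicOpen (e + (1 - e)) = ⊤ := by
      rw [add_sub_cancel]; exact Scheme.basicOpen_of_isUnit _ isUnit_one
    exact h1.ge.trans (Scheme.basicOpen_add_le _ _ _)
  have hclopen : IsClopen (X.basicOpen e : Set X) := by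
    refine ⟨?_, (X.basicOpen e).isOpen⟩
    have : (X.basicOpen e : Set X)ᶜ = (X.basicOpen (1 - e) : Set X) := by
      apply Set.Subset.antisymm
      · intro x hx
        have hx' : x ∈ X.basicOpen e ⊔ X.basicOpen (1 - e) := by rw [hcov]; trivial
        rcases hx' with h | h
        · exact absurd h hx
        · exact h
      · intro x hx hx'
        have : x ∈ X.basicOpen e ⊓ X.basicOpen (1 - e) := ⟨hx', hx⟩
        rw [hdisj] at this
        exact this
    rw [← isOpen_compl_iff, this]
    exact (X.basicOpen (1 - e)).isOpen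
  rcases isClopen_iff.mp hclopen with h | h
  · left
    have : X.basicOpen e = ⊥ := TopologicalSpace.Opens.ext h
    exact (basicOpen_eq_bot_iff e).mp this
  · right
    have h1 : X.basicOpen e = ⊤ := TopologicalSpace.Opens.ext h
    have h2 : X.basicOpen (1 - e) = ⊥ := by
      rw [h1, top_inf_eq] at hdisj; exact hdisj
    have := (basicOpen_eq_bot_iff (1 - e)).mp h2
    exact (sub_eq_zero.mp this).symm

end Groth.Agent.H22.IntClField
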