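import Groth.Agent.H22.ZeroFibre
import Groth.Agent.H22.RedImm
import Groth.Agent.H17.Chev.CompDim

/-!
# Proper morphisms with a point isolated in its fibre
-/

set_option autoImplicit false
set_option linter.style.haveILetI false
universe u

namespace Groth.Agent.H22.IsolatedFibre

open AlgebraicGeometry CategoryTheory TopologicalSpace

/-- the fibre dimension at a point isolated in its fibre vanishes -/
lemma fibreDimAt_le_zero_of_isolated {X Y : Scheme.{u}} (g : X ⟶ Y) (x : X) (W : X.Opens)
    (hxW : x ∈ W) (hW : ∀ z ∈ W, g z = g x → z = x) : FlatMor.fibreDimAt g x ≤ 0 := by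
  unfold FlatMor.fibreDimAt FlatMor.localDim
  let V : (g.fiber (g x)).Opens := (g.fiberι (g x)) ⁻¹ᵁ W
  have hxV : g.asFiber x ∈ V := by
    change g.fiberι (g x) (g.asFiber x) ∈ W
    rw [g.fiberι_asFiber]
    exact hxW
  refine (iInf_le _ (⟨V, hxV⟩ : {U : Opens (g.fiber (g x)) // g.asFiber x ∈ U})).trans ?_
  have hsub : Subsingleton ↥(V : Set (g.fiber (g x))) := by
    refine ⟨fun a b => Subtype.ext ?_⟩
    have key : ∀ t : g.fiber (g x), t ∈ V → t = g.asFiber x := by
      intro t ht
      apply (g.fiberι (g x)).isEmbedding.injective
      rw [g.fiberι_asFiber]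
      exact hW _ ht (Groth.Agent.H48.CycFib.map_fiberι g (g x) t)
    rw [key a.1 a.2, key b.1 b.2]
  exact topologicalKrullDim_zero_of_discreteTopology _

/-- A proper morphism from an irreducible scheme with a point isolated in its fibre does not lower
the dimension. -/
theorem topologicalKrullDim_le_range {X Y : Scheme.{u}} [IrreducibleSpace X]
    [IsLocallyNoetherian Y] (g : X ⟶ Y) [IsProper g] (x : X) (W : X.Opens)
    (hxW : x ∈ W) (hW : ∀ z ∈ W, g z = g x → z = x) :
    topologicalKrullDim X ≤ topologicalKrullDim ↥(Set.range g) := by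
  have hfac : g.toImage ≫ g.imageι = g := g.toImage_imageι
  have hdom : IsDominant g.toImage := inferInstance
  have hlft1 : LocallyOfFiniteType (g.toImage ≫ g.imageι) := by rw [hfac]; infer_instance
  have hlft2 : LocallyOfFiniteType g.toImage := locallyOfFiniteType_of_comp g.toImage g.imageι
  have hnoeth : IsLocallyNoetherian g.image := LocallyOfFiniteType.isLocallyNoetherian g.imageι
  have hprop' : IsProper (g.toImage ≫ g.imageι) := by rw [hfac]; infer_instance
  have hprop : IsProper g.toImage := IsProper.of_comp g.toImage g.imageι
  have hsurj' : Function.Surjective g.toImage :=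
    (surjective_of_isDominant_of_isClosed_range g.toImage
      g.toImage.isClosedMap.isClosed_range).surj
  have hirr : IrreducibleSpace g.image := by
    have h1 : IsIrreducible (Set.univ : Set g.image) := by
      rw [← hsurj'.range_eq, ← Set.image_univ]
      exact (IrreducibleSpace.isIrreducible_univ X).image _ g.toImage.continuous.continuousOn
    exact (irreducibleSpace_def _).mpr h1
  have hW' : ∀ z ∈ W, g.toImage z = g.toImage x → z = x := by
    intro z hz h
    apply hW z hz
    have := congrArg g.imageι h
    rwa [← Scheme.Hom.comp_apply, ← Scheme.Hom.comp_apply, hfac] at this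
  have h1 := Groth.Agent.H17.Chev.dim_genericFiber_le_fibreDimAt g.toImage x
  have h2 := fibreDimAt_le_zero_of_isolated g.toImage x W hxW hW'
  have h5 := Groth.Agent.H17.Chev.topologicalKrullDim_le_add g.toImage
  have h6 : topologicalKrullDim X ≤ topologicalKrullDim g.image := by
    refine h5.trans ?_
    have := add_le_add_right (h1.trans h2) (topologicalKrullDim g.image)
    rwa [add_zero] at this
  have e1 : Set.range g.imageι = Set.range g := by
    conv_rhs => rw [← hfac]
    rw [Scheme.Hom.comp_base, TopCat.coe_comp, Set.range_comp, hsurj'.range_eq, Set.image_univ]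
  have h7 : topologicalKrullDim g.image = topologicalKrullDim ↥(Set.range g) := by
    rw [← e1]
    exact g.imageι.isClosedEmbedding.isEmbedding.toHomeomorph.isHomeomorph.topologicalKrullDim_eq
  exact h6.trans h7.le

end Groth.Agent.H22.IsolatedFibre
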