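import Groth.Prelude.Def_LinTop
import Mathlib.Topology.Algebra.InfiniteSum.Nonarchimedean
import Mathlib.Topology.Algebra.InfiniteSum.Ring
import Mathlib.RingTheory.Jacobson.Ideal
import Mathlib.RingTheory.Finiteness.Ideal
import Mathlib.RingTheory.AdicCompletion.Basic

set_option autoImplicit false
universe u

namespace Groth.Agent.H22

open Filter Topology

theorem nonarchimedeanAddGroup_of_isLinearTopology (A : Type u) [CommRing A] [TopologicalSpace A]
    [IsTopologicalRing A] [IsLinearTopology A A] : NonarchimedeanAddGroup A where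
  is_nonarchimedean U hU := by
    obtain ⟨I, hI, hIU⟩ := (IsLinearTopology.hasBasis_open_ideal (R := A)).mem_iff.mp hU
    exact ⟨⟨I.toAddSubgroup, hI⟩, hIU⟩

theorem pow_tendsto_zero_of_mem_idealOfDefinition (A : Type u) [CommRing A] [TopologicalSpace A]
    (J : Ideal A) (hJ : LinTop.IsIdealOfDefinition A J) {x : A} (hx : x ∈ J) :
    Tendsto (fun n : ℕ => x ^ n) atTop (𝓝 0) := by
  rw [tendsto_def]
  intro U hU
  obtain ⟨n, -, hn⟩ := hJ.2 U hU
  rw [mem_atTop_sets]
  refine ⟨n, fun m hm => ?_⟩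
  apply hn
  exact Ideal.pow_le_pow_right hm (Ideal.pow_mem_pow hx m)

theorem isUnit_one_sub_of_mem_idealOfDefinition
    (A : Type u) [CommRing A] [UniformSpace A] [IsUniformAddGroup A] [IsTopologicalRing A]
    (hA : LinTop.IsAdmissible A) (J : Ideal A) (hJ : LinTop.IsIdealOfDefinition A J) {x : A}
    (hx : x ∈ J) : IsUnit (1 - x) := by
  obtain ⟨⟨hlin, -⟩, hT2, hC⟩ := hA
  have := hlin
  have := nonarchimedeanAddGroup_of_isLinearTopology A
  have hs : Summable (fun n : ℕ => x ^ n) := by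
    apply NonarchimedeanAddGroup.summable_of_tendsto_cofinite_zero
    rw [Nat.cofinite_eq_atTop]
    exact pow_tendsto_zero_of_mem_idealOfDefinition A J hJ hx
  exact IsUnit.of_mul_eq_one _ hs.one_sub_mul_tsum_pow

theorem idealOfDefinition_le_jacobson
    (A : Type u) [CommRing A] [UniformSpace A] [IsUniformAddGroup A] [IsTopologicalRing A]
    (hA : LinTop.IsAdmissible A) (J : Ideal A) (hJ : LinTop.IsIdealOfDefinition A J) :
    J ≤ Ideal.jacobson ⊥ := by
  intro x hx
  rw [Ideal.mem_jacobson_bot]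
  intro y
  have h : IsUnit (1 - (-(x * y))) :=
    isUnit_one_sub_of_mem_idealOfDefinition A hA J hJ (J.neg_mem (J.mul_mem_right y hx))
  simpa [sub_neg_eq_add, add_comm] using h


theorem tendsto_zero_of_mem_pow (A : Type u) [CommRing A] [TopologicalSpace A]
    (J : Ideal A) (hJ : LinTop.IsIdealOfDefinition A J) (c : ℕ → A) (hc : ∀ k, c k ∈ J ^ k) :
    Tendsto c atTop (𝓝 0) := by
  rw [tendsto_def]
  intro U hU
  obtain ⟨n, -, hn⟩ := hJ.2 U hU
  rw [mem_atTop_sets]
  exact ⟨n, fun m hm => hn (Ideal.pow_le_pow_right hm (hc m))⟩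

theorem summable_tsum_mem_pow
    (A : Type u) [CommRing A] [UniformSpace A] [IsUniformAddGroup A] [IsTopologicalRing A]
    (hA : LinTop.IsAdmissible A) (J : Ideal A) (hJ : LinTop.IsIdealOfDefinition A J)
    (I : Ideal A) (hI : I.FG) (hIJ : I ≤ J) (n : ℕ) (d : ℕ → A) (hd : ∀ k, d k ∈ I ^ (n + k)) :
    Summable d ∧ ∑' k, d k ∈ I ^ n := by
  obtain ⟨⟨hlin, -⟩, hT2, hC⟩ := hA
  have := hlin
  have := nonarchimedeanAddGroup_of_isLinearTopology A
  have hsum : ∀ c : ℕ → A, (∀ k, c k ∈ I ^ k) → Summable c := by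
    intro c hc
    apply NonarchimedeanAddGroup.summable_of_tendsto_cofinite_zero
    rw [Nat.cofinite_eq_atTop]
    exact tendsto_zero_of_mem_pow A J hJ c (fun k => Ideal.pow_right_mono hIJ k (hc k))
  obtain ⟨r, g, hg⟩ := Submodule.fg_iff_exists_fin_generating_family.mp (Ideal.FG.pow (n := n) hI)
  have hex : ∀ k, ∃ a : Fin r →₀ A, (∀ j, a j ∈ I ^ k) ∧ (a.sum fun i c => c • g i) = d k := by
    intro k
    have h1 : d k ∈ I ^ k • Submodule.span A (Set.range g) := by
      rw [hg, smul_eq_mul, ← pow_add, add_comm]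
      exact hd k
    obtain ⟨a, ha, hsum⟩ := (Submodule.mem_ideal_smul_span_iff_exists_sum (I ^ k) g (d k)).mp h1
    exact ⟨a, ha, hsum⟩
  choose a ha hda using hex
  have hd' : d = fun k => ∑ j : Fin r, a k j * g j := by
    funext k
    rw [← hda k, Finsupp.sum_fintype _ _ (fun i => by simp)]
    simp only [smul_eq_mul]
  have hsj : ∀ j : Fin r, Summable (fun k => a k j) := fun j => hsum _ (fun k => ha k j)
  have hsj' : ∀ j : Fin r, Summable (fun k => a k j * g j) := fun j => (hsj j).mul_right (g j)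
  have hsd : Summable d := by
    rw [hd']
    exact summable_sum (fun j _ => hsj' j)
  refine ⟨hsd, ?_⟩
  have heq : ∑' k, d k = ∑ j : Fin r, (∑' k, a k j) * g j := by
    rw [hd', Summable.tsum_finsetSum (fun j _ => hsj' j)]
    exact Finset.sum_congr rfl (fun j _ => (hsj j).tsum_mul_right (g j))
  rw [heq]
  have hgmem : ∀ j, g j ∈ I ^ n := fun j => by
    have : g j ∈ Submodule.span A (Set.range g) := Submodule.subset_span ⟨j, rfl⟩
    rw [hg] at this
    exact this
  exact Submodule.sum_mem _ (fun j _ => Ideal.mul_mem_left _ _ (hgmem j))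

theorem isAdicComplete_of_fg_of_le
    (A : Type u) [CommRing A] [UniformSpace A] [IsUniformAddGroup A] [IsTopologicalRing A]
    (hA : LinTop.IsAdmissible A) (J : Ideal A) (hJ : LinTop.IsIdealOfDefinition A J)
    (I : Ideal A) (hI : I.FG) (hIJ : I ≤ J) : IsAdicComplete I A := by
  have hA' := hA
  obtain ⟨⟨hlin, -⟩, hT2, hC⟩ := hA
  have := hlin
  have := nonarchimedeanAddGroup_of_isLinearTopology A
  have htop : ∀ n : ℕ, (I ^ n • ⊤ : Submodule A A) = I ^ n := fun n => by
    rw [smul_eq_mul, Ideal.mul_top]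
  refine { haus' := ?_, prec' := ?_ }
  · intro x hx
    have hx' : ∀ n, x ∈ I ^ n := fun n => by
      have := (hx n)
      rw [SModEq.zero, htop] at this
      exact this
    by_contra hne
    obtain ⟨U, hU, hxU⟩ : ∃ U ∈ 𝓝 (0 : A), x ∉ U := by
      refine ⟨{x}ᶜ, ?_, by simp⟩
      exact isOpen_compl_singleton.mem_nhds (by simpa using Ne.symm hne)
    obtain ⟨n, -, hn⟩ := hJ.2 U hU
    exact hxU (hn (Ideal.pow_right_mono hIJ n (hx' n)))
  · intro f hf
    have hf' : ∀ m n, m ≤ n → f n - f m ∈ I ^ m := fun m n hmn => by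
      have h := (hf hmn).symm
      rw [SModEq.sub_mem, htop] at h
      exact h
    have hcau : CauchySeq f := by
      apply NonarchimedeanAddGroup.cauchySeq_of_tendsto_sub_nhds_zero
      exact tendsto_zero_of_mem_pow A J hJ _
        (fun k => Ideal.pow_right_mono hIJ k (hf' k (k + 1) (Nat.le_succ k)))
    obtain ⟨L, hL⟩ := cauchySeq_tendsto_of_complete hcau
    refine ⟨L, fun n => ?_⟩
    rw [SModEq.comm, SModEq.sub_mem, htop]
    set d : ℕ → A := fun k => f (n + k + 1) - f (n + k) with hd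
    obtain ⟨hsd, hmem⟩ := summable_tsum_mem_pow A hA' J hJ I hI hIJ n d
      (fun k => hf' (n + k) (n + k + 1) (Nat.le_succ _))
    have h1 : Tendsto (fun m => ∑ i ∈ Finset.range m, d i) atTop (𝓝 (∑' k, d k)) :=
      hsd.hasSum.tendsto_sum_nat
    have h2 : (fun m => ∑ i ∈ Finset.range m, d i) = fun m => f (n + m) - f n := by
      funext m
      have := Finset.sum_range_sub (fun i => f (n + i)) m
      simpa [hd, add_assoc] using this
    rw [h2] at h1
    have h3 : Tendsto (fun m => f (n + m) - f n) atTop (𝓝 (L - f n)) := by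
      apply Tendsto.sub_const
      have := (tendsto_add_atTop_iff_nat n).mpr hL
      simpa [add_comm] using this
    rw [tendsto_nhds_unique h3 h1]
    exact hmem

end Groth.Agent.H22
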