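import Mathlib.AlgebraicGeometry.Morphisms.QuasiCompact
import Mathlib.AlgebraicGeometry.Morphisms.Immersion
import Mathlib.Topology.NoetherianSpace
import Mathlib.AlgebraicGeometry.Noetherian

set_option autoImplicit false
universe u

namespace Groth.Agent.H22

open TopologicalSpace AlgebraicGeometry CategoryTheory

/-- In a space where each point has a Noetherian open neighbourhood, every subset of a compact
set is compact. -/
theorem isCompact_of_subset_of_locallyNoetherian {α : Type u} [TopologicalSpace α]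
    (hα : ∀ x : α, ∃ U : Opens α, x ∈ U ∧ NoetherianSpace U) {T s : Set α} (hT : IsCompact T)
    (hsT : s ⊆ T) : IsCompact s := by
  choose U hxU hU using hα
  obtain ⟨t, ht⟩ := hT.elim_finite_subcover (fun x : α => (U x : Set α)) (fun x => (U x).isOpen)
    (fun x _ => Set.mem_iUnion.mpr ⟨x, hxU x⟩)
  have hs : s = ⋃ x ∈ t, (s ∩ (U x : Set α)) := by
    ext y
    simp only [Set.mem_iUnion, Set.mem_inter_iff, exists_and_left, exists_prop]
    constructor
    · intro hy
      obtain ⟨x, hx, hyx⟩ := Set.mem_iUnion₂.mp (ht (hsT hy))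
      exact ⟨hy, x, hx, hyx⟩
    · exact fun h => h.1
  rw [hs]
  refine t.finite_toSet.isCompact_biUnion (fun x _ => ?_)
  have := hU x
  have h1 : IsCompact ((Subtype.val : U x → α) ⁻¹' s) := NoetherianSpace.isCompact _
  have h2 := h1.image continuous_subtype_val
  have h3 : (Subtype.val : U x → α) '' ((Subtype.val : U x → α) ⁻¹' s) = s ∩ (U x : Set α) := by
    ext y
    simp only [Set.mem_image, Set.mem_preimage, Subtype.exists, exists_and_right, exists_eq_right,
      Set.mem_inter_iff]
    exact ⟨fun ⟨h, hy⟩ => ⟨hy, h⟩, fun ⟨hy, h⟩ => ⟨h, hy⟩⟩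
  rwa [h3] at h2

theorem quasiCompact_of_comp_of_locallyNoetherian {X Y Z : Scheme.{u}} (f : X ⟶ Y) (g : Y ⟶ Z)
    [QuasiCompact (f ≫ g)]
    (hX : ∀ x : X, ∃ U : X.Opens, x ∈ U ∧ NoetherianSpace U) : QuasiCompact f := by
  constructor
  intro V hV hVc
  -- cover the compact image `g '' V` by finitely many affine opens of `Z`
  have hgV : IsCompact (g.base '' V) := hVc.image g.base.hom.continuous
  obtain ⟨t, ht⟩ := hgV.elim_finite_subcover
    (fun z : Z => ((Z.affineCover.f (Z.affineCover.idx z)).opensRange : Set Z))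
    (fun z => (Z.affineCover.f (Z.affineCover.idx z)).opensRange.isOpen)
    (fun z _ => Set.mem_iUnion.mpr ⟨z, Z.affineCover.covers z⟩)
  set W : Set Z := ⋃ z ∈ t, ((Z.affineCover.f (Z.affineCover.idx z)).opensRange : Set Z) with hW
  have hWo : IsOpen W := isOpen_biUnion (fun z _ => (Scheme.Hom.opensRange _).isOpen)
  have hWc : IsCompact W := t.finite_toSet.isCompact_biUnion
    (fun z _ => (isAffineOpen_opensRange (Z.affineCover.f (Z.affineCover.idx z))).isCompact)
  have hT : IsCompact ((f ≫ g).base ⁻¹' W) :=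
    QuasiCompact.isCompact_preimage (f := f ≫ g) W hWo hWc
  refine isCompact_of_subset_of_locallyNoetherian hX hT ?_
  intro x hx
  apply ht
  exact ⟨f.base x, hx, by simp⟩

theorem exists_noetherianSpace_nhds_of_isLocallyNoetherian (X : Scheme.{u}) [IsLocallyNoetherian X]
    (x : X) : ∃ U : X.Opens, x ∈ U ∧ NoetherianSpace U := by
  obtain ⟨_, ⟨U : X.Opens, hU, rfl⟩, hxU, -⟩ :=
    X.isBasis_affineOpens.exists_subset_of_mem_open (Set.mem_univ x) isOpen_univ
  have : IsNoetherianRing Γ(X, U) := IsLocallyNoetherian.component_noetherian ⟨U, hU⟩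
  exact ⟨U, hxU, noetherianSpace_of_isAffineOpen U hU⟩

end Groth.Agent.H22
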