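import Groth.Agent.H22.DVRCenter
import Groth.Agent.H22.CenterDense

/-!
# Properness over a neighbourhood of a point (EGA IV 15.7-style local criterion)
-/

set_option autoImplicit false
universe u
open CategoryTheory CategoryTheory.Limits AlgebraicGeometry IsLocalRing

namespace Groth.Agent.H22.LocalProper

open Groth.Agent.H22.LocalPt Groth.Agent.H22.CenterLemma Groth.Agent.H22.CenterCor
open Groth.Agent.H22.DomCenter Groth.Agent.H22.DVRCenter

variable {X Y : Scheme.{u}} [IsIntegral X] [IsIntegral Y] (f : X ⟶ Y)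

/-- The map `Γ(Y, W) ⟶ K(X)`. -/
noncomputable def thetaB (W : Y.Opens) (hW : f.base (genericPoint X) ∈ W) :
    Γ(Y, W) ⟶ X.functionField :=
  Y.presheaf.germ W (f.base (genericPoint X)) hW ≫ f.stalkMap (genericPoint X)

variable {f}

lemma germ_theta (W : Y.Opens) (hW : f.base (genericPoint X) ∈ W) (y' : Y) (hy'W : y' ∈ W)
    (hy' : f.base (genericPoint X) ⤳ y') (b : Γ(Y, W)) :
    (Y.presheaf.stalkSpecializes hy' ≫ f.stalkMap (genericPoint X)).hom
      (Y.presheaf.germ W y' hy'W b) = thetaB f W hW b := by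
  change f.stalkMap (genericPoint X) (Y.presheaf.stalkSpecializes hy'
    (Y.presheaf.germ W y' hy'W b)) = _
  rw [TopCat.Presheaf.germ_stalkSpecializes_apply]
  rfl

lemma appLE_germ_theta (W : Y.Opens) (hW : f.base (genericPoint X) ∈ W) (U : X.Opens)
    (e : U ≤ f ⁻¹ᵁ W) (hξU : genericPoint X ∈ U) (b : Γ(Y, W)) :
    X.presheaf.germ U (genericPoint X) hξU (f.appLE W U e b) = thetaB f W hW b := by
  have h1 : f.appLE W U e ≫ X.presheaf.germ U (genericPoint X) hξU = thetaB f W hW := by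
    rw [thetaB, Scheme.Hom.germ_stalkMap, Scheme.Hom.appLE, Category.assoc,
      TopCat.Presheaf.germ_res]
  exact congrArg (fun φ => φ.hom b) h1

/-- Uniqueness of the centre inside an affine open of the base. -/
theorem eq_of_dominates_of_isAffineOpen (R : ValuationSubring X.functionField) (y' : Y)
    (hy' : f.base (genericPoint X) ⤳ y') (h : DominatesBase f R y' hy') (x : X)
    (hx : Dominates R x) {W : Y.Opens} (hW : IsAffineOpen W) (hy'W : y' ∈ W) (hxW : f x ∈ W) :
    f x = y' := by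
  obtain ⟨β, hβloc, hβ⟩ := exists_localHom_of_dominatesBase R y' hy' h
  obtain ⟨α, hαloc, -, hα⟩ := exists_localHom_of_dominates R x hx
  have hloc : IsLocalHom (f.stalkMap x ≫ α).hom := by
    rw [CommRingCat.hom_comp]; infer_instance
  have hu : Set.range (pt y' β) ⊆ Set.range W.ι := by
    rintro _ ⟨p, rfl⟩
    rw [Scheme.Opens.range_ι]
    exact (pt_apply_specializes y' β p).mem_open W.isOpen hy'W
  have hv : Set.range (pt (f x) (f.stalkMap x ≫ α)) ⊆ Set.range W.ι := by
    rintro _ ⟨p, rfl⟩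
    rw [Scheme.Opens.range_ι]
    exact (pt_apply_specializes (f x) _ p).mem_open W.isOpen hxW
  let u' := IsOpenImmersion.lift W.ι _ hu
  let v' := IsOpenImmersion.lift W.ι _ hv
  have hu' : u' ≫ W.ι = pt y' β := IsOpenImmersion.lift_fac _ _ _
  have hv' : v' ≫ W.ι = pt (f x) (f.stalkMap x ≫ α) := IsOpenImmersion.lift_fac _ _ _
  have : IsDominant (Spec.map (CommRingCat.ofHom R.subtype)) :=
    isDominant_SpecMap_of_injective _ Subtype.val_injective
  haveI : IsAffine W := hW
  have huv : v' = u' := by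
    apply ext_of_isDominant (ι := Spec.map (CommRingCat.ofHom R.subtype))
    rw [← cancel_mono W.ι, Category.assoc, Category.assoc, hu', hv', ← pt_comp,
      ← Category.assoc, hα, hβ]
  have huv' : pt (f x) (f.stalkMap x ≫ α) = pt y' β := by
    rw [← hu', ← hv', huv]
  exact eq_of_pt_eq huv'

omit [IsIntegral Y] in
/-- Elements of the stalk at a point of an affine open are fractions of sections. -/
lemma exists_germ_mul_eq {W : Y.Opens} (hW : IsAffineOpen W) (y : Y) (hyW : y ∈ W)
    (r : Y.presheaf.stalk y) :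
    ∃ b t : Γ(Y, W), y ∈ Y.basicOpen t ∧
      r * Y.presheaf.germ W y hyW t = Y.presheaf.germ W y hyW b := by
  letI := Y.presheaf.algebra_section_stalk ⟨y, hyW⟩
  haveI := hW.isLocalization_stalk ⟨y, hyW⟩
  obtain ⟨⟨b, t⟩, hbt⟩ := IsLocalization.surj (hW.primeIdealOf ⟨y, hyW⟩).asIdeal.primeCompl r
  refine ⟨b, t.1, ?_, hbt⟩
  by_contra hcon
  exact t.2 ((DVRSpec.mem_primeIdealOf_iff hW ⟨y, hyW⟩ t.1).mpr hcon)

/-- Generators: the image of `Γ(X, U)` in `K(X)` is generated over `Γ(Y, W)` by a finite set. -/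
lemma exists_finset_generators [LocallyOfFiniteType f] {W : Y.Opens} (hW : IsAffineOpen W)
    (hξW : f.base (genericPoint X) ∈ W) {U : X.Opens} (hU : IsAffineOpen U)
    (e : U ≤ f ⁻¹ᵁ W) (hξU : genericPoint X ∈ U) :
    ∃ F : Finset X.functionField,
      (∀ a ∈ F, ∃ t : Γ(X, U), X.presheaf.germ U (genericPoint X) hξU t = a) ∧
      ∀ S : Subring X.functionField,
      (∀ b : Γ(Y, W), thetaB f W hξW b ∈ S) → (∀ a ∈ F, a ∈ S) →
        ∀ t : Γ(X, U), X.presheaf.germ U (genericPoint X) hξU t ∈ S := by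
  classical
  have hft : (f.appLE W U e).hom.FiniteType := f.finiteType_appLE hW hU e
  letI : Algebra Γ(Y, W) Γ(X, U) := (f.appLE W U e).hom.toAlgebra
  obtain ⟨G, hG⟩ := (hft : Algebra.FiniteType Γ(Y, W) Γ(X, U)).out
  refine ⟨G.image (X.presheaf.germ U (genericPoint X) hξU), fun a ha => ?_, fun S hB hF t => ?_⟩
  · obtain ⟨t, -, rfl⟩ := Finset.mem_image.mp ha
    exact ⟨t, rfl⟩
  have ht : t ∈ Algebra.adjoin Γ(Y, W) (G : Set Γ(X, U)) := by rw [hG]; trivial
  induction ht using Algebra.adjoin_induction with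
  | mem g hg => exact hF _ (Finset.mem_image_of_mem _ hg)
  | algebraMap b =>
    have : X.presheaf.germ U (genericPoint X) hξU (algebraMap Γ(Y, W) Γ(X, U) b) =
        thetaB f W hξW b := appLE_germ_theta W hξW U e hξU b
    rw [this]; exact hB b
  | add _ _ _ _ h1 h2 => rw [map_add]; exact S.add_mem h1 h2
  | mul _ _ _ _ h1 h2 => rw [map_mul]; exact S.mul_mem h1 h2

set_option maxHeartbeats 800000 in
/-- Key step at the point `y`: if all discrete valuation rings centred at `y` have a centre on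
`X` over `y`, then for a "transversal" finite set `T` there is a section `s` with `s(y) ≠ 0` that
lies in the maximal ideal of every valuation ring containing `Γ(Y, W)` and no element of `T`. -/
theorem exists_section_of_dvr_centers
    [IsLocallyNoetherian Y] [IsDominant f] [LocallyOfFiniteType f]
    {W : Y.Opens} (hW : IsAffineOpen W) (hξW : f.base (genericPoint X) ∈ W)
    (y : Y) (hyW : y ∈ W) (hξ : f.base (genericPoint X) ⤳ y)
    (hDVR : ∀ A : ValuationSubring X.functionField, IsDiscreteValuationRing A →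
      DominatesBase f A y hξ → ∃ x : X, f.base x = y ∧ Dominates A x)
    (T : Finset X.functionField) (hT0 : (0 : X.functionField) ∉ T) (hTne : T.Nonempty)
    (hTcen : ∀ (A : ValuationSubring X.functionField) (x : X), f.base x ∈ W → Dominates A x →
      ∃ a ∈ T, a ∈ A) :
    ∃ s : Γ(Y, W), y ∈ Y.basicOpen s ∧ ∀ R : ValuationSubring X.functionField,
      (∀ b : Γ(Y, W), thetaB f W hξW b ∈ R) → (∀ a ∈ T, a ∉ R) →
        R.valuation (thetaB f W hξW s) < 1 := by
  classical
  letI : Algebra Γ(Y, W) X.functionField := (thetaB f W hξW).hom.toAlgebra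
  set Tinv : Finset X.functionField := T.image (fun a => a⁻¹) with hTinv
  let BT : Subalgebra Γ(Y, W) X.functionField :=
    Algebra.adjoin _ (Tinv : Set X.functionField)
  let IT : Ideal BT := Ideal.span (Subtype.val ⁻¹' (Tinv : Set X.functionField))
  by_cases hex : ∃ s : Γ(Y, W), y ∈ Y.basicOpen s ∧ algebraMap Γ(Y, W) BT s ∈ IT
  · obtain ⟨s, hys, hsI⟩ := hex
    refine ⟨s, hys, fun R hB hTR => ?_⟩
    let Rₐ : Subalgebra Γ(Y, W) X.functionField :=
      { R.toSubring with algebraMap_mem' := hB }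
    have hinv : ∀ t ∈ Tinv, R.valuation t < 1 := by
      intro t ht
      obtain ⟨a, ha, rfl⟩ := Finset.mem_image.mp ht
      exact (valuation_inv_lt_one R (hTR a ha)).2
    have hBTR : BT ≤ Rₐ :=
      Algebra.adjoin_le (fun t ht => (R.valuation_le_one_iff t).mp (hinv t ht).le)
    let ι : BT →+* R := (BT.val.toRingHom).codRestrict R.toSubring (fun b => hBTR b.2)
    have hIT : IT ≤ (IsLocalRing.maximalIdeal R).comap ι := by
      apply Ideal.span_le.mpr
      intro x hx
      change ι x ∈ IsLocalRing.maximalIdeal R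
      rw [ValuationSubring.valuation_lt_one_iff]
      exact hinv _ hx
    have h1 := hIT hsI
    change ι _ ∈ IsLocalRing.maximalIdeal R at h1
    rw [ValuationSubring.valuation_lt_one_iff] at h1
    exact h1
  · exfalso
    push_neg at hex
    let 𝔭 : Ideal Γ(Y, W) := (hW.primeIdealOf ⟨y, hyW⟩).asIdeal
    have h𝔭 : ∀ b, b ∈ 𝔭 ↔ y ∉ Y.basicOpen b := DVRSpec.mem_primeIdealOf_iff hW ⟨y, hyW⟩
    have hnoI : ∀ s : Γ(Y, W), algebraMap _ BT s ∈ IT → s ∈ 𝔭 :=
      fun s hs => (h𝔭 s).mpr (fun h => hex s h hs)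
    -- `BT = B + IT`
    have hsum : ∀ (x : X.functionField) (hx : x ∈ BT),
        ∃ β : Γ(Y, W), (⟨x, hx⟩ : BT) - algebraMap _ BT β ∈ IT := by
      intro x hx
      induction hx using Algebra.adjoin_induction with
      | mem t ht =>
        refine ⟨0, ?_⟩
        rw [map_zero, sub_zero]
        exact Ideal.subset_span ht
      | algebraMap r =>
        refine ⟨r, ?_⟩
        have : (⟨algebraMap Γ(Y, W) X.functionField r, BT.algebraMap_mem r⟩ : BT) -
            algebraMap _ BT r = 0 := by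
          apply Subtype.ext
          simp
        rw [this]; exact IT.zero_mem
      | add x₁ x₂ hx₁ hx₂ h1 h2 =>
        obtain ⟨β₁, h1⟩ := h1
        obtain ⟨β₂, h2⟩ := h2
        refine ⟨β₁ + β₂, ?_⟩
        have : (⟨x₁ + x₂, BT.add_mem hx₁ hx₂⟩ : BT) - algebraMap _ BT (β₁ + β₂) =
            ((⟨x₁, hx₁⟩ : BT) - algebraMap _ BT β₁) + ((⟨x₂, hx₂⟩ : BT) - algebraMap _ BT β₂) := by
          apply Subtype.ext
          simp only [map_add, Subalgebra.coe_sub, Subalgebra.coe_add]
          ring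
        rw [this]; exact IT.add_mem h1 h2
      | mul x₁ x₂ hx₁ hx₂ h1 h2 =>
        obtain ⟨β₁, h1⟩ := h1
        obtain ⟨β₂, h2⟩ := h2
        refine ⟨β₁ * β₂, ?_⟩
        have : (⟨x₁ * x₂, BT.mul_mem hx₁ hx₂⟩ : BT) - algebraMap _ BT (β₁ * β₂) =
            (⟨x₁, hx₁⟩ : BT) * ((⟨x₂, hx₂⟩ : BT) - algebraMap _ BT β₂) +
              algebraMap _ BT β₂ * ((⟨x₁, hx₁⟩ : BT) - algebraMap _ BT β₁) := by
          apply Subtype.ext
          simp only [map_mul, Subalgebra.coe_sub, Subalgebra.coe_add, Subalgebra.coe_mul]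
          ring
        rw [this]; exact IT.add_mem (IT.mul_mem_left _ h2) (IT.mul_mem_left _ h1)
    let 𝔞 : Ideal BT := IT ⊔ 𝔭.map (algebraMap Γ(Y, W) BT)
    let M : Submonoid BT := 𝔭.primeCompl.map (algebraMap Γ(Y, W) BT : Γ(Y, W) →* BT)
    have hmap : ∀ p ∈ 𝔭.map (algebraMap Γ(Y, W) BT),
        ∃ β ∈ 𝔭, p - algebraMap _ BT β ∈ IT := by
      intro p hp
      refine Submodule.span_induction (p := fun p _ => ∃ β ∈ 𝔭, p - algebraMap _ BT β ∈ IT)
        ?_ ?_ ?_ ?_ hp
      · rintro _ ⟨β, hβ, rfl⟩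
        exact ⟨β, hβ, by rw [sub_self]; exact IT.zero_mem⟩
      · exact ⟨0, 𝔭.zero_mem, by simp⟩
      · rintro p₁ p₂ _ _ ⟨β₁, hβ₁, h1⟩ ⟨β₂, hβ₂, h2⟩
        exact ⟨β₁ + β₂, 𝔭.add_mem hβ₁ hβ₂, by
          rw [map_add, add_sub_add_comm]; exact IT.add_mem h1 h2⟩
      · rintro b p' _ ⟨β', hβ', h'⟩
        obtain ⟨βb, hb⟩ := hsum b.1 b.2
        refine ⟨βb * β', 𝔭.mul_mem_left _ hβ', ?_⟩
        have : b • p' - algebraMap _ BT (βb * β') =
            b * (p' - algebraMap _ BT β') + algebraMap _ BT β' * (b - algebraMap _ BT βb) := by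
          rw [smul_eq_mul, map_mul]; ring
        rw [this]
        exact IT.add_mem (IT.mul_mem_left _ h') (IT.mul_mem_left _ hb)
    have hdisj : Disjoint (𝔞 : Set BT) (M : Set BT) := by
      rw [Set.disjoint_left]
      rintro z hz ⟨t, ht, rfl⟩
      obtain ⟨i, hi, p, hp, hz'⟩ := Submodule.mem_sup.mp hz
      obtain ⟨β, hβ, hpβ⟩ := hmap p hp
      have h1 : algebraMap _ BT (t - β) ∈ IT := by
        rw [map_sub]
        have : algebraMap _ BT t - algebraMap _ BT β = i + (p - algebraMap _ BT β) := by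
          have hz'' : (algebraMap Γ(Y, W) BT) t = i + p := hz'.symm
          rw [hz'']; ring
        rw [this]; exact IT.add_mem hi hpβ
      have h2 := hnoI _ h1
      have h3 : t ∈ 𝔭 := by
        have := 𝔭.add_mem h2 hβ
        rwa [sub_add_cancel] at this
      exact ht h3
    obtain ⟨𝔮, h𝔮prime, h𝔞𝔮, h𝔮M⟩ := Ideal.exists_le_prime_disjoint 𝔞 M hdisj
    have h𝔮B : ∀ b : Γ(Y, W), algebraMap _ BT b ∈ 𝔮 ↔ b ∈ 𝔭 := by
      intro b
      constructor
      · intro hb
        by_contra hnb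
        exact Set.disjoint_left.mp h𝔮M hb ⟨b, hnb, rfl⟩
      · intro hb
        exact h𝔞𝔮 (Ideal.mem_sup_right (Ideal.mem_map_of_mem _ hb))
    obtain ⟨a₀, ha₀⟩ := hTne
    have ha₀0 : a₀ ≠ 0 := fun h => hT0 (h ▸ ha₀)
    have hTinvmem : ∀ a ∈ T, a⁻¹ ∈ (Tinv : Set X.functionField) := fun a ha =>
      Finset.mem_coe.mpr (Finset.mem_image_of_mem _ ha)
    have hT𝔮 : ∀ a (ha : a ∈ T),
        (⟨a⁻¹, Algebra.subset_adjoin (hTinvmem a ha)⟩ : BT) ∈ 𝔮 := fun a ha =>
      h𝔞𝔮 (Ideal.mem_sup_left (Ideal.subset_span (hTinvmem a ha)))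
    have h𝔮0 : 𝔮 ≠ ⊥ := by
      intro h
      have := hT𝔮 a₀ ha₀
      rw [h, Ideal.mem_bot] at this
      exact inv_ne_zero ha₀0 (congrArg Subtype.val this)
    haveI : IsNoetherianRing Γ(Y, W) := IsLocallyNoetherian.component_noetherian ⟨W, hW⟩
    have hNoeth : IsNoetherianRing BT := isNoetherianRing_of_fg (Subalgebra.fg_adjoin_finset Tinv)
    -- relation between stalk elements and sections
    have key : ∀ r : Y.presheaf.stalk y, ∃ b t : Γ(Y, W), y ∈ Y.basicOpen t ∧
        r * Y.presheaf.germ W y hyW t = Y.presheaf.germ W y hyW b ∧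
        (Y.presheaf.stalkSpecializes hξ ≫ f.stalkMap (genericPoint X)).hom r *
          thetaB f W hξW t = thetaB f W hξW b ∧ thetaB f W hξW t ≠ 0 := by
      intro r
      obtain ⟨b, t, hyt, hbt⟩ := exists_germ_mul_eq hW y hyW r
      refine ⟨b, t, hyt, hbt, ?_, ?_⟩
      · have := congrArg (Y.presheaf.stalkSpecializes hξ ≫ f.stalkMap (genericPoint X)).hom hbt
        rw [map_mul, germ_theta W hξW y hyW hξ, germ_theta W hξW y hyW hξ] at this
        exact this
      · rw [← germ_theta W hξW y hyW hξ t]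
        have hu : IsUnit (Y.presheaf.germ W y hyW t) := (Y.mem_basicOpen t y hyW).mp hyt
        exact (hu.map (Y.presheaf.stalkSpecializes hξ ≫ f.stalkMap (genericPoint X)).hom).ne_zero
    obtain ⟨σ, hσ⟩ := exists_finset_closure_eq_top (f := f) y hξ
    have hσ' : Subfield.closure (Set.range (algebraMap BT X.functionField) ∪ σ) = ⊤ := by
      rw [eq_top_iff, ← hσ, Subfield.closure_le]
      rintro _ (⟨r, rfl⟩ | h)
      · obtain ⟨b, t, -, -, h1, h2⟩ := key r
        have h3 : (Y.presheaf.stalkSpecializes hξ ≫ f.stalkMap (genericPoint X)).hom r =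
            thetaB f W hξW b / thetaB f W hξW t := by
          rw [eq_div_iff h2]; exact h1
        rw [h3]
        exact div_mem (Subfield.subset_closure (Or.inl ⟨algebraMap _ BT b, rfl⟩))
          (Subfield.subset_closure (Or.inl ⟨algebraMap _ BT t, rfl⟩))
      · exact Subfield.subset_closure (Or.inr h)
    have hfaith : FaithfulSMul BT X.functionField :=
      (faithfulSMul_iff_algebraMap_injective _ _).mpr Subtype.val_injective
    obtain ⟨R', hR'dvr, hR'B, hR'n⟩ := DVRDom.exists_dvr_of_prime' 𝔮 h𝔮0 σ hσ'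
    have hθB : ∀ b : Γ(Y, W), thetaB f W hξW b ∈ R' := fun b => hR'B (algebraMap _ BT b)
    have hθB𝔭 : ∀ b, b ∈ 𝔭 ↔ R'.valuation (thetaB f W hξW b) < 1 := fun b => by
      rw [← h𝔮B]; exact hR'n (algebraMap _ BT b)
    have hval1 : ∀ t : Γ(Y, W), y ∈ Y.basicOpen t → R'.valuation (thetaB f W hξW t) = 1 := by
      intro t hyt
      apply le_antisymm ((R'.valuation_le_one_iff _).mpr (hθB t))
      rw [← not_lt, ← hθB𝔭, h𝔭, not_not]
      exact hyt
    have hdom' : DominatesBase f R' y hξ := by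
      constructor
      · intro r
        obtain ⟨b, t, hyt, -, h1, -⟩ := key r
        rw [← R'.valuation_le_one_iff]
        have := congrArg R'.valuation h1
        rw [map_mul, hval1 t hyt, mul_one] at this
        rw [this]
        exact (R'.valuation_le_one_iff _).mpr (hθB b)
      · intro r hr
        obtain ⟨b, t, hyt, hbt, h1, -⟩ := key r
        have hb𝔭 : b ∈ 𝔭 := by
          rw [h𝔭, Y.mem_basicOpen b y hyW, ← hbt]
          intro hu
          exact (IsLocalRing.mem_maximalIdeal r).mp hr (isUnit_of_mul_isUnit_left hu)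
        have := congrArg R'.valuation h1
        rw [map_mul, hval1 t hyt, mul_one] at this
        rw [this]
        exact (hθB𝔭 b).mp hb𝔭
    obtain ⟨x, hfx, hx⟩ := hDVR R' hR'dvr hdom'
    obtain ⟨a, haT, haR'⟩ := hTcen R' x (hfx ▸ hyW) hx
    have h1 : R'.valuation a⁻¹ < 1 := (hR'n ⟨a⁻¹, _⟩).mp (hT𝔮 a haT)
    have ha0 : a ≠ 0 := fun h => hT0 (h ▸ haT)
    have h2 : R'.valuation a ≤ 1 := (R'.valuation_le_one_iff _).mpr haR'
    have h3 : R'.valuation a * R'.valuation a⁻¹ = 1 := by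
      rw [← map_mul, mul_inv_cancel₀ ha0, map_one]
    have h4 : R'.valuation a * R'.valuation a⁻¹ < 1 := by
      calc _ ≤ 1 * R'.valuation a⁻¹ := mul_le_mul_left h2 _
        _ = R'.valuation a⁻¹ := one_mul _
        _ < 1 := h1
    exact absurd h3 (ne_of_lt h4)

set_option maxHeartbeats 800000 in
/-- If all discrete valuation rings of `K(X)` centred at `y` have a centre on `X` over `y`, then
there is an open neighbourhood `U` of `y` such that every valuation ring of `K(X)` centred at a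
point `y'` of `U` has a centre on `X` over `y'`. -/
theorem exists_open_centers [IsLocallyNoetherian Y] [IsDominant f] [LocallyOfFiniteType f]
    [QuasiCompact f] {W : Y.Opens} (hW : IsAffineOpen W) (y : Y) (hyW : y ∈ W)
    (hξ : f.base (genericPoint X) ⤳ y)
    (hDVR : ∀ A : ValuationSubring X.functionField, IsDiscreteValuationRing A →
      DominatesBase f A y hξ → ∃ x : X, f.base x = y ∧ Dominates A x) :
    ∃ U : Y.Opens, y ∈ U ∧ U ≤ W ∧ ∀ y' ∈ U, ∀ (hy' : f.base (genericPoint X) ⤳ y')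
      (R : ValuationSubring X.functionField), DominatesBase f R y' hy' →
        ∃ x : X, f.base x = y' ∧ Dominates R x := by
  classical
  have hξW : f.base (genericPoint X) ∈ W := hξ.mem_open W.isOpen hyW
  have hcpt : IsCompact ((f ⁻¹ᵁ W : X.Opens) : Set X) := f.isCompact_preimage hW.isCompact
  obtain ⟨𝒰, hfin, h𝒰⟩ := isCompact_and_isOpen_iff_finite_and_eq_biUnion_affineOpens.mp
    ⟨hcpt, (f ⁻¹ᵁ W).isOpen⟩
  have hle : ∀ U ∈ 𝒰, (U : X.Opens) ≤ f ⁻¹ᵁ W := by
    intro U hU x hx
    have : x ∈ ((f ⁻¹ᵁ W : X.Opens) : Set X) := by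
      rw [h𝒰]; exact Set.mem_iUnion₂.mpr ⟨U, hU, hx⟩
    exact this
  have hcov : ∀ x : X, f.base x ∈ W → ∃ U ∈ 𝒰, x ∈ (U : X.Opens) := by
    intro x hx
    have : x ∈ ((f ⁻¹ᵁ W : X.Opens) : Set X) := hx
    rw [h𝒰] at this
    obtain ⟨U, hU, hxU⟩ := Set.mem_iUnion₂.mp this
    exact ⟨U, hU, hxU⟩
  have hgenmem : ∀ (U : X.affineOpens) (x : X), x ∈ (U : X.Opens) →
      genericPoint X ∈ (U : X.Opens) := fun U x hx =>
    ((genericPoint_spec X).specializes trivial : genericPoint X ⤳ x).mem_open U.1.isOpen hx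
  obtain ⟨U₀, hU₀, hξU₀⟩ := hcov (genericPoint X) hξW
  -- generators
  have hgen : ∀ U : X.affineOpens, ∃ F : Finset X.functionField,
      ∀ (_ : U ∈ 𝒰) (hξU : genericPoint X ∈ (U : X.Opens)),
        (∀ a ∈ F, ∃ t : Γ(X, U), X.presheaf.germ U (genericPoint X) hξU t = a) ∧
        ∀ S : Subring X.functionField,
          (∀ b : Γ(Y, W), thetaB f W hξW b ∈ S) → (∀ a ∈ F, a ∈ S) →
            ∀ t : Γ(X, U), X.presheaf.germ U (genericPoint X) hξU t ∈ S := by
    intro U
    by_cases hU : U ∈ 𝒰 ∧ genericPoint X ∈ (U : X.Opens)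
    · obtain ⟨F, hF1, hF2⟩ := exists_finset_generators hW hξW U.2 (hle U hU.1) hU.2
      exact ⟨F, fun _ _ => ⟨hF1, hF2⟩⟩
    · exact ⟨∅, fun h1 h2 => absurd ⟨h1, h2⟩ hU⟩
  choose F hF using hgen
  let Fall : Finset X.functionField := hfin.toFinset.biUnion F
  let Transversal : Finset X.functionField → Prop := fun T =>
    ∀ U ∈ 𝒰, genericPoint X ∈ (U : X.Opens) → ∃ a ∈ T, a ∈ F U
  -- sections
  have hsec : ∀ T : Finset X.functionField, ∃ s : Γ(Y, W), y ∈ Y.basicOpen s ∧
      ((0 : X.functionField) ∉ T → Transversal T → ∀ R : ValuationSubring X.functionField,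
        (∀ b : Γ(Y, W), thetaB f W hξW b ∈ R) → (∀ a ∈ T, a ∉ R) →
          R.valuation (thetaB f W hξW s) < 1) := by
    intro T
    by_cases hT : (0 : X.functionField) ∉ T ∧ Transversal T
    · have hTne : T.Nonempty := by
        obtain ⟨a, ha, -⟩ := hT.2 U₀ hU₀ hξU₀
        exact ⟨a, ha⟩
      have hTcen : ∀ (A : ValuationSubring X.functionField) (x : X), f.base x ∈ W →
          Dominates A x → ∃ a ∈ T, a ∈ A := by
        intro A x hxW hx
        obtain ⟨U, hU, hxU⟩ := hcov x hxW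
        have hξU := hgenmem U x hxU
        obtain ⟨a, haT, haF⟩ := hT.2 U hU hξU
        obtain ⟨t, rfl⟩ := (hF U hU hξU).1 a haF
        exact ⟨_, haT, germ_mem_of_dominates A x hx hxU hξU t⟩
      obtain ⟨s, hs1, hs2⟩ := exists_section_of_dvr_centers hW hξW y hyW hξ hDVR T hT.1 hTne hTcen
      exact ⟨s, hs1, fun _ _ => hs2⟩
    · refine ⟨1, ?_, fun h1 h2 => absurd ⟨h1, h2⟩ hT⟩
      rw [Y.mem_basicOpen 1 y hyW, map_one]
      exact isUnit_one
  choose sT hsT1 hsT2 using hsec
  let s : Γ(Y, W) := ∏ T ∈ Fall.powerset, sT T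
  refine ⟨Y.basicOpen s, ?_, Y.basicOpen_le s, ?_⟩
  · rw [Y.mem_basicOpen s y hyW, map_prod]
    refine Finset.prod_induction _ IsUnit (fun _ _ => IsUnit.mul) isUnit_one (fun T _ => ?_)
    exact (Y.mem_basicOpen (sT T) y hyW).mp (hsT1 T)
  · intro y' hy'U hy' R hdomR
    have hy'W : y' ∈ W := Y.basicOpen_le s hy'U
    have hB : ∀ b : Γ(Y, W), thetaB f W hξW b ∈ R := by
      intro b
      rw [← germ_theta W hξW y' hy'W hy' b]
      exact hdomR.1 _
    let TR : Finset X.functionField := Fall.filter (fun a => a ∉ R)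
    have hTR0 : (0 : X.functionField) ∉ TR := by
      intro h
      exact (Finset.mem_filter.mp h).2 R.zero_mem
    by_cases htr : Transversal TR
    · exfalso
      have h1 : R.valuation (thetaB f W hξW (sT TR)) < 1 :=
        hsT2 TR hTR0 htr R hB (fun a ha => (Finset.mem_filter.mp ha).2)
      have hdvd : sT TR ∣ s :=
        Finset.dvd_prod_of_mem _ (Finset.mem_powerset.mpr (Finset.filter_subset _ _))
      have hus : IsUnit (Y.presheaf.germ W y' hy'W s) := (Y.mem_basicOpen s y' hy'W).mp hy'U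
      have hu : IsUnit (Y.presheaf.germ W y' hy'W (sT TR)) :=
        isUnit_of_dvd_unit (map_dvd _ hdvd) hus
      obtain ⟨u', hu'⟩ := hu.exists_right_inv
      have h2 := congrArg
        (Y.presheaf.stalkSpecializes hy' ≫ f.stalkMap (genericPoint X)).hom hu'
      rw [map_mul, map_one, germ_theta W hξW y' hy'W hy'] at h2
      have h3 := congrArg R.valuation h2
      rw [map_mul, map_one] at h3
      have h4 : R.valuation ((Y.presheaf.stalkSpecializes hy' ≫
          f.stalkMap (genericPoint X)).hom u') ≤ 1 :=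
        (R.valuation_le_one_iff _).mpr (hdomR.1 u')
      have h5 : R.valuation (thetaB f W hξW (sT TR)) * R.valuation
          ((Y.presheaf.stalkSpecializes hy' ≫ f.stalkMap (genericPoint X)).hom u') < 1 := by
        calc _ ≤ R.valuation (thetaB f W hξW (sT TR)) * 1 := mul_le_mul_right h4 _
          _ = R.valuation (thetaB f W hξW (sT TR)) := mul_one _
          _ < 1 := h1
      exact absurd h3 (ne_of_lt h5)
    · simp only [Transversal] at htr
      push_neg at htr
      obtain ⟨U₁, hU₁, hξU₁, hnone⟩ := htr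
      have hFR : ∀ a ∈ F U₁, a ∈ R.toSubring := by
        intro a ha
        by_contra haR
        have : a ∈ TR := Finset.mem_filter.mpr
          ⟨Finset.mem_biUnion.mpr ⟨U₁, hfin.mem_toFinset.mpr hU₁, ha⟩, haR⟩
        exact hnone a this ha
      have hall := (hF U₁ hU₁ hξU₁).2 R.toSubring hB hFR
      obtain ⟨x, hxU₁, hx⟩ := exists_dominates_of_affine R U₁.2 hξU₁ hall
      have hxW : f.base x ∈ W := hle U₁ hU₁ hxU₁
      exact ⟨x, eq_of_dominates_of_isAffineOpen R y' hy' hdomR x hx hW hy'W hxW, hx⟩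

/-- If every valuation ring of `K(X)` centred at a point `y'` of the open `U` has a centre on
`X` over `y'`, then `f` is proper over `U`. -/
theorem isProper_restrict_of_centers [IsSeparated f] [LocallyOfFiniteType f] [QuasiCompact f]
    (U : Y.Opens) (hξU : f.base (genericPoint X) ∈ U)
    (hU : ∀ y' ∈ U, ∀ (hy' : f.base (genericPoint X) ⤳ y')
      (R : ValuationSubring X.functionField), DominatesBase f R y' hy' →
        ∃ x : X, f.base x = y' ∧ Dominates R x) :
    IsProper (f ∣_ U) := by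
  classical
  have hrange : Set.range (gen X) ⊆ Set.range (f ⁻¹ᵁ U).ι := by
    rintro _ ⟨p, rfl⟩
    rw [Scheme.Opens.range_ι, gen_eq_pt]
    exact (pt_apply_specializes (genericPoint X) (𝟙 _) p).mem_open (f ⁻¹ᵁ U).isOpen hξU
  let g' : Spec (.of X.functionField) ⟶ (f ⁻¹ᵁ U).toScheme :=
    IsOpenImmersion.lift (f ⁻¹ᵁ U).ι (gen X) hrange
  have hg' : g' ≫ (f ⁻¹ᵁ U).ι = gen X := IsOpenImmersion.lift_fac _ _ _
  have hgen : ∀ x' : (f ⁻¹ᵁ U).toScheme, g' (closedPoint X.functionField) ⤳ x' := by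
    intro x'
    have h1 : (f ⁻¹ᵁ U).ι (g' (closedPoint X.functionField)) = genericPoint X := by
      rw [← Scheme.Hom.comp_apply, hg', gen_closedPoint]
    have h2 : (f ⁻¹ᵁ U).ι (g' (closedPoint X.functionField)) ⤳ (f ⁻¹ᵁ U).ι x' := by
      rw [h1]; exact (genericPoint_spec X).specializes trivial
    exact (f ⁻¹ᵁ U).ι.isOpenEmbedding.isInducing.specializes_iff.mp h2
  have hU' : UniqueLiftAt (f ∣_ U) g' := uniqueLiftAt_of_isSeparated _ _
  have hE' : ExistsLiftAt (f ∣_ U) g' := by
    intro R i₂ w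
    have hw' : gen X ≫ f = Spec.map (CommRingCat.ofHom R.subtype) ≫ i₂ ≫ U.ι := by
      calc gen X ≫ f = g' ≫ (f ⁻¹ᵁ U).ι ≫ f := by rw [← Category.assoc, hg']
        _ = g' ≫ (f ∣_ U) ≫ U.ι := by rw [morphismRestrict_ι]
        _ = Spec.map (CommRingCat.ofHom R.subtype) ≫ i₂ ≫ U.ι := by
            rw [← Category.assoc, w, Category.assoc]
    obtain ⟨y', β, hβloc, hj, hy'cl⟩ := exists_eq_pt (i₂ ≫ U.ι)
    have hy'U : y' ∈ U := by
      rw [hy'cl, Scheme.Hom.comp_apply]
      exact (i₂ (closedPoint R)).2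
    rw [hj] at hw'
    have hy' : f.base (genericPoint X) ⤳ y' := by
      have h1 := congrArg (fun u : Spec (.of X.functionField) ⟶ Y =>
        u (closedPoint X.functionField)) hw'
      simp only [Scheme.Hom.comp_apply] at h1
      rw [gen_closedPoint] at h1
      rw [h1]
      exact pt_apply_specializes y' β _
    have I : Y.presheaf.stalkSpecializes hy' ≫ f.stalkMap (genericPoint X) =
        β ≫ CommRingCat.ofHom R.subtype := by
      apply pt_inj (x := y')
      calc pt y' (Y.presheaf.stalkSpecializes hy' ≫ f.stalkMap (genericPoint X))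
          = pt (f (genericPoint X)) (f.stalkMap (genericPoint X)) :=
            (pt_specializes hy' _).symm
        _ = pt (f (genericPoint X)) (f.stalkMap (genericPoint X) ≫ 𝟙 _) := by
            rw [Category.comp_id]
        _ = pt (genericPoint X) (𝟙 _) ≫ f := (pt_comp ..).symm
        _ = gen X ≫ f := by rw [gen_eq_pt]
        _ = Spec.map (CommRingCat.ofHom R.subtype) ≫ pt y' β := hw'
        _ = pt y' (β ≫ CommRingCat.ofHom R.subtype) := map_pt ..
    have I' : ∀ a : Y.presheaf.stalk y',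
        (Y.presheaf.stalkSpecializes hy' ≫ f.stalkMap (genericPoint X)).hom a =
          ((β a : R) : X.functionField) := by
      intro a
      have := congrArg (fun ψ => ψ.hom a) I
      simpa using this
    have hdomR : DominatesBase f R y' hy' :=
      ⟨fun a => by rw [I']; exact (β a).2, fun a ha => by
        rw [I', ← ValuationSubring.valuation_lt_one_iff]
        rw [IsLocalRing.mem_maximalIdeal] at ha ⊢
        intro hu
        exact ha (hβloc.map_nonunit a hu)⟩
    obtain ⟨x, hfx, hx⟩ := hU y' hy'U hy' R hdomR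
    obtain ⟨α, hαloc, -, hα⟩ := exists_localHom_of_dominates R x hx
    have hlf : pt x α ≫ f = pt y' β := by
      subst hfx
      rw [pt_comp]
      congr 1
      have h1 : Spec.map (CommRingCat.ofHom R.subtype) ≫ pt (f x) (f.stalkMap x ≫ α) =
          Spec.map (CommRingCat.ofHom R.subtype) ≫ pt (f x) β := by
        rw [← pt_comp, ← Category.assoc, hα, hw']
      rw [map_pt, map_pt] at h1
      have h2 := pt_inj h1
      ext a
      have := congrArg (fun φ => φ.hom a) h2
      exact this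
    have hlrange : Set.range (pt x α) ⊆ Set.range (f ⁻¹ᵁ U).ι := by
      rintro _ ⟨p, rfl⟩
      rw [Scheme.Opens.range_ι]
      change f (pt x α p) ∈ U
      rw [← Scheme.Hom.comp_apply, hlf, ← hj, Scheme.Hom.comp_apply]
      exact (i₂ p).2
    let l' := IsOpenImmersion.lift (f ⁻¹ᵁ U).ι (pt x α) hlrange
    have hl' : l' ≫ (f ⁻¹ᵁ U).ι = pt x α := IsOpenImmersion.lift_fac _ _ _
    refine ⟨l', ?_, ?_⟩
    · rw [← cancel_mono (f ⁻¹ᵁ U).ι, Category.assoc, hl', hα, hg']
    · rw [← cancel_mono U.ι, Category.assoc, morphismRestrict_ι, ← Category.assoc, hl', hlf, ← hj]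
  have : UniversallyClosed (f ∣_ U) := universallyClosed_of_liftAt (f ∣_ U) g' hgen hE' hU'
  exact { }

/-- If `f` is universally closed over an open neighbourhood `U` of `y`, every valuation ring of
`K(X)` centred at `y` has a centre on `X` over `y`. -/
theorem exists_center_of_universallyClosed_restrict (U : Y.Opens) (y : Y) (hyU : y ∈ U)
    (hξ : f.base (genericPoint X) ⤳ y) [UniversallyClosed (f ∣_ U)]
    (A : ValuationSubring X.functionField) (h : DominatesBase f A y hξ) :
    ∃ x : X, f.base x = y ∧ Dominates A x := by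
  have hξU : f.base (genericPoint X) ∈ U := hξ.mem_open U.isOpen hyU
  obtain ⟨β, hβloc, hβ⟩ := exists_localHom_of_dominatesBase A y hξ h
  have hr : Set.range (pt y β) ⊆ Set.range U.ι := by
    rintro _ ⟨p, rfl⟩
    rw [Scheme.Opens.range_ι]
    exact (pt_apply_specializes y β p).mem_open U.isOpen hyU
  let i₂ := IsOpenImmersion.lift U.ι (pt y β) hr
  have hi₂ : i₂ ≫ U.ι = pt y β := IsOpenImmersion.lift_fac _ _ _
  have hrange : Set.range (gen X) ⊆ Set.range (f ⁻¹ᵁ U).ι := by
    rintro _ ⟨p, rfl⟩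
    rw [Scheme.Opens.range_ι, gen_eq_pt]
    exact (pt_apply_specializes (genericPoint X) (𝟙 _) p).mem_open (f ⁻¹ᵁ U).isOpen hξU
  let g' : Spec (.of X.functionField) ⟶ (f ⁻¹ᵁ U).toScheme :=
    IsOpenImmersion.lift (f ⁻¹ᵁ U).ι (gen X) hrange
  have hg' : g' ≫ (f ⁻¹ᵁ U).ι = gen X := IsOpenImmersion.lift_fac _ _ _
  have w : g' ≫ (f ∣_ U) = Spec.map (CommRingCat.ofHom A.subtype) ≫ i₂ := by
    rw [← cancel_mono U.ι, Category.assoc, morphismRestrict_ι, ← Category.assoc, hg',
      Category.assoc, hi₂, hβ]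
  obtain ⟨l', h1, h2⟩ := CenterDense.existsLiftAt_of_universallyClosed (f ∣_ U) g' A i₂ w
  have hl : Spec.map (CommRingCat.ofHom A.subtype) ≫ (l' ≫ (f ⁻¹ᵁ U).ι) = gen X := by
    rw [← Category.assoc, h1, hg']
  refine ⟨(l' ≫ (f ⁻¹ᵁ U).ι) (closedPoint A), ?_, dominates_of_lift A _ hl⟩
  have h3 : (l' ≫ (f ⁻¹ᵁ U).ι) ≫ f = pt y β := by
    rw [Category.assoc, ← morphismRestrict_ι, ← Category.assoc, h2, hi₂]
  change ((l' ≫ (f ⁻¹ᵁ U).ι) ≫ f) (closedPoint A) = y
  rw [h3, pt_closedPoint]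

end Groth.Agent.H22.LocalProper
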