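import Mathlib

/-!
# Calculus of local-ring-valued points `Spec A ⟶ X`

For `x : X` and `α : 𝒪_{X,x} ⟶ A` we write `pt x α := Spec.map α ≫ X.fromSpecStalk x`.
-/

set_option autoImplicit false
universe u
open CategoryTheory CategoryTheory.Limits AlgebraicGeometry

namespace Groth.Agent.H22.LocalPt

/-- The morphism `Spec A ⟶ X` attached to a point `x` and a ring map `𝒪_{X,x} ⟶ A`. -/
noncomputable def pt {X : Scheme.{u}} {A : CommRingCat.{u}} (x : X) (α : X.presheaf.stalk x ⟶ A) :
    Spec A ⟶ X :=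
  Spec.map α ≫ X.fromSpecStalk x

lemma pt_comp {X S : Scheme.{u}} {A : CommRingCat.{u}} (f : X ⟶ S) (x : X)
    (α : X.presheaf.stalk x ⟶ A) :
    pt x α ≫ f = pt (f x) (f.stalkMap x ≫ α) := by
  simp only [pt, Category.assoc, Spec.map_comp]
  rw [Scheme.SpecMap_stalkMap_fromSpecStalk]

lemma pt_specializes {X : Scheme.{u}} {A : CommRingCat.{u}} {x y : X} (h : x ⤳ y)
    (α : X.presheaf.stalk x ⟶ A) :
    pt x α = pt y (X.presheaf.stalkSpecializes h ≫ α) := by
  simp only [pt, Category.assoc, Spec.map_comp]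
  rw [Scheme.SpecMap_stalkSpecializes_fromSpecStalk]

lemma map_pt {X : Scheme.{u}} {A B : CommRingCat.{u}} (q : A ⟶ B) (x : X)
    (α : X.presheaf.stalk x ⟶ A) :
    Spec.map q ≫ pt x α = pt x (α ≫ q) := by
  simp only [pt, Spec.map_comp, Category.assoc]

lemma pt_inj {X : Scheme.{u}} {A : CommRingCat.{u}} {x : X}
    {α β : X.presheaf.stalk x ⟶ A} (h : pt x α = pt x β) : α = β := by
  simp only [pt] at h
  rw [cancel_mono] at h
  exact Spec.map_injective h

lemma exists_eq_pt {X : Scheme.{u}} {A : CommRingCat.{u}} [IsLocalRing A] (u : Spec A ⟶ X) :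
    ∃ (x : X) (α : X.presheaf.stalk x ⟶ A), IsLocalHom α.hom ∧ u = pt x α ∧
      x = u (IsLocalRing.closedPoint A) :=
  ⟨_, Scheme.stalkClosedPointTo u, inferInstance,
    (Scheme.Spec_stalkClosedPointTo_fromSpecStalk u).symm, rfl⟩

lemma pt_closedPoint {X : Scheme.{u}} {A : CommRingCat.{u}} [IsLocalRing A] (x : X)
    (α : X.presheaf.stalk x ⟶ A) [IsLocalHom α.hom] :
    pt x α (IsLocalRing.closedPoint A) = x := by
  rw [pt, Scheme.Hom.comp_apply, Spec_closedPoint, Scheme.fromSpecStalk_closedPoint]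

lemma pt_apply_specializes {X : Scheme.{u}} {A : CommRingCat.{u}} (x : X)
    (α : X.presheaf.stalk x ⟶ A) (p : Spec A) :
    pt x α p ⤳ x := by
  have : pt x α p ∈ Set.range (X.fromSpecStalk x) := by
    rw [pt, Scheme.Hom.comp_apply]
    exact ⟨_, rfl⟩
  rw [Scheme.range_fromSpecStalk] at this
  exact this

lemma eq_of_pt_eq {X : Scheme.{u}} {A : CommRingCat.{u}} [IsLocalRing A] {x y : X}
    {α : X.presheaf.stalk x ⟶ A} {β : X.presheaf.stalk y ⟶ A}
    [IsLocalHom α.hom] [IsLocalHom β.hom] (h : pt x α = pt y β) : x = y := by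
  rw [← pt_closedPoint x α, h, pt_closedPoint y β]

/-- Lemma Q: two morphisms from the spectrum of a local ring agreeing after an injective local
extension are equal. -/
lemma eq_of_map_comp_eq {S : Scheme.{u}} {A B : CommRingCat.{u}} [IsLocalRing A] [IsLocalRing B]
    (q : A ⟶ B) [IsLocalHom q.hom] (hq : Function.Injective q.hom)
    (u v : Spec A ⟶ S) (h : Spec.map q ≫ u = Spec.map q ≫ v) : u = v := by
  obtain ⟨s, α, hα, rfl, -⟩ := exists_eq_pt u
  obtain ⟨t, β, hβ, rfl, -⟩ := exists_eq_pt v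
  rw [map_pt, map_pt] at h
  have hαq : IsLocalHom (α ≫ q).hom := by
    rw [CommRingCat.hom_comp]; infer_instance
  have hβq : IsLocalHom (β ≫ q).hom := by
    rw [CommRingCat.hom_comp]; infer_instance
  obtain rfl : s = t := eq_of_pt_eq h
  have h2 := pt_inj h
  congr 1
  ext a
  apply hq
  have := congrArg (fun φ => φ.hom a) h2
  simpa using this

/-- A field-valued point factors through the residue field. -/
lemma pt_eq_fromSpecResidueField {X : Scheme.{u}} (x : X) :
    X.fromSpecResidueField x = pt x (X.residue x) := rfl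

end Groth.Agent.H22.LocalPt
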