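import Mathlib.RingTheory.LocalRing.LocalSubring
import Mathlib.RingTheory.Localization.AtPrime.Basic

set_option autoImplicit false
universe u

namespace Groth.Agent.H22

open IsLocalRing

variable {K : Type u} [Field K]

/-- Membership in the localization of a subring at a prime, as a subring of the field. -/
theorem mem_ofPrime_iff (A : Subring K) (P : Ideal A) [P.IsPrime] (x : K) :
    x ∈ (LocalSubring.ofPrime A P).toSubring ↔ ∃ a s : A, s ∉ P ∧ x = (a : K) * (s : K)⁻¹ := by
  constructor
  · rintro ⟨y, rfl⟩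
    obtain ⟨a, s, rfl⟩ := IsLocalization.exists_mk'_eq P.primeCompl y
    refine ⟨a, s.1, s.2, ?_⟩
    rw [IsLocalization.lift_mk']
    simp only [Subring.coe_subtype]
    rw [Units.mul_inv_eq_iff_eq_mul]
    have hs0 : ((s : A) : K) ≠ 0 := by
      intro h
      apply s.2
      have : (s : A) = 0 := Subtype.ext h
      rw [this]
      exact P.zero_mem
    simp [IsUnit.coe_liftRight, hs0]
  · rintro ⟨a, s, hs, rfl⟩
    refine ⟨IsLocalization.mk' (Localization.AtPrime P) a (⟨s, hs⟩ : P.primeCompl), ?_⟩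
    rw [IsLocalization.lift_mk']
    simp only [Subring.coe_subtype]
    rw [Units.mul_inv_eq_iff_eq_mul]
    have hs0 : (s : K) ≠ 0 := by
      intro h
      apply hs
      have : s = 0 := Subtype.ext h
      rw [this]
      exact P.zero_mem
    simp [IsUnit.coe_liftRight, hs0]

/-- The trace on a subring `A` of the maximal ideal of a local subring `Q ⊇ A`. -/
noncomputable abbrev trace (Q : LocalSubring K) {A : Subring K} (hA : A ≤ Q.toSubring) : Ideal A :=
  (maximalIdeal Q.toSubring).comap (Subring.inclusion hA)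

/-- Units of a subring of a field. -/
theorem isUnit_subring_iff (Q : Subring K) (y : Q) : IsUnit y ↔ (y : K) ≠ 0 ∧ (y : K)⁻¹ ∈ Q := by
  constructor
  · rintro ⟨u, rfl⟩
    have h1 : ((u : Q) : K) * ((u⁻¹ : Qˣ) : Q) = 1 := by
      have := congrArg (Subtype.val) u.mul_inv
      rw [Subring.coe_mul, Subring.coe_one] at this
      exact this
    have hne : ((u : Q) : K) ≠ 0 := left_ne_zero_of_mul_eq_one h1
    refine ⟨hne, ?_⟩
    have : ((u : Q) : K)⁻¹ = ((u⁻¹ : Qˣ) : Q) := by
      rw [inv_eq_of_mul_eq_one_right h1]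
    rw [this]
    exact Subtype.prop _
  · rintro ⟨hne, hinv⟩
    exact IsUnit.of_mul_eq_one ⟨(y : K)⁻¹, hinv⟩ (Subtype.ext (by simp [hne]))

theorem mem_trace_iff (Q : LocalSubring K) {A : Subring K} (hA : A ≤ Q.toSubring) (a : A) :
    a ∈ trace Q hA ↔ ((a : K) = 0 ∨ (a : K)⁻¹ ∉ Q.toSubring) := by
  rw [Ideal.mem_comap, mem_maximalIdeal, mem_nonunits_iff, isUnit_subring_iff]
  simp only [Subring.coe_inclusion]
  tauto

theorem trace_ofPrime (A : Subring K) (P : Ideal A) [P.IsPrime] :
    trace (LocalSubring.ofPrime A P) (LocalSubring.le_ofPrime A P) = P :=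
  IsLocalization.AtPrime.under_maximalIdeal (LocalSubring.ofPrime A P).toSubring P

/-- If `A_P` is dominated by `Q`, the trace of `m_Q` on `A` is `P`. -/
theorem trace_eq_of_ofPrime_le (A : Subring K) (P : Ideal A) [P.IsPrime] (Q : LocalSubring K)
    (hle : LocalSubring.ofPrime A P ≤ Q) :
    trace Q ((LocalSubring.le_ofPrime A P).trans hle.1) = P := by
  obtain ⟨h1, h2⟩ := hle
  have h3 := ((local_hom_TFAE (Subring.inclusion h1)).out 0 4).mp h2
  conv_rhs => rw [← trace_ofPrime A P]
  unfold trace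
  rw [← h3, Ideal.comap_comap]
  rfl

/-- The localization of `A` at the trace of `m_Q` is dominated by `Q`. -/
theorem ofPrime_trace_le (Q : LocalSubring K) {A : Subring K} (hA : A ≤ Q.toSubring) :
    LocalSubring.ofPrime A (trace Q hA) ≤ Q := by
  have hsub : (LocalSubring.ofPrime A (trace Q hA)).toSubring ≤ Q.toSubring := by
    intro x hx
    obtain ⟨a, s, hs, rfl⟩ := (mem_ofPrime_iff A _ x).mp hx
    rw [mem_trace_iff] at hs
    push Not at hs
    exact Q.toSubring.mul_mem (hA a.2) hs.2
  refine ⟨hsub, ?_⟩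
  apply ((local_hom_TFAE (Subring.inclusion hsub)).out 0 1).mpr
  rintro _ ⟨y, hy, rfl⟩
  obtain ⟨a, s, hs, hys⟩ := (mem_ofPrime_iff A _ (y : K)).mp y.2
  have hs' := hs
  rw [mem_trace_iff] at hs'
  push Not at hs'
  -- `a = y * s` lies in the maximal ideal of `A_P`, hence in `P`
  let a' : (LocalSubring.ofPrime A (trace Q hA)).toSubring :=
    Subring.inclusion (LocalSubring.le_ofPrime A (trace Q hA)) a
  let s' : (LocalSubring.ofPrime A (trace Q hA)).toSubring :=
    Subring.inclusion (LocalSubring.le_ofPrime A (trace Q hA)) s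
  have has : a' = y * s' := by
    apply Subtype.ext
    change (a : K) = (y : K) * (s : K)
    rw [hys, mul_assoc, inv_mul_cancel₀ hs'.1, mul_one]
  have ha' : a' ∈ maximalIdeal (LocalSubring.ofPrime A (trace Q hA)).toSubring := by
    rw [has]
    exact Ideal.mul_mem_right _ _ hy
  have haP : a ∈ trace Q hA := by
    have := trace_ofPrime A (trace Q hA)
    rw [← this]
    exact ha'
  -- hence `y = a * s⁻¹ ∈ m_Q`
  have haQ : Subring.inclusion hA a ∈ maximalIdeal Q.toSubring := haP
  have : Subring.inclusion hsub y = Subring.inclusion hA a * ⟨(s : K)⁻¹, hs'.2⟩ := by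
    apply Subtype.ext
    change (y : K) = (a : K) * (s : K)⁻¹
    exact hys
  change Subring.inclusion hsub y ∈ maximalIdeal Q.toSubring
  rw [this]
  exact Ideal.mul_mem_right _ _ haQ

theorem ofPrime_congr (A : Subring K) (P P' : Ideal A) [P.IsPrime] [P'.IsPrime] (h : P = P') :
    LocalSubring.ofPrime A P = LocalSubring.ofPrime A P' := by
  subst h
  rfl

end Groth.Agent.H22
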