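import Mathlib
import Groth.Agent.H19.IrrCompTop
import Groth.Agent.H48.FieldDim2
import Groth.Agent.H48.RelDelta
import Groth.Agent.H54.Dim
import Groth.Agent.H49.FibreDimBC

/-!
# Dimension of a scheme of finite type over a field via Noether normalization
(helper22; for S3430)
-/

set_option autoImplicit false
set_option linter.unusedSectionVars false
set_option linter.style.haveILetI false
universe u

open AlgebraicGeometry CategoryTheory CategoryTheory.Limits TopologicalSpace

namespace Groth.Agent.H22.NNDim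

open Groth.Agent.H19.IrrCompTop Groth.Agent.H48

section DenseAffine

/-- A Noetherian scheme has a dense affine open subscheme. -/
theorem exists_dense_affineOpen (X : Scheme.{u}) [IsNoetherian X] :
    ∃ U : X.Opens, IsAffineOpen U ∧ Dense (U : Set X) := by
  classical
  have hfin : Finite (irreducibleComponents X) :=
    (NoetherianSpace.finite_irreducibleComponents (α := X)).to_subtype
  have hex : ∀ Z : irreducibleComponents X, ∃ V : X.Opens, IsAffineOpen V ∧ gp Z ∈ V ∧
      (V : Set X) ⊆ Groth.Agent.H19.IrrCompTop.U Z := by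
    intro Z
    obtain ⟨_, ⟨V, hV, rfl⟩, hmem, hsub⟩ :=
      X.isBasis_affineOpens.exists_subset_of_mem_open (gp_mem_U Z) (isOpen_U Z)
    exact ⟨V, hV, hmem, hsub⟩
  choose V hV hgp hsub using hex
  refine ⟨iSup V, IsAffineOpen.iSup_of_disjoint hV ?_, ?_⟩
  · intro Z Z' hne
    change Disjoint (V Z) (V Z')
    rw [← Opens.coe_disjoint, Set.disjoint_iff_inter_eq_empty]
    apply Set.eq_empty_of_subset_empty
    rw [← U_disjoint hne]
    exact Set.inter_subset_inter (hsub Z) (hsub Z')
  · apply dense_of_gp_mem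
    intro Z
    simp only [Opens.coe_iSup, Set.mem_iUnion]
    exact ⟨Z, hgp Z⟩

end DenseAffine

section Dim

variable {k : Type u} [Field k] {X : Scheme.{u}} (f : X ⟶ Spec (CommRingCat.of k))
  [LocallyOfFiniteType f]

include f in
/-- A dense open subset of a Noetherian scheme locally of finite type over a field has full
dimension. -/
theorem topologicalKrullDim_dense_open [NoetherianSpace X] (V : X.Opens)
    (hV : Dense (V : Set X)) :
    topologicalKrullDim ↥(V : Set X) = topologicalKrullDim X := by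
  apply le_antisymm (topologicalKrullDim_subspace_le _ _)
  rw [FieldDim.topologicalKrullDim_eq_iSup f,
    FieldDim2.topologicalKrullDim_eq_iSup_of_isLocallyClosed f _ V.isOpen.isLocallyClosed]
  refine iSup_le fun x => ?_
  obtain ⟨Z, hZ⟩ := exists_mem_component x
  have hsp : gp Z ⤳ x := (gp_spec Z).specializes hZ
  have hmem : gp Z ∈ (V : Set X) := gp_mem_of_dense V.isOpen hV Z
  refine le_trans ?_ (le_iSup (fun z : ↥(V : Set X) =>
    (((FieldDim.δ f z.1).toNat : ℕ∞) : WithBot ℕ∞)) ⟨gp Z, hmem⟩)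
  haveI : JacobsonSpace X := LocallyOfFiniteType.jacobsonSpace f
  have h1 := CycDim6.delta_mono X (FieldDim.δ f) (FieldDim.isDimFun f) hsp
  have h2 : (FieldDim.δ f x).toNat ≤ (FieldDim.δ f (gp Z)).toNat := Int.toNat_le_toNat h1
  exact_mod_cast h2

variable (k) in
/-- Affine `n`-space over a field has dimension `n`. -/
theorem topologicalKrullDim_affineSpace (n : ℕ) :
    topologicalKrullDim ↥(𝔸(ULift.{u} (Fin n); Spec (CommRingCat.of k))) = n := by
  rw [(Scheme.homeoOfIso (AffineSpace.SpecIso (ULift.{u} (Fin n))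
    (CommRingCat.of k))).isHomeomorph.topologicalKrullDim_eq]
  change topologicalKrullDim (PrimeSpectrum (MvPolynomial (ULift.{u} (Fin n)) k)) = n
  rw [PrimeSpectrum.topologicalKrullDim_eq_ringKrullDim,
    MvPolynomial.ringKrullDim_of_isNoetherianRing, ringKrullDim_eq_zero_of_field]
  simp

end Dim

section Poly

variable (k : Type u) [Field k]

/-- The coordinate map `k[x_i : i < n] → k[x_j : j < s]`, `x_i ↦ x_i` (`i < s`), `x_i ↦ 0` else. -/
noncomputable def φ (n s : ℕ) :
    MvPolynomial (ULift.{u} (Fin n)) k →ₐ[k] MvPolynomial (Fin s) k :=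
  MvPolynomial.aeval (fun i => if h : i.down.val < s then MvPolynomial.X ⟨i.down.val, h⟩ else 0)

/-- The coordinate map in the other direction. -/
noncomputable def ψ (n s : ℕ) :
    MvPolynomial (Fin s) k →ₐ[k] MvPolynomial (ULift.{u} (Fin n)) k :=
  MvPolynomial.aeval (fun j => if h : j.val < n then MvPolynomial.X ⟨⟨j.val, h⟩⟩ else 0)

theorem φ_surjective {n s : ℕ} (h : s ≤ n) : Function.Surjective (φ k n s) := by
  rw [← AlgHom.range_eq_top, eq_top_iff, ← MvPolynomial.adjoin_range_X]
  refine Algebra.adjoin_le ?_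
  rintro _ ⟨j, rfl⟩
  refine ⟨MvPolynomial.X ⟨⟨j.val, lt_of_lt_of_le j.isLt h⟩⟩, ?_⟩
  simp [φ]

theorem ψ_comp_φ {n s : ℕ} (h : n ≤ s) : (ψ k n s).comp (φ k n s) = AlgHom.id k _ := by
  apply MvPolynomial.algHom_ext
  intro i
  have hi : i.down.val < s := lt_of_lt_of_le i.down.isLt h
  simp [φ, ψ, hi]

theorem comap_φ_surjective {n s : ℕ} (h : n ≤ s) :
    Function.Surjective (PrimeSpectrum.comap (φ k n s).toRingHom) := by
  intro p
  refine ⟨PrimeSpectrum.comap (ψ k n s).toRingHom p, ?_⟩
  rw [← PrimeSpectrum.comap_comp_apply]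
  have : (ψ k n s).toRingHom.comp (φ k n s).toRingHom = RingHom.id _ := by
    refine RingHom.ext fun x => ?_
    have := DFunLike.congr_fun (ψ_comp_φ k h) x
    simpa using this
  rw [this]
  simp

end Poly

section Forward

variable {k : Type u} [Field k] {T : Scheme.{u}} [IsAffine T]

theorem eq_isoSpec_comp_SpecMap (c : T ⟶ Spec (CommRingCat.of k)) :
    c = T.isoSpec.hom ≫ Spec.map ((Scheme.ΓSpecIso (CommRingCat.of k)).inv ≫ c.appTop) := by
  rw [Spec.map_comp, ← Scheme.isoSpec_Spec_inv, Scheme.isoSpec_hom_naturality_assoc,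
    Iso.hom_inv_id, Category.comp_id]

/-- The morphism to affine space defined by a ring homomorphism from the polynomial ring. -/
noncomputable def homOfRingHom (n : ℕ) (G : MvPolynomial (ULift.{u} (Fin n)) k →+* Γ(T, ⊤)) :
    T ⟶ 𝔸(ULift.{u} (Fin n); Spec (CommRingCat.of k)) :=
  T.isoSpec.hom ≫ Spec.map (CommRingCat.ofHom G) ≫
    (AffineSpace.SpecIso (ULift.{u} (Fin n)) (CommRingCat.of k)).inv

theorem homOfRingHom_over (c : T ⟶ Spec (CommRingCat.of k)) (n : ℕ)
    (G : MvPolynomial (ULift.{u} (Fin n)) k →+* Γ(T, ⊤))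
    (hG : G.comp MvPolynomial.C = ((Scheme.ΓSpecIso (CommRingCat.of k)).inv ≫ c.appTop).hom) :
    homOfRingHom n G ≫ (𝔸(ULift.{u} (Fin n); Spec (CommRingCat.of k)) ↘
      Spec (CommRingCat.of k)) = c := by
  rw [homOfRingHom, Category.assoc, Category.assoc, AffineSpace.SpecIso_inv_over,
    ← Spec.map_comp]
  have : CommRingCat.ofHom MvPolynomial.C ≫ CommRingCat.ofHom G =
      (Scheme.ΓSpecIso (CommRingCat.of k)).inv ≫ c.appTop := by
    ext1
    exact hG
  rw [this]
  exact (eq_isoSpec_comp_SpecMap c).symm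

theorem isFinite_homOfRingHom (n : ℕ) (G : MvPolynomial (ULift.{u} (Fin n)) k →+* Γ(T, ⊤))
    (hG : G.Finite) : IsFinite (homOfRingHom n G) := by
  haveI : IsFinite (Spec.map (CommRingCat.ofHom G)) := (IsFinite.SpecMap_iff _).mpr hG
  unfold homOfRingHom
  infer_instance

theorem surjective_homOfRingHom (n : ℕ) (G : MvPolynomial (ULift.{u} (Fin n)) k →+* Γ(T, ⊤))
    (hG : Function.Surjective (PrimeSpectrum.comap G)) :
    Function.Surjective (homOfRingHom n G).base := by
  haveI : Surjective (Spec.map (CommRingCat.ofHom G)) := ⟨hG⟩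
  haveI : Surjective (homOfRingHom n G) := by
    unfold homOfRingHom
    infer_instance
  exact (homOfRingHom n G).surjective

end Forward

section NN

variable {k : Type u} [Field k] {T : Scheme.{u}} [IsAffine T]

theorem topologicalKrullDim_of_isAffine (T : Scheme.{u}) [IsAffine T] :
    topologicalKrullDim ↥T = ringKrullDim Γ(T, ⊤) := by
  rw [(Scheme.homeoOfIso T.isoSpec).isHomeomorph.topologicalKrullDim_eq]
  exact PrimeSpectrum.topologicalKrullDim_eq_ringKrullDim _

theorem comap_surjective_of_injective_of_finite {A B : Type*} [CommRing A] [CommRing B]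
    (g : A →+* B) (hinj : Function.Injective g) (hfin : g.Finite) :
    Function.Surjective (PrimeSpectrum.comap g) := by
  intro p
  letI : Algebra A B := g.toAlgebra
  haveI : Module.Finite A B := hfin
  haveI : Algebra.IsIntegral A B := Algebra.IsIntegral.of_finite A B
  obtain ⟨Q, -, hQ, hQc⟩ := Ideal.exists_ideal_over_prime_of_isIntegral p.asIdeal (⊥ : Ideal B)
    (by
      rw [← RingHom.ker_eq_comap_bot]
      have : RingHom.ker (algebraMap A B) = ⊥ :=
        (RingHom.injective_iff_ker_eq_bot _).mp hinj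
      rw [this]
      exact bot_le)
  exact ⟨⟨Q, hQ⟩, PrimeSpectrum.ext hQc⟩

/-- **Noether normalization, scheme form**: a `k`-morphism from an affine `k`-scheme of finite
type to affine `n`-space, finite if `dim T ≤ n` and surjective if `n ≤ dim T`. -/
theorem exists_hom_affineSpace (c : T ⟶ Spec (CommRingCat.of k)) [LocallyOfFiniteType c] (n : ℕ) :
    ∃ g : T ⟶ 𝔸(ULift.{u} (Fin n); Spec (CommRingCat.of k)),
      g ≫ (𝔸(ULift.{u} (Fin n); Spec (CommRingCat.of k)) ↘ Spec (CommRingCat.of k)) = c ∧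
      (topologicalKrullDim ↥T ≤ n → IsFinite g) ∧
      ((n : WithBot ℕ∞) ≤ topologicalKrullDim ↥T → Function.Surjective g.base) := by
  letI alg : Algebra k Γ(T, ⊤) :=
    ((Scheme.ΓSpecIso (CommRingCat.of k)).inv ≫ c.appTop).hom.toAlgebra
  have halg : algebraMap k Γ(T, ⊤) =
      ((Scheme.ΓSpecIso (CommRingCat.of k)).inv ≫ c.appTop).hom := rfl
  rw [topologicalKrullDim_of_isAffine T]
  rcases subsingleton_or_nontrivial Γ(T, ⊤) with hsub | hnt
  · -- the empty scheme
    let G : MvPolynomial (ULift.{u} (Fin n)) k →ₐ[k] Γ(T, ⊤) := MvPolynomial.aeval (fun _ => 0)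
    refine ⟨homOfRingHom n G.toRingHom, homOfRingHom_over c n _ ?_, fun _ => ?_, fun h => ?_⟩
    · refine RingHom.ext fun a => ?_
      simp [halg, G]
    · refine isFinite_homOfRingHom n _ (RingHom.Finite.of_surjective _ fun b => ⟨0, ?_⟩)
      exact Subsingleton.elim _ _
    · exfalso
      rw [ringKrullDim_eq_bot_of_subsingleton] at h
      exact absurd h (by simp)
  · have hft : Algebra.FiniteType k Γ(T, ⊤) := by
      have h1 : c.appTop.hom.FiniteType :=
        (HasRingHomProperty.iff_of_isAffine (P := @LocallyOfFiniteType)).mp inferInstance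
      have h2 : ((Scheme.ΓSpecIso (CommRingCat.of k)).inv ≫ c.appTop).hom.FiniteType := by
        rw [CommRingCat.hom_comp]
        exact h1.comp (RingHom.FiniteType.of_surjective _
          (ConcreteCategory.bijective_of_isIso (Scheme.ΓSpecIso (CommRingCat.of k)).inv).surjective)
      exact h2
    obtain ⟨s, g₀, hinj, hfin⟩ := exists_finite_inj_algHom_of_fg k Γ(T, ⊤)
    have hs : ringKrullDim Γ(T, ⊤) = s := by
      rw [← Groth.Agent.H54.ringKrullDim_eq_of_ringHom_isIntegral_of_injective g₀.toRingHom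
        (RingHom.Finite.to_isIntegral hfin) hinj]
      exact Groth.Agent.H54.ringKrullDim_mvPolynomial_fin_field k s
    rw [hs]
    let G : MvPolynomial (ULift.{u} (Fin n)) k →ₐ[k] Γ(T, ⊤) := g₀.comp (φ k n s)
    refine ⟨homOfRingHom n G.toRingHom, homOfRingHom_over c n _ ?_, fun h => ?_, fun h => ?_⟩
    · refine RingHom.ext fun a => ?_
      simp [halg, G]
    · have hsn : s ≤ n := by exact_mod_cast h
      refine isFinite_homOfRingHom n _ ?_
      exact RingHom.Finite.comp hfin (RingHom.Finite.of_surjective _ (φ_surjective k hsn))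
    · have hns : n ≤ s := by exact_mod_cast h
      refine surjective_homOfRingHom n _ ?_
      have : PrimeSpectrum.comap G.toRingHom =
          PrimeSpectrum.comap (φ k n s).toRingHom ∘ PrimeSpectrum.comap g₀.toRingHom := by
        ext p : 1
        rfl
      rw [this]
      exact (comap_φ_surjective k hns).comp
        (comap_surjective_of_injective_of_finite g₀.toRingHom hinj hfin)

end NN

section Backward

variable {k : Type u} [Field k] {T : Scheme.{u}} (n : ℕ)
  (g : T ⟶ 𝔸(ULift.{u} (Fin n); Spec (CommRingCat.of k)))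

/-- The source of a finite morphism to affine `n`-space has dimension at most `n`. -/
theorem topologicalKrullDim_le_of_isFinite [IsFinite g] : topologicalKrullDim ↥T ≤ n := by
  haveI : IsAffine T := isAffine_of_isAffineHom g
  rw [topologicalKrullDim_of_isAffine T, ← topologicalKrullDim_affineSpace k n,
    topologicalKrullDim_of_isAffine]
  have hfin : g.appTop.hom.Finite := g.finite_appTop
  letI := g.appTop.hom.toAlgebra
  haveI : Algebra.IsIntegral Γ(𝔸(ULift.{u} (Fin n); Spec (CommRingCat.of k)), ⊤) Γ(T, ⊤) :=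
    ⟨hfin.to_isIntegral⟩
  exact Groth.Agent.H54.ringKrullDim_le_of_isIntegral

/-- The source of a surjective morphism (locally of finite type) to affine `n`-space over a
field has dimension at least `n`. -/
theorem le_topologicalKrullDim_of_surjective [LocallyOfFiniteType g]
    (hg : Function.Surjective g.base) : (n : WithBot ℕ∞) ≤ topologicalKrullDim ↥T := by
  let q := 𝔸(ULift.{u} (Fin n); Spec (CommRingCat.of k)) ↘ Spec (CommRingCat.of k)
  haveI : LocallyOfFiniteType q := inferInstance
  have h1 : (n : WithBot ℕ∞) ≤ ⨆ a : ↥(𝔸(ULift.{u} (Fin n); Spec (CommRingCat.of k))),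
      (((FieldDim.δ q a).toNat : ℕ∞) : WithBot ℕ∞) := by
    rw [← FieldDim.topologicalKrullDim_eq_iSup q, topologicalKrullDim_affineSpace k n]
  obtain ⟨a, ha⟩ := RelDelta.exists_le_of_le_iSup _ n h1
  obtain ⟨t, rfl⟩ := hg a
  obtain ⟨m, -, hm⟩ := RelDelta.deltaCompat_comp q g t
  refine le_trans ?_ (FieldDim.delta_le_topologicalKrullDim (g ≫ q) t)
  have h2 : n ≤ (FieldDim.δ (g ≫ q) t).toNat := by
    have ha' : n ≤ (FieldDim.δ q (g t)).toNat := ha
    omega
  exact_mod_cast h2

end Backward

section Main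

variable (k : Type u) [Field k] {X : Scheme.{u}}
  (f : X ⟶ Spec (CommRingCat.of k)) [LocallyOfFiniteType f] [QuasiCompact f] (n : ℕ)

theorem main :
    ((n : WithBot ℕ∞) ≤ topologicalKrullDim (X : Type u) ↔
      ∃ (U : X.Opens) (g : (U : Scheme.{u}) ⟶ 𝔸(ULift.{u} (Fin n); Spec (CommRingCat.of k))),
        Dense (U : Set X) ∧ g ≫ (𝔸(ULift.{u} (Fin n); Spec (CommRingCat.of k)) ↘
          Spec (CommRingCat.of k)) = U.ι ≫ f ∧ Function.Surjective g.base) ∧
    (topologicalKrullDim (X : Type u) ≤ n ↔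
      ∃ (U : X.Opens) (g : (U : Scheme.{u}) ⟶ 𝔸(ULift.{u} (Fin n); Spec (CommRingCat.of k))),
        Dense (U : Set X) ∧ g ≫ (𝔸(ULift.{u} (Fin n); Spec (CommRingCat.of k)) ↘
          Spec (CommRingCat.of k)) = U.ι ≫ f ∧ IsFinite g) ∧
    (topologicalKrullDim (X : Type u) = n ↔
      ∃ (U : X.Opens) (g : (U : Scheme.{u}) ⟶ 𝔸(ULift.{u} (Fin n); Spec (CommRingCat.of k))),
        Dense (U : Set X) ∧ g ≫ (𝔸(ULift.{u} (Fin n); Spec (CommRingCat.of k)) ↘
          Spec (CommRingCat.of k)) = U.ι ≫ f ∧ IsFinite g ∧ Function.Surjective g.base) := by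
  haveI : IsLocallyNoetherian X := LocallyOfFiniteType.isLocallyNoetherian f
  haveI : CompactSpace X := QuasiCompact.compactSpace_of_compactSpace f
  haveI : IsNoetherian X := {}
  obtain ⟨U₀, hU₀, hdense⟩ := exists_dense_affineOpen X
  haveI : IsAffine (U₀ : Scheme.{u}) := hU₀
  obtain ⟨g₀, hover, hfin, hsurj⟩ := exists_hom_affineSpace (U₀.ι ≫ f) n
  have hdim₀ : topologicalKrullDim ↥(U₀ : Scheme.{u}) = topologicalKrullDim X :=
    topologicalKrullDim_dense_open f U₀ hdense
  rw [hdim₀] at hfin hsurj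
  have hlft : ∀ (U : X.Opens) (g : (U : Scheme.{u}) ⟶
      𝔸(ULift.{u} (Fin n); Spec (CommRingCat.of k))),
      g ≫ (𝔸(ULift.{u} (Fin n); Spec (CommRingCat.of k)) ↘ Spec (CommRingCat.of k)) = U.ι ≫ f →
      LocallyOfFiniteType g := by
    intro U g hg
    haveI : LocallyOfFiniteType (g ≫ (𝔸(ULift.{u} (Fin n); Spec (CommRingCat.of k)) ↘
        Spec (CommRingCat.of k))) := by
      rw [hg]
      infer_instance
    exact locallyOfFiniteType_of_comp g (𝔸(ULift.{u} (Fin n); Spec (CommRingCat.of k)) ↘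
        Spec (CommRingCat.of k))
  have hge : ∀ (U : X.Opens) (g : (U : Scheme.{u}) ⟶
      𝔸(ULift.{u} (Fin n); Spec (CommRingCat.of k))),
      g ≫ (𝔸(ULift.{u} (Fin n); Spec (CommRingCat.of k)) ↘ Spec (CommRingCat.of k)) = U.ι ≫ f →
      Function.Surjective g.base → (n : WithBot ℕ∞) ≤ topologicalKrullDim (X : Type u) := by
    intro U g hg hs
    haveI := hlft U g hg
    exact le_trans (le_topologicalKrullDim_of_surjective n g hs)
      (topologicalKrullDim_subspace_le _ _)
  have hle : ∀ (U : X.Opens) (g : (U : Scheme.{u}) ⟶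
      𝔸(ULift.{u} (Fin n); Spec (CommRingCat.of k))), Dense (U : Set X) →
      IsFinite g → topologicalKrullDim (X : Type u) ≤ n := by
    intro U g hd hf
    rw [← topologicalKrullDim_dense_open f U hd]
    exact topologicalKrullDim_le_of_isFinite n g
  refine ⟨⟨fun h => ⟨U₀, g₀, hdense, hover, hsurj h⟩, ?_⟩,
    ⟨fun h => ⟨U₀, g₀, hdense, hover, hfin h⟩, ?_⟩,
    ⟨fun h => ⟨U₀, g₀, hdense, hover, hfin h.le, hsurj h.ge⟩, ?_⟩⟩
  · rintro ⟨U, g, -, hg, hs⟩
    exact hge U g hg hs
  · rintro ⟨U, g, hd, -, hf⟩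
    exact hle U g hd hf
  · rintro ⟨U, g, hd, hg, hf, hs⟩
    exact le_antisymm (hle U g hd hf) (hge U g hg hs)

end Main

end Groth.Agent.H22.NNDim
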