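import Mathlib

/-! Algebraic core of the non-Noetherian Hartogs lemma: extension of sections across a closed
subset at whose points the maximal ideal contains a weakly regular sequence of length two. -/

set_option autoImplicit false
universe u

namespace Groth.Agent.H22.NNHartogs

open RingTheory.Sequence
open scoped Pointwise

variable {A : Type*} [CommRing A]

/-- For a minimal prime `q` over `I` and `x ∈ q`, some `h • x ^ n` with `h ∉ q` lies in `I`. -/
theorem exists_mul_pow_mem_of_mem_minimalPrimes {I q : Ideal A} (hq : q ∈ I.minimalPrimes)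
    {x : A} (hx : x ∈ q) : ∃ (n : ℕ) (h : A), h ∉ q ∧ h * x ^ n ∈ I := by
  haveI := hq.1.1
  have h1 := IsLocalization.AtPrime.radical_map_of_mem_minimalPrimes
    (A := Localization.AtPrime q) q I hq
  have h2 : algebraMap A (Localization.AtPrime q) x ∈
      (I.map (algebraMap A (Localization.AtPrime q))).radical := by
    rw [h1]; exact Ideal.mem_map_of_mem _ hx
  obtain ⟨n, hn⟩ := h2
  rw [IsLocalization.mem_map_algebraMap_iff q.primeCompl] at hn
  obtain ⟨⟨a, b⟩, hab⟩ := hn
  rw [← map_pow, ← map_mul, IsLocalization.eq_iff_exists q.primeCompl] at hab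
  obtain ⟨t, ht⟩ := hab
  refine ⟨n, t * b, (t * b).2, ?_⟩
  have : (t : A) * (b : A) * x ^ n = t * a := by rw [← ht]; ring
  rw [this]; exact I.mul_mem_left _ a.2

section Lift

variable (q : Ideal A) (O : Type*) [CommRing O] [Algebra A O]

/-- The data extracted from a weakly regular sequence of length two in the maximal ideal of the
local ring `O = A_q`: two elements `a', b' ∈ q` with `a'` regular on `O` and `b'` (and its powers)
regular modulo `a'`. -/
structure RegPair (a' b' : A) : Prop where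
  mem_a : a' ∈ q
  mem_b : b' ∈ q
  reg : ∀ x : O, algebraMap A O a' * x = 0 → x = 0
  reg2 : ∀ (m : ℕ) (x y : O), algebraMap A O b' ^ m * x = algebraMap A O a' * y →
    ∃ w : O, x = algebraMap A O a' * w

variable [q.IsPrime] [IsLocalization.AtPrime O q]

theorem exists_regPair [IsLocalRing O] (a₁ b₁ : O) (ha : a₁ ∈ IsLocalRing.maximalIdeal O)
    (hb : b₁ ∈ IsLocalRing.maximalIdeal O) (hreg : IsWeaklyRegular O [a₁, b₁]) :
    ∃ a' b' : A, RegPair q O a' b' := by
  rw [isWeaklyRegular_cons_iff, isWeaklyRegular_cons_iff] at hreg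
  obtain ⟨hra, hrb, -⟩ := hreg
  obtain ⟨a', u₁, hau⟩ := IsLocalization.exists_mk'_eq q.primeCompl a₁
  obtain ⟨b', v₁, hbv⟩ := IsLocalization.exists_mk'_eq q.primeCompl b₁
  have hu : IsUnit (algebraMap A O u₁) := IsLocalization.map_units O u₁
  have hv : IsUnit (algebraMap A O v₁) := IsLocalization.map_units O v₁
  have ea : algebraMap A O a' = a₁ * algebraMap A O u₁ := by
    rw [← hau, IsLocalization.mk'_spec]
  have eb : algebraMap A O b' = b₁ * algebraMap A O v₁ := by
    rw [← hbv, IsLocalization.mk'_spec]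
  have hmem : ∀ (c : A) (w : q.primeCompl) (c₁ : O), IsLocalization.mk' O c w = c₁ →
      c₁ ∈ IsLocalRing.maximalIdeal O → c ∈ q := by
    intro c w c₁ h1 h2
    by_contra hc
    have : IsUnit (IsLocalization.mk' O c w) := by
      have h3 : IsUnit (algebraMap A O c) := IsLocalization.map_units O (⟨c, hc⟩ : q.primeCompl)
      have h4 : IsLocalization.mk' O c w * algebraMap A O w = algebraMap A O c :=
        IsLocalization.mk'_spec O c w
      rw [← h4] at h3
      exact isUnit_of_mul_isUnit_left h3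
    rw [h1] at this
    exact (IsLocalRing.mem_maximalIdeal _).mp h2 this
  refine ⟨a', b', hmem a' u₁ a₁ hau ha, hmem b' v₁ b₁ hbv hb, ?_, ?_⟩
  · intro x hx
    rw [ea, mul_assoc] at hx
    have h1 := hra (show a₁ • (algebraMap A O u₁ * x) = a₁ • (0 : O) by
      rw [smul_eq_mul, smul_eq_mul, mul_zero]; exact hx)
    exact (hu.mul_right_eq_zero).mp h1
  · intro m x y hxy
    -- work in the quotient `O ⧸ a₁ • ⊤`
    have hrb' := hrb.pow m
    have h1 : (Submodule.Quotient.mk (p := a₁ • (⊤ : Submodule O O)) (algebraMap A O v₁ ^ m * x)) =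
        0 := by
      apply hrb'
      change b₁ ^ m • Submodule.Quotient.mk (p := a₁ • (⊤ : Submodule O O))
        (algebraMap A O v₁ ^ m * x) = b₁ ^ m • 0
      rw [smul_zero, ← Submodule.Quotient.mk_smul, Submodule.Quotient.mk_eq_zero, smul_eq_mul]
      have h2 : b₁ ^ m * (algebraMap A O v₁ ^ m * x) = a₁ * (algebraMap A O u₁ * y) := by
        rw [← mul_assoc, ← mul_pow, ← eb, hxy, ea]; ring
      rw [h2]
      exact Submodule.smul_mem_pointwise_smul _ _ _ Submodule.mem_top
    rw [Submodule.Quotient.mk_eq_zero] at h1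
    obtain ⟨w, -, hw⟩ := h1
    -- `v₁^m * x = a₁ * w`
    obtain ⟨vi, hvi⟩ := (hv.pow m).exists_left_inv
    obtain ⟨ui, hui⟩ := hu.exists_left_inv
    refine ⟨ui * vi * w, ?_⟩
    have h3 : x = vi * (algebraMap A O v₁ ^ m * x) := by rw [← mul_assoc, hvi, one_mul]
    rw [h3, ← hw, ea]
    change vi * (a₁ * w) = _
    calc vi * (a₁ * w) = a₁ * (ui * algebraMap A O u₁) * (vi * w) := by rw [hui]; ring
      _ = a₁ * algebraMap A O u₁ * (ui * vi * w) := by ring

end Lift

section Core

variable (q : Ideal A) [q.IsPrime] (O : Type*) [CommRing O] [Algebra A O]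
  [IsLocalization.AtPrime O q]

theorem RegPair.pow_reg {a' b' : A} (hp : RegPair q O a' b') (k : ℕ) (x : O)
    (hx : algebraMap A O a' ^ k * x = 0) : x = 0 := by
  induction k generalizing x with
  | zero => simpa using hx
  | succ k ih =>
    apply ih
    apply hp.reg
    rw [← mul_assoc, ← pow_succ']
    exact hx

/-- Injectivity core: a nonzero element `a` of `A` cannot have a minimal prime `q` over its
annihilator such that `A_q` has a regular element in its maximal ideal. -/
theorem inj_core {a' b' : A} (hp : RegPair q O a' b') (a : A) (J : Ideal A)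
    (hJ : ∀ g, g ∈ J ↔ g * a = 0) (hq : q ∈ J.minimalPrimes) : False := by
  obtain ⟨n, h, hh, hmem⟩ := exists_mul_pow_mem_of_mem_minimalPrimes hq hp.mem_a
  rw [hJ] at hmem
  have h1 : algebraMap A O a = 0 := by
    have h2 : algebraMap A O a' ^ n * (algebraMap A O h * algebraMap A O a) = 0 := by
      rw [← map_pow, ← map_mul, ← map_mul]
      have : a' ^ n * (h * a) = h * a' ^ n * a := by ring
      rw [this, hmem, map_zero]
    have h4 := hp.pow_reg q O n _ h2
    have hu : IsUnit (algebraMap A O h) := IsLocalization.map_units O (⟨h, hh⟩ : q.primeCompl)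
    exact (hu.mul_right_eq_zero).mp h4
  rw [IsLocalization.map_eq_zero_iff q.primeCompl] at h1
  obtain ⟨g, hg⟩ := h1
  exact g.2 (hq.1.2 ((hJ g).mpr hg))

/-- Surjectivity core. -/
theorem surj_core {G : Type*} [CommRing G] (ρ : A →+* G) (hρ : Function.Injective ρ)
    {a' b' : A} (hp : RegPair q O a' b')
    (K : ∀ σ : G, ρ a' * σ = 0 → ∃ g', g' ∉ q ∧ ρ g' * σ = 0)
    (t : G) (I : Ideal A) (hI : ∀ g, g ∈ I ↔ ∃ s, ρ s = ρ g * t)
    (hq : q ∈ I.minimalPrimes) : False := by
  obtain ⟨n, h₁, hh₁, hm₁⟩ := exists_mul_pow_mem_of_mem_minimalPrimes hq hp.mem_a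
  obtain ⟨m, h₂, hh₂, hm₂⟩ := exists_mul_pow_mem_of_mem_minimalPrimes hq hp.mem_b
  obtain ⟨s₂, hs₂⟩ := (hI _).mp hm₂
  have step : ∀ k, (∃ g, g ∉ q ∧ g * a' ^ (k + 1) ∈ I) → ∃ g, g ∉ q ∧ g * a' ^ k ∈ I := by
    rintro k ⟨g, hg, hgI⟩
    obtain ⟨s₁, hs₁⟩ := (hI _).mp hgI
    have e1 : ρ a' * (ρ (g * h₂ * a' ^ k) * t) = ρ (h₂ * s₁) := by
      rw [map_mul ρ h₂ s₁, hs₁]
      simp only [map_mul, map_pow]
      ring
    have e2 : ρ (b' ^ m) * (ρ (g * h₂ * a' ^ k) * t) = ρ (g * a' ^ k * s₂) := by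
      rw [map_mul ρ (g * a' ^ k) s₂, hs₂]
      simp only [map_mul, map_pow]
      ring
    have e3 : b' ^ m * (h₂ * s₁) = a' * (g * a' ^ k * s₂) := by
      apply hρ
      rw [map_mul ρ (b' ^ m), ← e1, map_mul ρ a', ← e2]
      ring
    obtain ⟨w, hw⟩ := hp.reg2 m (algebraMap A O (h₂ * s₁)) (algebraMap A O (g * a' ^ k * s₂)) (by
      rw [← map_pow, ← map_mul, ← map_mul, e3])
    obtain ⟨s, h, hsh⟩ := IsLocalization.exists_mk'_eq q.primeCompl w
    have e4 : algebraMap A O (h₂ * s₁ * h) = algebraMap A O (a' * s) := by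
      rw [map_mul _ (h₂ * s₁), hw, ← hsh, mul_assoc, IsLocalization.mk'_spec, map_mul]
    rw [IsLocalization.eq_iff_exists q.primeCompl] at e4
    obtain ⟨h', hh'⟩ := e4
    have e5 : ρ a' * (ρ (h' * h) * (ρ (g * h₂ * a' ^ k) * t) - ρ (h' * s)) = 0 := by
      have h5 : ρ a' * (ρ (h' * h) * (ρ (g * h₂ * a' ^ k) * t) - ρ (h' * s)) =
          ρ (h' * h) * (ρ a' * (ρ (g * h₂ * a' ^ k) * t)) - ρ (a' * (h' * s)) := by
        rw [map_mul ρ a']; ring
      rw [h5, e1, ← map_mul, ← map_sub]
      have h6 : (h' : A) * h * (h₂ * s₁) - a' * (h' * s) = 0 := by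
        linear_combination hh'
      rw [h6, map_zero]
    obtain ⟨g', hg', hσ⟩ := K _ e5
    refine ⟨g' * h' * h * g * h₂, ?_, ?_⟩
    · intro hmem
      rcases (‹q.IsPrime›).mem_or_mem hmem with h7 | h7
      · rcases (‹q.IsPrime›).mem_or_mem h7 with h8 | h8
        · rcases (‹q.IsPrime›).mem_or_mem h8 with h9 | h9
          · rcases (‹q.IsPrime›).mem_or_mem h9 with h10 | h10
            · exact hg' h10
            · exact h'.2 h10
          · exact h.2 h9
        · exact hg h8
      · exact hh₂ h7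
    · rw [hI]
      refine ⟨g' * (h' * s), ?_⟩
      rw [mul_sub, sub_eq_zero] at hσ
      rw [map_mul ρ g', ← hσ]
      simp only [map_mul, map_pow]
      ring
  have all : ∀ k, k ≤ n → ∃ g, g ∉ q ∧ g * a' ^ (n - k) ∈ I := by
    intro k
    induction k with
    | zero => intro _; exact ⟨h₁, hh₁, hm₁⟩
    | succ k ih =>
      intro hk
      have h1 := ih (Nat.le_of_succ_le hk)
      have h2 : n - k = (n - (k + 1)) + 1 := by omega
      rw [h2] at h1
      exact step _ h1
  obtain ⟨g, hg, hgI⟩ := all n le_rfl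
  rw [Nat.sub_self, pow_zero, mul_one] at hgI
  exact hg (hq.1.2 hgI)

end Core

end Groth.Agent.H22.NNHartogs
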