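import Mathlib
import Groth.Agent.H22.NNHartogsAlg
import Groth.Agent.H6.Hartogs

/-! Non-Noetherian Hartogs: restriction of sections `Γ(X, V) → Γ(X, V ∩ U)` is bijective when
`U ⊆ X` is a quasi-compact open and at every point outside `U` the maximal ideal of the local ring
contains a weakly regular sequence of length two. -/

set_option autoImplicit false
universe u

open AlgebraicGeometry CategoryTheory TopologicalSpace

namespace Groth.Agent.H22.NNHartogs

open RingTheory.Sequence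

variable (X : Scheme.{u})

/-- restriction as a ring hom -/
noncomputable abbrev res {V₁ V₂ : X.Opens} (h : V₁ ≤ V₂) : Γ(X, V₂) →+* Γ(X, V₁) :=
  (X.presheaf.map (homOfLE h).op).hom

theorem res_res {V₁ V₂ V₃ : X.Opens} (h : V₁ ≤ V₂) (h' : V₂ ≤ V₃) (s : Γ(X, V₃)) :
    res X h (res X h' s) = res X (h.trans h') s :=
  Groth.Agent.H6.Hartogs.r_r X h h' s

variable {X}

theorem fromSpec_mem' {W : X.Opens} (hW : IsAffineOpen W) (q : PrimeSpectrum Γ(X, W)) :
    hW.fromSpec q ∈ W := by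
  have : hW.fromSpec q ∈ Set.range hW.fromSpec := ⟨q, rfl⟩
  rwa [hW.range_fromSpec] at this

theorem mem_basicOpen_iff {W : X.Opens} (hW : IsAffineOpen W) (q : PrimeSpectrum Γ(X, W))
    (g : Γ(X, W)) : hW.fromSpec q ∈ X.basicOpen g ↔ g ∉ q.asIdeal := by
  have h1 : hW.fromSpec q ∈ X.basicOpen g ↔ q ∈ hW.fromSpec ⁻¹ᵁ X.basicOpen g := Iff.rfl
  rw [h1, hW.fromSpec_preimage_basicOpen g]
  exact PrimeSpectrum.mem_basicOpen g q

/-- The hypothesis: at every point outside `U`, the maximal ideal of the local ring contains a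
weakly regular sequence of length two. -/
def HasRegSeqOff (X : Scheme.{u}) (U : X.Opens) : Prop :=
  ∀ z : X, z ∉ U → ∃ a b : X.presheaf.stalk z,
    a ∈ IsLocalRing.maximalIdeal (X.presheaf.stalk z) ∧
    b ∈ IsLocalRing.maximalIdeal (X.presheaf.stalk z) ∧
    IsWeaklyRegular (X.presheaf.stalk z) [a, b]

section Affine

variable {U : X.Opens} (hZ : HasRegSeqOff X U) {W : X.Opens} (hW : IsAffineOpen W)

theorem algebraMap_eq_res (g : Γ(X, W)) (a : Γ(X, W)) :
    algebraMap Γ(X, W) Γ(X, X.basicOpen g) a = res X (X.basicOpen_le g) a := rfl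

include hZ hW in
/-- At a prime `q` of `Γ(X, W)` whose point lies outside `U` there is a `RegPair`. -/
theorem exists_regPair_of_notMem (q : PrimeSpectrum Γ(X, W)) (hq : hW.fromSpec q ∉ U) :
    letI := TopCat.Presheaf.algebra_section_stalk X.presheaf ⟨hW.fromSpec q, fromSpec_mem' hW q⟩
    ∃ a' b' : Γ(X, W), RegPair q.asIdeal (X.presheaf.stalk (hW.fromSpec q)) a' b' := by
  letI := TopCat.Presheaf.algebra_section_stalk X.presheaf ⟨hW.fromSpec q, fromSpec_mem' hW q⟩
  have loc : IsLocalization.AtPrime (X.presheaf.stalk (hW.fromSpec q)) q.asIdeal :=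
    hW.isLocalization_stalk' q (fromSpec_mem' hW q)
  obtain ⟨a₁, b₁, ha, hb, hreg⟩ := hZ _ hq
  exact exists_regPair q.asIdeal _ a₁ b₁ ha hb hreg

include hZ hW in
theorem injective_res_affine : Function.Injective (res X (inf_le_left : W ⊓ U ≤ W)) := by
  rw [injective_iff_map_eq_zero]
  intro a ha
  by_contra hne
  set J : Ideal Γ(X, W) := (Ideal.span {a}).annihilator with hJdef
  have hJ : ∀ g, g ∈ J ↔ g * a = 0 := fun g => by
    rw [hJdef, Submodule.mem_annihilator_span_singleton, smul_eq_mul]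
  have hJtop : J ≠ ⊤ := by
    intro h
    have : (1 : Γ(X, W)) ∈ J := h ▸ Submodule.mem_top
    rw [hJ, one_mul] at this
    exact hne this
  obtain ⟨q, hq⟩ := Ideal.nonempty_minimalPrimes hJtop
  haveI : q.IsPrime := hq.1.1
  let qq : PrimeSpectrum Γ(X, W) := ⟨q, inferInstance⟩
  have hzW : hW.fromSpec qq ∈ W := fromSpec_mem' hW qq
  have hzU : hW.fromSpec qq ∉ U := by
    intro hzU
    obtain ⟨g, hgle, hzg⟩ := hW.exists_basicOpen_le (V := W ⊓ U) ⟨hW.fromSpec qq, ⟨hzW, hzU⟩⟩ hzW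
    have hgq : g ∉ q := (mem_basicOpen_iff hW qq g).mp hzg
    haveI := hW.isLocalization_basicOpen g
    have h0 : algebraMap Γ(X, W) Γ(X, X.basicOpen g) a = 0 := by
      rw [algebraMap_eq_res, ← res_res X hgle inf_le_left a, ha, map_zero]
    rw [IsLocalization.map_eq_zero_iff (Submonoid.powers g)] at h0
    obtain ⟨⟨_, n, rfl⟩, hm⟩ := h0
    have : g ^ n ∈ q := hq.1.2 ((hJ _).mpr hm)
    exact hgq (Ideal.IsPrime.mem_of_pow_mem inferInstance n this)
  letI := TopCat.Presheaf.algebra_section_stalk X.presheaf ⟨hW.fromSpec qq, hzW⟩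
  have loc : IsLocalization.AtPrime (X.presheaf.stalk (hW.fromSpec qq)) q :=
    hW.isLocalization_stalk' qq hzW
  obtain ⟨a', b', hp⟩ := exists_regPair_of_notMem hZ hW qq hzU
  exact inj_core q _ hp a J hJ hq

section K

variable (q : PrimeSpectrum Γ(X, W)) (O : Type u) [CommRing O] [Algebra Γ(X, W) O]
  [IsLocalization.AtPrime O q.asIdeal]

include hW in
/-- Local piece of the key lemma: a section killed by a regular element of `A_q` is killed, on a
basic open, by some element outside `q`. -/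
theorem exists_notMem_res_eq_zero (a' : Γ(X, W))
    (hreg : ∀ x : O, algebraMap Γ(X, W) O a' * x = 0 → x = 0)
    (σ : Γ(X, W ⊓ U)) (hσ : res X inf_le_left a' * σ = 0)
    (f : Γ(X, W)) (hf : X.basicOpen f ≤ W ⊓ U) :
    ∃ g : Γ(X, W), g ∉ q.asIdeal ∧ res X hf (res X inf_le_left g * σ) = 0 := by
  haveI := hW.isLocalization_basicOpen f
  obtain ⟨k, c, hc⟩ := IsLocalization.Away.surj f (res X hf σ)
  have hres : ∀ b : Γ(X, W), res X hf (res X inf_le_left b * σ) =
      algebraMap Γ(X, W) Γ(X, X.basicOpen f) b * res X hf σ := by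
    intro b
    rw [map_mul, res_res]
    rfl
  have h1 : algebraMap Γ(X, W) Γ(X, X.basicOpen f) (a' * c) = 0 := by
    rw [map_mul, ← hc, ← mul_assoc, ← hres, hσ, map_zero, zero_mul]
  rw [IsLocalization.map_eq_zero_iff (Submonoid.powers f)] at h1
  obtain ⟨⟨_, l, rfl⟩, hl⟩ := h1
  have h2 : algebraMap Γ(X, W) O (f ^ l * c) = 0 := by
    apply hreg
    rw [← map_mul]
    have : a' * (f ^ l * c) = f ^ l * (a' * c) := by ring
    rw [this, hl, map_zero]
  rw [IsLocalization.map_eq_zero_iff q.asIdeal.primeCompl] at h2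
  obtain ⟨g, hg⟩ := h2
  refine ⟨g, g.2, ?_⟩
  rw [hres]
  have hunit : IsUnit (algebraMap Γ(X, W) Γ(X, X.basicOpen f) f) :=
    IsLocalization.Away.algebraMap_isUnit f
  have h3 : (algebraMap Γ(X, W) Γ(X, X.basicOpen f) g * res X hf σ) *
      algebraMap Γ(X, W) Γ(X, X.basicOpen f) f ^ (k + l) = 0 := by
    have : (algebraMap Γ(X, W) Γ(X, X.basicOpen f) g * res X hf σ) *
        algebraMap Γ(X, W) Γ(X, X.basicOpen f) f ^ (k + l) =
        algebraMap Γ(X, W) Γ(X, X.basicOpen f) g *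
          (algebraMap Γ(X, W) Γ(X, X.basicOpen f) f ^ l *
            (res X hf σ * algebraMap Γ(X, W) Γ(X, X.basicOpen f) f ^ k)) := by
      rw [pow_add]; ring
    rw [this, hc, ← map_pow, ← map_mul, ← map_mul, hg, map_zero]
  exact ((hunit.pow (k + l)).mul_left_eq_zero).mp h3

include hW in
/-- Key lemma: a section over the quasi-compact open `W ⊓ U` killed by a regular element of `A_q`
is killed by some element outside `q`. -/
theorem exists_notMem_mul_eq_zero (hc : IsCompact ((W ⊓ U : X.Opens) : Set X)) (a' : Γ(X, W))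
    (hreg : ∀ x : O, algebraMap Γ(X, W) O a' * x = 0 → x = 0)
    (σ : Γ(X, W ⊓ U)) (hσ : res X inf_le_left a' * σ = 0) :
    ∃ g' : Γ(X, W), g' ∉ q.asIdeal ∧ res X inf_le_left g' * σ = 0 := by
  classical
  have hloc : ∀ x : (W ⊓ U : X.Opens), ∃ f : Γ(X, W), ∃ hf : X.basicOpen f ≤ W ⊓ U,
      (x : X) ∈ X.basicOpen f ∧ ∃ g : Γ(X, W), g ∉ q.asIdeal ∧
        res X hf (res X inf_le_left g * σ) = 0 := by
    intro x
    obtain ⟨f, hf, hxf⟩ := hW.exists_basicOpen_le (V := W ⊓ U) x x.2.1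
    obtain ⟨g, hg, hgσ⟩ := exists_notMem_res_eq_zero hW q O a' hreg σ hσ f hf
    exact ⟨f, hf, hxf, g, hg, hgσ⟩
  choose f hf hxf g hg hgσ using hloc
  obtain ⟨t, ht⟩ := hc.elim_finite_subcover
    (fun x : (W ⊓ U : X.Opens) => ((X.basicOpen (f x) : X.Opens) : Set X))
    (fun x => (X.basicOpen (f x)).2)
    (fun y hy => Set.mem_iUnion.mpr ⟨⟨y, hy⟩, hxf ⟨y, hy⟩⟩)
  refine ⟨∏ x ∈ t, g x, ?_, ?_⟩
  · intro hmem
    obtain ⟨x, -, hx⟩ := (Ideal.IsPrime.prod_mem_iff (hp := q.2)).mp hmem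
    exact hg x hx
  · refine X.sheaf.eq_of_locally_eq' (fun x : t => X.basicOpen (f x.1)) (W ⊓ U)
      (fun x => homOfLE (hf x.1)) ?_ _ _ ?_
    · intro y hy
      obtain ⟨x, hx⟩ := Set.mem_iUnion.mp (ht hy)
      obtain ⟨hxt, hyx⟩ := Set.mem_iUnion.mp hx
      exact Opens.mem_iSup.mpr ⟨⟨x, hxt⟩, hyx⟩
    · rintro ⟨x, hxt⟩
      change res X (hf x) (res X inf_le_left (∏ x ∈ t, g x) * σ) = res X (hf x) 0
      rw [map_zero, ← Finset.mul_prod_erase t g hxt, mul_comm (g x), map_mul (res X inf_le_left),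
        mul_assoc, map_mul, hgσ x, mul_zero]

end K

include hZ hW in
theorem surjective_res_affine (hc : IsCompact ((W ⊓ U : X.Opens) : Set X)) :
    Function.Surjective (res X (inf_le_left : W ⊓ U ≤ W)) := by
  intro t
  set ρ := res X (inf_le_left : W ⊓ U ≤ W) with hρ
  let I : Ideal Γ(X, W) :=
    { carrier := {g | ∃ s, ρ s = ρ g * t}
      add_mem' := by
        rintro g₁ g₂ ⟨s₁, h₁⟩ ⟨s₂, h₂⟩
        exact ⟨s₁ + s₂, by rw [map_add, map_add, h₁, h₂, add_mul]⟩
      zero_mem' := ⟨0, by rw [map_zero, zero_mul]⟩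
      smul_mem' := by
        rintro c g ⟨s, h⟩
        exact ⟨c * s, by rw [smul_eq_mul, map_mul, map_mul, h, mul_assoc]⟩ }
  have hI : ∀ g, g ∈ I ↔ ∃ s, ρ s = ρ g * t := fun g => Iff.rfl
  by_cases h1 : (1 : Γ(X, W)) ∈ I
  · obtain ⟨s, hs⟩ := (hI 1).mp h1
    exact ⟨s, by rw [hs, map_one, one_mul]⟩
  exfalso
  have hItop : I ≠ ⊤ := fun h => h1 (h ▸ Submodule.mem_top)
  obtain ⟨q, hq⟩ := Ideal.nonempty_minimalPrimes hItop
  haveI : q.IsPrime := hq.1.1
  let qq : PrimeSpectrum Γ(X, W) := ⟨q, inferInstance⟩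
  have hzW : hW.fromSpec qq ∈ W := fromSpec_mem' hW qq
  have hzU : hW.fromSpec qq ∉ U := by
    intro hzU
    obtain ⟨g, hgle, hzg⟩ := hW.exists_basicOpen_le (V := W ⊓ U) ⟨hW.fromSpec qq, ⟨hzW, hzU⟩⟩ hzW
    have hgq : g ∉ q := (mem_basicOpen_iff hW qq g).mp hzg
    haveI := hW.isLocalization_basicOpen g
    obtain ⟨n, c, hnc⟩ := IsLocalization.Away.surj g (res X hgle t)
    -- `τ = ρ (g ^ n) * t - ρ c` vanishes on `D(g)`
    have hτ : ∀ (D : X.Opens) (hD : D ≤ W ⊓ U), D = X.basicOpen g →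
        res X hD (ρ (g ^ n) * t - ρ c) = 0 := by
      rintro D hD rfl
      rw [map_sub, map_mul, hρ, res_res, res_res, sub_eq_zero]
      change algebraMap Γ(X, W) Γ(X, X.basicOpen g) (g ^ n) * _ =
        algebraMap Γ(X, W) Γ(X, X.basicOpen g) c
      rw [← hnc, map_pow, mul_comm]
    have hbo : X.basicOpen (ρ g) = X.basicOpen g := by
      rw [hρ]
      change X.basicOpen (X.presheaf.map (homOfLE inf_le_left).op g) = _
      rw [Scheme.basicOpen_res]
      exact inf_eq_right.mpr hgle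
    obtain ⟨m, hm⟩ := exists_pow_mul_eq_zero_of_res_basicOpen_eq_zero_of_isCompact X hc
      (ρ (g ^ n) * t - ρ c) (ρ g) (hτ _ (X.basicOpen_le _) hbo)
    have : g ^ (m + n) ∈ I := by
      rw [hI]
      refine ⟨g ^ m * c, ?_⟩
      rw [mul_sub, sub_eq_zero] at hm
      rw [map_mul, map_pow, ← hm, pow_add, map_mul, map_pow, map_pow]
      ring
    exact hgq (Ideal.IsPrime.mem_of_pow_mem inferInstance _ (hq.1.2 this))
  letI := TopCat.Presheaf.algebra_section_stalk X.presheaf ⟨hW.fromSpec qq, hzW⟩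
  have loc : IsLocalization.AtPrime (X.presheaf.stalk (hW.fromSpec qq)) q :=
    hW.isLocalization_stalk' qq hzW
  obtain ⟨a', b', hp⟩ := exists_regPair_of_notMem hZ hW qq hzU
  refine surj_core q (X.presheaf.stalk (hW.fromSpec qq)) ρ (injective_res_affine hZ hW) hp ?_ t I hI hq
  intro σ hσ
  exact exists_notMem_mul_eq_zero hW qq (X.presheaf.stalk (hW.fromSpec qq)) hc a' hp.reg σ hσ

include hZ hW in
theorem bijective_res_affine (hc : IsCompact ((W ⊓ U : X.Opens) : Set X)) :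
    Function.Bijective (res X (inf_le_left : W ⊓ U ≤ W)) :=
  ⟨injective_res_affine hZ hW, surjective_res_affine hZ hW hc⟩

end Affine

end Groth.Agent.H22.NNHartogs
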