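import Mathlib
import Groth.Agent.H22.NNHartogs

/-! Non-Noetherian Hartogs, global form: sections of affine morphisms extend uniquely across a
closed subset with quasi-compact open complement at whose points the maximal ideal of the local
ring contains a weakly regular sequence of length two. -/

set_option autoImplicit false
universe u

open AlgebraicGeometry CategoryTheory CategoryTheory.Limits TopologicalSpace

namespace Groth.Agent.H22.NNHartogs

open RingTheory.Sequence

variable {X : Scheme.{u}} (U : X.Opens)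

theorem isCompact_inf [QuasiCompact U.ι] (W : X.Opens) (hW : IsAffineOpen W) :
    IsCompact ((W ⊓ U : X.Opens) : Set X) := by
  have h1 : IsCompact (U.ι ⁻¹' (W : Set X)) :=
    QuasiCompact.isCompact_preimage (f := U.ι) W W.2 hW.isCompact
  have h2 := h1.image U.ι.continuous
  rw [Set.image_preimage_eq_inter_range, Scheme.Opens.range_ι] at h2
  exact h2

theorem bijective_res [QuasiCompact U.ι] (hZ : HasRegSeqOff X U) (V : X.Opens) :
    Function.Bijective (res X (inf_le_left : V ⊓ U ≤ V)) := by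
  have haff : ∀ W : X.Opens, IsAffineOpen W →
      Function.Bijective (Groth.Agent.H6.Hartogs.r X (inf_le_left : W ⊓ U ≤ W)) :=
    fun W hW => bijective_res_affine hZ hW (isCompact_inf U W hW)
  exact ⟨Groth.Agent.H6.Hartogs.r_injective X U haff V,
    Groth.Agent.H6.Hartogs.r_surjective X U haff V⟩

theorem isIso_ι_appTop [QuasiCompact U.ι] (hZ : HasRegSeqOff X U) : IsIso U.ι.appTop := by
  rw [Scheme.Opens.ι_appTop]
  have gen : ∀ (T : X.Opens) (h : T ≤ ⊤), T = ⊤ ⊓ U →
      IsIso (X.presheaf.map (homOfLE h).op) := by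
    rintro T h rfl
    rw [ConcreteCategory.isIso_iff_bijective]
    exact bijective_res U hZ ⊤
  exact gen _ _ (by rw [top_inf_eq]; exact U.ι_image_top)

theorem hasRegSeqOff_of_isOpenImmersion {W' : Scheme.{u}} (j : W' ⟶ X) [IsOpenImmersion j]
    (hZ : HasRegSeqOff X U) : HasRegSeqOff W' (j ⁻¹ᵁ U) := by
  intro w hw
  obtain ⟨a, b, ha, hb, hreg⟩ := hZ (j w) hw
  let e : X.presheaf.stalk (j w) ≃+* W'.presheaf.stalk w :=
    (asIso (j.stalkMap w)).commRingCatIsoToRingEquiv
  have hmem : ∀ c : X.presheaf.stalk (j w), c ∈ IsLocalRing.maximalIdeal _ →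
      e c ∈ IsLocalRing.maximalIdeal _ := by
    intro c hc
    rw [IsLocalRing.mem_maximalIdeal, mem_nonunits_iff] at hc ⊢
    intro h
    apply hc
    have := h.map e.symm
    rwa [RingEquiv.symm_apply_apply] at this
  refine ⟨e a, e b, hmem a ha, hmem b hb, ?_⟩
  exact (AddEquiv.isWeaklyRegular_congr (e := e.toAddEquiv)
    (List.Forall₂.cons (fun x => map_mul e a x)
      (List.Forall₂.cons (fun x => map_mul e b x) List.Forall₂.nil))).mp hreg

instance quasiCompact_preimage_ι {W' : Scheme.{u}} (j : W' ⟶ X) [IsOpenImmersion j]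
    [QuasiCompact U.ι] : QuasiCompact (j ⁻¹ᵁ U).ι :=
  MorphismProperty.of_isPullback (P := @QuasiCompact) (isPullback_morphismRestrict j U)
    inferInstance

variable {P : Scheme.{u}} [QuasiCompact U.ι] (hZ : HasRegSeqOff X U) (p : P ⟶ X) [IsAffineHom p]

include hZ in
/-- Uniqueness: two lifts of an open immersion `j : W ⟶ X` to `P` which agree over `U` agree. -/
theorem lift_unique {W : Scheme.{u}} (j : W ⟶ X) [IsOpenImmersion j] (a b : W ⟶ P)
    (ha : a ≫ p = j) (hb : b ≫ p = j) (hab : (j ⁻¹ᵁ U).ι ≫ a = (j ⁻¹ᵁ U).ι ≫ b) : a = b := by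
  refine Scheme.Cover.hom_ext (X.affineCover.pullback₁ j) _ _ fun i => ?_
  change pullback.fst j (X.affineCover.f i) ≫ a = pullback.fst j (X.affineCover.f i) ≫ b
  let c := X.affineCover.f i
  let Wi := pullback j c
  let Pi := pullback p c
  haveI : IsAffine Pi := isAffine_of_isAffineHom (pullback.snd p c)
  let a' : Wi ⟶ Pi := pullback.lift (pullback.fst j c ≫ a) (pullback.snd j c)
    (by rw [Category.assoc, ha, pullback.condition])
  let b' : Wi ⟶ Pi := pullback.lift (pullback.fst j c ≫ b) (pullback.snd j c)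
    (by rw [Category.assoc, hb, pullback.condition])
  let U' : Wi.Opens := (pullback.fst j c ≫ j) ⁻¹ᵁ U
  have hU' : HasRegSeqOff Wi U' := hasRegSeqOff_of_isOpenImmersion U (pullback.fst j c ≫ j) hZ
  haveI : QuasiCompact U'.ι := quasiCompact_preimage_ι U (pullback.fst j c ≫ j)
  have hfac : ∃ t : (U' : Scheme.{u}) ⟶ (j ⁻¹ᵁ U : Scheme.{u}),
      t ≫ (j ⁻¹ᵁ U).ι = U'.ι ≫ pullback.fst j c := by
    refine ⟨IsOpenImmersion.lift (j ⁻¹ᵁ U).ι (U'.ι ≫ pullback.fst j c) ?_,
      IsOpenImmersion.lift_fac _ _ _⟩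
    rintro _ ⟨z, rfl⟩
    rw [Scheme.Opens.range_ι]
    exact z.2
  obtain ⟨t, ht⟩ := hfac
  have hab' : U'.ι ≫ a' = U'.ι ≫ b' := by
    apply pullback.hom_ext
    · simp only [Category.assoc, a', b', pullback.lift_fst]
      rw [← Category.assoc, ← ht, Category.assoc, hab, ← Category.assoc, ht, Category.assoc]
    · simp only [Category.assoc, a', b', pullback.lift_snd]
  have key := Groth.Agent.H6.Hartogs.existsUnique_extension Wi Pi U' (isIso_ι_appTop U' hU')
    (U'.ι ≫ a')
  have h1 : a' = b' := key.unique rfl hab'.symm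
  have h2 : pullback.fst j c ≫ a = a' ≫ pullback.fst p c := (pullback.lift_fst _ _ _).symm
  have h3 : pullback.fst j c ≫ b = b' ≫ pullback.fst p c := (pullback.lift_fst _ _ _).symm
  rw [h2, h3, h1]

include hZ in
/-- Sections of an affine morphism over `U` extend uniquely to `X`. -/
theorem existsUnique_section (σU : (U : Scheme.{u}) ⟶ P) (hσU : σU ≫ p = U.ι) :
    ∃! σ : X ⟶ P, σ ≫ p = 𝟙 X ∧ U.ι ≫ σ = σU := by
  let 𝒰 := X.affineCover
  have hloc : ∀ i, ∃ s : 𝒰.X i ⟶ P, s ≫ p = 𝒰.f i ∧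
      ∀ (T : Scheme.{u}) (t : T ⟶ 𝒰.X i) (t' : T ⟶ (U : Scheme.{u})),
        t ≫ 𝒰.f i = t' ≫ U.ι → t ≫ s = t' ≫ σU := by
    intro i
    let c := 𝒰.f i
    let Pi := pullback p c
    haveI : IsAffine Pi := isAffine_of_isAffineHom (pullback.snd p c)
    let Ui : (𝒰.X i).Opens := c ⁻¹ᵁ U
    have hUi : HasRegSeqOff (𝒰.X i) Ui := hasRegSeqOff_of_isOpenImmersion U c hZ
    haveI : QuasiCompact Ui.ι := quasiCompact_preimage_ι U c
    have hiso : IsIso Ui.ι.appTop := isIso_ι_appTop Ui hUi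
    let m : (Ui : Scheme.{u}) ⟶ Pi := pullback.lift ((c ∣_ U) ≫ σU) Ui.ι
      (by rw [Category.assoc, hσU, morphismRestrict_ι])
    obtain ⟨g, hg, -⟩ := Groth.Agent.H6.Hartogs.existsUnique_extension (𝒰.X i) Pi Ui hiso m
    have hgsnd : g ≫ pullback.snd p c = 𝟙 _ := by
      have key := Groth.Agent.H6.Hartogs.existsUnique_extension (𝒰.X i) (𝒰.X i) Ui hiso Ui.ι
      refine key.unique ?_ (Category.comp_id _)
      rw [← Category.assoc, hg, pullback.lift_snd]
    refine ⟨g ≫ pullback.fst p c, ?_, ?_⟩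
    · rw [Category.assoc, pullback.condition, ← Category.assoc, hgsnd, Category.id_comp]
    · intro T t t' htt'
      have hrange : Set.range t ⊆ Ui.ι.opensRange := by
        rintro _ ⟨z, rfl⟩
        rw [Scheme.Opens.opensRange_ι]
        change c (t z) ∈ U
        rw [← Scheme.Hom.comp_apply, htt', Scheme.Hom.comp_apply]
        exact (t' z).2
      let t₀ : T ⟶ (Ui : Scheme.{u}) := IsOpenImmersion.lift Ui.ι t hrange
      have ht₀ : t₀ ≫ Ui.ι = t := IsOpenImmersion.lift_fac _ _ _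
      have ht₀' : t₀ ≫ (c ∣_ U) = t' := by
        rw [← cancel_mono U.ι, Category.assoc, morphismRestrict_ι, ← Category.assoc, ht₀, htt']
      rw [← ht₀, Category.assoc, ← Category.assoc Ui.ι, hg, pullback.lift_fst, ← Category.assoc,
        ht₀']
  choose s hs hs' using hloc
  have hglue : ∀ i j, pullback.fst (𝒰.f i) (𝒰.f j) ≫ s i = pullback.snd _ _ ≫ s j := by
    intro i j
    let jW := pullback.fst (𝒰.f i) (𝒰.f j) ≫ 𝒰.f i
    apply lift_unique U hZ p jW
    · rw [Category.assoc, hs]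
    · rw [Category.assoc, hs, ← pullback.condition]
    · rw [← Category.assoc, ← Category.assoc,
        hs' i _ ((jW ⁻¹ᵁ U).ι ≫ pullback.fst (𝒰.f i) (𝒰.f j)) (jW ∣_ U)
        (by rw [Category.assoc, morphismRestrict_ι]),
        hs' j _ ((jW ⁻¹ᵁ U).ι ≫ pullback.snd (𝒰.f i) (𝒰.f j)) (jW ∣_ U)
        (by rw [Category.assoc, morphismRestrict_ι, ← pullback.condition])]
  let σ : X ⟶ P := 𝒰.glueMorphisms s hglue
  have hσ : ∀ i, 𝒰.f i ≫ σ = s i := fun i => 𝒰.ι_glueMorphisms s hglue i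
  have hσp : σ ≫ p = 𝟙 X := by
    refine Scheme.Cover.hom_ext 𝒰 _ _ fun i => ?_
    rw [← Category.assoc, hσ, hs, Category.comp_id]
  have hσU' : U.ι ≫ σ = σU := by
    refine Scheme.Cover.hom_ext (𝒰.pullback₁ U.ι) _ _ fun i => ?_
    change pullback.fst U.ι (𝒰.f i) ≫ U.ι ≫ σ = pullback.fst U.ι (𝒰.f i) ≫ σU
    rw [← Category.assoc, pullback.condition, Category.assoc, hσ]
    exact hs' i _ _ _ pullback.condition.symm
  refine ⟨σ, ⟨hσp, hσU'⟩, ?_⟩
  rintro σ' ⟨h1, h2⟩
  apply lift_unique U hZ p (𝟙 X) σ' σ h1 hσp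
  have h3 : ((𝟙 X) ⁻¹ᵁ U) = U := rfl
  have key : ∀ (V : X.Opens), V = U → V.ι ≫ σ' = V.ι ≫ σ := by
    rintro V rfl
    rw [h2, hσU']
  exact key _ h3

end Groth.Agent.H22.NNHartogs
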