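import Mathlib.Topology.NoetherianSpace
import Mathlib.Topology.Sober

/-!
# A neighbourhood lemma in Noetherian sober spaces (helper22)
-/

set_option autoImplicit false

namespace Groth.Agent.H22

open TopologicalSpace Set

/-- In a Noetherian quasi-sober space, if an open `G ⊆ U` contains every point of the open `U`
specializing to `x`, then `U ∩ V ⊆ G` for some open neighbourhood `V` of `x`. -/
theorem exists_open_nhd_inter_subset {α : Type*} [TopologicalSpace α] [NoetherianSpace α]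
    [QuasiSober α] {U G : Set α} (hU : IsOpen U) (hG : IsOpen G) (x : α)
    (H : ∀ z ∈ U, z ⤳ x → z ∈ G) :
    ∃ V : Set α, IsOpen V ∧ x ∈ V ∧ U ∩ V ⊆ G := by
  classical
  set T : Set α := U \ G with hT
  suffices hx : x ∉ closure T by
    refine ⟨(closure T)ᶜ, isClosed_closure.isOpen_compl, hx, ?_⟩
    rintro z ⟨hzU, hzV⟩
    by_contra hzG
    exact hzV (subset_closure ⟨hzU, hzG⟩)
  intro hx
  let 𝒮 : Set (Closeds α) := {Z | x ∈ closure (T ∩ (Z : Set α))}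
  have h𝒮 : 𝒮.Nonempty := ⟨⊤, by simpa [𝒮] using hx⟩
  obtain ⟨Z, hZ𝒮, hZmin⟩ := (wellFounded_lt (α := Closeds α)).has_min 𝒮 h𝒮
  have hZx : x ∈ closure (T ∩ (Z : Set α)) := hZ𝒮
  have hmin : ∀ Z' : Closeds α, Z' ≤ Z → x ∈ closure (T ∩ (Z' : Set α)) → Z' = Z := by
    intro Z' hle hx'
    by_contra hne
    exact hZmin Z' hx' (lt_of_le_of_ne hle hne)
  have hne : (T ∩ (Z : Set α)).Nonempty := by
    by_contra h
    rw [not_nonempty_iff_eq_empty] at h
    rw [h, closure_empty] at hZx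
    exact hZx
  have hirr : IsIrreducible (Z : Set α) := by
    refine ⟨hne.mono inter_subset_right, ?_⟩
    rw [isPreirreducible_iff_isClosed_union_isClosed]
    intro z₁ z₂ hz₁ hz₂ hsub
    have hcov : T ∩ (Z : Set α) = (T ∩ ((Z : Set α) ∩ z₁)) ∪ (T ∩ ((Z : Set α) ∩ z₂)) := by
      ext w
      constructor
      · rintro ⟨hwT, hwZ⟩
        rcases hsub hwZ with h1 | h2
        · exact Or.inl ⟨hwT, hwZ, h1⟩
        · exact Or.inr ⟨hwT, hwZ, h2⟩
      · rintro (⟨hwT, hwZ, -⟩ | ⟨hwT, hwZ, -⟩) <;> exact ⟨hwT, hwZ⟩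
    rw [hcov, closure_union] at hZx
    rcases hZx with h1 | h2
    · left
      have := hmin (Z ⊓ ⟨z₁, hz₁⟩) inf_le_left h1
      intro w hw
      have hw' : w ∈ ((Z ⊓ ⟨z₁, hz₁⟩ : Closeds α) : Set α) := by rw [this]; exact hw
      exact hw'.2
    · right
      have := hmin (Z ⊓ ⟨z₂, hz₂⟩) inf_le_left h2
      intro w hw
      have hw' : w ∈ ((Z ⊓ ⟨z₂, hz₂⟩ : Closeds α) : Set α) := by rw [this]; exact hw
      exact hw'.2
  obtain ⟨ζ, hζ⟩ := QuasiSober.sober hirr Z.isClosed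
  obtain ⟨t, ⟨htU, htG⟩, htZ⟩ := hne
  have hζU : ζ ∈ U := (hζ.specializes htZ).mem_open hU htU
  have hζx : ζ ⤳ x := by
    apply hζ.specializes
    exact closure_minimal inter_subset_right Z.isClosed hZx
  have hζG : ζ ∈ G := H ζ hζU hζx
  have hZ' : x ∈ closure (T ∩ ((Z ⊓ ⟨Gᶜ, hG.isClosed_compl⟩ : Closeds α) : Set α)) := by
    have : T ∩ ((Z ⊓ ⟨Gᶜ, hG.isClosed_compl⟩ : Closeds α) : Set α) = T ∩ (Z : Set α) := by
      ext w
      constructor
      · rintro ⟨hwT, hwZ, -⟩; exact ⟨hwT, hwZ⟩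
      · rintro ⟨hwT, hwZ⟩; exact ⟨hwT, hwZ, hwT.2⟩
    rw [this]
    exact hZx
  have := hmin _ inf_le_left hZ'
  have hζZ' : ζ ∈ ((Z ⊓ ⟨Gᶜ, hG.isClosed_compl⟩ : Closeds α) : Set α) := by
    rw [this]; exact hζ.mem
  exact hζZ'.2 hζG

end Groth.Agent.H22
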