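import Mathlib.AlgebraicGeometry.Noetherian
import Groth.Agent.H22.NoethNhd

/-!
# Scheme version of the Noetherian neighbourhood lemma (helper22)
-/

set_option autoImplicit false
universe u

namespace Groth.Agent.H22

open AlgebraicGeometry CategoryTheory TopologicalSpace Opposite Scheme

/-- On a locally Noetherian scheme, if an open `G` contains every point of the open `U`
specializing to `x`, then `U ⊓ V ≤ G` for some open neighbourhood `V` of `x`. -/
theorem exists_opens_nhd_inf_le {X : Scheme.{u}} [IsLocallyNoetherian X] (U G : X.Opens) (x : X)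
    (H : ∀ z ∈ U, z ⤳ x → z ∈ G) : ∃ V : X.Opens, x ∈ V ∧ U ⊓ V ≤ G := by
  obtain ⟨W₀, hW₀, hxW₀, -⟩ := exists_isAffineOpen_mem_and_subset (x := x) (U := ⊤) trivial
  have hN : IsNoetherianRing Γ(X, W₀) := IsLocallyNoetherian.component_noetherian ⟨W₀, hW₀⟩
  have hNS := noetherianSpace_of_isAffineOpen W₀ hW₀
  have hQS : QuasiSober W₀.toScheme := inferInstance
  obtain ⟨V', hV'o, hxV', hV'⟩ := @exists_open_nhd_inter_subset _ _ hNS hQS
    (Subtype.val ⁻¹' (U : Set X)) (Subtype.val ⁻¹' (G : Set X))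
    (U.2.preimage continuous_subtype_val) (G.2.preimage continuous_subtype_val) ⟨x, hxW₀⟩
    (fun z hz hzx => H z.1 hz (hzx.map continuous_subtype_val))
  refine ⟨⟨Subtype.val '' V', W₀.2.isOpenMap_subtype_val V' hV'o⟩, ⟨⟨x, hxW₀⟩, hxV', rfl⟩, ?_⟩
  rintro z ⟨hzU, ⟨w, hwV', rfl⟩⟩
  exact hV' ⟨hzU, hwV'⟩

end Groth.Agent.H22
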