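import Groth.Prelude.Def_OmegaPn
import Groth.Agent.H8.QcqsPush
import Groth.Agent.H44.PullbackAffine

/-!
# Principal parts of a quasi-coherent module are quasi-coherent (helper22)

`pr1 f n : X^{(n)}_Δ ⟶ X` is a homeomorphism on the underlying spaces, hence quasi-compact and
quasi-separated.
-/

set_option autoImplicit false
universe u

namespace Groth.Agent.H22.PrinPartQCoh

open AlgebraicGeometry CategoryTheory CategoryTheory.Limits TopologicalSpace

/-- A morphism which is a homeomorphism on underlying spaces is quasi-compact. -/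
theorem quasiCompact_of_isHomeomorph {N X : Scheme.{u}} (g : N ⟶ X) (hg : IsHomeomorph g) :
    QuasiCompact g := by
  refine ⟨fun U _ hc => ?_⟩
  exact (hg.homeomorph.isCompact_preimage).mpr hc

/-- A morphism which is a homeomorphism on underlying spaces is quasi-separated. -/
theorem quasiSeparated_of_isHomeomorph {N X : Scheme.{u}} (g : N ⟶ X) (hg : IsHomeomorph g) :
    QuasiSeparated g := by
  rw [HasAffineProperty.eq_targetAffineLocally (P := @QuasiSeparated)]
  intro U
  change QuasiSeparatedSpace ↥(g ⁻¹ᵁ U.1)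
  refine (isQuasiSeparated_iff_quasiSeparatedSpace ((g ⁻¹ᵁ U.1 : N.Opens) : Set N)
    (g ⁻¹ᵁ U.1).isOpen).mp ?_
  have hoe : Topology.IsOpenEmbedding g := hg.isOpenEmbedding
  rw [hoe.isQuasiSeparated_iff]
  have : g '' ((g ⁻¹ᵁ U.1 : N.Opens) : Set N) = (U.1 : Set X) :=
    Set.image_preimage_eq _ hg.surjective
  rw [this]
  exact U.2.isQuasiSeparated

variable {X S : Scheme.{u}} (f : X ⟶ S)

theorem isHomeomorph_pr1 (n : ℕ) : IsHomeomorph (PrinPart.pr1 f n) := by
  have h1 : ∀ x : X, PrinPart.pr1 f n (PrinPart.toNbhd f n x) = x := by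
    intro x
    rw [← Scheme.Hom.comp_apply, PrinPart.toNbhd_pr1]
    rfl
  have h2 : ∀ y : PrinPart.nbhd f n, PrinPart.toNbhd f n (PrinPart.pr1 f n y) = y := by
    intro y
    obtain ⟨x, rfl⟩ := PrinPart.toInfNbhd_surjective (PrinPart.diagCl f) n y
    exact congrArg _ (h1 x)
  let e : PrinPart.nbhd f n ≃ₜ X :=
    { toFun := PrinPart.pr1 f n
      invFun := PrinPart.toNbhd f n
      left_inv := h2
      right_inv := h1
      continuous_toFun := (PrinPart.pr1 f n).continuous
      continuous_invFun := (PrinPart.toNbhd f n).continuous }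
  exact e.isHomeomorph

instance (n : ℕ) : QuasiCompact (PrinPart.pr1 f n) :=
  quasiCompact_of_isHomeomorph _ (isHomeomorph_pr1 f n)

instance (n : ℕ) : QuasiSeparated (PrinPart.pr1 f n) :=
  quasiSeparated_of_isHomeomorph _ (isHomeomorph_pr1 f n)

theorem isQuasicoherent_PMod (n : ℕ) (F : X.Modules) [F.IsQuasicoherent] :
    (PrinPart.PMod f n F).IsQuasicoherent := by
  unfold PrinPart.PMod
  exact Groth.Agent.H8.isQuasicoherent_pushforward_of_qcqs _ _

end Groth.Agent.H22.PrinPartQCoh
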