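import Groth.Agent.H22.PrinPartSymm
import Groth.Agent.H22.PrinPartQCoh
import Mathlib.AlgebraicGeometry.Morphisms.Flat

/-!
# Affine charts of the infinitesimal neighbourhoods of the diagonal

For `U ⊆ X` affine open mapping into an affine open `V ⊆ S`, the ring `Γ(X^{(n)}_Δ, p₁⁻¹ U)` is
generated by the images of `Γ(X, U)` under the two projections.
-/

set_option autoImplicit false
universe u
open CategoryTheory CategoryTheory.Limits AlgebraicGeometry TopologicalSpace Opposite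

namespace Groth.Agent.H22.PrinPartAffine

variable {X S : Scheme.{u}} (f : X ⟶ S)

/-- the open `fst⁻¹ U ⊓ snd⁻¹ U` of `X ×_S X` -/
noncomputable def sq (U : X.Opens) : (pullback f f).Opens :=
  pullback.fst f f ⁻¹ᵁ U ⊓ pullback.snd f f ⁻¹ᵁ U

theorem sq_le_fst (U : X.Opens) : sq f U ≤ pullback.fst f f ⁻¹ᵁ U := inf_le_left
theorem sq_le_snd (U : X.Opens) : sq f U ≤ pullback.snd f f ⁻¹ᵁ U := inf_le_right

variable {f} in
theorem isAffineOpen_sq {U : X.Opens} {V : S.Opens} (hU : IsAffineOpen U) (hV : IsAffineOpen V)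
    (hUV : U ≤ f ⁻¹ᵁ V) : IsAffineOpen (sq f U) := by
  have : IsAffine _ := hV
  have : IsAffine _ := hU
  exact .of_isIso (Scheme.Hom.isPullback_resLE (IsPullback.of_hasPullback f f) hUV hUV
    (UY := sq f U) rfl).isoPullback.hom

variable {f} in
theorem closure_sq {U : X.Opens} {V : S.Opens} (hU : IsAffineOpen U) (hV : IsAffineOpen V)
    (hUV : U ≤ f ⁻¹ᵁ V) :
    Subring.closure (Set.range ((pullback.fst f f).appLE U (sq f U) (sq_le_fst f U)).hom ∪
      Set.range ((pullback.snd f f).appLE U (sq f U) (sq_le_snd f U)).hom) = ⊤ := by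
  have h1 := isIso_pushoutSection_of_isAffineOpen (IsPullback.of_hasPullback f f) hUV hUV
    (UY := sq f U) rfl hV hU hU
  have h2 := (isIso_pushoutSection_iff (IsPullback.of_hasPullback f f) hUV hUV
    (UY := sq f U) rfl).mp h1
  exact CommRingCat.closure_range_union_range_eq_top_of_isPushout h2

variable {f} in
/-- the square of an open on which `f` is separated lies in the open where the diagonal is closed -/
theorem sq_le_coborderRange {U : X.Opens} {V : S.Opens} (hUV : U ≤ f ⁻¹ᵁ V)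
    [IsSeparated (f.resLE V U hUV)] :
    sq f U ≤ (pullback.diagonal f).coborderRange := by
  let f' := f.resLE V U hUV
  let p : pullback f' f' ⟶ pullback f f :=
    pullback.map f' f' f f U.ι U.ι V.ι (by simp [f']) (by simp [f'])
  have hp : Set.range p = (sq f U : Set ↑(pullback f f)) := by
    rw [Scheme.Pullback.range_map]
    simp [sq]
  have hΔ : pullback.diagonal f' ≫ p = U.ι ≫ pullback.diagonal f := by
    apply pullback.hom_ext
    · simp only [Category.assoc, p, pullback.lift_fst, pullback.diagonal_fst,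
        pullback.diagonal_fst_assoc, Category.comp_id, pullback.map]
    · simp only [Category.assoc, p, pullback.lift_snd, pullback.diagonal_snd,
        pullback.diagonal_snd_assoc, Category.comp_id, pullback.map]
  intro z hz
  change z ∈ coborder (Set.range (pullback.diagonal f))
  rw [coborder, Set.mem_compl_iff]
  rintro ⟨hz1, hz2⟩
  apply hz2
  have hz' : z ∈ Set.range p := by rw [hp]; exact hz
  obtain ⟨w, rfl⟩ := hz'
  have hcl : IsClosed (Set.range (pullback.diagonal f')) :=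
    (pullback.diagonal f').isClosedEmbedding.isClosed_range
  have hw : w ∈ closure (Set.range (pullback.diagonal f')) := by
    rw [p.isOpenEmbedding.isInducing.closure_eq_preimage_closure_image]
    rw [Set.mem_preimage]
    have h3 : (sq f U : Set ↑(pullback f f)) ∩ closure (Set.range (pullback.diagonal f)) ⊆
        closure ((sq f U : Set ↑(pullback f f)) ∩ Set.range (pullback.diagonal f)) :=
      (sq f U).isOpen.inter_closure
    refine closure_mono ?_ (h3 ⟨hz, hz1⟩)
    rintro _ ⟨hx1, x, rfl⟩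
    have hxU : x ∈ U := by
      have := hx1.1
      change pullback.fst f f (pullback.diagonal f x) ∈ U at this
      rwa [← Scheme.Hom.comp_apply, pullback.diagonal_fst] at this
    refine ⟨pullback.diagonal f' ⟨x, hxU⟩, ⟨_, rfl⟩, ?_⟩
    rw [← Scheme.Hom.comp_apply, hΔ]
    rfl
  rw [hcl.closure_eq] at hw
  obtain ⟨u, rfl⟩ := hw
  refine ⟨U.ι u, ?_⟩
  rw [← Scheme.Hom.comp_apply, ← hΔ]
  rfl

theorem nbhdι_preimage_sq (n : ℕ) (U : X.Opens) :
    PrinPart.nbhdι f n ⁻¹ᵁ sq f U = PrinPart.pr1 f n ⁻¹ᵁ U := by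
  have h : PrinPart.nbhdι f n ⁻¹ᵁ sq f U = PrinPart.pr1 f n ⁻¹ᵁ U ⊓ PrinPart.pr2 f n ⁻¹ᵁ U := rfl
  rw [h, ← PrinPart.preimage_pr1, inf_idem]

variable {f} in
/-- sections of `X^{(n)}_Δ` over `p₁⁻¹ U` are restrictions of sections of `X ×_S X` over `U ×_V U` -/
theorem surjective_nbhdι_app (n : ℕ) {U : X.Opens} (hsq : IsAffineOpen (sq f U))
    (hle : sq f U ≤ (pullback.diagonal f).coborderRange) :
    Function.Surjective ((PrinPart.nbhdι f n).app (sq f U)).hom := by
  have hW₁ : IsAffineOpen ((pullback.diagonal f).coborderRange.ι ⁻¹ᵁ sq f U) :=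
    hsq.preimage_of_isOpenImmersion _ (by simpa using hle)
  have h1 := (PrinPart.infNbhdι (PrinPart.diagCl f) n).app_surjective _ hW₁
  have h2 : IsIso ((pullback.diagonal f).coborderRange.ι.app (sq f U)) :=
    Scheme.Hom.isIso_app _ _ (by simpa using hle)
  have h3 : (PrinPart.nbhdι f n).app (sq f U) =
      (pullback.diagonal f).coborderRange.ι.app (sq f U) ≫
        (PrinPart.infNbhdι (PrinPart.diagCl f) n).app
          ((pullback.diagonal f).coborderRange.ι ⁻¹ᵁ sq f U) := by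
    unfold PrinPart.nbhdι
    rw [Scheme.Hom.comp_app]
  rw [h3]
  have h4 : Function.Surjective ((pullback.diagonal f).coborderRange.ι.app (sq f U)).hom :=
    ((ConcreteCategory.isIso_iff_bijective _).mp h2).2
  exact h1.comp h4

/-- `p₁♯ : Γ(X, U) → Γ(X^{(n)}_Δ, p₁⁻¹ U)` -/
noncomputable def p1 (n : ℕ) (U : X.Opens) : Γ(X, U) →+* Γ(PrinPart.nbhd f n, PrinPart.pr1 f n ⁻¹ᵁ U) :=
  ((PrinPart.pr1 f n).app U).hom

/-- `p₂♯ : Γ(X, U) → Γ(X^{(n)}_Δ, p₁⁻¹ U)` (using `p₁⁻¹ U = p₂⁻¹ U`) -/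
noncomputable def p2 (n : ℕ) (U : X.Opens) : Γ(X, U) →+* Γ(PrinPart.nbhd f n, PrinPart.pr1 f n ⁻¹ᵁ U) :=
  ((PrinPart.pr2 f n).appLE U (PrinPart.pr1 f n ⁻¹ᵁ U) (PrinPart.preimage_pr1 f n U).le).hom

variable {f} in
/-- **Affine generation**: for `U` affine mapping into an affine open of `S`, the ring
`Γ(X^{(n)}_Δ, p₁⁻¹ U)` is generated by `p₁♯ Γ(X, U)` and `p₂♯ Γ(X, U)`. -/
theorem closure_p1_p2 (n : ℕ) {U : X.Opens} {V : S.Opens} (hU : IsAffineOpen U)
    (hV : IsAffineOpen V) (hUV : U ≤ f ⁻¹ᵁ V) :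
    Subring.closure (Set.range (p1 f n U) ∪ Set.range (p2 f n U)) = ⊤ := by
  have : IsAffine _ := hU
  have hsq := isAffineOpen_sq hU hV hUV
  have hle : sq f U ≤ (pullback.diagonal f).coborderRange := sq_le_coborderRange hUV
  have hsurj := surjective_nbhdι_app n hsq hle
  have e : PrinPart.pr1 f n ⁻¹ᵁ U ≤ PrinPart.nbhdι f n ⁻¹ᵁ sq f U := (nbhdι_preimage_sq f n U).ge
  have e' : PrinPart.nbhdι f n ⁻¹ᵁ sq f U ≤ PrinPart.pr1 f n ⁻¹ᵁ U := (nbhdι_preimage_sq f n U).le
  let φ : Γ(pullback f f, sq f U) →+* Γ(PrinPart.nbhd f n, PrinPart.pr1 f n ⁻¹ᵁ U) :=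
    ((PrinPart.nbhdι f n).appLE (sq f U) (PrinPart.pr1 f n ⁻¹ᵁ U) e).hom
  have hφ : Function.Surjective φ := by
    have h1 : Function.Surjective
        ((PrinPart.nbhd f n).presheaf.map (homOfLE e).op).hom := by
      intro y
      refine ⟨((PrinPart.nbhd f n).presheaf.map (homOfLE e').op).hom y, ?_⟩
      rw [← CommRingCat.comp_apply, ← Functor.map_comp]
      have : (homOfLE e').op ≫ (homOfLE e).op = 𝟙 _ := Subsingleton.elim _ _
      rw [this, CategoryTheory.Functor.map_id]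
      rfl
    exact h1.comp hsurj
  have ha : φ.comp ((pullback.fst f f).appLE U (sq f U) (sq_le_fst f U)).hom = p1 f n U := by
    unfold p1 φ
    rw [← CommRingCat.hom_comp, Scheme.Hom.appLE_comp_appLE, Scheme.Hom.app_eq_appLE]
    rfl
  have hb : φ.comp ((pullback.snd f f).appLE U (sq f U) (sq_le_snd f U)).hom = p2 f n U := by
    unfold p2 φ
    rw [← CommRingCat.hom_comp, Scheme.Hom.appLE_comp_appLE]
    rfl
  have h := congrArg (Subring.map φ) (closure_sq hU hV hUV)
  rw [RingHom.map_closure, Set.image_union, ← Set.range_comp, ← Set.range_comp,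
    ← RingHom.coe_comp, ← RingHom.coe_comp, ha, hb, ← RingHom.range_eq_map,
    RingHom.range_eq_top_of_surjective _ hφ] at h
  exact h

open TensorProduct in
/-- `a ⊗ b ↦ p₁♯ a · p₂♯ b` -/
noncomputable def prodMap (n : ℕ) (U : X.Opens) :
    (Γ(X, U) ⊗[ℤ] Γ(X, U)) →+* Γ(PrinPart.nbhd f n, PrinPart.pr1 f n ⁻¹ᵁ U) :=
  (Algebra.TensorProduct.productMap (p1 f n U).toIntAlgHom (p2 f n U).toIntAlgHom).toRingHom

open TensorProduct in
theorem prodMap_tmul (n : ℕ) (U : X.Opens) (a b : Γ(X, U)) :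
    prodMap f n U (a ⊗ₜ[ℤ] b) = p1 f n U a * p2 f n U b := by
  unfold prodMap
  simp

variable {f} in
/-- every section of `O_{X^{(n)}_Δ}` over `p₁⁻¹ U` is a sum of products `p₁♯ a · p₂♯ b` -/
theorem surjective_prodMap (n : ℕ) {U : X.Opens} {V : S.Opens} (hU : IsAffineOpen U)
    (hV : IsAffineOpen V) (hUV : U ≤ f ⁻¹ᵁ V) : Function.Surjective (prodMap f n U) := by
  rw [← RingHom.range_eq_top, ← top_le_iff, ← closure_p1_p2 n hU hV hUV, Subring.closure_le]
  rintro _ (⟨a, rfl⟩ | ⟨b, rfl⟩)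
  · exact ⟨a ⊗ₜ[ℤ] 1, by rw [prodMap_tmul, map_one, mul_one]⟩
  · exact ⟨1 ⊗ₜ[ℤ] b, by rw [prodMap_tmul, map_one, one_mul]⟩

end Groth.Agent.H22.PrinPartAffine
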