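import Groth.Agent.H22.PrinPartProd
import Groth.Agent.H18.SectionHom

/-!
# Differential operators of order `≤ 1` on `O_X`: linear maps plus derivations
-/

set_option autoImplicit false
universe u
open CategoryTheory CategoryTheory.Limits AlgebraicGeometry TopologicalSpace Opposite

namespace Groth.Agent.H22.PrinPartDer

open Groth.Agent.H22.PrinPartAffine Groth.Agent.H22.PrinPartGen Groth.Agent.H22.PrinPartTheta
  Groth.Agent.H22.PrinPartProd

variable {X S : Scheme.{u}} (f : X ⟶ S) (n : ℕ)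

/-- `d^n` commutes with restriction -/
theorem dn_map {U V : X.Opens} (e : V ≤ U) (a : Γ(X, U)) :
    PrinPart.dn f n V (X.presheaf.map (homOfLE e).op a) =
      (PrinPart.P f n).presheaf.map (homOfLE e).op (PrinPart.dn f n U a) :=
  PrinPart.dP_map f n (Coh.structureModule X) e (OmegaSh.strSect X U a)

variable {f} in
/-- Leibniz-type identity in `P^1_{X/S}` over an affine chart -/
theorem dn_mul_of_isAffineOpen {U : X.Opens} {V : S.Opens} (hU : IsAffineOpen U)
    (hV : IsAffineOpen V) (hUV : U ≤ f ⁻¹ᵁ V) (a b : Γ(X, U)) :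
    PrinPart.dn f 1 U (a * b) + (a * b) • PrinPart.dn f 1 U 1 =
      a • PrinPart.dn f 1 U b + b • PrinPart.dn f 1 U a := by
  apply (Θ_bijective f 1 U).1
  rw [map_add, map_add, Θ_smul, Θ_smul, Θ_smul, Θ_dn, Θ_dn, Θ_dn, Θ_dn, map_mul, map_mul, map_one,
    mul_one]
  have h := prod_sub_eq_zero_of_isAffineOpen 1 hU hV hUV ![a, b]
  rw [Fin.prod_univ_two] at h
  simp only [Matrix.cons_val_zero, Matrix.cons_val_one] at h
  linear_combination h

/-- Leibniz-type identity in `P^1_{X/S}` -/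
theorem dn_mul (U : X.Opens) (a b : Γ(X, U)) :
    PrinPart.dn f 1 U (a * b) + (a * b) • PrinPart.dn f 1 U 1 =
      a • PrinPart.dn f 1 U b + b • PrinPart.dn f 1 U a := by
  apply TopCat.Presheaf.section_ext ⟨(PrinPart.P f 1).presheaf, (PrinPart.P f 1).isSheaf⟩ U
  intro x hx
  obtain ⟨_, ⟨V', hV', rfl⟩, hfxV', -⟩ := S.isBasis_affineOpens.exists_subset_of_mem_open
    (Set.mem_univ (f x)) isOpen_univ
  obtain ⟨_, ⟨U', hU', rfl⟩, hxU', hU'sub⟩ := X.isBasis_affineOpens.exists_subset_of_mem_open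
    (show x ∈ ((U ⊓ f ⁻¹ᵁ V' : X.Opens) : Set X) from ⟨hx, hfxV'⟩) (U ⊓ f ⁻¹ᵁ V').isOpen
  have hU'U : U' ≤ U := fun z hz => (hU'sub hz).1
  have hU'V' : U' ≤ f ⁻¹ᵁ V' := fun z hz => (hU'sub hz).2
  have key := dn_mul_of_isAffineOpen hU' hV' hU'V' (X.presheaf.map (homOfLE hU'U).op a)
    (X.presheaf.map (homOfLE hU'U).op b)
  rw [← map_mul, dn_map, dn_map, dn_map, ← Scheme.Modules.map_smul, ← Scheme.Modules.map_smul,
    ← map_add] at key
  have h1 : PrinPart.dn f 1 U' 1 =
      (PrinPart.P f 1).presheaf.map (homOfLE hU'U).op (PrinPart.dn f 1 U 1) := by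
    have h0 := dn_map f 1 hU'U (1 : Γ(X, U))
    have e1 : (X.presheaf.map (homOfLE hU'U).op).hom (1 : Γ(X, U)) = 1 := map_one _
    erw [e1] at h0
    exact h0
  rw [h1, ← Scheme.Modules.map_smul, ← map_add] at key
  have key' := congrArg ((PrinPart.P f 1).presheaf.germ U' x hxU') key
  erw [TopCat.Presheaf.germ_res_apply, TopCat.Presheaf.germ_res_apply] at key'
  exact key'

/-- `d^n` is linear over functions pulled back from `S` -/
theorem dn_base (V : S.Opens) (c : Γ(S, V)) :
    PrinPart.dn f n (f ⁻¹ᵁ V) (f.app V c) = f.app V c • PrinPart.dn f n (f ⁻¹ᵁ V) 1 := by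
  apply (Θ_bijective f n (f ⁻¹ᵁ V)).1
  rw [Θ_smul, Θ_dn, Θ_dn, map_one, mul_one]
  unfold p1 p2
  rw [Scheme.Hom.app_eq_appLE, Scheme.Hom.app_eq_appLE, ← CommRingCat.comp_apply,
    ← CommRingCat.comp_apply, Scheme.Hom.appLE_comp_appLE, Scheme.Hom.appLE_comp_appLE]
  exact congrArg (fun φ : Γ(S, V) ⟶ Γ(PrinPart.nbhd f n, PrinPart.pr1 f n ⁻¹ᵁ (f ⁻¹ᵁ V)) => φ.hom c)
    (appLE_congr (PrinPart.pr1_comp f n).symm _ _ _ _)

section Der

variable {f} {G : X.Modules} (u : PrinPart.P f 1 ⟶ G)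

/-- `a ↦ u(d^1 a) − a • u(d^1 1)` on sections over `U` -/
noncomputable def dSec (U : X.Opens) (a : Γ(X, U)) : Γ(G, U) :=
  u.app U (PrinPart.dn f 1 U a) - a • u.app U (PrinPart.dn f 1 U 1)

theorem dSec_add (U : X.Opens) (a b : Γ(X, U)) : dSec u U (a + b) = dSec u U a + dSec u U b := by
  unfold dSec
  rw [map_add, map_add, add_smul]
  abel

theorem dSec_mul (U : X.Opens) (a b : Γ(X, U)) :
    dSec u U (a * b) = a • dSec u U b + b • dSec u U a := by
  unfold dSec
  have h := congrArg (u.app U) (dn_mul f U a b)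
  rw [map_add, map_add, Scheme.Modules.Hom.app_smul, Scheme.Modules.Hom.app_smul,
    Scheme.Modules.Hom.app_smul] at h
  rw [smul_sub, smul_sub, ← mul_smul, ← mul_smul, mul_comm b a]
  rw [← eq_sub_iff_add_eq] at h
  rw [h]
  abel

theorem dSec_map {U V : X.Opens} (e : V ≤ U) (a : Γ(X, U)) :
    dSec u V (X.presheaf.map (homOfLE e).op a) = G.presheaf.map (homOfLE e).op (dSec u U a) := by
  unfold dSec
  have h1 : PrinPart.dn f 1 V 1 =
      (PrinPart.P f 1).presheaf.map (homOfLE e).op (PrinPart.dn f 1 U 1) := by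
    have h0 := dn_map f 1 e (1 : Γ(X, U))
    have e1 : (X.presheaf.map (homOfLE e).op).hom (1 : Γ(X, U)) = 1 := map_one _
    erw [e1] at h0
    exact h0
  rw [dn_map, h1, Groth.Agent.H30.PP.hom_app_map, Groth.Agent.H30.PP.hom_app_map, map_sub,
    Scheme.Modules.map_smul]

theorem dSec_app (V : S.Opens) (c : Γ(S, V)) : dSec u (f ⁻¹ᵁ V) (f.app V c) = 0 := by
  unfold dSec
  rw [dn_base, Scheme.Modules.Hom.app_smul, sub_self]

/-- the `S`-derivation `a ↦ u(d^1 a) − a • u(d^1 1)` attached to a linear map `u : P^1 ⟶ G` -/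
noncomputable def derOf : OmegaSh.Der f G where
  d {U} := AddMonoidHom.mk' (fun a => dSec u U.unop a) (dSec_add u U.unop)
  d_mul {U} a b := dSec_mul u U.unop a b
  d_map {_ _} i a := dSec_map u i.unop.le a
  d_app {V} c := dSec_app u V.unop c

theorem derOf_app (U : X.Opens) (a : Γ(X, U)) : (derOf u).app U a = dSec u U a := rfl

theorem u_dn_one_map (U : X.Opens) :
    G.presheaf.map (homOfLE (le_top : U ≤ ⊤)).op (u.app ⊤ (PrinPart.dn f 1 ⊤ 1)) =
      u.app U (PrinPart.dn f 1 U 1) := by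
  have h0 := dn_map f 1 (le_top : U ≤ ⊤) (1 : Γ(X, ⊤))
  have e1 : (X.presheaf.map (homOfLE (le_top : U ≤ ⊤)).op).hom (1 : Γ(X, ⊤)) = 1 := map_one _
  erw [e1] at h0
  rw [h0, Groth.Agent.H30.PP.hom_app_map]

end Der

/-- **A differential operator of order `≤ 1` on `O_X` is in exactly one way the sum of a linear map
and a derivation.** -/
theorem existsUnique_linear_add_der {f : X ⟶ S} (G : X.Modules)
    (D : (Coh.structureModule X).presheaf ⟶ G.presheaf)
    (hD : PrinPart.IsDiffOpLE f (Coh.structureModule X) G 1 D) :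
    ∃! p : (Coh.structureModule X ⟶ G) × OmegaSh.Der f G,
      ∀ (U : X.Opens) (a : Γ(X, U)),
        D.app (op U) (OmegaSh.strSect X U a) = p.1.app U (OmegaSh.strSect X U a) + p.2.app U a := by
  obtain ⟨u, hu⟩ := hD
  have hu' : ∀ (U : X.Opens) (a : Γ(X, U)),
      D.app (op U) (OmegaSh.strSect X U a) = u.app U (PrinPart.dn f 1 U a) := fun U a => hu U _
  let v := Groth.Agent.H18.sectionHom G (u.app ⊤ (PrinPart.dn f 1 ⊤ 1))
  have hv : ∀ (U : X.Opens) (a : Γ(X, U)),
      v.app U (OmegaSh.strSect X U a) = a • u.app U (PrinPart.dn f 1 U 1) := by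
    intro U a
    have := Groth.Agent.H18.sectionHom_app G (u.app ⊤ (PrinPart.dn f 1 ⊤ 1)) U a
    rw [← u_dn_one_map u U]
    exact this
  refine ⟨(v, derOf u), ?_, ?_⟩
  · intro U a
    change _ = v.app U (OmegaSh.strSect X U a) + (derOf u).app U a
    rw [hu', hv, derOf_app, dSec]
    abel
  · rintro ⟨v', d'⟩ h
    have h1 : ∀ U : X.Opens, v'.app U (OmegaSh.strSect X U 1) = u.app U (PrinPart.dn f 1 U 1) := by
      intro U
      have := h U 1
      rw [hu'] at this
      have hd1 : d'.app U 1 = 0 := PresheafOfModules.Derivation.d_one d' (op U)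
      rw [hd1, add_zero] at this
      exact this.symm
    have hv' : ∀ (U : X.Opens) (a : Γ(X, U)),
        v'.app U (OmegaSh.strSect X U a) = a • u.app U (PrinPart.dn f 1 U 1) := by
      intro U a
      have e1 : OmegaSh.strSect X U a = a • OmegaSh.strSect X U 1 := (mul_one a).symm
      rw [e1, Scheme.Modules.Hom.app_smul, h1]
    have e1 : v' = v := by
      apply Scheme.Modules.hom_ext
      intro U
      ext t
      exact (hv' U t).trans (hv U t).symm
    have e2 : d' = derOf u := by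
      apply PresheafOfModules.Derivation.ext
      funext U
      ext a
      have := h U.unop a
      rw [hu'] at this
      change d'.app U.unop a = dSec u U.unop a
      rw [dSec, this]
      change _ = v'.app U.unop (OmegaSh.strSect X U.unop a) + d'.app U.unop a - _
      rw [hv']
      abel
    rw [e1, e2]

end Groth.Agent.H22.PrinPartDer
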