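import Groth.Agent.H22.PrinPartSpec

/-!
# Products of `n + 1` differences `p₂♯ a − p₁♯ a` vanish on the `n`-th infinitesimal neighbourhood
-/

set_option autoImplicit false
universe u
open CategoryTheory CategoryTheory.Limits AlgebraicGeometry TopologicalSpace Opposite

namespace Groth.Agent.H22.PrinPartProd

open Groth.Agent.H22.PrinPartAffine Groth.Agent.H22.PrinPartGen Groth.Agent.H22.PrinPartTheta

variable {X S : Scheme.{u}} (f : X ⟶ S) (n : ℕ)

theorem appLE_congr {A B : Scheme.{u}} {f₁ f₂ : A ⟶ B} (e : f₁ = f₂) (U : B.Opens) (W : A.Opens)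
    (h₁ : W ≤ f₁ ⁻¹ᵁ U) (h₂ : W ≤ f₂ ⁻¹ᵁ U) : f₁.appLE U W h₁ = f₂.appLE U W h₂ := by
  subst e
  rfl

/-- the restriction `Γ(X ×_S X, U ×_S U) → Γ(X^{(n)}_Δ, p₁⁻¹ U)` -/
noncomputable def res (U : X.Opens) :
    Γ(pullback f f, sq f U) →+* Γ(PrinPart.nbhd f n, PrinPart.pr1 f n ⁻¹ᵁ U) :=
  ((PrinPart.nbhdι f n).appLE (sq f U) (PrinPart.pr1 f n ⁻¹ᵁ U) (nbhdι_preimage_sq f n U).ge).hom

theorem res_fst (U : X.Opens) (a : Γ(X, U)) :
    res f n U ((pullback.fst f f).appLE U (sq f U) (sq_le_fst f U) a) = p1 f n U a := by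
  unfold res p1
  rw [← CommRingCat.comp_apply, Scheme.Hom.appLE_comp_appLE, Scheme.Hom.app_eq_appLE]
  rfl

theorem res_snd (U : X.Opens) (a : Γ(X, U)) :
    res f n U ((pullback.snd f f).appLE U (sq f U) (sq_le_snd f U) a) = p2 f n U a := by
  unfold res p2
  rw [← CommRingCat.comp_apply, Scheme.Hom.appLE_comp_appLE]
  rfl

theorem diag_fst_sub_snd (U : X.Opens) (a : Γ(X, U)) :
    (pullback.snd f f).appLE U (sq f U) (sq_le_snd f U) a -
      (pullback.fst f f).appLE U (sq f U) (sq_le_fst f U) a ∈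
      RingHom.ker ((pullback.diagonal f).app (sq f U)).hom := by
  rw [RingHom.mem_ker, map_sub, sub_eq_zero]
  rw [Scheme.Hom.app_eq_appLE, ← CommRingCat.comp_apply, ← CommRingCat.comp_apply,
    Scheme.Hom.appLE_comp_appLE, Scheme.Hom.appLE_comp_appLE]
  congr 1
  have e : pullback.diagonal f ≫ pullback.snd f f = pullback.diagonal f ≫ pullback.fst f f := by
    rw [pullback.diagonal_fst, pullback.diagonal_snd]
  exact congrArg _ (appLE_congr e _ _ _ _)

variable {f} in
/-- on the `n`-th infinitesimal neighbourhood of the diagonal, any product of `n + 1` differences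
`p₂♯ a − p₁♯ a` vanishes (affine chart) -/
theorem prod_sub_eq_zero_of_isAffineOpen {U : X.Opens} {V : S.Opens} (hU : IsAffineOpen U)
    (hV : IsAffineOpen V) (hUV : U ≤ f ⁻¹ᵁ V) (a : Fin (n + 1) → Γ(X, U)) :
    ∏ i, (p2 f n U (a i) - p1 f n U (a i)) = 0 := by
  have : IsAffine _ := hU
  have hsq := isAffineOpen_sq hU hV hUV
  have hle : sq f U ≤ (pullback.diagonal f).coborderRange := sq_le_coborderRange hUV
  have hker := Groth.Agent.H22.PrinPartSpec.ker_nbhdι_appLE n hsq hle (PrinPart.pr1 f n ⁻¹ᵁ U)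
    (nbhdι_preimage_sq f n U).ge (nbhdι_preimage_sq f n U).le
  have h1 : ∏ i, ((pullback.snd f f).appLE U (sq f U) (sq_le_snd f U) (a i) -
      (pullback.fst f f).appLE U (sq f U) (sq_le_fst f U) (a i)) ∈
      RingHom.ker ((pullback.diagonal f).app (sq f U)).hom ^ (n + 1) := by
    have := Ideal.prod_mem_prod (s := Finset.univ)
      (I := fun _ : Fin (n + 1) => RingHom.ker ((pullback.diagonal f).app (sq f U)).hom)
      (x := fun i => (pullback.snd f f).appLE U (sq f U) (sq_le_snd f U) (a i) -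
      (pullback.fst f f).appLE U (sq f U) (sq_le_fst f U) (a i))
      (fun i _ => diag_fst_sub_snd f U (a i))
    rwa [Finset.prod_const, Finset.card_univ, Fintype.card_fin] at this
  rw [← hker, RingHom.mem_ker] at h1
  change res f n U _ = 0 at h1
  rw [map_prod] at h1
  rw [← h1]
  refine Finset.prod_congr rfl (fun i _ => ?_)
  rw [map_sub, res_fst, res_snd]

end Groth.Agent.H22.PrinPartProd
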