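import Groth.Agent.H22.PrinPartGen
import Groth.Agent.H5.PullbackUnit
import Groth.Agent.H30.PrinPart

/-!
# Sections of `P^n_{X/S}` as functions on the infinitesimal neighbourhood of the diagonal
-/

set_option autoImplicit false
universe u
open CategoryTheory CategoryTheory.Limits AlgebraicGeometry TopologicalSpace Opposite

namespace Groth.Agent.H22.PrinPartTheta

open Groth.Agent.H22.PrinPartAffine Groth.Agent.H22.PrinPartGen

section Unit
variable {X Y : Scheme.{u}} (f : X ⟶ Y)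

/-- the isomorphism `f^* O_Y ≅ O_X` sends a pulled back function to its pullback -/
theorem pullbackUnitIso_pullSect (V : Y.Opens) (r : Γ(Y, V)) :
    (Groth.Agent.H5.PullbackUnit.pullbackUnitIso f).hom.app (f ⁻¹ᵁ V)
      (OmegaSh.pullSect f (Coh.structureModule Y) V r) = (f.app V).hom r := by
  have h := SheafOfModules.pullbackPushforwardAdjunction_homEquiv_pullbackObjUnitToUnit
    f.toRingCatSheafHom
  rw [Adjunction.homEquiv_unit] at h
  exact congrArg (fun φ : Coh.structureModule Y ⟶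
    (Scheme.Modules.pushforward f).obj (Coh.structureModule X) => Scheme.Modules.Hom.app φ V r) h

end Unit

variable {X S : Scheme.{u}} (f : X ⟶ S) (n : ℕ)

/-- sections of `P^n_{X/S}` over `U` as functions on `p₁⁻¹ U ⊆ X^{(n)}_Δ` -/
noncomputable def Θ (U : X.Opens) :
    Γ(PrinPart.P f n, U) →+ Γ(PrinPart.nbhd f n, PrinPart.pr1 f n ⁻¹ᵁ U) :=
  (OmegaSh.fnSect _ _).comp
    ((Groth.Agent.H5.PullbackUnit.pullbackUnitIso (PrinPart.pr2 f n)).hom.app
      (PrinPart.pr1 f n ⁻¹ᵁ U)).hom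

theorem Θ_bijective (U : X.Opens) : Function.Bijective (Θ f n U) := by
  have h : IsIso ((Groth.Agent.H5.PullbackUnit.pullbackUnitIso (PrinPart.pr2 f n)).hom.app
      (PrinPart.pr1 f n ⁻¹ᵁ U)) := inferInstance
  exact (ConcreteCategory.isIso_iff_bijective _).mp h

theorem Θ_smul (U : X.Opens) (r : Γ(X, U)) (m : Γ(PrinPart.P f n, U)) :
    Θ f n U (r • m) = p1 f n U r * Θ f n U m := by
  rw [smul_PMod]
  unfold Θ
  change OmegaSh.fnSect _ _
    ((Groth.Agent.H5.PullbackUnit.pullbackUnitIso (PrinPart.pr2 f n)).hom.app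
      (PrinPart.pr1 f n ⁻¹ᵁ U) (p1 f n U r • toM f n _ U m)) = _
  rw [Scheme.Modules.Hom.app_smul]
  rfl

theorem Θ_dn (U : X.Opens) (r : Γ(X, U)) :
    Θ f n U (PrinPart.dn f n U r) = p2 f n U r := by
  unfold Θ PrinPart.dn
  change OmegaSh.fnSect _ _
    ((Groth.Agent.H5.PullbackUnit.pullbackUnitIso (PrinPart.pr2 f n)).hom.app
      (PrinPart.pr1 f n ⁻¹ᵁ U)
      (PrinPart.dP f n (Coh.structureModule X) U (OmegaSh.strSect X U r))) = _
  rw [PrinPart.dP_apply, Groth.Agent.H30.PP.hom_app_map, pullbackUnitIso_pullSect]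
  rfl

end Groth.Agent.H22.PrinPartTheta
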