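import Groth.Agent.H22.PrinPartBCAlg
import Groth.Agent.H22.PrinPartProd
import Groth.Agent.H22.PrinPartTheta
import Groth.Agent.H22.PrinPartDer
import Groth.Agent.H12.QCohIso
import Groth.Agent.H44.ConormalSquare
import Groth.Agent.H44.ConormalSplit

/-!
# Base change of the sheaves of principal parts (helper22)

For a cartesian square `X' = X ×_S S'`, the canonical map `u^* P^n_{X/S} ⟶ P^n_{X'/S'}` is an
isomorphism.  Proof by charts: over `U' = u⁻¹U ∩ f'⁻¹V'`, sections of `P^n` are
`Γ(X ×_S X, U ×_V U)/J^{n+1}`, and `Γ(X' ×_{S'} X', U' ×_{V'} U') = Γ(X',U') ⊗_{Γ(X,U)} Γ(X ×_S X, U ×_V U)`.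
-/

set_option autoImplicit false
universe u
open CategoryTheory CategoryTheory.Limits AlgebraicGeometry TopologicalSpace Opposite TensorProduct

namespace Groth.Agent.H22.PrinPartBC

open Groth.Agent.H22.PrinPartAffine Groth.Agent.H22.PrinPartTheta Groth.Agent.H22.PrinPartProd
open Groth.Agent.H44

section Cat
variable {X S X' S' : Scheme.{u}} {f : X ⟶ S} {g : S' ⟶ S} {u : X' ⟶ X} {f' : X' ⟶ S'}
  (hsq : IsPullback u f' f g)

/-- the morphism `X' ×_{S'} X' ⟶ X ×_S X` -/
noncomputable def ww : pullback f' f' ⟶ pullback f f :=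
  pullback.map f' f' f f u u g hsq.w.symm hsq.w.symm

@[reassoc]
theorem ww_fst : ww hsq ≫ pullback.fst f f = pullback.fst f' f' ≫ u := by
  unfold ww pullback.map
  exact pullback.lift_fst _ _ _

@[reassoc]
theorem ww_snd : ww hsq ≫ pullback.snd f f = pullback.snd f' f' ≫ u := by
  unfold ww pullback.map
  exact pullback.lift_snd _ _ _

@[reassoc]
theorem diag_ww : pullback.diagonal f' ≫ ww hsq = u ≫ pullback.diagonal f := by
  apply pullback.hom_ext
  · rw [Category.assoc, ww_fst, pullback.diagonal_fst_assoc, Category.assoc, pullback.diagonal_fst,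
      Category.comp_id]
  · rw [Category.assoc, ww_snd, pullback.diagonal_snd_assoc, Category.assoc, pullback.diagonal_snd,
      Category.comp_id]

theorem isPullback_ww : IsPullback (ww hsq) (pullback.fst f' f') (pullback.fst f f) u := by
  have h1 : IsPullback (pullback.snd f f) (pullback.fst f f) f f :=
    (IsPullback.of_hasPullback f f).flip
  have h2 : IsPullback (pullback.snd f' f') (pullback.fst f' f') f' f' :=
    (IsPullback.of_hasPullback f' f').flip
  have h3 : IsPullback (pullback.snd f' f' ≫ u) (pullback.fst f' f') f (f' ≫ g) :=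
    h2.paste_horiz hsq
  refine IsPullback.of_right ?_ (ww_fst hsq) h1
  rw [ww_snd, hsq.w]
  exact h3

end Cat

section Span
variable {X S : Scheme.{u}} {f : X ⟶ S}

/-- Induction principle for sections of `X ×_S X` over `U ×_V U`: they are generated, as a module
over `Γ(X, U)` acting through the first projection, by the pullbacks along the second projection. -/
theorem sq_induction {U : X.Opens} {V : S.Opens} (hU : IsAffineOpen U) (hV : IsAffineOpen V)
    (hUV : U ≤ f ⁻¹ᵁ V) (motive : Γ(pullback f f, sq f U) → Prop) (h0 : motive 0)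
    (hadd : ∀ x y, motive x → motive y → motive (x + y))
    (hsmul : ∀ (a : Γ(X, U)) x, motive x →
      motive (((pullback.fst f f).appLE U (sq f U) (sq_le_fst f U)).hom a * x))
    (hgen : ∀ b : Γ(X, U), motive (((pullback.snd f f).appLE U (sq f U) (sq_le_snd f U)).hom b))
    (x : Γ(pullback f f, sq f U)) : motive x := by
  letI : Algebra Γ(X, U) Γ(pullback f f, sq f U) :=
    ((pullback.fst f f).appLE U (sq f U) (sq_le_fst f U)).hom.toAlgebra
  set sndA : Γ(X, U) →+* Γ(pullback f f, sq f U) :=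
    ((pullback.snd f f).appLE U (sq f U) (sq_le_snd f U)).hom with hsndA
  have hcl := closure_sq hU hV hUV
  have hadj : Algebra.adjoin Γ(X, U) (Set.range sndA) = ⊤ := by
    rw [← Subalgebra.toSubring_inj, Algebra.adjoin_eq_ring_closure]
    exact hcl
  have hspan : Submodule.span Γ(X, U) (Set.range sndA) = ⊤ := by
    have h1 := Algebra.adjoin_eq_span Γ(X, U) (Set.range sndA)
    rw [hadj] at h1
    have h2 : (Submonoid.closure (Set.range sndA) : Set Γ(pullback f f, sq f U)) =
        Set.range sndA := by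
      have : Set.range sndA =
          ((MonoidHom.mrange sndA.toMonoidHom : Submonoid Γ(pullback f f, sq f U)) :
            Set Γ(pullback f f, sq f U)) := by
        ext z; simp
      rw [this, Submonoid.closure_eq]
    rw [h2] at h1
    rw [← h1]
    rfl
  have hx : x ∈ Submodule.span Γ(X, U) (Set.range sndA) := by rw [hspan]; trivial
  refine Submodule.span_induction ?_ h0 (fun x y _ _ hx hy => hadd x y hx hy) ?_ hx
  · rintro _ ⟨b, rfl⟩
    exact hgen b
  · intro a x _ hx
    rw [Algebra.smul_def]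
    exact hsmul a x hx

end Span

section Chart
variable {X S X' S' : Scheme.{u}} {f : X ⟶ S} {g : S' ⟶ S} {u : X' ⟶ X} {f' : X' ⟶ S'}

/-- Charts for a cartesian square `X' = X ×_S S'`: affine opens `V ⊆ S`, `V' ⊆ g⁻¹V`, `U ⊆ f⁻¹V`. -/
structure BCChart (f : X ⟶ S) (g : S' ⟶ S) where
  V : S.Opens
  hV : IsAffineOpen V
  V' : S'.Opens
  hV' : IsAffineOpen V'
  leV : V' ≤ g ⁻¹ᵁ V
  U : X.Opens
  hU : IsAffineOpen U
  leU : U ≤ f ⁻¹ᵁ V

/-- the open `u⁻¹U ∩ f'⁻¹V'` of `X'` -/
def BCChart.U' (t : BCChart f g) (u : X' ⟶ X) (f' : X' ⟶ S') : X'.Opens :=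
  u ⁻¹ᵁ t.U ⊓ f' ⁻¹ᵁ t.V'

theorem BCChart.hU' (hsq : IsPullback u f' f g) (t : BCChart f g) : IsAffineOpen (t.U' u f') := by
  have : IsAffine _ := t.hV
  have : IsAffine _ := t.hV'
  have : IsAffine _ := t.hU
  exact .of_isIso (Scheme.Hom.isPullback_resLE hsq t.leV t.leU (UY := t.U' u f') rfl).isoPullback.hom

theorem exists_bcChart (hsq : IsPullback u f' f g) (x' : X') : ∃ t : BCChart f g, x' ∈ t.U' u f' := by
  obtain ⟨_, ⟨V, hV, rfl⟩, hxV, -⟩ := S.isBasis_affineOpens.exists_subset_of_mem_open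
    (show f (u x') ∈ (⊤ : S.Opens) from trivial) (⊤ : S.Opens).isOpen
  have h1 : f' x' ∈ g ⁻¹ᵁ V := by
    change g (f' x') ∈ V
    rw [← Scheme.Hom.comp_apply, ← hsq.w, Scheme.Hom.comp_apply]
    exact hxV
  obtain ⟨_, ⟨V', hV', rfl⟩, hxV', hV'sub⟩ := S'.isBasis_affineOpens.exists_subset_of_mem_open
    h1 (g ⁻¹ᵁ V).isOpen
  obtain ⟨_, ⟨U, hU, rfl⟩, hxU, hUsub⟩ := X.isBasis_affineOpens.exists_subset_of_mem_open
    (show u x' ∈ f ⁻¹ᵁ V from hxV) (f ⁻¹ᵁ V).isOpen
  exact ⟨⟨V, hV, V', hV', hV'sub, U, hU, hUsub⟩, ⟨hxU, hxV'⟩⟩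

theorem BCChart.sq_eq (hsq : IsPullback u f' f g) (t : BCChart f g) :
    sq f' (t.U' u f') = ww hsq ⁻¹ᵁ sq f t.U ⊓ pullback.fst f' f' ⁻¹ᵁ t.U' u f' := by
  ext z
  have e1 : pullback.fst f f (ww hsq z) = u (pullback.fst f' f' z) := by
    rw [← Scheme.Hom.comp_apply, ww_fst, Scheme.Hom.comp_apply]
  have e2 : pullback.snd f f (ww hsq z) = u (pullback.snd f' f' z) := by
    rw [← Scheme.Hom.comp_apply, ww_snd, Scheme.Hom.comp_apply]
  have e3 : f' (pullback.fst f' f' z) = f' (pullback.snd f' f' z) := by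
    rw [← Scheme.Hom.comp_apply, ← Scheme.Hom.comp_apply, pullback.condition]
  change (u (pullback.fst f' f' z) ∈ t.U ∧ f' (pullback.fst f' f' z) ∈ t.V') ∧
      (u (pullback.snd f' f' z) ∈ t.U ∧ f' (pullback.snd f' f' z) ∈ t.V') ↔
    (pullback.fst f f (ww hsq z) ∈ t.U ∧ pullback.snd f f (ww hsq z) ∈ t.U) ∧
      (u (pullback.fst f' f' z) ∈ t.U ∧ f' (pullback.fst f' f' z) ∈ t.V')
  rw [e1, e2, e3]
  tauto

section Main
variable (hsq : IsPullback u f' f g) (n : ℕ)
  (φ : (Scheme.Modules.pullback u).obj (PrinPart.P f n) ⟶ PrinPart.P f' n)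
  (hφ : PrinPart.IsPMap f f' u n φ)

theorem ker_diag_appLE {U : X.Opens} (le : U ≤ pullback.diagonal f ⁻¹ᵁ sq f U)
    (ge : pullback.diagonal f ⁻¹ᵁ sq f U ≤ U) :
    RingHom.ker ((pullback.diagonal f).appLE (sq f U) U le).hom =
      RingHom.ker ((pullback.diagonal f).app (sq f U)).hom := by
  unfold Scheme.Hom.appLE
  rw [CommRingCat.hom_comp]
  exact RingHom.ker_comp_of_injective _ (Groth.Agent.H22.PrinPartSpec.bijective_map_of_le le ge).1

theorem diag_preimage_sq (U : X.Opens) : pullback.diagonal f ⁻¹ᵁ sq f U = U := by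
  ext z
  change (pullback.fst f f (pullback.diagonal f z) ∈ U ∧
    pullback.snd f f (pullback.diagonal f z) ∈ U) ↔ z ∈ U
  rw [← Scheme.Hom.comp_apply, ← Scheme.Hom.comp_apply, pullback.diagonal_fst,
    pullback.diagonal_snd]
  simp

include hφ in
/-- the canonical map on `d^n` of a function, over a chart -/
theorem pmap_pullSectLE_dn (U : X.Opens) (U' : X'.Opens) (le : U' ≤ u ⁻¹ᵁ U) (b : Γ(X, U)) :
    φ.app U' (pullSectLE u (PrinPart.P f n) U U' le (PrinPart.dn f n U b)) =
      PrinPart.dn f' n U' ((u.appLE U U' le).hom b) := by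
  unfold pullSectLE
  rw [hom_app_resLE, hφ U b]
  exact (Groth.Agent.H22.PrinPartDer.dn_map f' n le ((u.app U).hom b)).symm

omit hsq in
theorem psl_add {Y Z : Scheme.{u}} (h : Y ⟶ Z) (M : Z.Modules) (W : Z.Opens) (W' : Y.Opens)
    (le : W' ≤ h ⁻¹ᵁ W) (x y : Γ(M, W)) :
    pullSectLE h M W W' le (x + y) = pullSectLE h M W W' le x + pullSectLE h M W W' le y := by
  unfold pullSectLE
  have h1 : (OmegaSh.pullSect h M W) (x + y) =
      (OmegaSh.pullSect h M W) x + (OmegaSh.pullSect h M W) y :=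
    map_add (OmegaSh.pullSect h M W).hom x y
  rw [h1]
  exact map_add (((Scheme.Modules.pullback h).obj M).presheaf.map (homOfLE le).op).hom _ _

omit hsq in
theorem psl_zero {Y Z : Scheme.{u}} (h : Y ⟶ Z) (M : Z.Modules) (W : Z.Opens) (W' : Y.Opens)
    (le : W' ≤ h ⁻¹ᵁ W) : pullSectLE h M W W' le 0 = 0 := by
  have := pullSectLE_smul h M W W' le 0 0
  rwa [zero_smul, map_zero, zero_smul] at this

set_option maxRecDepth 8000 in
include hsq hφ in
/-- **Chart form**: the canonical map `u^* P^n_{X/S} ⟶ P^n_{X'/S'}` is bijective on sections over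
`u⁻¹U ∩ f'⁻¹V'`. -/
theorem chart_bijective (t : BCChart f g) : Function.Bijective (φ.app (t.U' u f')) := by
  have hU' : IsAffineOpen (t.U' u f') := t.hU' hsq
  have leU' : t.U' u f' ≤ u ⁻¹ᵁ t.U := inf_le_left
  have hQ : IsAffineOpen (sq f t.U) := isAffineOpen_sq t.hU t.hV t.leU
  have hQ' : IsAffineOpen (sq f' (t.U' u f')) := isAffineOpen_sq hU' t.hV' inf_le_right
  have hle : sq f t.U ≤ (pullback.diagonal f).coborderRange := by
    have : IsAffine _ := t.hU
    have : IsAffine _ := t.hV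
    exact sq_le_coborderRange t.leU
  have hle' : sq f' (t.U' u f') ≤ (pullback.diagonal f').coborderRange := by
    have : IsAffine _ := hU'
    have : IsAffine _ := t.hV'
    exact sq_le_coborderRange (V := t.V') inf_le_right
  have hUY := t.sq_eq hsq
  have lew : sq f' (t.U' u f') ≤ ww hsq ⁻¹ᵁ sq f t.U := by rw [hUY]; exact inf_le_left
  -- the ring homomorphisms
  letI a1 : Algebra Γ(X, t.U) Γ(X', t.U' u f') := (u.appLE t.U (t.U' u f') leU').hom.toAlgebra
  letI a2 : Algebra Γ(X, t.U) Γ(pullback f f, sq f t.U) :=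
    ((pullback.fst f f).appLE t.U (sq f t.U) (sq_le_fst f t.U)).hom.toAlgebra
  letI a3 : Algebra Γ(X', t.U' u f') Γ(pullback f' f', sq f' (t.U' u f')) :=
    ((pullback.fst f' f').appLE (t.U' u f') (sq f' (t.U' u f')) (sq_le_fst f' _)).hom.toAlgebra
  letI a4 : Algebra Γ(pullback f f, sq f t.U) Γ(pullback f' f', sq f' (t.U' u f')) :=
    ((ww hsq).appLE (sq f t.U) (sq f' (t.U' u f')) lew).hom.toAlgebra
  letI a5 : Algebra Γ(X, t.U) Γ(pullback f' f', sq f' (t.U' u f')) :=
    ((algebraMap Γ(pullback f f, sq f t.U) Γ(pullback f' f', sq f' (t.U' u f'))).comp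
      (algebraMap Γ(X, t.U) Γ(pullback f f, sq f t.U))).toAlgebra
  haveI t1 : IsScalarTower Γ(X, t.U) Γ(pullback f f, sq f t.U)
      Γ(pullback f' f', sq f' (t.U' u f')) := IsScalarTower.of_algebraMap_eq' rfl
  have hcomm : ((ww hsq).appLE (sq f t.U) (sq f' (t.U' u f')) lew).hom.comp
        ((pullback.fst f f).appLE t.U (sq f t.U) (sq_le_fst f t.U)).hom =
      ((pullback.fst f' f').appLE (t.U' u f') (sq f' (t.U' u f')) (sq_le_fst f' _)).hom.comp
        (u.appLE t.U (t.U' u f') leU').hom := by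
    rw [← CommRingCat.hom_comp, ← CommRingCat.hom_comp, Scheme.Hom.appLE_comp_appLE,
      Scheme.Hom.appLE_comp_appLE]
    exact congrArg _ (PrinPartProd.appLE_congr (ww_fst hsq) _ _ _ _)
  haveI t2 : IsScalarTower Γ(X, t.U) Γ(X', t.U' u f') Γ(pullback f' f', sq f' (t.U' u f')) :=
    IsScalarTower.of_algebraMap_eq' hcomm
  haveI hpo : Algebra.IsPushout Γ(X, t.U) Γ(X', t.U' u f') Γ(pullback f f, sq f t.U)
      Γ(pullback f' f', sq f' (t.U' u f')) := by
    have h1 := isIso_pushoutSection_of_isAffineOpen (isPullback_ww hsq) (US := t.U)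
      (UT := t.U' u f') (UX := sq f t.U) (UY := sq f' (t.U' u f')) leU' (sq_le_fst f t.U) hUY
      t.hU hU' hQ
    have h2 := (isIso_pushoutSection_iff (isPullback_ww hsq) leU' (sq_le_fst f t.U) hUY).mp h1
    exact CommRingCat.isPushout_iff_isPushout.mp h2.flip
  -- the diagonal retractions
  have leΔ : t.U ≤ pullback.diagonal f ⁻¹ᵁ sq f t.U := (diag_preimage_sq t.U).ge
  have leΔ' : t.U' u f' ≤ pullback.diagonal f' ⁻¹ᵁ sq f' (t.U' u f') :=
    (diag_preimage_sq (t.U' u f')).ge
  let δ : Γ(pullback f f, sq f t.U) →ₐ[Γ(X, t.U)] Γ(X, t.U) :=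
    { toRingHom := ((pullback.diagonal f).appLE (sq f t.U) t.U leΔ).hom
      commutes' := fun a => by
        change ((pullback.diagonal f).appLE (sq f t.U) t.U leΔ).hom
          (((pullback.fst f f).appLE t.U (sq f t.U) (sq_le_fst f t.U)).hom a) = a
        rw [← CommRingCat.comp_apply, Scheme.Hom.appLE_comp_appLE,
          PrinPartProd.appLE_congr (pullback.diagonal_fst f) t.U t.U _ le_rfl]
        exact id_appLE_self t.U _ a }
  let δ' : Γ(pullback f' f', sq f' (t.U' u f')) →ₐ[Γ(X', t.U' u f')] Γ(X', t.U' u f') :=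
    { toRingHom := ((pullback.diagonal f').appLE (sq f' (t.U' u f')) (t.U' u f') leΔ').hom
      commutes' := fun a => by
        change ((pullback.diagonal f').appLE (sq f' (t.U' u f')) (t.U' u f') leΔ').hom
          (((pullback.fst f' f').appLE (t.U' u f') (sq f' (t.U' u f')) (sq_le_fst f' _)).hom a) = a
        rw [← CommRingCat.comp_apply, Scheme.Hom.appLE_comp_appLE,
          PrinPartProd.appLE_congr (pullback.diagonal_fst f') (t.U' u f') (t.U' u f') _ le_rfl]
        exact id_appLE_self (t.U' u f') _ a }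
  have hδ : ∀ x, δ' (algebraMap Γ(pullback f f, sq f t.U)
      Γ(pullback f' f', sq f' (t.U' u f')) x) = algebraMap Γ(X, t.U) Γ(X', t.U' u f') (δ x) := by
    intro x
    change ((pullback.diagonal f').appLE (sq f' (t.U' u f')) (t.U' u f') leΔ').hom
        (((ww hsq).appLE (sq f t.U) (sq f' (t.U' u f')) lew).hom x) =
      (u.appLE t.U (t.U' u f') leU').hom
        (((pullback.diagonal f).appLE (sq f t.U) t.U leΔ).hom x)
    rw [← CommRingCat.comp_apply, ← CommRingCat.comp_apply, Scheme.Hom.appLE_comp_appLE,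
      Scheme.Hom.appLE_comp_appLE]
    exact congrArg (fun ψ : Γ(pullback f f, sq f t.U) ⟶ Γ(X', t.U' u f') => ψ.hom x)
      (PrinPartProd.appLE_congr (diag_ww hsq) _ _ _ _)
  have hkerδ : RingHom.ker (res f n t.U) = RingHom.ker δ ^ (n + 1) := by
    have h1 := Groth.Agent.H22.PrinPartSpec.ker_nbhdι_appLE n hQ hle (PrinPart.pr1 f n ⁻¹ᵁ t.U)
      (nbhdι_preimage_sq f n t.U).ge (nbhdι_preimage_sq f n t.U).le
    rw [← ker_diag_appLE leΔ (diag_preimage_sq t.U).le] at h1
    exact h1
  have hkerδ' : RingHom.ker (res f' n (t.U' u f')) = RingHom.ker δ' ^ (n + 1) := by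
    have h1 := Groth.Agent.H22.PrinPartSpec.ker_nbhdι_appLE n hQ' hle'
      (PrinPart.pr1 f' n ⁻¹ᵁ t.U' u f')
      (nbhdι_preimage_sq f' n (t.U' u f')).ge (nbhdι_preimage_sq f' n (t.U' u f')).le
    rw [← ker_diag_appLE leΔ' (diag_preimage_sq (t.U' u f')).le] at h1
    exact h1
  have hressurj : Function.Surjective (res f n t.U) :=
    Groth.Agent.H22.PrinPartSpec.surjective_nbhdι_appLE n hQ hle (PrinPart.pr1 f n ⁻¹ᵁ t.U)
      (nbhdι_preimage_sq f n t.U).ge (nbhdι_preimage_sq f n t.U).le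
  have hressurj' : Function.Surjective (res f' n (t.U' u f')) :=
    Groth.Agent.H22.PrinPartSpec.surjective_nbhdι_appLE n hQ' hle'
      (PrinPart.pr1 f' n ⁻¹ᵁ t.U' u f')
      (nbhdι_preimage_sq f' n (t.U' u f')).ge (nbhdι_preimage_sq f' n (t.U' u f')).le
  -- sections of `P^n` as quotients
  let Θe := AddEquiv.ofBijective (Θ f n t.U) (Θ_bijective f n t.U)
  let Θe' := AddEquiv.ofBijective (Θ f' n (t.U' u f')) (Θ_bijective f' n (t.U' u f'))
  have hΘe : ∀ m, Θe m = Θ f n t.U m := fun _ => rfl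
  have hΘe' : ∀ m, Θe' m = Θ f' n (t.U' u f') m := fun _ => rfl
  let ρ : Γ(pullback f f, sq f t.U) →ₗ[Γ(X, t.U)] Γ(PrinPart.P f n, t.U) :=
    { toFun := fun x => Θe.symm (res f n t.U x)
      map_add' := fun x y => by rw [map_add, map_add]
      map_smul' := fun a x => by
        apply Θe.injective
        rw [AddEquiv.apply_symm_apply, RingHom.id_apply, hΘe, Θ_smul, ← hΘe,
          AddEquiv.apply_symm_apply, Algebra.smul_def, map_mul]
        congr 1
        exact res_fst f n t.U a }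
  have hρ : ∀ x, ρ x = Θe.symm (res f n t.U x) := fun _ => rfl
  have hρsurj : Function.Surjective ρ := fun m => by
    obtain ⟨x, hx⟩ := hressurj (Θe m)
    exact ⟨x, by rw [hρ, hx, AddEquiv.symm_apply_apply]⟩
  haveI : (PrinPart.P f n).IsQuasicoherent :=
    Groth.Agent.H22.PrinPartQCoh.isQuasicoherent_PMod f n _
  let E := pullbackSectionsEquiv u (PrinPart.P f n) hU' t.hU leU'
  let e := Algebra.IsPushout.equiv Γ(X, t.U) Γ(X', t.U' u f') Γ(pullback f f, sq f t.U)
    Γ(pullback f' f', sq f' (t.U' u f'))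
  -- the key identity
  have key : ∀ y : Γ(X', t.U' u f') ⊗[Γ(X, t.U)] Γ(pullback f f, sq f t.U),
      φ.app (t.U' u f') (E.symm (LinearMap.lTensor Γ(X', t.U' u f') ρ y)) =
        Θe'.symm (res f' n (t.U' u f') (e y)) := by
    have keyx : ∀ x : Γ(pullback f f, sq f t.U),
        φ.app (t.U' u f') (pullSectLE u (PrinPart.P f n) t.U (t.U' u f') leU' (ρ x)) =
          Θe'.symm (res f' n (t.U' u f') (algebraMap Γ(pullback f f, sq f t.U)
            Γ(pullback f' f', sq f' (t.U' u f')) x)) := by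
      intro x
      refine sq_induction t.hU t.hV t.leU (fun x =>
        φ.app (t.U' u f') (pullSectLE u (PrinPart.P f n) t.U (t.U' u f') leU' (ρ x)) =
          Θe'.symm (res f' n (t.U' u f') (algebraMap Γ(pullback f f, sq f t.U)
            Γ(pullback f' f', sq f' (t.U' u f')) x))) ?_ ?_ ?_ ?_ x
      · rw [map_zero, psl_zero, map_zero, map_zero, map_zero, map_zero]
      · intro x y hx hy
        rw [map_add, psl_add, map_add, hx, hy, map_add, map_add, map_add]
      · intro a x hx
        have e1 : ρ (((pullback.fst f f).appLE t.U (sq f t.U) (sq_le_fst f t.U)).hom a * x) =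
            a • ρ x := by
          rw [← ρ.map_smul, Algebra.smul_def]
          rfl
        rw [e1, pullSectLE_smul, Scheme.Modules.Hom.app_smul, hx, map_mul]
        have e2 : algebraMap Γ(pullback f f, sq f t.U) Γ(pullback f' f', sq f' (t.U' u f'))
            (((pullback.fst f f).appLE t.U (sq f t.U) (sq_le_fst f t.U)).hom a) =
            ((pullback.fst f' f').appLE (t.U' u f') (sq f' (t.U' u f')) (sq_le_fst f' _)).hom
              ((u.appLE t.U (t.U' u f') leU').hom a) :=
          congrArg (fun ψ : Γ(X, t.U) →+* Γ(pullback f' f', sq f' (t.U' u f')) => ψ a) hcomm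
        rw [e2, map_mul, res_fst]
        apply Θe'.injective
        rw [AddEquiv.apply_symm_apply, hΘe', Θ_smul, ← hΘe', AddEquiv.apply_symm_apply]
      · intro b
        have e1 : ρ (((pullback.snd f f).appLE t.U (sq f t.U) (sq_le_snd f t.U)).hom b) =
            PrinPart.dn f n t.U b := by
          rw [hρ]
          apply Θe.injective
          rw [AddEquiv.apply_symm_apply, hΘe, Θ_dn]
          exact res_snd f n t.U b
        rw [e1, pmap_pullSectLE_dn n φ hφ]
        have e2 : algebraMap Γ(pullback f f, sq f t.U) Γ(pullback f' f', sq f' (t.U' u f'))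
            (((pullback.snd f f).appLE t.U (sq f t.U) (sq_le_snd f t.U)).hom b) =
            ((pullback.snd f' f').appLE (t.U' u f') (sq f' (t.U' u f')) (sq_le_snd f' _)).hom
              ((u.appLE t.U (t.U' u f') leU').hom b) := by
          change ((ww hsq).appLE (sq f t.U) (sq f' (t.U' u f')) lew).hom
            (((pullback.snd f f).appLE t.U (sq f t.U) (sq_le_snd f t.U)).hom b) = _
          rw [← CommRingCat.comp_apply, ← CommRingCat.comp_apply, Scheme.Hom.appLE_comp_appLE,
            Scheme.Hom.appLE_comp_appLE]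
          exact congrArg (fun ψ : Γ(X, t.U) ⟶ Γ(pullback f' f', sq f' (t.U' u f')) => ψ.hom b)
            (PrinPartProd.appLE_congr (ww_snd hsq) _ _ _ _)
        rw [e2, res_snd]
        apply Θe'.injective
        rw [AddEquiv.apply_symm_apply, hΘe', Θ_dn]
    intro y
    induction y with
    | zero => rw [map_zero, map_zero, map_zero, map_zero, map_zero, map_zero]
    | add y₁ y₂ h₁ h₂ => rw [map_add, map_add, map_add, h₁, h₂, map_add, map_add, map_add]
    | tmul a' x =>
      rw [LinearMap.lTensor_tmul]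
      have e1 : a' ⊗ₜ[Γ(X, t.U)] ρ x = a' • ((1 : Γ(X', t.U' u f')) ⊗ₜ[Γ(X, t.U)] ρ x) := by
        rw [TensorProduct.smul_tmul', smul_eq_mul, mul_one]
      have e2 : E.symm ((1 : Γ(X', t.U' u f')) ⊗ₜ[Γ(X, t.U)] ρ x) =
          pullSectLE u (PrinPart.P f n) t.U (t.U' u f') leU' (ρ x) := by
        rw [LinearEquiv.symm_apply_eq]
        exact (pullbackSectionsEquiv_pullSectLE u (PrinPart.P f n) hU' t.hU leU' (ρ x)).symm
      rw [e1, map_smul, e2, Scheme.Modules.Hom.app_smul, keyx x]
      have e3 : e (a' ⊗ₜ[Γ(X, t.U)] x) =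
          ((pullback.fst f' f').appLE (t.U' u f') (sq f' (t.U' u f')) (sq_le_fst f' _)).hom a' *
            algebraMap Γ(pullback f f, sq f t.U) Γ(pullback f' f', sq f' (t.U' u f')) x :=
        Algebra.IsPushout.equiv_tmul _ _ _ _ a' x
      rw [e3, map_mul, res_fst]
      apply Θe'.injective
      rw [AddEquiv.apply_symm_apply, hΘe', Θ_smul, ← hΘe', AddEquiv.apply_symm_apply]
  constructor
  · intro z₁ z₂ h
    have hz : φ.app (t.U' u f') (z₁ - z₂) = 0 := by rw [map_sub, h, sub_self]
    suffices z₁ - z₂ = 0 from sub_eq_zero.mp this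
    generalize z₁ - z₂ = z at hz
    obtain ⟨y, hy⟩ := LinearMap.lTensor_surjective Γ(X', t.U' u f') hρsurj (E z)
    have h1 : Θe'.symm (res f' n (t.U' u f') (e y)) = 0 :=
      (key y).symm.trans ((congrArg (fun m => φ.app (t.U' u f') (E.symm m)) hy).trans
        ((congrArg (φ.app (t.U' u f')) (E.symm_apply_apply z)).trans hz))
    have h2 : res f' n (t.U' u f') (e y) = 0 := by
      have := congrArg Θe' h1
      rw [map_zero, AddEquiv.apply_symm_apply] at this
      exact this
    have h3 : e y ∈ RingHom.ker δ' ^ (n + 1) := by rw [← hkerδ']; exact h2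
    obtain ⟨y0, rfl⟩ := (PrinPartBCAlg.equiv_mem_ker_pow_iff δ δ' hδ (n + 1) y).mp h3
    have h5 : LinearMap.lTensor Γ(X', t.U' u f') ρ (LinearMap.lTensor Γ(X', t.U' u f')
        (Submodule.subtype ((RingHom.ker δ ^ (n + 1)).restrictScalars Γ(X, t.U))) y0) = 0 := by
      rw [← LinearMap.comp_apply, ← LinearMap.lTensor_comp]
      have h6 : ρ ∘ₗ Submodule.subtype ((RingHom.ker δ ^ (n + 1)).restrictScalars Γ(X, t.U)) = 0 := by
        ext ⟨x, hx⟩
        change ρ x = 0
        have h7 : res f n t.U x = 0 := by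
          rw [← RingHom.mem_ker, hkerδ]
          exact hx
        rw [hρ, h7, map_zero]
      rw [h6, LinearMap.lTensor_zero, LinearMap.zero_apply]
    rw [h5] at hy
    exact E.injective (hy.symm.trans (map_zero E).symm)
  · intro m'
    obtain ⟨q', hq'⟩ := hressurj' (Θe' m')
    obtain ⟨y, rfl⟩ := e.surjective q'
    refine ⟨E.symm (LinearMap.lTensor _ ρ y), ?_⟩
    rw [key, hq', AddEquiv.symm_apply_apply]

include hsq hφ in
/-- **Base change of principal parts**: for a cartesian square, the canonical map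
`u^* P^n_{X/S} ⟶ P^n_{X'/S'}` is an isomorphism. -/
theorem isIso_of_isPMap : IsIso φ := by
  haveI : (PrinPart.P f n).IsQuasicoherent :=
    Groth.Agent.H22.PrinPartQCoh.isQuasicoherent_PMod f n _
  haveI : (PrinPart.P f' n).IsQuasicoherent :=
    Groth.Agent.H22.PrinPartQCoh.isQuasicoherent_PMod f' n _
  refine Groth.Agent.H12.QCohIso.isIso_of_bijective_on_cover φ
    (fun t : BCChart f g => t.U' u f') (fun x' => exists_bcChart hsq x')
    (fun t => t.hU' hsq) (fun t => chart_bijective hsq n φ hφ t)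

end Main

end Chart

end Groth.Agent.H22.PrinPartBC
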