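import Mathlib.LinearAlgebra.TensorProduct.RightExactness
import Mathlib.RingTheory.IsTensorProduct
import Mathlib.RingTheory.Ideal.Maps
import Mathlib.RingTheory.Adjoin.Basic

/-!
# Algebra for the base change of principal parts (helper22)

For a pushout square of rings `Q' = A' ⊗_A Q` with compatible retractions `δ : Q → A`, `δ' : Q' → A'`,
the powers of `ker δ'` are the images of `A' ⊗_A (ker δ)^n`.
-/

set_option autoImplicit false
universe u
open TensorProduct

namespace Groth.Agent.H22.PrinPartBCAlg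

variable {A A' Q Q' : Type u} [CommRing A] [CommRing A'] [CommRing Q] [CommRing Q']
  [Algebra A A'] [Algebra A Q] [Algebra A' Q'] [Algebra Q Q'] [Algebra A Q']
  [IsScalarTower A A' Q'] [IsScalarTower A Q Q'] [Algebra.IsPushout A A' Q Q']

/-- In a pushout square `Q' = A' ⊗_A Q` with compatible retractions `δ`, `δ'`: an element of
`A' ⊗_A Q` maps into `(ker δ')^n` iff it comes from `A' ⊗_A (ker δ)^n`. -/
theorem equiv_mem_ker_pow_iff (δ : Q →ₐ[A] A) (δ' : Q' →ₐ[A'] A')
    (hδ : ∀ x, δ' (algebraMap Q Q' x) = algebraMap A A' (δ x)) (n : ℕ) (y : A' ⊗[A] Q) :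
    Algebra.IsPushout.equiv A A' Q Q' y ∈ RingHom.ker δ' ^ n ↔
      y ∈ LinearMap.range (LinearMap.lTensor A'
        (Submodule.subtype ((RingHom.ker δ ^ n).restrictScalars A))) := by
  set e := Algebra.IsPushout.equiv A A' Q Q' with he
  have hsurj : Function.Surjective δ := fun a => ⟨algebraMap A Q a, δ.commutes a⟩
  -- `δ' ∘ e = rid ∘ (id ⊗ δ)`
  have hcomp : ∀ z : A' ⊗[A] Q, δ' (e z) =
      Algebra.TensorProduct.rid A A' A' (Algebra.TensorProduct.map (AlgHom.id A A') δ z) := by
    intro z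
    induction z with
    | zero => simp
    | add a b ha hb => simp only [map_add, ha, hb]
    | tmul a x =>
      rw [he, Algebra.IsPushout.equiv_tmul, map_mul, δ'.commutes, hδ]
      simp [Algebra.smul_def, mul_comm]
  have hker : Ideal.comap e.toRingEquiv.toRingHom (RingHom.ker δ') =
      (RingHom.ker δ).map (Algebra.TensorProduct.includeRight : Q →ₐ[A] A' ⊗[A] Q) := by
    rw [← Algebra.TensorProduct.lTensor_ker (A := A') δ hsurj]
    ext z
    rw [Ideal.mem_comap, RingHom.mem_ker, RingHom.mem_ker]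
    change δ' (e z) = 0 ↔ _
    rw [hcomp]
    exact (Algebra.TensorProduct.rid A A' A').map_eq_zero_iff
  have hpow : Ideal.comap e.toRingEquiv.toRingHom (RingHom.ker δ' ^ n) =
      (RingHom.ker δ ^ n).map (Algebra.TensorProduct.includeRight : Q →ₐ[A] A' ⊗[A] Q) := by
    rw [Ideal.map_pow, ← hker]
    have h1 : ∀ I : Ideal Q', Ideal.comap e.toRingEquiv.toRingHom I =
        Ideal.map e.symm.toRingEquiv.toRingHom I := fun I =>
      (Ideal.map_symm (f := e.toRingEquiv) (I := I)).symm
    rw [h1, h1, Ideal.map_pow]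
  have hmem : e y ∈ RingHom.ker δ' ^ n ↔
      y ∈ (RingHom.ker δ ^ n).map (Algebra.TensorProduct.includeRight : Q →ₐ[A] A' ⊗[A] Q) := by
    rw [← hpow, Ideal.mem_comap]
    rfl
  rw [hmem, ← Ideal.map_includeRight_eq]
  rfl

end Groth.Agent.H22.PrinPartBCAlg
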