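import Groth.Agent.H22.PrinPartProd
import Groth.Agent.H22.PrinPartTheta
import Groth.Agent.H44.OmegaD

/-!
# Affine charts of the sheaves of principal parts (helper22)

For `U ⊆ X` affine over `V ⊆ S` affine, `A = Γ(X, U)`, `R = Γ(S, V)`:
`Γ(X^{(n)}_Δ, p₁⁻¹U) = (A ⊗_R A)/I^{n+1}`, through `πn : A ⊗_R A → Γ(X^{(n)}_Δ, p₁⁻¹U)`,
`a ⊗ a' ↦ p₁♯ a · p₂♯ a'`.
-/

set_option autoImplicit false
universe u
open CategoryTheory CategoryTheory.Limits AlgebraicGeometry TopologicalSpace Opposite TensorProduct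

namespace Groth.Agent.H22.PrinPartChart

open Groth.Agent.H22.PrinPartAffine Groth.Agent.H22.PrinPartTheta Groth.Agent.H22.PrinPartProd
open Groth.Agent.H44

variable {X S : Scheme.{u}} (f : X ⟶ S) (n : ℕ) {U : X.Opens} {V : S.Opens}
  (hU : IsAffineOpen U) (hV : IsAffineOpen V) (le : U ≤ f ⁻¹ᵁ V)

/-- `A ⊗_R A → Γ(X^{(n)}_Δ, p₁⁻¹U)` -/
noncomputable def πn :
    letI := (f.appLE V U le).hom.toAlgebra
    Γ(X, U) ⊗[Γ(S, V)] Γ(X, U) →+* Γ(PrinPart.nbhd f n, PrinPart.pr1 f n ⁻¹ᵁ U) :=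
  letI := (f.appLE V U le).hom.toAlgebra
  (res f n U).comp (diagNbhdRingEquiv f hU hV le).toRingHom

theorem πn_tmul (a a' : Γ(X, U)) :
    letI := (f.appLE V U le).hom.toAlgebra
    πn f n hU hV le (a ⊗ₜ[Γ(S, V)] a') = p1 f n U a * p2 f n U a' := by
  letI := (f.appLE V U le).hom.toAlgebra
  unfold πn
  rw [RingHom.comp_apply]
  change res f n U (diagNbhdRingEquiv f hU hV le (a ⊗ₜ[Γ(S, V)] a')) = _
  rw [diagNbhdRingEquiv_tmul]
  refine ((res f n U).map_mul _ _).trans ?_
  congr 1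
  · exact res_fst f n U a
  · exact res_snd f n U a'

theorem πn_surjective :
    letI := (f.appLE V U le).hom.toAlgebra
    Function.Surjective (πn f n hU hV le) := by
  letI := (f.appLE V U le).hom.toAlgebra
  have : IsAffine _ := hU
  have : IsAffine _ := hV
  have hQ : IsAffineOpen (sq f U) := isAffineOpen_sq hU hV le
  have hle : sq f U ≤ (pullback.diagonal f).coborderRange := sq_le_coborderRange le
  have h1 : Function.Surjective (res f n U) :=
    Groth.Agent.H22.PrinPartSpec.surjective_nbhdι_appLE n hQ hle (PrinPart.pr1 f n ⁻¹ᵁ U)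
      (nbhdι_preimage_sq f n U).ge (nbhdι_preimage_sq f n U).le
  exact h1.comp (diagNbhdRingEquiv f hU hV le).surjective

theorem ker_πn :
    letI := (f.appLE V U le).hom.toAlgebra
    RingHom.ker (πn f n hU hV le) = KaehlerDifferential.ideal Γ(S, V) Γ(X, U) ^ (n + 1) := by
  letI := (f.appLE V U le).hom.toAlgebra
  have : IsAffine _ := hU
  have : IsAffine _ := hV
  have hQ : IsAffineOpen (sq f U) := isAffineOpen_sq hU hV le
  have hle : sq f U ≤ (pullback.diagonal f).coborderRange := sq_le_coborderRange le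
  have hker : RingHom.ker (res f n U) = RingHom.ker ((pullback.diagonal f).app (sq f U)).hom ^ (n + 1) :=
    Groth.Agent.H22.PrinPartSpec.ker_nbhdι_appLE n hQ hle (PrinPart.pr1 f n ⁻¹ᵁ U)
      (nbhdι_preimage_sq f n U).ge (nbhdι_preimage_sq f n U).le
  unfold πn
  rw [← RingHom.comap_ker, hker]
  set ge := diagNbhdRingEquiv f hU hV le with hge
  have h6 : ∀ I : Ideal Γ(pullback f f, OmegaSh.diagNbhd f U),
      Ideal.comap ge.toRingHom I = Ideal.map ge.symm I := by
    intro I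
    exact (Ideal.map_symm (f := ge) (I := I)).symm ▸ rfl
  change Ideal.comap ge.toRingHom (RingHom.ker ((pullback.diagonal f).app (OmegaSh.diagNbhd f U)).hom ^ (n + 1)) = _
  rw [h6, Ideal.map_pow, ← h6]
  congr 1
  ext z
  rw [Ideal.mem_comap, RingHom.mem_ker]
  change (pullback.diagonal f).app (OmegaSh.diagNbhd f U) (ge z) = 0 ↔
    z ∈ RingHom.ker (Algebra.TensorProduct.lmul' Γ(S, V) : Γ(X, U) ⊗[Γ(S, V)] Γ(X, U) →ₐ[Γ(S, V)] Γ(X, U))
  rw [RingHom.mem_ker]
  have hdiag : ∀ z : Γ(X, U) ⊗[Γ(S, V)] Γ(X, U),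
      (pullback.diagonal f).appLE (OmegaSh.diagNbhd f U) U (OmegaSh.le_preimage_diagNbhd f U) (ge z) =
        Algebra.TensorProduct.lmul' Γ(S, V) z := by
    intro z
    induction z with
    | zero => simp
    | add x y hx hy => rw [map_add, map_add, hx, hy, map_add]
    | tmul a a' =>
      rw [hge, diagNbhdRingEquiv_tmul, map_mul, diagonal_appLE_fst, diagonal_appLE_snd]
      simp
  rw [← hdiag]
  have hinj : Function.Injective (X.presheaf.map (homOfLE
      (OmegaSh.le_preimage_diagNbhd f U)).op).hom :=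
    (Groth.Agent.H22.PrinPartSpec.bijective_map_of_le (OmegaSh.le_preimage_diagNbhd f U)
      (OmegaSh.diagonal_preimage_le f (le_refl (OmegaSh.diagNbhd f U)))).1
  have happ : (pullback.diagonal f).appLE (OmegaSh.diagNbhd f U) U
      (OmegaSh.le_preimage_diagNbhd f U) (ge z) =
      (X.presheaf.map (homOfLE (OmegaSh.le_preimage_diagNbhd f U)).op).hom
        ((pullback.diagonal f).app (OmegaSh.diagNbhd f U) (ge z)) := rfl
  rw [happ]
  constructor
  · intro h
    rw [h, map_zero]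
  · intro h
    exact hinj (h.trans (map_zero _).symm)

end Groth.Agent.H22.PrinPartChart
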