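import Groth.Agent.H22.PrinPartQCoh
import Groth.Agent.H17.QFlat.BaseChange
import Mathlib.AlgebraicGeometry.ZariskisMainTheorem

/-!
# Principal parts of a coherent module are coherent (helper22)

`pr1 f n : X^{(n)}_Δ ⟶ X` is affine (a homeomorphism), universally closed (it has a surjective
section), and locally of finite type when `f` is; hence finite.
-/

set_option autoImplicit false
universe u

namespace Groth.Agent.H22.PrinPartQCoh

open AlgebraicGeometry CategoryTheory CategoryTheory.Limits TopologicalSpace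

/-- The pushforward of a quasi-coherent module of finite type along a finite morphism is of
finite type. -/
theorem isFiniteType_pushforward_of_isFinite {X Y : Scheme.{u}} (π : X ⟶ Y) [IsFinite π]
    (G : X.Modules) [G.IsQuasicoherent] [SheafOfModules.IsFiniteType (R := X.ringCatSheaf) G] :
    SheafOfModules.IsFiniteType (R := Y.ringCatSheaf) ((Scheme.Modules.pushforward π).obj G) := by
  haveI : ((Scheme.Modules.pushforward π).obj G).IsQuasicoherent :=
    Groth.Agent.H8.isQuasicoherent_pushforward_of_qcqs π G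
  have hfin : ∀ W : Y.affineOpens,
      Module.Finite Γ(Y, W.1) Γ((Scheme.Modules.pushforward π).obj G, W.1) := by
    intro W
    let _ : Algebra Γ(Y, W.1) Γ(X, π ⁻¹ᵁ W.1) := (π.app W.1).hom.toAlgebra
    have h1 : Module.Finite Γ(Y, W.1) Γ(X, π ⁻¹ᵁ W.1) := IsFinite.finite_app π W.1 W.2
    have h2 : Module.Finite Γ(X, π ⁻¹ᵁ W.1) Γ(G, π ⁻¹ᵁ W.1) :=
      Groth.Agent.H44.finite_sections_of_isFiniteType G (W.2.preimage π)
    let _ : Module Γ(Y, W.1) Γ(G, π ⁻¹ᵁ W.1) :=
      (inferInstance : Module Γ(Y, W.1) Γ((Scheme.Modules.pushforward π).obj G, W.1))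
    have : IsScalarTower Γ(Y, W.1) Γ(X, π ⁻¹ᵁ W.1) Γ(G, π ⁻¹ᵁ W.1) :=
      IsScalarTower.of_algebraMap_smul fun r x => rfl
    exact Module.Finite.trans Γ(X, π ⁻¹ᵁ W.1) Γ(G, π ⁻¹ᵁ W.1)
  have hfg : ∀ W : Y.affineOpens, ∃ s : Finset Γ((Scheme.Modules.pushforward π).obj G, W.1),
      Submodule.span Γ(Y, W.1) (s : Set Γ((Scheme.Modules.pushforward π).obj G, W.1)) = ⊤ :=
    fun W => (hfin W).fg_top
  choose s hs using hfg
  refine Groth.Agent.H18.isFiniteType_of_isQuasicoherent_of_span_eq_top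
    ((Scheme.Modules.pushforward π).obj G) (fun W : Y.affineOpens => W.1) ?_ (fun W => W.2)
    (fun W => ↥(s W)) (fun W j => j.1) ?_
  · refine TopologicalSpace.IsOpenCover.mk (eq_top_iff.mpr ?_)
    intro y _
    obtain ⟨W, hW, hyW, -⟩ := exists_isAffineOpen_mem_and_subset (x := y) (U := ⊤) trivial
    exact TopologicalSpace.Opens.mem_iSup.mpr ⟨⟨W, hW⟩, hyW⟩
  · intro W
    rw [Subtype.range_coe_subtype]
    exact hs W

variable {X S : Scheme.{u}} (f : X ⟶ S)

instance isAffineHom_pr1 (n : ℕ) : IsAffineHom (PrinPart.pr1 f n) := by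
  refine isAffineHom_of_isInducing _ (isHomeomorph_pr1 f n).isInducing ?_
  rw [(isHomeomorph_pr1 f n).surjective.range_eq]
  exact isClosed_univ

instance surjective_toNbhd (n : ℕ) : Surjective (PrinPart.toNbhd f n) :=
  ⟨PrinPart.toInfNbhd_surjective (PrinPart.diagCl f) n⟩

instance universallyClosed_pr1 (n : ℕ) : UniversallyClosed (PrinPart.pr1 f n) := by
  haveI : UniversallyClosed (PrinPart.toNbhd f n ≫ PrinPart.pr1 f n) := by
    rw [PrinPart.toNbhd_pr1]
    infer_instance
  exact UniversallyClosed.of_comp_surjective (PrinPart.toNbhd f n) (PrinPart.pr1 f n)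

instance locallyOfFiniteType_pr1 [LocallyOfFiniteType f] (n : ℕ) :
    LocallyOfFiniteType (PrinPart.pr1 f n) := by
  unfold PrinPart.pr1 PrinPart.nbhdι PrinPart.infNbhdι
  infer_instance

instance isFinite_pr1 [LocallyOfFiniteType f] (n : ℕ) : IsFinite (PrinPart.pr1 f n) := by
  haveI : IsIntegralHom (PrinPart.pr1 f n) :=
    (IsIntegralHom.iff_universallyClosed_and_isAffineHom).mpr ⟨inferInstance, inferInstance⟩
  exact (IsFinite.iff_isIntegralHom_and_locallyOfFiniteType _).mpr ⟨inferInstance, inferInstance⟩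

theorem isCoh_PMod [LocallyOfFiniteType f] (n : ℕ) (F : X.Modules) (hF : Coh.IsCoh F) :
    Coh.IsCoh (PrinPart.PMod f n F) := by
  haveI : F.IsQuasicoherent := hF.1
  haveI : SheafOfModules.IsFiniteType (R := X.ringCatSheaf) F := hF.2
  refine ⟨isQuasicoherent_PMod f n F, ?_⟩
  unfold PrinPart.PMod
  haveI := Groth.Agent.H17.QFlat.isFiniteType_pullback (PrinPart.pr2 f n) F
  exact isFiniteType_pushforward_of_isFinite _ _

end Groth.Agent.H22.PrinPartQCoh
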