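import Groth.Agent.H22.PrinPartGen
import Groth.Agent.H30.PrinPart

/-!
# Local criterion for equality of maps out of `P^n_{X/S}(F)`; surjectivity of canonical maps of
sheaves of principal parts
-/

set_option autoImplicit false
universe u
open CategoryTheory CategoryTheory.Limits AlgebraicGeometry TopologicalSpace Opposite

namespace Groth.Agent.H22.PrinPartEpi

variable {X S : Scheme.{u}} {f : X ⟶ S} {n : ℕ} {F G : X.Modules}

/-- Two linear maps out of `P^n(F)` coincide as soon as they agree, locally, on `d^n` of the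
restrictions of every local section. -/
theorem PMod_hom_ext_local (a b : PrinPart.PMod f n F ⟶ G)
    (h : ∀ (x : X) (U : X.Opens) (_ : x ∈ U) (t : Γ(F, U)),
      ∃ (W : X.Opens) (hW : W ≤ U), x ∈ W ∧
        a.app W (PrinPart.dP f n F W (F.presheaf.map (homOfLE hW).op t)) =
          b.app W (PrinPart.dP f n F W (F.presheaf.map (homOfLE hW).op t))) : a = b := by
  apply Groth.Agent.H22.PrinPartGen.PMod_hom_ext
  intro U t
  apply TopCat.Presheaf.section_ext ⟨G.presheaf, G.isSheaf⟩ U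
  intro x hx
  obtain ⟨W, hW, hxW, e⟩ := h x U hx t
  rw [PrinPart.dP_map, Groth.Agent.H30.PP.hom_app_map, Groth.Agent.H30.PP.hom_app_map] at e
  have e' := congrArg (G.presheaf.germ W x hxW) e
  erw [TopCat.Presheaf.germ_res_apply, TopCat.Presheaf.germ_res_apply] at e'
  exact e'

/-- For a closed immersion `j : X ⟶ Y` over `Z`, the canonical map `j^* P^n_{Y/Z} ⟶ P^n_{X/Z}` is an
epimorphism. -/
theorem epi_of_isClosedImmersion {X Y Z : Scheme.{u}} (f : Y ⟶ Z) (j : X ⟶ Y)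
    [IsClosedImmersion j] (n : ℕ)
    (φ : (Scheme.Modules.pullback j).obj (PrinPart.P f n) ⟶ PrinPart.P (j ≫ f) n)
    (hφ : PrinPart.IsPMap f (j ≫ f) j n φ) : Epi φ := by
  refine ⟨fun {G} a b hab => ?_⟩
  apply PMod_hom_ext_local
  intro x U' hx t
  obtain ⟨U'', rfl⟩ :=
    Groth.Agent.H5.Stalk.exists_preimage_eq j j.isClosedEmbedding.isInducing U'
  obtain ⟨_, ⟨U, hU, rfl⟩, hxU, hUsub⟩ := Y.isBasis_affineOpens.exists_subset_of_mem_open
    (show j x ∈ (U'' : Set Y) from hx) U''.isOpen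
  have hle : j ⁻¹ᵁ U ≤ j ⁻¹ᵁ U'' := j.preimage_mono hUsub
  refine ⟨j ⁻¹ᵁ U, hle, hxU, ?_⟩
  obtain ⟨b₀, hb₀⟩ := j.app_surjective U hU
    (OmegaSh.fnSect X _ ((Coh.structureModule X).presheaf.map (homOfLE hle).op t))
  have h1 := hφ U b₀
  have h2 : ∀ s, a.app (j ⁻¹ᵁ U) (φ.app (j ⁻¹ᵁ U) s) = b.app (j ⁻¹ᵁ U) (φ.app (j ⁻¹ᵁ U) s) :=
    fun s => congrArg (fun ψ => (Scheme.Modules.Hom.app ψ (j ⁻¹ᵁ U)) s) hab
  have h3 := h2 (OmegaSh.pullSect j (PrinPart.P f n) U (PrinPart.dn f n U b₀))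
  rw [h1] at h3
  have h4 : PrinPart.dn (j ≫ f) n (j ⁻¹ᵁ U) (j.app U b₀) =
      PrinPart.dP (j ≫ f) n (Coh.structureModule X) (j ⁻¹ᵁ U)
        ((Coh.structureModule X).presheaf.map (homOfLE hle).op t) := by
    erw [hb₀]
    rfl
  rw [h4] at h3
  exact h3

end Groth.Agent.H22.PrinPartEpi
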