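import Groth.Agent.H22.PrinPartCoh
import Groth.Agent.H20.IdealFP
import Groth.Agent.H40.CD.LfpCancel
import Groth.Agent.H44.FpqcFP
import Groth.Agent.H44.FPSections
import Groth.Agent.H71.QCoh.FPCriterion

/-!
# Principal parts of a finitely presented module are finitely presented (helper22)
-/

set_option autoImplicit false
universe u

namespace Groth.Agent.H22.PrinPartQCoh

open AlgebraicGeometry CategoryTheory CategoryTheory.Limits TopologicalSpace

/-- The pushforward of a finitely presented module along a finite morphism locally of finite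
presentation is finitely presented. -/
theorem isFinitePresentation_pushforward {X Y : Scheme.{u}} (π : X ⟶ Y) [IsFinite π]
    [LocallyOfFinitePresentation π]
    (G : X.Modules) [G.IsQuasicoherent]
    [SheafOfModules.IsFinitePresentation (R := X.ringCatSheaf) G] :
    SheafOfModules.IsFinitePresentation (R := Y.ringCatSheaf)
      ((Scheme.Modules.pushforward π).obj G) := by
  haveI : ((Scheme.Modules.pushforward π).obj G).IsQuasicoherent :=
    Groth.Agent.H8.isQuasicoherent_pushforward_of_qcqs π G
  have hfin : ∀ W : Y.affineOpens,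
      Module.FinitePresentation Γ(Y, W.1) Γ((Scheme.Modules.pushforward π).obj G, W.1) := by
    intro W
    let _ : Algebra Γ(Y, W.1) Γ(X, π ⁻¹ᵁ W.1) := (π.app W.1).hom.toAlgebra
    have h1 : Module.Finite Γ(Y, W.1) Γ(X, π ⁻¹ᵁ W.1) := IsFinite.finite_app π W.1 W.2
    have h1' : Algebra.FinitePresentation Γ(Y, W.1) Γ(X, π ⁻¹ᵁ W.1) := by
      have h0 : (π.appLE W.1 (π ⁻¹ᵁ W.1) le_rfl).hom.FinitePresentation :=
        HasRingHomProperty.appLE (P := @LocallyOfFinitePresentation) π inferInstance W
          ⟨π ⁻¹ᵁ W.1, W.2.preimage π⟩ le_rfl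
      rw [Scheme.Hom.appLE_eq_app] at h0
      exact h0
    have h1'' : Module.FinitePresentation Γ(Y, W.1) Γ(X, π ⁻¹ᵁ W.1) :=
      Module.FinitePresentation.of_finite_of_finitePresentation _ _
    have h2 : Module.FinitePresentation Γ(X, π ⁻¹ᵁ W.1) Γ(G, π ⁻¹ᵁ W.1) :=
      Groth.Agent.H44.finitePresentation_sections_of_isFinitePresentation G (W.2.preimage π)
    let _ : Module Γ(Y, W.1) Γ(G, π ⁻¹ᵁ W.1) :=
      (inferInstance : Module Γ(Y, W.1) Γ((Scheme.Modules.pushforward π).obj G, W.1))
    have : IsScalarTower Γ(Y, W.1) Γ(X, π ⁻¹ᵁ W.1) Γ(G, π ⁻¹ᵁ W.1) :=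
      IsScalarTower.of_algebraMap_smul fun r x => rfl
    exact Module.FinitePresentation.trans Γ(Y, W.1) Γ(G, π ⁻¹ᵁ W.1) Γ(X, π ⁻¹ᵁ W.1)
  refine Groth.Agent.H71.QCoh.isFinitePresentation_of_finitePresentation_sections
    ((Scheme.Modules.pushforward π).obj G) (fun W : Y.affineOpens => W.1) ?_ (fun W => W.2) hfin
  refine TopologicalSpace.IsOpenCover.mk (eq_top_iff.mpr ?_)
  intro y _
  obtain ⟨W, hW, hyW, -⟩ := exists_isAffineOpen_mem_and_subset (x := y) (U := ⊤) trivial
  exact TopologicalSpace.Opens.mem_iSup.mpr ⟨⟨W, hW⟩, hyW⟩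

variable {X S : Scheme.{u}} (f : X ⟶ S)

instance locallyOfFinitePresentation_pr1 [LocallyOfFinitePresentation f] (n : ℕ) :
    LocallyOfFinitePresentation (PrinPart.pr1 f n) := by
  haveI : LocallyOfFiniteType f := inferInstance
  have hΔ : LocallyOfFinitePresentation (pullback.diagonal f) :=
    Groth.Agent.H40.CD.locallyOfFinitePresentation_diagonal f
  haveI hcl : LocallyOfFinitePresentation (PrinPart.diagCl f) := by
    apply Groth.Agent.H40.CD.locallyOfFinitePresentation_of_comp (PrinPart.diagCl f)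
      (pullback.diagonal f).coborderRange.ι
    · rw [Scheme.Hom.liftCoborder_ι]
      exact hΔ
    · infer_instance
  have hfg : ∀ U : (↑(pullback.diagonal f).coborderRange : Scheme.{u}).affineOpens,
      (((PrinPart.diagCl f).ker ^ (n + 1)).ideal U).FG := by
    intro U
    rw [Scheme.IdealSheafData.ideal_pow, Pi.pow_apply]
    exact (Groth.Agent.H20.IdealFP.ker_ideal_fg (PrinPart.diagCl f) U).pow
  haveI h1 : LocallyOfFinitePresentation (PrinPart.infNbhdι (PrinPart.diagCl f) n) :=
    Groth.Agent.H20.IdealFP.locallyOfFinitePresentation_subschemeι _ hfg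
  unfold PrinPart.pr1 PrinPart.nbhdι
  infer_instance

theorem isFP_PMod [LocallyOfFinitePresentation f] (n : ℕ) (F : X.Modules) (hF : CohB1.IsFP F) :
    CohB1.IsFP (PrinPart.PMod f n F) := by
  haveI : SheafOfModules.IsFinitePresentation (R := X.ringCatSheaf) F := hF
  haveI : F.IsQuasicoherent := inferInstance
  unfold PrinPart.PMod
  haveI := Groth.Agent.H44.isFinitePresentation_pullback (PrinPart.pr2 f n) F
  exact isFinitePresentation_pushforward _ _

end Groth.Agent.H22.PrinPartQCoh
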