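import Groth.Agent.H22.PrinPartSymm
import Groth.Agent.H22.PrinPartQCoh
import Groth.Agent.H33.SchemeDer.FlatPull
import Groth.Agent.H79.StructStalk
import Groth.Agent.H5.PullbackUnit

/-!
# Flatness of the projections of the infinitesimal neighbourhoods of the diagonal

If `P^n_{X/S}` is a flat `O_X`-module (left structure), then `p_1^{(n)}` (and hence `p_2^{(n)}`)
is a flat morphism, so `F ↦ P^n_{X/S}(F)` is exact.
-/

set_option autoImplicit false
universe u
open CategoryTheory CategoryTheory.Limits AlgebraicGeometry TopologicalSpace Opposite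

namespace Groth.Agent.H22.PrinPartFlat

open Groth.Agent.H5.Stalk

/-- If `g` is inducing and `(g_* O_X)_{g x}` is flat over `O_{Y, g x}`, then the stalk map of `g` at `x`
is flat. -/
theorem flat_stalkMap_of_flat_pushforward_unit {X Y : Scheme.{u}} (g : X ⟶ Y)
    (hg : Topology.IsInducing g) (x : X)
    (h : Module.Flat (Y.presheaf.stalk (g x))
      (((Scheme.Modules.pushforward g).obj (Coh.structureModule X)).presheaf.stalk (g x))) :
    (g.stalkMap x).hom.Flat := by
  have hb := pushStalkMap_bijective g x hg (Coh.structureModule X)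
  let e1 := LinearEquiv.ofBijective (pushStalkMap g x (Coh.structureModule X)).hom hb
  haveI h' : Module.Flat (Y.presheaf.stalk (g x))
      ((stalkFunctor (g x)).obj ((Scheme.Modules.pushforward g).obj (Coh.structureModule X))) := h
  have h2 : Module.Flat (Y.presheaf.stalk (g x))
      ((resStalk g x).obj ((stalkFunctor x).obj (Coh.structureModule X))) :=
    Module.Flat.of_linearEquiv e1.symm
  letI : Algebra (Y.presheaf.stalk (g x)) (X.presheaf.stalk x) := (g.stalkMap x).hom.toAlgebra
  let e0 := Groth.Agent.H79.StructStalk.structStalkEquiv X x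
  let e2 : (X.presheaf.stalk x) ≃ₗ[Y.presheaf.stalk (g x)]
      ((resStalk g x).obj ((stalkFunctor x).obj (Coh.structureModule X))) :=
    { toFun := fun a => e0 a
      map_add' := fun a b => map_add e0 a b
      map_smul' := fun r a => by
        change e0 ((g.stalkMap x).hom r • a) = (g.stalkMap x).hom r • e0 a
        exact map_smul e0 _ _
      invFun := fun m => e0.symm m
      left_inv := fun a => e0.symm_apply_apply a
      right_inv := fun m => e0.apply_symm_apply m }
  change Module.Flat (Y.presheaf.stalk (g x)) (X.presheaf.stalk x)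
  exact Module.Flat.of_linearEquiv e2

variable {X S : Scheme.{u}} (f : X ⟶ S) (n : ℕ)

/-- If `P^n_{X/S}` is flat for its left structure, then `p_1^{(n)}` is flat. -/
theorem flat_pr1 (hP : FlatMod.IsFlat (PrinPart.P f n)) : Flat (PrinPart.pr1 f n) := by
  apply Flat.of_stalkMap
  intro y
  apply flat_stalkMap_of_flat_pushforward_unit _
    (Groth.Agent.H22.PrinPartQCoh.isHomeomorph_pr1 f n).isInducing y
  haveI h : Module.Flat (X.presheaf.stalk (PrinPart.pr1 f n y))
      ((stalkFunctor (PrinPart.pr1 f n y)).obj (PrinPart.P f n)) := hP (PrinPart.pr1 f n y)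
  let φ : PrinPart.P f n ≅
      (Scheme.Modules.pushforward (PrinPart.pr1 f n)).obj (Coh.structureModule (PrinPart.nbhd f n)) :=
    (Scheme.Modules.pushforward (PrinPart.pr1 f n)).mapIso
      (Groth.Agent.H5.PullbackUnit.pullbackUnitIso (PrinPart.pr2 f n))
  let e := ((stalkFunctor (PrinPart.pr1 f n y)).mapIso φ).toLinearEquiv
  exact Module.Flat.of_linearEquiv e.symm

/-- If `P^n_{X/S}` is flat for its left structure, then `p_2^{(n)}` is flat. -/
theorem flat_pr2 (hP : FlatMod.IsFlat (PrinPart.P f n)) : Flat (PrinPart.pr2 f n) := by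
  obtain ⟨σ, -, h2, h3, -, -⟩ := Groth.Agent.H22.PrinPartSymm.exists_symm f n
  haveI : IsIso σ := ⟨σ, h2, h2⟩
  haveI := flat_pr1 f n hP
  rw [← h3]
  infer_instance

/-- If `P^n_{X/S}` is flat for its left structure, then `F ↦ P^n_{X/S}(F)` is exact. -/
theorem preservesFiniteLimits_PMod (hP : FlatMod.IsFlat (PrinPart.P f n)) :
    PreservesFiniteLimits
      ((Scheme.Modules.pullback (PrinPart.pr2 f n)) ⋙
        (Scheme.Modules.pushforward (PrinPart.pr1 f n))) := by
  haveI := flat_pr2 f n hP
  haveI := Groth.Agent.H33.SchemeDer.preservesFiniteLimits_pullback_of_flat (PrinPart.pr2 f n)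
  haveI : PreservesLimitsOfSize.{0, 0} (Scheme.Modules.pushforward (PrinPart.pr1 f n)) :=
    (Scheme.Modules.pullbackPushforwardAdjunction (PrinPart.pr1 f n)).rightAdjoint_preservesLimits
  haveI : PreservesFiniteLimits (Scheme.Modules.pushforward (PrinPart.pr1 f n)) :=
    PreservesLimitsOfSize.preservesFiniteLimits _
  infer_instance

end Groth.Agent.H22.PrinPartFlat
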