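import Groth.Agent.H22.PrinPartAffine
import Groth.Agent.H5.Stalk.PullbackStalkFormula
import Groth.Agent.H5.Stalk.PushClosed

/-!
# `P^n_{X/S}(F)` is generated, as a left `O_X`-module, by the image of `d^n`
-/

set_option autoImplicit false
universe u
open CategoryTheory CategoryTheory.Limits AlgebraicGeometry TopologicalSpace Opposite

namespace Groth.Agent.H22.PrinPartGen

open Groth.Agent.H5.Stalk Groth.Agent.H5.Stalk.Tensor

open ChangeOfRings in
/-- Induction principle: the stalk of a pullback `h^* F` at `y` is generated, over `O_{N,y}`, by the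
germs of the pulled back sections. -/
theorem pullback_stalk_induction {N X : Scheme.{u}} (h : N ⟶ X) (F : X.Modules) (y : N)
    (P : ((stalkFunctor y).obj ((Scheme.Modules.pullback h).obj F) : Type u) → Prop)
    (h0 : P 0) (hadd : ∀ a b, P a → P b → P (a + b))
    (hgen : ∀ (c : N.presheaf.stalk y) (V : X.Opens) (hV : h y ∈ V) (t : Γ(F, V)),
      P (c • gm y ((Scheme.Modules.pullback h).obj F) (h ⁻¹ᵁ V) hV (unitSec h F V t)))
    (ζ : ((stalkFunctor y).obj ((Scheme.Modules.pullback h).obj F) : Type u)) : P ζ := by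
  let e := (pullbackStalkIso h y).app F
  have hζ : ζ = e.inv.hom (e.hom.hom ζ) := by
    rw [← ModuleCat.comp_apply, e.hom_inv_id]
    rfl
  rw [hζ]
  have key : ∀ z : ((stalkExt h y).obj F : Type u), P (e.inv.hom z) := by
    intro z
    refine TensorProduct.induction_on (motive := fun z => P (e.inv.hom z)) z ?_ ?_ ?_
    · have : e.inv.hom (0 : ((stalkExt h y).obj F : Type u)) = 0 := map_zero e.inv.hom
      exact this ▸ h0
    · intro c₀ g
      obtain ⟨c, hc⟩ : ∃ c : N.presheaf.stalk y, c = c₀ := ⟨c₀, rfl⟩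
      subst hc
      obtain ⟨V, hV, t, rfl⟩ := exists_gm_eq (h y) F g
      let T1 : ((stalkExt h y).obj F : Type u) :=
        (1 : N.presheaf.stalk y) ⊗ₜ[X.presheaf.stalk (h y), (h.stalkMap y).hom]
          (gm (h y) F V hV t : (stalkFunctor (h y)).obj F)
      let Tc : ((stalkExt h y).obj F : Type u) :=
        c ⊗ₜ[X.presheaf.stalk (h y), (h.stalkMap y).hom]
          (gm (h y) F V hV t : (stalkFunctor (h y)).obj F)
      have h1 : Tc = c • T1 := by
        have := ModuleCat.ExtendScalars.smul_tmul (f := (h.stalkMap y).hom)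
          (M := (stalkFunctor (h y)).obj F) c 1 (gm (h y) F V hV t)
        rw [mul_one] at this
        exact this.symm
      have h2 : (e.hom.hom (gm y ((Scheme.Modules.pullback h).obj F) (h ⁻¹ᵁ V) hV
          (unitSec h F V t))) = T1 := pullbackStalkIso_hom_germ h y F V hV t
      have h3 : e.inv.hom Tc =
          c • gm y ((Scheme.Modules.pullback h).obj F) (h ⁻¹ᵁ V) hV (unitSec h F V t) := by
        rw [h1, map_smul, ← h2]
        congr 1
        change (e.hom ≫ e.inv).hom _ = _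
        rw [e.hom_inv_id]
        rfl
      exact h3 ▸ hgen c V hV t
    · intro a b ha hb
      have : e.inv.hom (a + b) = e.inv.hom a + e.inv.hom b := map_add e.inv.hom a b
      exact this ▸ hadd _ _ ha hb
  exact key _

open Groth.Agent.H22.PrinPartAffine

variable {X S : Scheme.{u}} (f : X ⟶ S) (n : ℕ) (F : X.Modules)

/-- the pulled back module `p₂^* F` on `X^{(n)}_Δ` -/
noncomputable abbrev MM : (PrinPart.nbhd f n).Modules :=
  (Scheme.Modules.pullback (PrinPart.pr2 f n)).obj F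

/-- sections of `P^n(F)` over `U` as sections of `p₂^*F` over `p₁⁻¹U` -/
def toM (U : X.Opens) (m : Γ(PrinPart.PMod f n F, U)) : Γ(MM f n F, PrinPart.pr1 f n ⁻¹ᵁ U) := m

/-- sections of `p₂^*F` over `p₁⁻¹U` as sections of `P^n(F)` over `U` -/
def ofM (U : X.Opens) (m : Γ(MM f n F, PrinPart.pr1 f n ⁻¹ᵁ U)) : Γ(PrinPart.PMod f n F, U) := m

/-- the left `O_X`-module structure of `P^n(F)` is through `p₁♯` -/
theorem smul_PMod (U : X.Opens) (r : Γ(X, U)) (m : Γ(PrinPart.PMod f n F, U)) :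
    r • m = ofM f n F U (p1 f n U r • toM f n F U m) := rfl

/-- `d^n (r • t) = p₂♯ r • d^n t` -/
theorem dP_smul (U : X.Opens) (r : Γ(X, U)) (t : Γ(F, U)) :
    PrinPart.dP f n F U (r • t) =
      ofM f n F U (p2 f n U r • toM f n F U (PrinPart.dP f n F U t)) := by
  rw [PrinPart.dP_apply, PrinPart.dP_apply, OmegaSh.pullSect_smul, Scheme.Modules.map_smul]
  rfl

variable {f n F} in
/-- two linear maps out of `P^n(F)` agreeing on the `d^n t` agree on all `c • d^n t`, over an affine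
chart -/
theorem app_smul_dP_eq {G : X.Modules} (a b : PrinPart.PMod f n F ⟶ G)
    (h : ∀ (U : X.Opens) (t : Γ(F, U)),
      a.app U (PrinPart.dP f n F U t) = b.app U (PrinPart.dP f n F U t))
    {U : X.Opens} {V : S.Opens} (hU : IsAffineOpen U) (hV : IsAffineOpen V) (hUV : U ≤ f ⁻¹ᵁ V)
    (c : Γ(PrinPart.nbhd f n, PrinPart.pr1 f n ⁻¹ᵁ U)) (t : Γ(F, U)) :
    a.app U (ofM f n F U (c • toM f n F U (PrinPart.dP f n F U t))) =
      b.app U (ofM f n F U (c • toM f n F U (PrinPart.dP f n F U t))) := by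
  obtain ⟨z, rfl⟩ := surjective_prodMap n hU hV hUV c
  induction z using TensorProduct.induction_on with
  | zero =>
    rw [map_zero, zero_smul]
    exact (map_zero (a.app U).hom).trans (map_zero (b.app U).hom).symm
  | tmul r r' =>
    have e1 : ofM f n F U (prodMap f n U (r ⊗ₜ[ℤ] r') • toM f n F U (PrinPart.dP f n F U t)) =
        r • PrinPart.dP f n F U (r' • t) := by
      have e2 : prodMap f n U (r ⊗ₜ[ℤ] r') • toM f n F U (PrinPart.dP f n F U t) =
          p1 f n U r • (p2 f n U r' • toM f n F U (PrinPart.dP f n F U t)) := by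
        rw [prodMap_tmul, mul_smul]
      have e3 : PrinPart.dP f n F U (r' • t) =
          ofM f n F U (p2 f n U r' • toM f n F U (PrinPart.dP f n F U t)) := dP_smul f n F U r' t
      have e4 : r • PrinPart.dP f n F U (r' • t) =
          ofM f n F U (p1 f n U r • toM f n F U (PrinPart.dP f n F U (r' • t))) :=
        smul_PMod f n F U r _
      rw [e4, e3, e2]
      rfl
    rw [e1, Scheme.Modules.Hom.app_smul, Scheme.Modules.Hom.app_smul, h]
  | add z₁ z₂ h₁ h₂ =>
    have e1 : ofM f n F U (prodMap f n U (z₁ + z₂) • toM f n F U (PrinPart.dP f n F U t)) =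
        ofM f n F U (prodMap f n U z₁ • toM f n F U (PrinPart.dP f n F U t)) +
        ofM f n F U (prodMap f n U z₂ • toM f n F U (PrinPart.dP f n F U t)) := by
      rw [map_add, add_smul]
      rfl
    rw [e1, map_add, map_add, h₁, h₂]

variable {f n F} in
/-- the germ of `d^n` of a restricted section -/
theorem gm_dP_res (y : PrinPart.nbhd f n) {U' V : X.Opens} (hU'V : U' ≤ V)
    (hy : PrinPart.pr1 f n y ∈ U') (hV : PrinPart.pr2 f n y ∈ V) (t : Γ(F, V)) :
    gm y (MM f n F) (PrinPart.pr1 f n ⁻¹ᵁ U') hy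
      (toM f n F U' (PrinPart.dP f n F U' (F.presheaf.map (homOfLE hU'V).op t))) =
    gm y (MM f n F) (PrinPart.pr2 f n ⁻¹ᵁ V) hV (unitSec (PrinPart.pr2 f n) F V t) := by
  rw [PrinPart.dP_apply, OmegaSh.pullSect_map]
  unfold toM
  erw [gm_res, gm_res]
  rfl

variable {f n F} in
/-- stalkwise form of `PMod_hom_ext` -/
theorem stalk_map_eq {G : X.Modules} (a b : PrinPart.PMod f n F ⟶ G)
    (h : ∀ (U : X.Opens) (t : Γ(F, U)),
      a.app U (PrinPart.dP f n F U t) = b.app U (PrinPart.dP f n F U t))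
    (x : X) (ξ : ((stalkFunctor x).obj (PrinPart.PMod f n F) : Type u)) :
    ((stalkFunctor x).map a).hom ξ = ((stalkFunctor x).map b).hom ξ := by
  have hhom := Groth.Agent.H22.PrinPartQCoh.isHomeomorph_pr1 f n
  obtain ⟨y, rfl⟩ := hhom.surjective x
  let π : (stalkFunctor (PrinPart.pr1 f n y)).obj (PrinPart.PMod f n F) ⟶
      (resStalk (PrinPart.pr1 f n) y).obj ((stalkFunctor y).obj (MM f n F)) :=
    pushStalkMap (PrinPart.pr1 f n) y (MM f n F)
  have hπ : Function.Bijective π.hom :=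
    pushStalkMap_bijective (PrinPart.pr1 f n) y hhom.isInducing (MM f n F)
  suffices key : ∀ (ζ : ((stalkFunctor y).obj (MM f n F) : Type u))
      (ξ : ((stalkFunctor (PrinPart.pr1 f n y)).obj (PrinPart.PMod f n F) : Type u)),
      π.hom ξ = ζ → ((stalkFunctor (PrinPart.pr1 f n y)).map a).hom ξ =
        ((stalkFunctor (PrinPart.pr1 f n y)).map b).hom ξ from key _ ξ rfl
  intro ζ
  refine pullback_stalk_induction (PrinPart.pr2 f n) F y
    (fun ζ => ∀ (ξ : ((stalkFunctor (PrinPart.pr1 f n y)).obj (PrinPart.PMod f n F) : Type u)),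
      π.hom ξ = ζ → ((stalkFunctor (PrinPart.pr1 f n y)).map a).hom ξ =
        ((stalkFunctor (PrinPart.pr1 f n y)).map b).hom ξ) ?_ ?_ ?_ ζ
  · intro ξ hξ
    have : ξ = 0 := hπ.1 (hξ.trans (map_zero π.hom).symm)
    rw [this, map_zero, map_zero]
  · intro ζ₁ ζ₂ h₁ h₂ ξ hξ
    obtain ⟨ξ₁, rfl⟩ := hπ.2 ζ₁
    obtain ⟨ξ₂, rfl⟩ := hπ.2 ζ₂
    have : ξ = ξ₁ + ξ₂ := hπ.1 (hξ.trans (map_add π.hom ξ₁ ξ₂).symm)
    rw [this, map_add, map_add, h₁ ξ₁ rfl, h₂ ξ₂ rfl]
  · intro c V hV t ξ hξ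
    obtain ⟨W₁, hyW₁, c₀, rfl⟩ := (PrinPart.nbhd f n).presheaf.exists_germ_eq c
    obtain ⟨W₁', rfl⟩ := exists_preimage_eq (PrinPart.pr1 f n) hhom.isInducing W₁
    have hxV : PrinPart.pr1 f n y ∈ V := by rw [PrinPart.pr1_apply]; exact hV
    obtain ⟨_, ⟨V', hV', rfl⟩, hfxV', -⟩ := S.isBasis_affineOpens.exists_subset_of_mem_open
      (Set.mem_univ (f (PrinPart.pr1 f n y))) isOpen_univ
    obtain ⟨_, ⟨U', hU', rfl⟩, hxU', hU'sub⟩ := X.isBasis_affineOpens.exists_subset_of_mem_open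
      (show PrinPart.pr1 f n y ∈ ((W₁' ⊓ V ⊓ f ⁻¹ᵁ V' : X.Opens) : Set X) from
        ⟨⟨hyW₁, hxV⟩, hfxV'⟩) (W₁' ⊓ V ⊓ f ⁻¹ᵁ V').isOpen
    have hU'W : U' ≤ W₁' := fun z hz => (hU'sub hz).1.1
    have hU'V : U' ≤ V := fun z hz => (hU'sub hz).1.2
    have hU'V' : U' ≤ f ⁻¹ᵁ V' := fun z hz => (hU'sub hz).2
    let t' : Γ(F, U') := F.presheaf.map (homOfLE hU'V).op t
    let c' : Γ(PrinPart.nbhd f n, PrinPart.pr1 f n ⁻¹ᵁ U') :=
      (PrinPart.nbhd f n).presheaf.map (homOfLE ((PrinPart.pr1 f n).preimage_mono hU'W)).op c₀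
    let s : Γ(PrinPart.PMod f n F, U') :=
      ofM f n F U' (c' • toM f n F U' (PrinPart.dP f n F U' t'))
    let ξ₀ : ((stalkFunctor (PrinPart.pr1 f n y)).obj (PrinPart.PMod f n F) : Type u) :=
      gm (PrinPart.pr1 f n y) (PrinPart.PMod f n F) U' hxU' s
    have e1 : π.hom ξ₀ = gm y (MM f n F) (PrinPart.pr1 f n ⁻¹ᵁ U') hxU'
        (c' • toM f n F U' (PrinPart.dP f n F U' t')) :=
      pushStalkMap_germ (PrinPart.pr1 f n) y (MM f n F) U' hxU' s
    have e2 : π.hom ξ₀ = π.hom ξ := by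
      rw [e1, hξ, gm_smul, gm_dP_res y hU'V hxU' hV t]
      congr 1
      exact TopCat.Presheaf.germ_res_apply _ _ _ _ _
    have e3 : ξ = ξ₀ := hπ.1 e2.symm
    rw [e3]
    change ((stalkFunctor (PrinPart.pr1 f n y)).map a).hom
        (gm (PrinPart.pr1 f n y) (PrinPart.PMod f n F) U' hxU' s) =
      ((stalkFunctor (PrinPart.pr1 f n y)).map b).hom
        (gm (PrinPart.pr1 f n y) (PrinPart.PMod f n F) U' hxU' s)
    rw [stalkFunctor_map_gm, stalkFunctor_map_gm]
    congr 1
    exact app_smul_dP_eq a b h hU' hV' hU'V' c' t'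

variable {f n F} in
/-- **`P^n_{X/S}(F)` is generated by the image of `d^n`**: two `O_X`-linear maps out of
`P^n_{X/S}(F)` that agree on all `d^n t` coincide. -/
theorem PMod_hom_ext {G : X.Modules} (a b : PrinPart.PMod f n F ⟶ G)
    (h : ∀ (U : X.Opens) (t : Γ(F, U)),
      a.app U (PrinPart.dP f n F U t) = b.app U (PrinPart.dP f n F U t)) : a = b := by
  apply Scheme.Modules.hom_ext
  intro U
  ext m
  apply TopCat.Presheaf.section_ext ⟨G.presheaf, G.isSheaf⟩ U
  intro x hx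
  have h1 := stalk_map_eq a b h x (gm x (PrinPart.PMod f n F) U hx m)
  rw [stalkFunctor_map_gm, stalkFunctor_map_gm] at h1
  exact h1

end Groth.Agent.H22.PrinPartGen
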