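import Groth.Agent.H22.PrinPartAffine

/-!
# The kernel of `Γ(X ×_S X, Q) → Γ(X^{(n)}_Δ, Q)` on an affine open where the diagonal is closed
-/

set_option autoImplicit false
universe u
open CategoryTheory CategoryTheory.Limits AlgebraicGeometry TopologicalSpace Opposite

namespace Groth.Agent.H22.PrinPartKer

variable {X S : Scheme.{u}} (f : X ⟶ S)

variable {f} in
/-- sections of `X^{(n)}_Δ` over the preimage of an affine open `Q` of `X ×_S X` in which the
diagonal is closed are restrictions of sections over `Q` -/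
theorem surjective_nbhdι_app (n : ℕ) {Q : (pullback f f).Opens} (hQ : IsAffineOpen Q)
    (hle : Q ≤ (pullback.diagonal f).coborderRange) :
    Function.Surjective ((PrinPart.nbhdι f n).app Q).hom := by
  have hW₁ : IsAffineOpen ((pullback.diagonal f).coborderRange.ι ⁻¹ᵁ Q) :=
    hQ.preimage_of_isOpenImmersion _ (by simpa using hle)
  have h1 := (PrinPart.infNbhdι (PrinPart.diagCl f) n).app_surjective _ hW₁
  have h2 : IsIso ((pullback.diagonal f).coborderRange.ι.app Q) :=
    Scheme.Hom.isIso_app _ _ (by simpa using hle)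
  have h3 : (PrinPart.nbhdι f n).app Q =
      (pullback.diagonal f).coborderRange.ι.app Q ≫
        (PrinPart.infNbhdι (PrinPart.diagCl f) n).app
          ((pullback.diagonal f).coborderRange.ι ⁻¹ᵁ Q) := by
    unfold PrinPart.nbhdι
    rw [Scheme.Hom.comp_app]
  rw [h3]
  have h4 : Function.Surjective ((pullback.diagonal f).coborderRange.ι.app Q).hom :=
    ((ConcreteCategory.isIso_iff_bijective _).mp h2).2
  exact h1.comp h4

variable {f} in
/-- the kernel of `Γ(X ×_S X, Q) → Γ(X^{(n)}_Δ, Q)` is the `(n+1)`-st power of the kernel of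
`Γ(X ×_S X, Q) → Γ(X, Δ⁻¹ Q)` -/
theorem ker_nbhdι_app (n : ℕ) {Q : (pullback f f).Opens} (hQ : IsAffineOpen Q)
    (hle : Q ≤ (pullback.diagonal f).coborderRange) :
    RingHom.ker ((PrinPart.nbhdι f n).app Q).hom =
      RingHom.ker ((pullback.diagonal f).app Q).hom ^ (n + 1) := by
  have hW₁ : IsAffineOpen ((pullback.diagonal f).coborderRange.ι ⁻¹ᵁ Q) :=
    hQ.preimage_of_isOpenImmersion _ (by simpa using hle)
  have h2 : IsIso ((pullback.diagonal f).coborderRange.ι.app Q) :=
    Scheme.Hom.isIso_app _ _ (by simpa using hle)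
  let g := ((pullback.diagonal f).coborderRange.ι.app Q).hom
  have hg : Function.Bijective g := (ConcreteCategory.isIso_iff_bijective _).mp h2
  have h3 : RingHom.ker ((PrinPart.nbhdι f n).app Q).hom =
      Ideal.comap g (RingHom.ker ((PrinPart.infNbhdι (PrinPart.diagCl f) n).app
          ((pullback.diagonal f).coborderRange.ι ⁻¹ᵁ Q)).hom) := by
    ext a
    rw [Ideal.mem_comap, RingHom.mem_ker, RingHom.mem_ker]
    have e0 : (PrinPart.nbhdι f n).app Q =
        (pullback.diagonal f).coborderRange.ι.app Q ≫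
          (PrinPart.infNbhdι (PrinPart.diagCl f) n).app
            ((pullback.diagonal f).coborderRange.ι ⁻¹ᵁ Q) := by
      unfold PrinPart.nbhdι
      rw [Scheme.Hom.comp_app]
    rw [e0]
    rfl
  have h4 : RingHom.ker ((pullback.diagonal f).app Q).hom =
      Ideal.comap g (RingHom.ker
        ((PrinPart.diagCl f).app ((pullback.diagonal f).coborderRange.ι ⁻¹ᵁ Q)).hom) := by
    ext a
    rw [Ideal.mem_comap, RingHom.mem_ker, RingHom.mem_ker]
    have e1 := Scheme.Hom.congr_app (pullback.diagonal f).liftCoborder_ι.symm Q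
    rw [e1, Scheme.Hom.comp_app]
    change (X.presheaf.map _).hom (((PrinPart.diagCl f).app _).hom (g a)) = 0 ↔ _
    constructor
    · intro h
      have hinj : Function.Injective (X.presheaf.map (eqToHom
          (congrArg (fun q => q ⁻¹ᵁ Q) (pullback.diagonal f).liftCoborder_ι.symm)).op).hom :=
        ((ConcreteCategory.isIso_iff_bijective _).mp inferInstance).1
      exact hinj (h.trans (map_zero _).symm)
    · intro h
      rw [h, map_zero]
  have h5 : RingHom.ker ((PrinPart.infNbhdι (PrinPart.diagCl f) n).app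
      ((pullback.diagonal f).coborderRange.ι ⁻¹ᵁ Q)).hom =
      RingHom.ker ((PrinPart.diagCl f).app
        ((pullback.diagonal f).coborderRange.ι ⁻¹ᵁ Q)).hom ^ (n + 1) := by
    unfold PrinPart.infNbhdι
    rw [Scheme.IdealSheafData.ker_subschemeι_app ((PrinPart.diagCl f).ker ^ (n + 1)) ⟨_, hW₁⟩,
      Scheme.IdealSheafData.ideal_pow, Pi.pow_apply, Scheme.Hom.ker_apply]
  rw [h3, h4, h5]
  -- comap along a bijection commutes with powers
  let ge : Γ(pullback f f, Q) ≃+*
      Γ(((pullback.diagonal f).coborderRange : Scheme.{u}),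
        (pullback.diagonal f).coborderRange.ι ⁻¹ᵁ Q) := RingEquiv.ofBijective g hg
  have h6 : ∀ I : Ideal Γ(((pullback.diagonal f).coborderRange : Scheme.{u}),
      (pullback.diagonal f).coborderRange.ι ⁻¹ᵁ Q), Ideal.comap g I = Ideal.map ge.symm I := by
    intro I
    exact (Ideal.map_symm (f := ge) (I := I)).symm ▸ rfl
  rw [h6, h6, Ideal.map_pow]

end Groth.Agent.H22.PrinPartKer
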