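import Mathlib.RingTheory.Kaehler.Basic

/-!
# `(A ⊗_R A)/I² = A ⊕ Ω_{A/R}` (helper22)

Algebra behind `P^1_{X/S} = O_X ⊕ Ω_{X/S}`.
-/

set_option autoImplicit false
universe u
open TensorProduct

namespace Groth.Agent.H22.PrinPartOneAlg

variable {R A N : Type u} [CommRing R] [CommRing A] [Algebra R A] [CommRing N]
  (π : A ⊗[R] A →+* N) (ψ : Ω[A⁄R] →+ N)
  (hψlin : ∀ (a : A) (ω : Ω[A⁄R]), ψ (a • ω) = π (a ⊗ₜ 1) * ψ ω)
  (hψD : ∀ s : A, ψ (KaehlerDifferential.D R A s) = π (1 ⊗ₜ s) - π (s ⊗ₜ 1))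

include hψlin hψD in
theorem psi_fromIdeal (x : A ⊗[R] A) (hx : x ∈ KaehlerDifferential.ideal R A) :
    ψ (KaehlerDifferential.fromIdeal R A ⟨x, hx⟩) = π x := by
  have hx' := hx
  rw [← Submodule.restrictScalars_mem A, ← KaehlerDifferential.submodule_span_range_eq_ideal] at hx'
  suffices ∃ hx, ψ (KaehlerDifferential.fromIdeal R A ⟨x, hx⟩) = π x from this.snd
  refine Submodule.span_induction ?_ ?_ ?_ ?_ hx'
  · rintro _ ⟨s, rfl⟩
    refine ⟨KaehlerDifferential.one_smul_sub_smul_one_mem_ideal R s, ?_⟩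
    have : KaehlerDifferential.fromIdeal R A
        ⟨1 ⊗ₜ s - s ⊗ₜ 1, KaehlerDifferential.one_smul_sub_smul_one_mem_ideal R s⟩ =
        KaehlerDifferential.D R A s := rfl
    rw [this, hψD, map_sub]
  · refine ⟨zero_mem _, ?_⟩
    have : (⟨0, zero_mem _⟩ : KaehlerDifferential.ideal R A) = 0 := rfl
    rw [this, map_zero, map_zero, map_zero]
  · rintro x y - - ⟨hx₁, hx₂⟩ ⟨hy₁, hy₂⟩
    refine ⟨add_mem hx₁ hy₁, ?_⟩
    have : (⟨x + y, add_mem hx₁ hy₁⟩ : KaehlerDifferential.ideal R A) = ⟨x, hx₁⟩ + ⟨y, hy₁⟩ := rfl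
    rw [this, map_add, map_add, hx₂, hy₂, map_add]
  · rintro a x - ⟨hx₁, hx₂⟩
    have hmem : a • x ∈ KaehlerDifferential.ideal R A :=
      ((KaehlerDifferential.ideal R A).restrictScalars A).smul_mem a hx₁
    refine ⟨hmem, ?_⟩
    have h1 : (⟨a • x, hmem⟩ : KaehlerDifferential.ideal R A) = a • ⟨x, hx₁⟩ := rfl
    rw [h1, LinearMap.map_smul_of_tower, hψlin, hx₂, Algebra.smul_def, map_mul]
    rfl

include hψlin hψD in
/-- `A ⊕ Ω_{A/R} → N`, `(a, ω) ↦ π(a ⊗ 1) + ψ(ω)` is injective when `ker π = I²`. -/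
theorem eq_zero_of_add_eq_zero (hker : RingHom.ker π = KaehlerDifferential.ideal R A ^ 2)
    (a : A) (ω : Ω[A⁄R]) (h : π (a ⊗ₜ 1) + ψ ω = 0) : a = 0 ∧ ω = 0 := by
  obtain ⟨⟨x, hx⟩, rfl⟩ := KaehlerDifferential.fromIdeal_surjective R A ω
  rw [psi_fromIdeal π ψ hψlin hψD x hx, ← map_add, ← RingHom.mem_ker, hker] at h
  have h2 : a ⊗ₜ[R] (1 : A) + x ∈ KaehlerDifferential.ideal R A :=
    Ideal.pow_le_self two_ne_zero h
  have h3 : a ⊗ₜ[R] (1 : A) ∈ KaehlerDifferential.ideal R A := by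
    have := (KaehlerDifferential.ideal R A).sub_mem h2 hx
    rwa [add_sub_cancel_right] at this
  have ha : a = 0 := by
    have := RingHom.mem_ker.mp h3
    simpa using this
  refine ⟨ha, ?_⟩
  rw [ha, zero_tmul, zero_add] at h
  exact (Ideal.toCotangent_eq_zero _ _).mpr h

include hψlin hψD in
/-- `A ⊕ Ω_{A/R} → N` is surjective when `π` is. -/
theorem exists_add_eq (hπ : Function.Surjective π) (m : N) :
    ∃ (a : A) (ω : Ω[A⁄R]), π (a ⊗ₜ 1) + ψ ω = m := by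
  obtain ⟨z, rfl⟩ := hπ m
  have hx : z - (Algebra.TensorProduct.lmul' R z) ⊗ₜ[R] (1 : A) ∈ KaehlerDifferential.ideal R A := by
    rw [KaehlerDifferential.ideal, RingHom.mem_ker, map_sub]
    simp
  refine ⟨Algebra.TensorProduct.lmul' R z, KaehlerDifferential.fromIdeal R A ⟨_, hx⟩, ?_⟩
  rw [psi_fromIdeal π ψ hψlin hψD _ hx, ← map_add, add_sub_cancel]

end Groth.Agent.H22.PrinPartOneAlg
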