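import Groth.Agent.H22.PrinPartChart
import Groth.Agent.H22.PrinPartOneAlg
import Groth.Agent.H12.QCohIso
import Groth.Agent.H12.QCohAbelian

/-!
# `P^1_{X/S} = O_X ⊕ Ω_{X/S}` (helper22)
-/

set_option autoImplicit false
universe u
open CategoryTheory CategoryTheory.Limits AlgebraicGeometry TopologicalSpace Opposite TensorProduct

namespace Groth.Agent.H22.PrinPartOne

open Groth.Agent.H22.PrinPartAffine Groth.Agent.H22.PrinPartTheta Groth.Agent.H22.PrinPartProd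
open Groth.Agent.H22.PrinPartChart Groth.Agent.H44

variable {X S : Scheme.{u}} (f : X ⟶ S) [QuasiSeparated f]
  (e : Coh.structureModule X ⟶ PrinPart.P f 1)
  (he : ∀ (U : X.Opens) (s : Γ(X, U)), e.app U (OmegaSh.strSect X U s) = s • PrinPart.dn f 1 U 1)
  (ι : Omega.sheaf f ⟶ PrinPart.P f 1)
  (hι : ∀ (U : X.Opens) (s : Γ(X, U)),
    ι.app U ((OmegaSh.dOmega f).app U s) = PrinPart.dn f 1 U s - s • PrinPart.dn f 1 U 1)

set_option maxRecDepth 8000 in
include he hι in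
/-- Over an affine chart, `(a, ω) ↦ e(a) + ι(ω)` is bijective `Γ(O, U) × Γ(Ω, U) → Γ(P^1, U)`. -/
theorem chart_one {U : X.Opens} {V : S.Opens} (hU : IsAffineOpen U) (hV : IsAffineOpen V)
    (le : U ≤ f ⁻¹ᵁ V) :
    (∀ (a : Γ(Coh.structureModule X, U)) (ω : Γ(Omega.sheaf f, U)),
      e.app U a + ι.app U ω = 0 → a = 0 ∧ ω = 0) ∧
    (∀ m : Γ(PrinPart.P f 1, U), ∃ (a : Γ(Coh.structureModule X, U)) (ω : Γ(Omega.sheaf f, U)),
      e.app U a + ι.app U ω = m) := by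
  letI alg : Algebra Γ(S, V) Γ(X, U) := (f.appLE V U le).hom.toAlgebra
  obtain ⟨Φ, hΦ⟩ := exists_omega_kaehler_equiv f hU hV le
  let π := πn f 1 hU hV le
  let ψ : Ω[Γ(X, U)⁄Γ(S, V)] →+ Γ(PrinPart.nbhd f 1, PrinPart.pr1 f 1 ⁻¹ᵁ U) :=
    (Θ f 1 U).comp ((ι.app U).hom.comp Φ.symm.toLinearMap.toAddMonoidHom)
  have hψ : ∀ ω, ψ ω = Θ f 1 U (ι.app U (Φ.symm ω)) := fun _ => rfl
  have hπ1 : ∀ a : Γ(X, U), π (a ⊗ₜ[Γ(S, V)] 1) = p1 f 1 U a := by
    intro a
    rw [πn_tmul, map_one, mul_one]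
  have hπ2 : ∀ a : Γ(X, U), π (1 ⊗ₜ[Γ(S, V)] a) = p2 f 1 U a := by
    intro a
    rw [πn_tmul, map_one, one_mul]
  have hψlin : ∀ (a : Γ(X, U)) (ω : Ω[Γ(X, U)⁄Γ(S, V)]), ψ (a • ω) = π (a ⊗ₜ 1) * ψ ω := by
    intro a ω
    rw [hψ, hψ, map_smul, Scheme.Modules.Hom.app_smul, Θ_smul, hπ1]
  have hψD : ∀ s : Γ(X, U), ψ (KaehlerDifferential.D Γ(S, V) Γ(X, U) s) =
      π (1 ⊗ₜ s) - π (s ⊗ₜ 1) := by
    intro s
    have h1 : Φ.symm (KaehlerDifferential.D Γ(S, V) Γ(X, U) s) = (OmegaSh.dOmega f).app U s := by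
      rw [LinearEquiv.symm_apply_eq]
      exact (hΦ s).symm
    rw [hψ, h1, hι, map_sub, Θ_dn, Θ_smul, Θ_dn, map_one, mul_one, hπ1, hπ2]
  have hker := ker_πn f 1 hU hV le
  have hsurj := πn_surjective f 1 hU hV le
  have he' : ∀ a : Γ(Coh.structureModule X, U),
      Θ f 1 U (e.app U a) = π ((OmegaSh.fnSect X U a) ⊗ₜ[Γ(S, V)] 1) := by
    intro a
    have : a = OmegaSh.strSect X U (OmegaSh.fnSect X U a) := rfl
    rw [hπ1]
    conv_lhs => rw [this]
    rw [he, Θ_smul, Θ_dn, map_one, mul_one]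
  constructor
  · intro a ω h
    have h2 := congrArg (Θ f 1 U) h
    rw [map_add, map_zero, he'] at h2
    have h3 : Θ f 1 U (ι.app U ω) = ψ (Φ ω) := by rw [hψ, LinearEquiv.symm_apply_apply]
    rw [h3] at h2
    obtain ⟨ha, hω⟩ := Groth.Agent.H22.PrinPartOneAlg.eq_zero_of_add_eq_zero π ψ hψlin hψD hker _ _ h2
    exact ⟨ha, Φ.injective (hω.trans (map_zero Φ).symm)⟩
  · intro m
    obtain ⟨a, ω, h⟩ := Groth.Agent.H22.PrinPartOneAlg.exists_add_eq π ψ hψlin hψD hsurj (Θ f 1 U m)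
    refine ⟨OmegaSh.strSect X U a, Φ.symm ω, (Θ_bijective f 1 U).1 ?_⟩
    rw [map_add, he', ← hψ]
    exact h

include he hι in
theorem isIso_biprod_desc : IsIso (biprod.desc e ι) := by
  haveI : (PrinPart.P f 1).IsQuasicoherent :=
    Groth.Agent.H22.PrinPartQCoh.isQuasicoherent_PMod f 1 _
  haveI : (Omega.sheaf f).IsQuasicoherent := by
    unfold Omega.sheaf Omega.conormal
    infer_instance
  haveI : (Coh.structureModule X ⊞ Omega.sheaf f).IsQuasicoherent :=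
    Groth.Agent.H12.QCohAbelian.isQuasicoherent_biprod _ _
  let Idx := {p : X.Opens × S.Opens // IsAffineOpen p.1 ∧ IsAffineOpen p.2 ∧ p.1 ≤ f ⁻¹ᵁ p.2}
  refine Groth.Agent.H12.QCohIso.isIso_of_bijective_on_cover (biprod.desc e ι)
    (fun p : Idx => p.1.1) ?_ (fun p => p.2.1) ?_
  · intro x
    obtain ⟨_, ⟨V, hV, rfl⟩, hxV, -⟩ := S.isBasis_affineOpens.exists_subset_of_mem_open
      (show f x ∈ (⊤ : S.Opens) from trivial) (⊤ : S.Opens).isOpen
    obtain ⟨_, ⟨U, hU, rfl⟩, hxU, hUsub⟩ := X.isBasis_affineOpens.exists_subset_of_mem_open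
      (show x ∈ f ⁻¹ᵁ V from hxV) (f ⁻¹ᵁ V).isOpen
    exact ⟨⟨(U, V), hU, hV, hUsub⟩, hxU⟩
  · rintro ⟨⟨U, V⟩, hU, hV, le⟩
    obtain ⟨hinj, hsurj⟩ := chart_one f e he ι hι hU hV le
    have hdecomp : ∀ z : Γ(Coh.structureModule X ⊞ Omega.sheaf f, U),
        z = (biprod.inl : Coh.structureModule X ⟶ Coh.structureModule X ⊞ Omega.sheaf f).app U
            ((biprod.fst : Coh.structureModule X ⊞ Omega.sheaf f ⟶ _).app U z) +
          (biprod.inr : Omega.sheaf f ⟶ Coh.structureModule X ⊞ Omega.sheaf f).app U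
            ((biprod.snd : Coh.structureModule X ⊞ Omega.sheaf f ⟶ _).app U z) := by
      intro z
      have h := congrArg (fun φ : Coh.structureModule X ⊞ Omega.sheaf f ⟶
        Coh.structureModule X ⊞ Omega.sheaf f => (Scheme.Modules.Hom.app φ U) z)
        (biprod.total (X := Coh.structureModule X) (Y := Omega.sheaf f))
      exact h.symm
    have hinl : ∀ a, (biprod.desc e ι).app U
        ((biprod.inl : Coh.structureModule X ⟶ Coh.structureModule X ⊞ Omega.sheaf f).app U a) =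
        e.app U a := fun a =>
      congrArg (fun φ : Coh.structureModule X ⟶ PrinPart.P f 1 => (Scheme.Modules.Hom.app φ U) a)
        (biprod.inl_desc e ι)
    have hinr : ∀ ω, (biprod.desc e ι).app U
        ((biprod.inr : Omega.sheaf f ⟶ Coh.structureModule X ⊞ Omega.sheaf f).app U ω) =
        ι.app U ω := fun ω =>
      congrArg (fun φ : Omega.sheaf f ⟶ PrinPart.P f 1 => (Scheme.Modules.Hom.app φ U) ω)
        (biprod.inr_desc e ι)
    constructor
    · intro z₁ z₂ h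
      have hz : (biprod.desc e ι).app U (z₁ - z₂) = 0 := by rw [map_sub, h, sub_self]
      suffices z₁ - z₂ = 0 from sub_eq_zero.mp this
      generalize z₁ - z₂ = z at hz
      rw [hdecomp z, map_add, hinl, hinr] at hz
      obtain ⟨ha, hω⟩ := hinj _ _ hz
      rw [hdecomp z, ha, hω, map_zero, map_zero, add_zero]
    · intro m
      obtain ⟨a, ω, h⟩ := hsurj m
      refine ⟨(biprod.inl : Coh.structureModule X ⟶ Coh.structureModule X ⊞ Omega.sheaf f).app U a +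
        (biprod.inr : Omega.sheaf f ⟶ Coh.structureModule X ⊞ Omega.sheaf f).app U ω, ?_⟩
      rw [map_add, hinl, hinr, h]

include he hι in
/-- **`P^1_{X/S} = O_X ⊕ Ω_{X/S}`.** -/
theorem isIso_coprod_desc : IsIso (coprod.desc e ι) := by
  haveI := isIso_biprod_desc f e he ι hι
  have h : coprod.desc e ι = (biprod.isoCoprod _ _).inv ≫ biprod.desc e ι := by
    apply coprod.hom_ext
    · rw [coprod.inl_desc, biprod.isoCoprod_inv, ← Category.assoc, coprod.inl_desc, biprod.inl_desc]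
    · rw [coprod.inr_desc, biprod.isoCoprod_inv, ← Category.assoc, coprod.inr_desc, biprod.inr_desc]
  rw [h]
  infer_instance

end Groth.Agent.H22.PrinPartOne
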