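import Groth.Agent.H22.PrinPartTheta
import Groth.Agent.H22.PrinPartKer

/-!
# Principal parts of `Spec B → Spec A`: `Γ(X, P^n_{X/S}) = (B ⊗_A B) / I^{n+1}`
-/

set_option autoImplicit false
universe u
open CategoryTheory CategoryTheory.Limits AlgebraicGeometry TopologicalSpace Opposite TensorProduct

namespace Groth.Agent.H22.PrinPartSpec

open Groth.Agent.H22.PrinPartAffine Groth.Agent.H22.PrinPartGen Groth.Agent.H22.PrinPartTheta
  Groth.Agent.H22.PrinPartKer

variable (A B : Type u) [CommRing A] [CommRing B] [Algebra A B]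

/-- the morphism `Spec B ⟶ Spec A` -/
noncomputable abbrev ff : Spec (CommRingCat.of B) ⟶ Spec (CommRingCat.of A) :=
  Spec.map (CommRingCat.ofHom (algebraMap A B))

/-- `B ⊗_A B → Γ(Spec B ×_{Spec A} Spec B, ⊤)` -/
noncomputable def e₀ : CommRingCat.of (B ⊗[A] B) ⟶ Γ(pullback (ff A B) (ff A B), ⊤) :=
  (Scheme.ΓSpecIso (CommRingCat.of (B ⊗[A] B))).inv ≫ (pullbackSpecIso A B B).hom.appTop

instance : IsIso (e₀ A B) := by
  unfold e₀
  haveI : IsIso (pullbackSpecIso A B B).hom.appTop :=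
    inferInstanceAs (IsIso ((pullbackSpecIso A B B).hom.app ⊤))
  infer_instance

theorem e₀_bijective : Function.Bijective (e₀ A B).hom :=
  (ConcreteCategory.isIso_iff_bijective _).mp inferInstance

theorem includeLeft_e₀ :
    CommRingCat.ofHom (Algebra.TensorProduct.includeLeftRingHom : B →+* B ⊗[A] B) ≫ e₀ A B =
      (Scheme.ΓSpecIso (CommRingCat.of B)).inv ≫ (pullback.fst (ff A B) (ff A B)).appTop := by
  unfold e₀
  rw [← Category.assoc, Scheme.ΓSpecIso_inv_naturality, Category.assoc, ← Scheme.Hom.comp_appTop,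
    pullbackSpecIso_hom_fst]

theorem includeRight_e₀ :
    CommRingCat.ofHom (Algebra.TensorProduct.includeRight : B →ₐ[A] B ⊗[A] B).toRingHom ≫ e₀ A B =
      (Scheme.ΓSpecIso (CommRingCat.of B)).inv ≫ (pullback.snd (ff A B) (ff A B)).appTop := by
  unfold e₀
  rw [← Category.assoc, Scheme.ΓSpecIso_inv_naturality, Category.assoc, ← Scheme.Hom.comp_appTop]
  congr 2
  exact pullbackSpecIso_hom_snd A B B

theorem e₀_diagonal :
    e₀ A B ≫ (pullback.diagonal (ff A B)).appTop =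
      CommRingCat.ofHom (Algebra.TensorProduct.lmul' A : B ⊗[A] B →ₐ[A] B).toRingHom ≫
        (Scheme.ΓSpecIso (CommRingCat.of B)).inv := by
  have h1 : pullback.diagonal (ff A B) = _ := diagonal_SpecMap A B
  rw [Scheme.ΓSpecIso_inv_naturality, h1, Scheme.Hom.comp_appTop]
  unfold e₀
  rw [Category.assoc, ← Category.assoc (pullbackSpecIso A B B).hom.appTop,
    ← Scheme.Hom.comp_appTop, Iso.inv_hom_id]
  simp

theorem e₀_fst (b : B) :
    (e₀ A B).hom (b ⊗ₜ[A] 1) =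
      (pullback.fst (ff A B) (ff A B)).appTop ((Scheme.ΓSpecIso (CommRingCat.of B)).inv b) :=
  congrArg (fun φ : CommRingCat.of B ⟶ Γ(pullback (ff A B) (ff A B), ⊤) => φ.hom b)
    (includeLeft_e₀ A B)

theorem e₀_snd (b : B) :
    (e₀ A B).hom (1 ⊗ₜ[A] b) =
      (pullback.snd (ff A B) (ff A B)).appTop ((Scheme.ΓSpecIso (CommRingCat.of B)).inv b) :=
  congrArg (fun φ : CommRingCat.of B ⟶ Γ(pullback (ff A B) (ff A B), ⊤) => φ.hom b)
    (includeRight_e₀ A B)

theorem e₀_diag (z : B ⊗[A] B) :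
    (pullback.diagonal (ff A B)).appTop ((e₀ A B).hom z) =
      (Scheme.ΓSpecIso (CommRingCat.of B)).inv (Algebra.TensorProduct.lmul' A z) :=
  congrArg (fun φ : CommRingCat.of (B ⊗[A] B) ⟶ Γ(Spec (CommRingCat.of B), ⊤) => φ.hom z)
    (e₀_diagonal A B)

section General

variable {X S : Scheme.{u}} {f : X ⟶ S}

theorem bijective_map_of_le {N : Scheme.{u}} {O O' : N.Opens} (h1 : O ≤ O') (h2 : O' ≤ O) :
    Function.Bijective (N.presheaf.map (homOfLE h1).op).hom := by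
  have e1 : (homOfLE h1).op ≫ (homOfLE h2).op = 𝟙 _ := Subsingleton.elim _ _
  have e2 : (homOfLE h2).op ≫ (homOfLE h1).op = 𝟙 _ := Subsingleton.elim _ _
  constructor
  · intro a b hab
    have := congrArg (N.presheaf.map (homOfLE h2).op).hom hab
    rwa [← CommRingCat.comp_apply, ← CommRingCat.comp_apply, ← Functor.map_comp, e1,
      CategoryTheory.Functor.map_id] at this
  · intro y
    refine ⟨(N.presheaf.map (homOfLE h2).op).hom y, ?_⟩
    rw [← CommRingCat.comp_apply, ← Functor.map_comp, e2, CategoryTheory.Functor.map_id]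
    rfl

/-- `appLE` form of `surjective_nbhdι_app` -/
theorem surjective_nbhdι_appLE (n : ℕ) {Q : (pullback f f).Opens} (hQ : IsAffineOpen Q)
    (hle : Q ≤ (pullback.diagonal f).coborderRange) (O : (PrinPart.nbhd f n).Opens)
    (h1 : O ≤ PrinPart.nbhdι f n ⁻¹ᵁ Q) (h2 : PrinPart.nbhdι f n ⁻¹ᵁ Q ≤ O) :
    Function.Surjective ((PrinPart.nbhdι f n).appLE Q O h1).hom := by
  unfold Scheme.Hom.appLE
  rw [CommRingCat.hom_comp, RingHom.coe_comp]
  exact (bijective_map_of_le h1 h2).2.comp (Groth.Agent.H22.PrinPartKer.surjective_nbhdι_app n hQ hle)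

/-- `appLE` form of `ker_nbhdι_app` -/
theorem ker_nbhdι_appLE (n : ℕ) {Q : (pullback f f).Opens} (hQ : IsAffineOpen Q)
    (hle : Q ≤ (pullback.diagonal f).coborderRange) (O : (PrinPart.nbhd f n).Opens)
    (h1 : O ≤ PrinPart.nbhdι f n ⁻¹ᵁ Q) (h2 : PrinPart.nbhdι f n ⁻¹ᵁ Q ≤ O) :
    RingHom.ker ((PrinPart.nbhdι f n).appLE Q O h1).hom =
      RingHom.ker ((pullback.diagonal f).app Q).hom ^ (n + 1) := by
  rw [← ker_nbhdι_app n hQ hle]
  unfold Scheme.Hom.appLE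
  rw [CommRingCat.hom_comp]
  exact RingHom.ker_comp_of_injective _ (bijective_map_of_le h1 h2).1

end General

theorem isAffineOpen_top_pullback :
    IsAffineOpen (⊤ : (pullback (ff A B) (ff A B)).Opens) :=
  isAffineOpen_top _

theorem top_le_coborderRange :
    (⊤ : (pullback (ff A B) (ff A B)).Opens) ≤ (pullback.diagonal (ff A B)).coborderRange := by
  intro z _
  change z ∈ coborder (Set.range (pullback.diagonal (ff A B)))
  rw [IsClosed.coborder_eq (pullback.diagonal (ff A B)).isClosedEmbedding.isClosed_range]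
  trivial

theorem top_eq (n : ℕ) : PrinPart.pr1 (ff A B) n ⁻¹ᵁ ⊤ = PrinPart.nbhdι (ff A B) n ⁻¹ᵁ ⊤ := rfl

/-- the ring homomorphism `B ⊗_A B → Γ(X^{(n)}_Δ, ⊤)` -/
noncomputable def Ψ (n : ℕ) :
    (B ⊗[A] B) →+* Γ(PrinPart.nbhd (ff A B) n, PrinPart.pr1 (ff A B) n ⁻¹ᵁ ⊤) :=
  ((PrinPart.nbhdι (ff A B) n).appLE ⊤ (PrinPart.pr1 (ff A B) n ⁻¹ᵁ ⊤) (top_eq A B n).le).hom.comp
    (e₀ A B).hom

theorem Ψ_surjective (n : ℕ) : Function.Surjective (Ψ A B n) :=
  (surjective_nbhdι_appLE n (isAffineOpen_top_pullback A B) (top_le_coborderRange A B) _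
    (top_eq A B n).le (top_eq A B n).ge).comp (e₀_bijective A B).2

theorem ker_Ψ (n : ℕ) : RingHom.ker (Ψ A B n) = KaehlerDifferential.ideal A B ^ (n + 1) := by
  unfold Ψ
  rw [← RingHom.comap_ker, ker_nbhdι_appLE n (isAffineOpen_top_pullback A B)
    (top_le_coborderRange A B) _ (top_eq A B n).le (top_eq A B n).ge]
  let ge : (B ⊗[A] B) ≃+* Γ(pullback (ff A B) (ff A B), ⊤) :=
    RingEquiv.ofBijective (e₀ A B).hom (e₀_bijective A B)
  have h6 : ∀ I : Ideal Γ(pullback (ff A B) (ff A B), ⊤),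
      Ideal.comap (e₀ A B).hom I = Ideal.map ge.symm I := by
    intro I
    exact (Ideal.map_symm (f := ge) (I := I)).symm ▸ rfl
  rw [h6, Ideal.map_pow, ← h6]
  congr 1
  ext z
  rw [Ideal.mem_comap, RingHom.mem_ker]
  change (pullback.diagonal (ff A B)).appTop ((e₀ A B).hom z) = 0 ↔ _
  rw [e₀_diag]
  have hinj : Function.Injective (Scheme.ΓSpecIso (CommRingCat.of B)).inv.hom :=
    ((ConcreteCategory.isIso_iff_bijective _).mp inferInstance).1
  change _ ↔ z ∈ RingHom.ker (Algebra.TensorProduct.lmul' A : B ⊗[A] B →ₐ[A] B)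
  rw [RingHom.mem_ker]
  constructor
  · intro h
    exact hinj (h.trans (map_zero _).symm)
  · intro h
    rw [h, map_zero]

theorem Ψ_tmul (n : ℕ) (b b' : B) :
    Ψ A B n (b ⊗ₜ[A] b') =
      p1 (ff A B) n ⊤ ((Scheme.ΓSpecIso (CommRingCat.of B)).inv b) *
        p2 (ff A B) n ⊤ ((Scheme.ΓSpecIso (CommRingCat.of B)).inv b') := by
  have h0 : b ⊗ₜ[A] b' = (b ⊗ₜ[A] (1 : B)) * ((1 : B) ⊗ₜ[A] b') := by
    rw [Algebra.TensorProduct.tmul_mul_tmul, mul_one, one_mul]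
  rw [h0, map_mul]
  congr 1
  · unfold Ψ p1
    rw [RingHom.comp_apply, e₀_fst]
    have key : (pullback.fst (ff A B) (ff A B)).appTop ≫
        (PrinPart.nbhdι (ff A B) n).appLE ⊤ (PrinPart.pr1 (ff A B) n ⁻¹ᵁ ⊤) (top_eq A B n).le =
        (PrinPart.pr1 (ff A B) n).app ⊤ := by
      unfold Scheme.Hom.appLE
      have h1 : (pullback.fst (ff A B) (ff A B)).appTop ≫ (PrinPart.nbhdι (ff A B) n).app ⊤ =
          (PrinPart.pr1 (ff A B) n).app ⊤ :=
        (Scheme.Hom.comp_app (PrinPart.nbhdι (ff A B) n) (pullback.fst (ff A B) (ff A B)) ⊤).symm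
      rw [← Category.assoc, h1]
      have h2 : (homOfLE (top_eq A B n).le).op = 𝟙 _ := Subsingleton.elim _ _
      rw [h2]
      erw [CategoryTheory.Functor.map_id, Category.comp_id]
    exact congrArg (fun φ : Γ(Spec (CommRingCat.of B), ⊤) ⟶
      Γ(PrinPart.nbhd (ff A B) n, PrinPart.pr1 (ff A B) n ⁻¹ᵁ ⊤) =>
        φ.hom ((Scheme.ΓSpecIso (CommRingCat.of B)).inv b)) key
  · unfold Ψ p2
    rw [RingHom.comp_apply, e₀_snd]
    have key : (pullback.snd (ff A B) (ff A B)).appTop ≫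
        (PrinPart.nbhdι (ff A B) n).appLE ⊤ (PrinPart.pr1 (ff A B) n ⁻¹ᵁ ⊤) (top_eq A B n).le =
        (PrinPart.pr2 (ff A B) n).appLE ⊤ (PrinPart.pr1 (ff A B) n ⁻¹ᵁ ⊤)
          (PrinPart.preimage_pr1 (ff A B) n ⊤).le := by
      unfold Scheme.Hom.appLE
      have h1 : (pullback.snd (ff A B) (ff A B)).appTop ≫ (PrinPart.nbhdι (ff A B) n).app ⊤ =
          (PrinPart.pr2 (ff A B) n).app ⊤ :=
        (Scheme.Hom.comp_app (PrinPart.nbhdι (ff A B) n) (pullback.snd (ff A B) (ff A B)) ⊤).symm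
      rw [← Category.assoc, h1]
      rfl
    exact congrArg (fun φ : Γ(Spec (CommRingCat.of B), ⊤) ⟶
      Γ(PrinPart.nbhd (ff A B) n, PrinPart.pr1 (ff A B) n ⁻¹ᵁ ⊤) =>
        φ.hom ((Scheme.ΓSpecIso (CommRingCat.of B)).inv b')) key

/-- **Principal parts of an affine morphism**: `Γ(Spec B, P^n) = (B ⊗_A B)/I^{n+1}`. -/
theorem main (n : ℕ) (ψ : (B ⊗[A] B) →+ Γ(PrinPart.P (ff A B) n, (⊤ : (Spec (CommRingCat.of B)).Opens)))
    (hψ : ∀ b b' : B, ψ (b ⊗ₜ[A] b') =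
      (Scheme.ΓSpecIso (CommRingCat.of B)).inv b •
        PrinPart.dn (ff A B) n ⊤ ((Scheme.ΓSpecIso (CommRingCat.of B)).inv b')) :
    Function.Surjective ψ ∧ ψ.ker = (KaehlerDifferential.ideal A B ^ (n + 1)).toAddSubgroup := by
  have hΘψ : ∀ z, Θ (ff A B) n ⊤ (ψ z) = Ψ A B n z := by
    intro z
    induction z using TensorProduct.induction_on with
    | zero => rw [map_zero, map_zero, map_zero]
    | tmul b b' => rw [hψ, Θ_smul, Θ_dn, Ψ_tmul]
    | add z₁ z₂ h₁ h₂ => rw [map_add, map_add, map_add, h₁, h₂]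
  have hΘ := Θ_bijective (ff A B) n ⊤
  constructor
  · intro m
    obtain ⟨z, hz⟩ := Ψ_surjective A B n (Θ (ff A B) n ⊤ m)
    exact ⟨z, hΘ.1 ((hΘψ z).trans hz)⟩
  · ext z
    rw [AddMonoidHom.mem_ker, Submodule.mem_toAddSubgroup, ← ker_Ψ, RingHom.mem_ker, ← hΘψ]
    constructor
    · intro h
      rw [h, map_zero]
    · intro h
      exact hΘ.1 (h.trans (map_zero _).symm)

end Groth.Agent.H22.PrinPartSpec
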