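import Groth.Prelude.Def_OmegaPn

/-!
# The symmetry of the infinitesimal neighbourhoods of the diagonal (helper22)
-/

set_option autoImplicit false
universe u

namespace Groth.Agent.H22.PrinPartSymm

open AlgebraicGeometry CategoryTheory CategoryTheory.Limits TopologicalSpace

variable {X S : Scheme.{u}} (f : X ⟶ S)

theorem symm_symm : (pullbackSymmetry f f).hom ≫ (pullbackSymmetry f f).hom = 𝟙 _ := by
  apply pullback.hom_ext <;> simp

theorem diag_symm : pullback.diagonal f ≫ (pullbackSymmetry f f).hom = pullback.diagonal f := by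
  apply pullback.hom_ext <;> simp

theorem preimage_range_diag :
    (pullbackSymmetry f f).hom ⁻¹' (Set.range (pullback.diagonal f)) =
      Set.range (pullback.diagonal f) := by
  ext z
  constructor
  · rintro ⟨x, hx⟩
    refine ⟨x, ?_⟩
    have h1 : (pullbackSymmetry f f).hom ((pullback.diagonal f) x) =
        (pullbackSymmetry f f).hom ((pullbackSymmetry f f).hom z) := congrArg _ hx
    rw [← Scheme.Hom.comp_apply, ← Scheme.Hom.comp_apply, diag_symm, symm_symm] at h1
    exact h1
  · rintro ⟨x, rfl⟩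
    refine ⟨x, ?_⟩
    rw [← Scheme.Hom.comp_apply, diag_symm]

theorem preimage_coborderRange :
    (pullbackSymmetry f f).hom ⁻¹ᵁ (pullback.diagonal f).coborderRange =
      (pullback.diagonal f).coborderRange := by
  apply Opens.ext
  change (pullbackSymmetry f f).hom ⁻¹' (coborder (Set.range (pullback.diagonal f))) = _
  rw [← coborder_preimage (pullbackSymmetry f f).hom.isOpenEmbedding.isOpenMap
    (pullbackSymmetry f f).hom.continuous, preimage_range_diag]
  rfl

/-- The restriction of the symmetry to the coborder open of the diagonal. -/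
noncomputable def t : ((pullback.diagonal f).coborderRange : Scheme.{u}) ⟶
    ((pullback.diagonal f).coborderRange : Scheme.{u}) :=
  IsOpenImmersion.lift (pullback.diagonal f).coborderRange.ι
    ((pullback.diagonal f).coborderRange.ι ≫ (pullbackSymmetry f f).hom) (by
      rintro _ ⟨w, rfl⟩
      rw [Scheme.Opens.range_ι]
      have hw : (pullback.diagonal f).coborderRange.ι w ∈
          (pullbackSymmetry f f).hom ⁻¹ᵁ (pullback.diagonal f).coborderRange := by
        rw [preimage_coborderRange]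
        exact w.2
      exact hw)

@[reassoc]
theorem t_ι : t f ≫ (pullback.diagonal f).coborderRange.ι =
    (pullback.diagonal f).coborderRange.ι ≫ (pullbackSymmetry f f).hom :=
  IsOpenImmersion.lift_fac _ _ _

@[reassoc]
theorem t_t : t f ≫ t f = 𝟙 _ := by
  rw [← cancel_mono (pullback.diagonal f).coborderRange.ι, Category.assoc, t_ι, t_ι_assoc,
    symm_symm, Category.comp_id, Category.id_comp]

instance : IsIso (t f) := ⟨t f, t_t f, t_t f⟩

@[reassoc]
theorem diagCl_t : PrinPart.diagCl f ≫ t f = PrinPart.diagCl f := by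
  rw [← cancel_mono (pullback.diagonal f).coborderRange.ι, Category.assoc, t_ι,
    Scheme.Hom.liftCoborder_ι_assoc, diag_symm, Scheme.Hom.liftCoborder_ι]

theorem map_ker_le (U : ((pullback.diagonal f).coborderRange : Scheme.{u}).Opens)
    (b : Γ(((pullback.diagonal f).coborderRange : Scheme.{u}), U))
    (hb : (PrinPart.diagCl f).app U b = 0) :
    (PrinPart.diagCl f).app (t f ⁻¹ᵁ U) ((t f).app U b) = 0 := by
  have h1 : (PrinPart.diagCl f ≫ t f).app U b =
      (PrinPart.diagCl f).app (t f ⁻¹ᵁ U) ((t f).app U b) := by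
    rw [Scheme.Hom.comp_app]
    rfl
  rw [← h1, Scheme.Hom.congr_app (diagCl_t f) U]
  change (X.presheaf.map _) ((PrinPart.diagCl f).app U b) = 0
  rw [hb, map_zero]

instance isClosedImmersion_infNbhdι {X Y : Scheme.{u}} (i : Y ⟶ X) (n : ℕ) :
    IsClosedImmersion (PrinPart.infNbhdι i n) := by
  unfold PrinPart.infNbhdι
  infer_instance

theorem ker_le (n : ℕ) :
    (PrinPart.infNbhdι (PrinPart.diagCl f) n).ker ≤
      (PrinPart.infNbhdι (PrinPart.diagCl f) n ≫ t f).ker := by
  unfold PrinPart.infNbhdι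
  rw [Scheme.IdealSheafData.ker_subschemeι]
  show _ ≤ Scheme.IdealSheafData.ofIdeals _
  rw [Scheme.IdealSheafData.le_ofIdeals_iff]
  intro U a ha
  rw [RingHom.mem_ker]
  have hV : IsAffineOpen (t f ⁻¹ᵁ U.1) := U.2.preimage_of_isIso (t f)
  have h1 : ((PrinPart.diagCl f).ker ^ (n + 1)).subschemeι.app (t f ⁻¹ᵁ U.1) ((t f).app U.1 a) = 0 := by
    have h2 : (t f).app U.1 a ∈ (((PrinPart.diagCl f).ker ^ (n + 1)).ideal ⟨t f ⁻¹ᵁ U.1, hV⟩) := by
      rw [Scheme.IdealSheafData.ideal_pow, Pi.pow_apply] at ha ⊢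
      have h3 : Ideal.map ((t f).app U.1).hom ((PrinPart.diagCl f).ker.ideal U) ≤
          (PrinPart.diagCl f).ker.ideal ⟨t f ⁻¹ᵁ U.1, hV⟩ := by
        rw [Ideal.map_le_iff_le_comap]
        intro b hb
        rw [Scheme.Hom.ker_apply, RingHom.mem_ker] at hb
        rw [Ideal.mem_comap, Scheme.Hom.ker_apply, RingHom.mem_ker]
        exact map_ker_le f U.1 b hb
      have h4 := Ideal.mem_map_of_mem ((t f).app U.1).hom ha
      rw [Ideal.map_pow] at h4
      exact Ideal.pow_right_mono h3 _ h4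
    have h5 := Scheme.IdealSheafData.ker_subschemeι_app ((PrinPart.diagCl f).ker ^ (n + 1))
      ⟨t f ⁻¹ᵁ U.1, hV⟩
    rw [← h5, RingHom.mem_ker] at h2
    exact h2
  rw [Scheme.Hom.comp_app]
  exact h1

set_option maxHeartbeats 1600000 in
/-- The symmetry of the `n`-th infinitesimal neighbourhood of the diagonal. -/
noncomputable def σ (n : ℕ) : PrinPart.nbhd f n ⟶ PrinPart.nbhd f n :=
  IsClosedImmersion.lift (PrinPart.infNbhdι (PrinPart.diagCl f) n)
    (PrinPart.infNbhdι (PrinPart.diagCl f) n ≫ t f) (ker_le f n)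

@[reassoc]
theorem σ_ι (n : ℕ) : σ f n ≫ PrinPart.infNbhdι (PrinPart.diagCl f) n =
    PrinPart.infNbhdι (PrinPart.diagCl f) n ≫ t f :=
  IsClosedImmersion.lift_fac _ _ _

theorem exists_symm (n : ℕ) :
    ∃ σ : PrinPart.nbhd f n ⟶ PrinPart.nbhd f n,
      σ ≫ PrinPart.nbhdι f n = PrinPart.nbhdι f n ≫ (pullbackSymmetry f f).hom ∧
      σ ≫ σ = 𝟙 (PrinPart.nbhd f n) ∧
      σ ≫ PrinPart.pr1 f n = PrinPart.pr2 f n ∧ σ ≫ PrinPart.pr2 f n = PrinPart.pr1 f n ∧
      PrinPart.toNbhd f n ≫ σ = PrinPart.toNbhd f n := by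
  have h1 : σ f n ≫ PrinPart.nbhdι f n = PrinPart.nbhdι f n ≫ (pullbackSymmetry f f).hom := by
    unfold PrinPart.nbhdι
    rw [σ_ι_assoc, t_ι, Category.assoc]
  refine ⟨σ f n, h1, ?_, ?_, ?_, ?_⟩
  · haveI : Mono (PrinPart.infNbhdι (PrinPart.diagCl f) n) := by
      unfold PrinPart.infNbhdι
      infer_instance
    rw [← cancel_mono (PrinPart.infNbhdι (PrinPart.diagCl f) n), Category.assoc, σ_ι, σ_ι_assoc,
      t_t, Category.comp_id, Category.id_comp]
  · unfold PrinPart.pr1 PrinPart.pr2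
    rw [← Category.assoc, h1, Category.assoc, pullbackSymmetry_hom_comp_fst]
  · unfold PrinPart.pr1 PrinPart.pr2
    rw [← Category.assoc, h1, Category.assoc, pullbackSymmetry_hom_comp_snd]
  · haveI : Mono (PrinPart.infNbhdι (PrinPart.diagCl f) n) := by
      unfold PrinPart.infNbhdι
      infer_instance
    rw [← cancel_mono (PrinPart.infNbhdι (PrinPart.diagCl f) n), Category.assoc, σ_ι,
      PrinPart.toInfNbhd_ι_assoc, diagCl_t, PrinPart.toInfNbhd_ι]

end Groth.Agent.H22.PrinPartSymm
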