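import Groth.Agent.H18.ProjMap

set_option autoImplicit false
universe u

open AlgebraicGeometry HomogeneousLocalization CategoryTheory

namespace Groth.Agent.H22

section

variable {R A : Type u} [CommRing R] [CommRing A] [Algebra R A]
variable {𝒜 : ℕ → Submodule R A} [GradedAlgebra 𝒜]
variable {B : Type u} [CommRing B] [Algebra R B] {ℬ : ℕ → Submodule R B} [GradedAlgebra ℬ]

/-- `x / f^n = (x * f) / f^(n+1)` in the degree-zero localization. -/
theorem away_mk_eq_mk_succ {d : ℕ} {f : A} (hf : f ∈ 𝒜 d) (n : ℕ) (x : A) (hx : x ∈ 𝒜 (n • d))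
    (hx' : x * f ∈ 𝒜 ((n + 1) • d)) :
    Away.mk 𝒜 hf n x hx = Away.mk 𝒜 hf (n + 1) (x * f) hx' := by
  apply HomogeneousLocalization.val_injective
  rw [Away.val_mk, Away.val_mk, Localization.mk_eq_mk_iff, Localization.r_iff_exists]
  refine ⟨1, ?_⟩
  simp only [OneMemClass.coe_one, one_mul]
  ring

theorem mul_mem_succ_smul {d : ℕ} {f : A} (hf : f ∈ 𝒜 d) (n : ℕ) (x : A) (hx : x ∈ 𝒜 (n • d)) :
    x * f ∈ 𝒜 ((n + 1) • d) := by
  have := SetLike.mul_mem_graded hx hf
  rwa [show n • d + d = (n + 1) • d by simp [add_mul]] at this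

/-- A graded ring homomorphism that is bijective in positive degrees induces bijections on
degree-zero localizations at homogeneous elements of positive degree. -/
theorem awayMap_bijective_of_bijOn (φ : 𝒜 →+*ᵍ ℬ)
    (hbij : ∀ n : ℕ, 0 < n → Set.BijOn φ (𝒜 n) (ℬ n))
    {d : ℕ} (hd : 0 < d) {s : A} (hs : s ∈ 𝒜 d) : Function.Bijective (Away.map φ s) := by
  constructor
  · rw [injective_iff_map_eq_zero]
    intro x hx
    obtain ⟨n, b, hb, rfl⟩ := Away.mk_surjective 𝒜 hs x
    rw [Away.map_mk] at hx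
    have hx' := congrArg HomogeneousLocalization.val hx
    rw [Away.val_mk, HomogeneousLocalization.val_zero, Localization.mk_eq_mk',
      IsLocalization.mk'_eq_zero_iff] at hx'
    obtain ⟨⟨_, k, rfl⟩, hk⟩ := hx'
    dsimp only at hk
    -- `φ (s ^ (k+1) * b) = 0` with `s^(k+1) * b` of positive degree
    have hdeg : s ^ (k + 1) * b ∈ 𝒜 ((k + 1) • d + n • d) :=
      SetLike.mul_mem_graded (SetLike.pow_mem_graded _ hs) hb
    have hpos : 0 < (k + 1) • d + n • d := by
      have : 0 < (k + 1) * d := Nat.mul_pos (Nat.succ_pos k) hd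
      simp only [smul_eq_mul]
      omega
    have hzero : φ (s ^ (k + 1) * b) = φ 0 := by
      rw [map_zero, map_mul, map_pow, pow_succ', mul_assoc, hk, mul_zero]
    have h0 := (hbij _ hpos).injOn hdeg (zero_mem _) hzero
    apply HomogeneousLocalization.val_injective
    rw [Away.val_mk, HomogeneousLocalization.val_zero, Localization.mk_eq_mk',
      IsLocalization.mk'_eq_zero_iff]
    exact ⟨⟨s ^ (k + 1), k + 1, rfl⟩, h0⟩
  · intro x
    obtain ⟨n, a, ha, rfl⟩ := Away.mk_surjective ℬ (Graded.map_mem φ hs) x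
    have ha' := mul_mem_succ_smul (Graded.map_mem φ hs) n a ha
    have hpos : 0 < (n + 1) • d := Nat.mul_pos (Nat.succ_pos n) hd
    obtain ⟨b, hb, hba⟩ := (hbij _ hpos).surjOn ha'
    refine ⟨Away.mk 𝒜 hs (n + 1) b hb, ?_⟩
    rw [Away.map_mk, away_mk_eq_mk_succ (Graded.map_mem φ hs) n a ha ha']
    congr 1

end

end Groth.Agent.H22
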