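import Mathlib

/-!
# Field-valued points and residue fields
-/

set_option autoImplicit false
universe u
open CategoryTheory CategoryTheory.Limits AlgebraicGeometry IsLocalRing

namespace Groth.Agent.H22.ResField

/-- If the residue field map of `σ ≫ h` is surjective, so is that of `σ`. -/
theorem surjective_desc_of_comp {P X : Scheme.{u}} {K : Type u} [Field K]
    (σ : Spec (.of K) ⟶ P) (h : P ⟶ X)
    (hs : Function.Surjective (X.descResidueField (Scheme.stalkClosedPointTo (σ ≫ h))).hom) :
    Function.Surjective (P.descResidueField (Scheme.stalkClosedPointTo σ)).hom := by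
  have hcomp := Scheme.descResidueField_stalkClosedPointTo_comp h σ
  intro c
  obtain ⟨b, hb⟩ := hs c
  refine ⟨h.residueFieldMap _ b, ?_⟩
  have h3 := congrArg (fun ψ => ψ.hom b) hcomp
  rw [← hb]
  exact h3.symm

/-- The residue field at the image of `Spec K ⟶ Spec R`, for `K` a fraction field of `R`, is
`K`. -/
theorem bijective_desc_of_isFractionRing {R K : Type u} [CommRing R] [Field K] [Algebra R K]
    [IsFractionRing R K] :
    Function.Bijective ((Spec (.of R)).descResidueField (Scheme.stalkClosedPointTo
      (Spec.map (CommRingCat.ofHom (algebraMap R K))))).hom := by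
  refine ⟨RingHom.injective _, ?_⟩
  set c : Spec (.of K) ⟶ Spec (.of R) := Spec.map (CommRingCat.ofHom (algebraMap R K)) with hc
  have h1 : (Spec (.of R)).residue _ ≫ (Spec (.of R)).descResidueField
      (Scheme.stalkClosedPointTo c) = Scheme.stalkClosedPointTo c :=
    Scheme.residue_descResidueField _
  have hgerm : ∀ r : R, (Scheme.stalkClosedPointTo c).hom
      ((Spec (.of R)).presheaf.germ ⊤ _ trivial ((Scheme.ΓSpecIso (.of R)).inv r)) =
        algebraMap R K r := by
    intro r
    have h2 := Scheme.germ_stalkClosedPointTo_Spec (CommRingCat.ofHom (algebraMap R K))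
    have h3 := congrArg (fun ψ => ψ.hom ((Scheme.ΓSpecIso (.of R)).inv r)) h2
    simp only [CommRingCat.hom_comp, RingHom.comp_apply] at h3
    rw [h3]
    have : (Scheme.ΓSpecIso (.of R)).hom ((Scheme.ΓSpecIso (.of R)).inv r) = r := by
      rw [← CommRingCat.comp_apply, Iso.inv_hom_id]; rfl
    change algebraMap R K ((Scheme.ΓSpecIso (.of R)).hom ((Scheme.ΓSpecIso (.of R)).inv r)) = _
    rw [this]
  have hsurj : Function.Surjective (Scheme.stalkClosedPointTo c).hom := by
    intro k
    obtain ⟨r, s, hs, rfl⟩ := IsFractionRing.div_surjective (A := R) k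
    have hnt : Nontrivial R := (algebraMap R K).domain_nontrivial
    have hs0 : algebraMap R K s ≠ 0 :=
      IsFractionRing.to_map_ne_zero_of_mem_nonZeroDivisors hs
    set gs := (Spec (.of R)).presheaf.germ ⊤ (c (closedPoint K)) trivial
      ((Scheme.ΓSpecIso (.of R)).inv s)
    set gr := (Spec (.of R)).presheaf.germ ⊤ (c (closedPoint K)) trivial
      ((Scheme.ΓSpecIso (.of R)).inv r)
    have hu : IsUnit gs := by
      apply (Scheme.isLocalHom_stalkClosedPointTo c).map_nonunit
      rw [hgerm s]
      exact isUnit_iff_ne_zero.mpr hs0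
    obtain ⟨v, hv⟩ := isUnit_iff_exists_inv.mp hu
    refine ⟨gr * v, ?_⟩
    rw [map_mul, hgerm r]
    have h4 : (Scheme.stalkClosedPointTo c).hom v * algebraMap R K s = 1 := by
      rw [← hgerm s, ← map_mul, mul_comm, hv, map_one]
    rw [div_eq_mul_inv]
    congr 1
    exact eq_inv_of_mul_eq_one_left h4
  intro k
  obtain ⟨b, hb⟩ := hsurj k
  refine ⟨(Spec (.of R)).residue _ b, ?_⟩
  have h3 := congrArg (fun ψ => ψ.hom b) h1
  rw [← hb]
  exact h3

/-- Two field-valued points at the same point `x` which agree after composing with `h` are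
equal, if the residue field map of `h` at `x` is surjective. -/
theorem eq_of_comp_eq {P Q : Scheme.{u}} {K : Type u} [Field K] (h : P ⟶ Q)
    (m σ : Spec (.of K) ⟶ P) (x : P) (hm : m (closedPoint K) = x) (hσ : σ (closedPoint K) = x)
    (hsurj : Function.Surjective (h.residueFieldMap x).hom) (hcomp : m ≫ h = σ ≫ h) : m = σ := by
  obtain ⟨⟨x₁, α⟩, rfl⟩ := (Scheme.SpecToEquivOfField K P).symm.surjective m
  obtain ⟨⟨x₂, β⟩, rfl⟩ := (Scheme.SpecToEquivOfField K P).symm.surjective σ
  simp only [Scheme.SpecToEquivOfField_symm_apply, Scheme.Hom.comp_apply,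
    Scheme.fromSpecResidueField_apply] at hm hσ
  subst hm
  subst hσ
  simp only [Scheme.SpecToEquivOfField_symm_apply] at hcomp ⊢
  rw [Category.assoc, Category.assoc, ← Scheme.Hom.SpecMap_residueFieldMap_fromSpecResidueField,
    ← Category.assoc, ← Category.assoc, ← Spec.map_comp, ← Spec.map_comp,
    cancel_mono, Spec.map_inj] at hcomp
  have hepi : Epi (h.residueFieldMap _) :=
    ConcreteCategory.epi_of_surjective _ hsurj
  rw [cancel_epi] at hcomp
  rw [hcomp]

end Groth.Agent.H22.ResField
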