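import Groth.Agent.H22.CompLift
import Groth.Agent.H22.ResField

/-!
# Properness at a point of a closed subset (EGA IV 15.7): sections of base changes to DVRs
-/

set_option autoImplicit false
universe u
open CategoryTheory CategoryTheory.Limits AlgebraicGeometry IsLocalRing

namespace Groth.Agent.H22.PropAtPt

open Groth.Agent.H22.CompLift Groth.Agent.H22.CompProper Groth.Agent.H22.ResField

lemma SpecMap_closedPoint_eq_genericPoint {R K : Type u} [CommRing R] [IsDomain R] [Field K]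
    [Algebra R K] [IsFractionRing R K] :
    Spec.map (CommRingCat.ofHom (algebraMap R K)) (closedPoint K) =
      genericPoint (Spec (.of R)) := by
  rw [genericPoint_eq_bot_of_affine]
  apply PrimeSpectrum.ext
  change Ideal.comap (algebraMap R K) (maximalIdeal K) = ⊥
  rw [IsLocalRing.maximalIdeal_eq_bot]
  exact Ideal.comap_bot_of_injective _ (IsFractionRing.injective R K)

/-- Sections through rational points of the generic fibre, from valuative lifting. -/
theorem exists_section_of_liftsOver {X Y : Scheme.{u}} (f : X ⟶ Y) (C : Set X) (U : Y.Opens)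
    (h : LiftsOver f C U) (A' : Type u) [CommRing A'] [IsDomain A'] [IsDiscreteValuationRing A']
    (g : Spec (.of A') ⟶ Y) (hg : g (closedPoint A') ∈ U) (x' : ↥(pullback f g))
    (hx' : pullback.fst f g x' ∈ C)
    (hsnd : pullback.snd f g x' = genericPoint (Spec (.of A')))
    (hbij : Function.Bijective ((pullback.snd f g).residueFieldMap x').hom) :
    ∃ s : Spec (.of A') ⟶ pullback f g, s ≫ pullback.snd f g = 𝟙 _ ∧ x' ∈ Set.range s := by
  set K := FractionRing A' with hK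
  set c : Spec (.of K) ⟶ Spec (.of A') := Spec.map (CommRingCat.ofHom (algebraMap A' K)) with hc
  have hcpt : c (closedPoint K) = genericPoint (Spec (.of A')) :=
    SpecMap_closedPoint_eq_genericPoint
  have heq : pullback.snd f g x' = c (closedPoint K) := hsnd.trans hcpt.symm
  have hiso : IsIso ((pullback.snd f g).residueFieldMap x') :=
    (ConcreteCategory.isIso_iff_bijective _).mpr hbij
  let θc : (Spec (.of A')).residueField (c (closedPoint K)) ⟶ .of K :=
    (Spec (.of A')).descResidueField (Scheme.stalkClosedPointTo c)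
  have hθc : Spec.map θc ≫ (Spec (.of A')).fromSpecResidueField (c (closedPoint K)) = c :=
    Scheme.descResidueField_stalkClosedPointTo_fromSpecResidueField K _ c
  let φ : (pullback f g).residueField x' ⟶ .of K :=
    inv ((pullback.snd f g).residueFieldMap x') ≫
      ((Spec (.of A')).residueFieldCongr heq).hom ≫ θc
  let a₀ : Spec (.of K) ⟶ pullback f g := Spec.map φ ≫ (pullback f g).fromSpecResidueField x'
  have ha₀snd : a₀ ≫ pullback.snd f g = c := by
    calc a₀ ≫ pullback.snd f g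
        = Spec.map φ ≫ Spec.map ((pullback.snd f g).residueFieldMap x') ≫
            (Spec (.of A')).fromSpecResidueField (pullback.snd f g x') := by
          rw [Category.assoc, Scheme.Hom.SpecMap_residueFieldMap_fromSpecResidueField]
      _ = Spec.map (((Spec (.of A')).residueFieldCongr heq).hom ≫ θc) ≫
            (Spec (.of A')).fromSpecResidueField (pullback.snd f g x') := by
          rw [← Category.assoc, ← Spec.map_comp]
          congr 2
          simp only [φ, IsIso.hom_inv_id_assoc]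
      _ = Spec.map θc ≫ (Spec (.of A')).fromSpecResidueField (c (closedPoint K)) := by
          rw [Spec.map_comp, Category.assoc, Scheme.residueFieldCongr_fromSpecResidueField]
      _ = c := hθc
  have ha₀pt : a₀ (closedPoint K) = x' := by
    simp only [a₀, Scheme.Hom.comp_apply, Scheme.fromSpecResidueField_apply]
  have w : (a₀ ≫ pullback.fst f g) ≫ f = c ≫ g := by
    rw [Category.assoc, pullback.condition, ← Category.assoc, ha₀snd]
  obtain ⟨l, hl1, hl2, -⟩ := h A' K (a₀ ≫ pullback.fst f g) g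
    (by rw [Scheme.Hom.comp_apply, ha₀pt]; exact hx') w hg
  let s : Spec (.of A') ⟶ pullback f g := pullback.lift l (𝟙 _) (by rw [hl1, Category.id_comp])
  have hs : c ≫ s = a₀ := by
    apply pullback.hom_ext
    · rw [Category.assoc, pullback.lift_fst, hl2]
    · rw [Category.assoc, pullback.lift_snd, Category.comp_id, ha₀snd]
  refine ⟨s, pullback.lift_snd _ _ _, c (closedPoint K), ?_⟩
  rw [← Scheme.Hom.comp_apply, hs, ha₀pt]

/-- The lifting hypothesis at `η` from sections through rational points of generic fibres. -/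
theorem liftHyp_of_sections {X Y : Scheme.{u}} (f : X ⟶ Y) (η : X) (y : Y)
    (H : ∀ (A' : Type u) [CommRing A'] [IsDomain A'] [IsDiscreteValuationRing A']
      (g : Spec (CommRingCat.of A') ⟶ Y), g (closedPoint A') = y →
      ∀ x' : ↥(pullback f g), pullback.fst f g x' = η →
        pullback.snd f g x' = genericPoint (Spec (CommRingCat.of A')) →
        Function.Bijective ((pullback.snd f g).residueFieldMap x').hom →
        ∃ s : Spec (CommRingCat.of A') ⟶ pullback f g,
          s ≫ pullback.snd f g = 𝟙 _ ∧ x' ∈ Set.range s) :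
    LiftHyp f η y := by
  intro K _ R hR a t ha hbij w ht
  let σ : Spec (.of K) ⟶ pullback f t := pullback.lift a (Spec.map (CommRingCat.ofHom R.subtype)) w
  have hσ1 : σ ≫ pullback.fst f t = a := pullback.lift_fst _ _ _
  have hσ2 : σ ≫ pullback.snd f t = Spec.map (CommRingCat.ofHom R.subtype) :=
    pullback.lift_snd _ _ _
  have hfst : pullback.fst f t (σ (closedPoint K)) = η := by
    rw [← Scheme.Hom.comp_apply, hσ1]; exact ha
  have hsnd : pullback.snd f t (σ (closedPoint K)) = genericPoint (Spec (.of R)) := by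
    rw [← Scheme.Hom.comp_apply, hσ2]
    exact SpecMap_closedPoint_eq_genericPoint (R := R) (K := K)
  have hθσ : Function.Bijective
      ((pullback f t).descResidueField (Scheme.stalkClosedPointTo σ)).hom := by
    refine ⟨RingHom.injective _, surjective_desc_of_comp σ (pullback.fst f t) ?_⟩
    rw [hσ1]; exact hbij.2
  have hθc : Function.Bijective ((Spec (.of R)).descResidueField
      (Scheme.stalkClosedPointTo (σ ≫ pullback.snd f t))).hom := by
    rw [hσ2]
    exact bijective_desc_of_isFractionRing (R := R) (K := K)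
  have hrfm : Function.Bijective
      ((pullback.snd f t).residueFieldMap (σ (closedPoint K))).hom := by
    have hcomp := Scheme.descResidueField_stalkClosedPointTo_comp (pullback.snd f t) σ
    refine ⟨RingHom.injective _, fun c => ?_⟩
    obtain ⟨b, hb⟩ := hθc.2 (((pullback f t).descResidueField (Scheme.stalkClosedPointTo σ)).hom c)
    refine ⟨b, hθσ.1 ?_⟩
    have h3 := congrArg (fun ψ => ψ.hom b) hcomp
    rw [← hb]
    exact h3.symm
  obtain ⟨s, hs1, p₀, hp₀⟩ := H R t ht (σ (closedPoint K)) hfst hsnd hrfm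
  have hp₀' : p₀ = Spec.map (CommRingCat.ofHom R.subtype) (closedPoint K) := by
    have h1 : (s ≫ pullback.snd f t) p₀ = p₀ := by rw [hs1]; rfl
    rw [Scheme.Hom.comp_apply, hp₀, hsnd] at h1
    rw [← h1]
    exact (SpecMap_closedPoint_eq_genericPoint (R := R) (K := K)).symm
  have hm : Spec.map (CommRingCat.ofHom R.subtype) ≫ s = σ := by
    apply eq_of_comp_eq (pullback.snd f t) _ σ (σ (closedPoint K)) ?_ rfl hrfm.2 ?_
    · rw [Scheme.Hom.comp_apply, ← hp₀', hp₀]
    · rw [Category.assoc, hs1, Category.comp_id, hσ2]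
  refine ⟨s ≫ pullback.fst f t, ?_, ?_⟩
  · rw [Category.assoc, pullback.condition, ← Category.assoc, hs1, Category.id_comp]
  · rw [← Category.assoc, hm, hσ1]

section closedPart

variable {X Y : Scheme.{u}} [IsLocallyNoetherian X] (f : X ⟶ Y) (U : Y.Opens) (C : Set X)
  {Q : Scheme.{u}} (q : Q ⟶ (f ⁻¹ᵁ U).toScheme) [IsClosedImmersion q] [IsReduced Q]
  (hq : Set.range q = (f ⁻¹ᵁ U).ι ⁻¹' C)

include hq

/-- If valuative squares over `U` with generic point in `C` lift inside `C`, the reduced induced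
structure on `C ∩ f ⁻¹ U` is universally closed over `U`. -/
theorem universallyClosed_of_liftsOver [QuasiCompact f] (h : LiftsOver f C U) :
    UniversallyClosed (q ≫ (f ∣_ U)) := by
  apply UniversallyClosed.of_valuativeCriterion
  intro sq
  have w : (sq.i₁ ≫ q ≫ (f ⁻¹ᵁ U).ι) ≫ f =
      Spec.map (CommRingCat.ofHom (algebraMap sq.R sq.K)) ≫ sq.i₂ ≫ U.ι := by
    calc (sq.i₁ ≫ q ≫ (f ⁻¹ᵁ U).ι) ≫ f
        = sq.i₁ ≫ q ≫ ((f ⁻¹ᵁ U).ι ≫ f) := by simp only [Category.assoc]
      _ = sq.i₁ ≫ q ≫ (f ∣_ U ≫ U.ι) := by rw [morphismRestrict_ι]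
      _ = (sq.i₁ ≫ (q ≫ f ∣_ U)) ≫ U.ι := by simp only [Category.assoc]
      _ = (Spec.map (CommRingCat.ofHom (algebraMap sq.R sq.K)) ≫ sq.i₂) ≫ U.ι := by
          rw [sq.commSq.w]
      _ = _ := by rw [Category.assoc]
  have hpt : (sq.i₁ ≫ q ≫ (f ⁻¹ᵁ U).ι) (closedPoint sq.K) ∈ C := by
    rw [Scheme.Hom.comp_apply, Scheme.Hom.comp_apply]
    have : q (sq.i₁ (closedPoint sq.K)) ∈ Set.range q := ⟨_, rfl⟩
    rw [hq] at this
    exact this
  obtain ⟨l, h1, h2, h3⟩ := h sq.R sq.K (sq.i₁ ≫ q ≫ (f ⁻¹ᵁ U).ι) (sq.i₂ ≫ U.ι) hpt w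
    (by rw [Scheme.Hom.comp_apply]; exact (sq.i₂ _).2)
  have hl : Set.range l ⊆ Set.range (f ⁻¹ᵁ U).ι := by
    rintro _ ⟨p, rfl⟩
    rw [Scheme.Opens.range_ι]
    change f (l p) ∈ U
    rw [← Scheme.Hom.comp_apply, h1, Scheme.Hom.comp_apply]
    exact (sq.i₂ p).2
  let l₁ := IsOpenImmersion.lift (f ⁻¹ᵁ U).ι l hl
  have hl₁ : l₁ ≫ (f ⁻¹ᵁ U).ι = l := IsOpenImmersion.lift_fac _ _ _
  have hl₁r : Set.range l₁ ⊆ Set.range q := by
    rintro _ ⟨p, rfl⟩
    rw [hq]
    change (f ⁻¹ᵁ U).ι (l₁ p) ∈ C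
    rw [← Scheme.Hom.comp_apply, hl₁]
    exact h3 ⟨p, rfl⟩
  obtain ⟨l₂, hl₂⟩ := exists_lift_of_isReduced' l₁ q hl₁r
  refine ⟨⟨l₂, ?_, ?_⟩⟩
  · rw [← cancel_mono q, ← cancel_mono (f ⁻¹ᵁ U).ι]
    calc (Spec.map (CommRingCat.ofHom (algebraMap sq.R sq.K)) ≫ l₂ ≫ q) ≫ (f ⁻¹ᵁ U).ι
        = Spec.map (CommRingCat.ofHom (algebraMap sq.R sq.K)) ≫ (l₂ ≫ q) ≫ (f ⁻¹ᵁ U).ι := by
          simp only [Category.assoc]
      _ = sq.i₁ ≫ q ≫ (f ⁻¹ᵁ U).ι := by rw [hl₂, hl₁, h2]
      _ = _ := by simp only [Category.assoc]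
  · rw [← cancel_mono U.ι]
    calc (l₂ ≫ q ≫ f ∣_ U) ≫ U.ι = (l₂ ≫ q) ≫ (f ∣_ U ≫ U.ι) := by simp only [Category.assoc]
      _ = l₁ ≫ ((f ⁻¹ᵁ U).ι ≫ f) := by rw [hl₂, morphismRestrict_ι]
      _ = sq.i₂ ≫ U.ι := by rw [← Category.assoc, hl₁, h1]

omit [IsLocallyNoetherian X] in
/-- Conversely. -/
theorem liftsOver_of_universallyClosed [UniversallyClosed (q ≫ (f ∣_ U))] :
    LiftsOver f C U := by
  intro R _ _ _ K _ _ _ a t ha w ht
  have htr : Set.range t ⊆ Set.range U.ι := by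
    rintro _ ⟨p, rfl⟩
    rw [Scheme.Opens.range_ι]
    exact ((IsLocalRing.specializes_closedPoint p).map t.continuous).mem_open U.isOpen ht
  let t' : Spec (.of R) ⟶ U := IsOpenImmersion.lift U.ι t htr
  have ht' : t' ≫ U.ι = t := IsOpenImmersion.lift_fac _ _ _
  have har : Set.range a ⊆ Set.range (f ⁻¹ᵁ U).ι := by
    rintro _ ⟨p, rfl⟩
    rw [Scheme.Opens.range_ι]
    change f (a p) ∈ U
    rw [← Scheme.Hom.comp_apply, w, Scheme.Hom.comp_apply]
    have := htr (Set.mem_range_self (f := t)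
      (Spec.map (CommRingCat.ofHom (algebraMap R K)) p))
    rwa [Scheme.Opens.range_ι] at this
  let a₁ : Spec (.of K) ⟶ (f ⁻¹ᵁ U).toScheme := IsOpenImmersion.lift (f ⁻¹ᵁ U).ι a har
  have ha₁ : a₁ ≫ (f ⁻¹ᵁ U).ι = a := IsOpenImmersion.lift_fac _ _ _
  have ha₁r : Set.range a₁ ⊆ Set.range q := by
    rintro _ ⟨p, rfl⟩
    rw [hq]
    change (f ⁻¹ᵁ U).ι (a₁ p) ∈ C
    rw [← Scheme.Hom.comp_apply, ha₁, Subsingleton.elim p (closedPoint K)]
    exact ha
  obtain ⟨a₂, ha₂⟩ := exists_lift_of_isReduced' a₁ q ha₁r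
  have hsq : CommSq a₂ (Spec.map (CommRingCat.ofHom (algebraMap R K))) (q ≫ f ∣_ U) t' := by
    constructor
    rw [← cancel_mono U.ι]
    calc (a₂ ≫ q ≫ f ∣_ U) ≫ U.ι = (a₂ ≫ q) ≫ (f ∣_ U ≫ U.ι) := by simp only [Category.assoc]
      _ = a₁ ≫ ((f ⁻¹ᵁ U).ι ≫ f) := by rw [ha₂, morphismRestrict_ι]
      _ = Spec.map (CommRingCat.ofHom (algebraMap R K)) ≫ t := by rw [← Category.assoc, ha₁, w]
      _ = (Spec.map (CommRingCat.ofHom (algebraMap R K)) ≫ t') ≫ U.ι := by
          rw [Category.assoc, ht']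
  have hex : ValuativeCriterion.Existence (q ≫ f ∣_ U) := by
    have : (ValuativeCriterion.Existence ⊓ @QuasiCompact) (q ≫ f ∣_ U) := by
      rw [← UniversallyClosed.eq_valuativeCriterion]; infer_instance
    exact this.1
  let sq : ValuativeCommSq (q ≫ f ∣_ U) := ⟨R, K, a₂, t', hsq⟩
  obtain ⟨⟨l, h1, h2⟩⟩ := hex sq
  have h1' : Spec.map (CommRingCat.ofHom (algebraMap R K)) ≫ l = a₂ := h1
  have h2' : l ≫ q ≫ f ∣_ U = t' := h2
  refine ⟨l ≫ q ≫ (f ⁻¹ᵁ U).ι, ?_, ?_, ?_⟩
  · calc (l ≫ q ≫ (f ⁻¹ᵁ U).ι) ≫ f = l ≫ q ≫ ((f ⁻¹ᵁ U).ι ≫ f) := by simp only [Category.assoc]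
      _ = (l ≫ q ≫ f ∣_ U) ≫ U.ι := by rw [← morphismRestrict_ι]; simp only [Category.assoc]
      _ = t := by rw [h2', ht']
  · rw [← Category.assoc, h1', ← Category.assoc, ha₂, ha₁]
  · rintro _ ⟨p, rfl⟩
    have : q (l p) ∈ Set.range q := ⟨_, rfl⟩
    rw [hq] at this
    exact this

end closedPart

end Groth.Agent.H22.PropAtPt
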