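import Mathlib
import Groth.Agent.H11.MiracleSch
import Groth.Agent.H57.HBReg
import Groth.Agent.H22.GenDeg
import Groth.Agent.H22.NNDim

/-!
# A morphism of regular integral schemes of the same dimension is flat on its quasi-finite locus
(helper22; for S14042)
-/

set_option autoImplicit false
set_option linter.unusedSectionVars false
set_option linter.style.haveILetI false
universe u

open AlgebraicGeometry CategoryTheory CategoryTheory.Limits TopologicalSpace

namespace Groth.Agent.H22.QFFlat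

variable (k : Type u) [Field k] {X Y : Scheme.{u}}
    [X.Over (Spec (CommRingCat.of k))] [Y.Over (Spec (CommRingCat.of k))]
    [LocallyOfFiniteType (X ↘ Spec (CommRingCat.of k))]
    [QuasiCompact (X ↘ Spec (CommRingCat.of k))]
    [LocallyOfFiniteType (Y ↘ Spec (CommRingCat.of k))]
    [QuasiCompact (Y ↘ Spec (CommRingCat.of k))]
    [IsIntegral X] [IsIntegral Y] (f : X ⟶ Y)
    (hf : f ≫ (Y ↘ Spec (CommRingCat.of k)) = X ↘ Spec (CommRingCat.of k))
    (hdim : topologicalKrullDim ↥X = topologicalKrullDim ↥Y)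
    (hX : ∀ x : X, IsRegularLocalRing (X.presheaf.stalk x))
    (hY : ∀ y : Y, IsRegularLocalRing (Y.presheaf.stalk y))

include hf hdim hX hY in
/-- `f` is flat on any open inside its quasi-finite locus. -/
theorem flat_ι_comp [LocallyOfFiniteType f] (W : X.Opens) (hWQ : W ≤ f.quasiFiniteLocus) :
    Flat (W.ι ≫ f) := by
  let qY := Y ↘ Spec (CommRingCat.of k)
  let qX := X ↘ Spec (CommRingCat.of k)
  haveI : IsLocallyNoetherian X := LocallyOfFiniteType.isLocallyNoetherian qX
  haveI : CompactSpace X := QuasiCompact.compactSpace_of_compactSpace qX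
  haveI : IsNoetherian X := {}
  haveI : LocallyOfFiniteType ((W.ι ≫ f) ≫ qY) := by
    rw [Category.assoc, hf]; infer_instance
  have hdX := GenDeg.topologicalKrullDim_eq_delta_genericPoint qX
  set n : ℕ := (Groth.Agent.H48.FieldDim.δ qX (genericPoint X)).toNat with hn
  have hdY : topologicalKrullDim ↥Y = ((n : ℕ∞) : WithBot ℕ∞) := by rw [← hdim, hdX]
  haveI : LocallyQuasiFinite (W.ι ≫ f) := by
    rw [← Scheme.Hom.quasiFiniteLocus_eq_top_iff, Scheme.Hom.quasiFiniteLocus_comp]
    exact top_le_iff.mp fun x _ => hWQ x.2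
  refine Groth.Agent.H11.MiracleSch.flat_of_equidim k qY (W.ι ≫ f) hY ?_ n n le_rfl ?_ ?_ ?_
  · intro x
    haveI := hX x.1
    haveI : IsRegularLocalRing ((W : Scheme.{u}).presheaf.stalk x) :=
      IsRegularLocalRing.of_ringEquiv (W.stalkIso x).commRingCatIsoToRingEquiv.symm
    exact Groth.Agent.H57.HBReg.isCM _
  · intro Z hZ
    obtain ⟨z, hz⟩ := hZ.1.1
    haveI : Nonempty ↥(W : Scheme.{u}) := ⟨z⟩
    haveI : IsIntegral (W : Scheme.{u}) := isIntegral_of_isOpenImmersion W.ι
    haveI : IrreducibleSpace ↥(W : Scheme.{u}) := irreducibleSpace_of_isIntegral _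
    rw [irreducibleComponents_eq_singleton] at hZ
    rw [Set.mem_singleton_iff.mp hZ]
    have h1 : topologicalKrullDim ↥(Set.univ : Set ↥(W : Scheme.{u})) =
        topologicalKrullDim ↥(W : Scheme.{u}) :=
      (Homeomorph.Set.univ _).isHomeomorph.topologicalKrullDim_eq
    have hdense : Dense (W : Set X) :=
      (W.isOpen.dense (⟨z.1, z.2⟩ : (W : Set X).Nonempty))
    have h2 := NNDim.topologicalKrullDim_dense_open qX W hdense
    rw [h1]
    exact h2.trans hdX
  · intro Z hZ
    haveI : IrreducibleSpace ↥Y := irreducibleSpace_of_isIntegral _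
    rw [irreducibleComponents_eq_singleton] at hZ
    rw [Set.mem_singleton_iff.mp hZ]
    have h1 : topologicalKrullDim ↥(Set.univ : Set ↥Y) = topologicalKrullDim ↥Y :=
      (Homeomorph.Set.univ _).isHomeomorph.topologicalKrullDim_eq
    rw [h1, hdY]
    rfl
  · intro y Z hZ
    have hdisc : _root_.IsDiscrete ((W.ι ≫ f) ⁻¹' {y}) :=
      (locallyQuasiFinite_iff_isDiscrete_preimage_singleton.mp inferInstance) y
    haveI : DiscreteTopology ↥((W.ι ≫ f) ⁻¹' {y}) := isDiscrete_iff_discreteTopology.mp hdisc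
    obtain ⟨z, hz⟩ := hZ.1.1
    haveI : Nonempty ↥Z := ⟨⟨z, hz⟩⟩
    rw [Nat.sub_self]
    exact le_antisymm (topologicalKrullDim_zero_of_discreteTopology _)
      (by
        haveI : Nonempty (IrreducibleCloseds ↥Z) :=
          ⟨⟨closure {⟨z, hz⟩}, isIrreducible_singleton.closure, isClosed_closure⟩⟩
        exact_mod_cast (Order.krullDim_nonneg (α := IrreducibleCloseds ↥Z)))

include hf hdim hX hY in
/-- Ring-level flatness on affine opens inside the quasi-finite locus. -/
theorem flat_appLE [LocallyOfFiniteType f] {V : Y.Opens} (hV : IsAffineOpen V) {W : X.Opens}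
    (hW : IsAffineOpen W) (hWQ : W ≤ f.quasiFiniteLocus) (e : W ≤ f ⁻¹ᵁ V) :
    (f.appLE V W e).hom.Flat := by
  haveI : Flat (W.ι ≫ f) := flat_ι_comp k f hf hdim hX hY W hWQ
  haveI : IsAffine (W : Scheme.{u}) := hW
  have e' : (⊤ : (W : Scheme.{u}).Opens) ≤ (W.ι ≫ f) ⁻¹ᵁ V := by
    intro x _
    exact e x.2
  have h1 : ((W.ι ≫ f).appLE V ⊤ e').hom.Flat :=
    Scheme.Hom.flat_appLE (W.ι ≫ f) hV (isAffineOpen_top _) e'
  have e₂ : (⊤ : (W : Scheme.{u}).Opens) ≤ W.ι ⁻¹ᵁ W := by
    intro x _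
    exact x.2
  have h2 : f.appLE V W e ≫ W.ι.appLE W ⊤ e₂ = (W.ι ≫ f).appLE V ⊤ e' :=
    Scheme.Hom.appLE_comp_appLE _ _ _ _ _ _ _
  haveI : IsIso (W.ι.appLE W ⊤ e₂) := by
    rw [Scheme.Opens.ι_appLE]
    have heq : W.ι ''ᵁ ⊤ = W := W.ι_image_top
    have hle : W.ι ''ᵁ ⊤ ≤ W := heq.le
    haveI h3 : IsIso (homOfLE hle) :=
      ⟨⟨homOfLE heq.ge, Subsingleton.elim _ _, Subsingleton.elim _ _⟩⟩
    exact Functor.map_isIso X.presheaf (homOfLE hle).op
  rw [← h2, CommRingCat.hom_comp, RingHom.Flat.respectsIso.cancel_right_isIso] at h1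
  exact h1

end Groth.Agent.H22.QFFlat
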