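import Mathlib
import Groth.Agent.H22.FlatRank2
import Groth.Agent.H22.AffNhd
import Groth.Agent.H22.FibreSections

/-!
# Rank of fibres of a flat, separated, quasi-finite morphism goes up under generization
(helper22; for S3207)
-/

set_option autoImplicit false
set_option linter.style.haveILetI false
universe u

open AlgebraicGeometry CategoryTheory CategoryTheory.Limits TopologicalSpace

namespace Groth.Agent.H22.RankSemi

/-- every element of the residue field at a point of an affine open is a fraction of sections. -/
theorem exists_fraction_residue {S : Scheme.{u}} {V : S.Opens} (hV : IsAffineOpen V) (s : S)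
    (hsV : s ∈ V) (c : S.residueField s) :
    ∃ a b : Γ(S, V), (S.presheaf.germ V s hsV ≫ S.residue s).hom b ≠ 0 ∧
      c * (S.presheaf.germ V s hsV ≫ S.residue s).hom b =
        (S.presheaf.germ V s hsV ≫ S.residue s).hom a := by
  letI := S.presheaf.algebra_section_stalk ⟨s, hsV⟩
  haveI := hV.isLocalization_stalk ⟨s, hsV⟩
  obtain ⟨x, rfl⟩ := S.residue_surjective s c
  obtain ⟨⟨a, b⟩, hab⟩ := IsLocalization.surj (hV.primeIdealOf ⟨s, hsV⟩).asIdeal.primeCompl x
  have hunit : IsUnit (algebraMap Γ(S, V) (S.presheaf.stalk s) b) :=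
    IsLocalization.map_units _ b
  refine ⟨a, b, ?_, ?_⟩
  · have h1 : IsUnit ((S.residue s).hom (algebraMap Γ(S, V) (S.presheaf.stalk s) b)) :=
      hunit.map _
    exact h1.ne_zero
  · have := congrArg (S.residue s).hom hab
    rw [map_mul] at this
    exact this

/-- **Rank semicontinuity**: for `g` flat, separated, quasi-compact and locally quasi-finite
(locally of finite type), the rank of the fibre over `s` is at most that over any generization. -/
theorem finrank_fibre_le_of_specializes {T S : Scheme.{u}} (g : T ⟶ S) [LocallyQuasiFinite g]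
    [LocallyOfFiniteType g] [QuasiCompact g] [IsSeparated g] [Flat g] {s s' : S} (h : s' ⤳ s) :
    (letI := ((Scheme.ΓSpecIso (S.residueField s)).inv ≫
        (pullback.snd g (S.fromSpecResidueField s)).appTop).hom.toAlgebra;
      Module.finrank (S.residueField s) Γ(pullback g (S.fromSpecResidueField s), ⊤)) ≤
    (letI := ((Scheme.ΓSpecIso (S.residueField s')).inv ≫
        (pullback.snd g (S.fromSpecResidueField s')).appTop).hom.toAlgebra;
      Module.finrank (S.residueField s') Γ(pullback g (S.fromSpecResidueField s'), ⊤)) := by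
  obtain ⟨V, hV, hsV, -⟩ := exists_isAffineOpen_mem_and_subset (x := s) (U := ⊤) trivial
  have hs'V : s' ∈ V := h.mem_open V.2 hsV
  have hFfin : (g ⁻¹' {s} ∪ g ⁻¹' {s'}).Finite :=
    (g.finite_preimage_singleton s).union (g.finite_preimage_singleton s')
  obtain ⟨W, hW, hFW, -, hWV⟩ := AffNhd.exists_affineOpen_fibre g hV _ hFfin
    (fun x _ => g.quasiFiniteAt x)
    (fun x hx => by
      rcases hx with hx | hx
      · rw [show g x = s from hx]; exact hsV
      · rw [show g x = s' from hx]; exact hs'V)
  have hflat : (g.appLE V W hWV).hom.Flat := g.flat_appLE hV hW hWV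
  obtain ⟨β, hpo⟩ := FibreSections.isPushout_fibre g s hV hsV hW hWV
    (fun x hx => hFW (Or.inl hx))
  obtain ⟨β', hpo'⟩ := FibreSections.isPushout_fibre g s' hV hs'V hW hWV
    (fun x hx => hFW (Or.inr hx))
  haveI : IsFinite (pullback.snd g (S.fromSpecResidueField s')) :=
    inferInstanceAs (IsFinite (g.fiberToSpecResidueField s'))
  have hfin : (((Scheme.ΓSpecIso (S.residueField s')).inv ≫
      (pullback.snd g (S.fromSpecResidueField s')).appTop).hom).Finite := by
    rw [CommRingCat.hom_comp]
    refine RingHom.Finite.comp ((pullback.snd g (S.fromSpecResidueField s')).finite_appTop) ?_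
    exact RingHom.Finite.of_surjective _
      (ConcreteCategory.bijective_of_isIso (Scheme.ΓSpecIso (S.residueField s')).inv).2
  exact FlatRank2.finrank_le_of_isPushout₂ (S.presheaf.stalk s) (S.residueField s')
    (g.appLE V W hWV) hflat (S.presheaf.germ V s hsV ≫ S.residue s) β _ hpo
    (S.presheaf.germ V s' hs'V ≫ S.residue s') β' _ hpo'
    (S.presheaf.germ V s hsV).hom rfl
    (S.presheaf.stalkSpecializes h ≫ S.residue s').hom
    (by
      rw [← S.presheaf.germ_stalkSpecializes hsV h]
      rfl)
    (exists_fraction_residue hV s' hs'V) hfin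

end Groth.Agent.H22.RankSemi
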