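import Mathlib
import Groth.Agent.H19.IrrCompTop
import Groth.Agent.H49.FibreStalk
import Groth.Agent.H22.RankSemi

/-!
# Fibres of rank at most one
(helper22; for S3207)
-/

set_option autoImplicit false
set_option linter.style.haveILetI false
universe u

open AlgebraicGeometry CategoryTheory CategoryTheory.Limits TopologicalSpace

namespace Groth.Agent.H22.QFRankOne

section Rank

variable {T S : Scheme.{u}} (g : T ⟶ S) (s : S)

/-- A fibre which is empty or maps isomorphically to `Spec κ(s)` has rank at most one. -/
theorem finrank_le_one_of (h : IsEmpty ↑(pullback g (S.fromSpecResidueField s)) ∨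
      IsIso (pullback.snd g (S.fromSpecResidueField s))) :
    (letI := ((Scheme.ΓSpecIso (S.residueField s)).inv ≫
        (pullback.snd g (S.fromSpecResidueField s)).appTop).hom.toAlgebra;
      Module.finrank (S.residueField s) Γ(pullback g (S.fromSpecResidueField s), ⊤)) ≤ 1 := by
  letI alg := ((Scheme.ΓSpecIso (S.residueField s)).inv ≫
        (pullback.snd g (S.fromSpecResidueField s)).appTop).hom.toAlgebra
  rcases h with h | h
  · rw [Module.finrank_zero_of_subsingleton]
    exact Nat.zero_le _
  · haveI : IsIso (pullback.snd g (S.fromSpecResidueField s)).appTop :=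
      inferInstanceAs (IsIso ((pullback.snd g (S.fromSpecResidueField s)).app ⊤))
    have hbij : Function.Bijective (algebraMap (S.residueField s)
        Γ(pullback g (S.fromSpecResidueField s), ⊤)) :=
      ConcreteCategory.bijective_of_isIso ((Scheme.ΓSpecIso (S.residueField s)).inv ≫
        (pullback.snd g (S.fromSpecResidueField s)).appTop)
    let e : S.residueField s ≃ₗ[S.residueField s] Γ(pullback g (S.fromSpecResidueField s), ⊤) :=
      LinearEquiv.ofBijective (Algebra.linearMap _ _) hbij
    rw [← e.finrank_eq, Module.finrank_self]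

/-- A finite fibre of rank at most one is empty or maps isomorphically to `Spec κ(s)`. -/
theorem of_finrank_le_one [IsFinite (pullback.snd g (S.fromSpecResidueField s))]
    (h : (letI := ((Scheme.ΓSpecIso (S.residueField s)).inv ≫
        (pullback.snd g (S.fromSpecResidueField s)).appTop).hom.toAlgebra;
      Module.finrank (S.residueField s) Γ(pullback g (S.fromSpecResidueField s), ⊤)) ≤ 1) :
    IsEmpty ↑(pullback g (S.fromSpecResidueField s)) ∨
      IsIso (pullback.snd g (S.fromSpecResidueField s)) := by
  set c := pullback.snd g (S.fromSpecResidueField s) with hc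
  letI alg := ((Scheme.ΓSpecIso (S.residueField s)).inv ≫ c.appTop).hom.toAlgebra
  haveI : IsAffine (pullback g (S.fromSpecResidueField s)) := isAffine_of_isAffineHom c
  have hfin : (((Scheme.ΓSpecIso (S.residueField s)).inv ≫ c.appTop).hom).Finite := by
    rw [CommRingCat.hom_comp]
    refine RingHom.Finite.comp c.finite_appTop ?_
    exact RingHom.Finite.of_surjective _
      (ConcreteCategory.bijective_of_isIso (Scheme.ΓSpecIso (S.residueField s)).inv).2
  haveI : Module.Finite (S.residueField s) Γ(pullback g (S.fromSpecResidueField s), ⊤) := hfin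
  by_cases h0 : Module.finrank (S.residueField s)
      Γ(pullback g (S.fromSpecResidueField s), ⊤) = 0
  · left
    haveI : Subsingleton Γ(pullback g (S.fromSpecResidueField s), ⊤) :=
      Module.finrank_zero_iff.mp h0
    refine ⟨fun z => ?_⟩
    have h1 : (1 : (pullback g (S.fromSpecResidueField s)).presheaf.stalk z) = 0 := by
      have := congrArg ((pullback g (S.fromSpecResidueField s)).presheaf.germ ⊤ z trivial).hom
        (Subsingleton.elim (1 : Γ(pullback g (S.fromSpecResidueField s), ⊤)) 0)
      simp at this
    exact one_ne_zero h1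
  · right
    have h1 : Module.finrank (S.residueField s)
        Γ(pullback g (S.fromSpecResidueField s), ⊤) = 1 := by omega
    haveI : Nontrivial Γ(pullback g (S.fromSpecResidueField s), ⊤) :=
      Module.nontrivial_of_finrank_pos (R := S.residueField s) (by omega)
    have hinj : Function.Injective
        (Algebra.linearMap (S.residueField s) Γ(pullback g (S.fromSpecResidueField s), ⊤)) :=
      RingHom.injective (algebraMap (S.residueField s) _)
    have hsurj : Function.Surjective
        (Algebra.linearMap (S.residueField s) Γ(pullback g (S.fromSpecResidueField s), ⊤)) :=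
      (LinearMap.injective_iff_surjective_of_finrank_eq_finrank
        (by rw [Module.finrank_self, h1])).mp hinj
    have hiso : IsIso ((Scheme.ΓSpecIso (S.residueField s)).inv ≫ c.appTop) :=
      (ConcreteCategory.isIso_iff_bijective _).mpr ⟨hinj, hsurj⟩
    have hiso2 : IsIso c.appTop := by
      have : c.appTop = (Scheme.ΓSpecIso (S.residueField s)).hom ≫
          ((Scheme.ΓSpecIso (S.residueField s)).inv ≫ c.appTop) := by simp
      rw [this]
      infer_instance
    exact (HasAffineProperty.iff_of_isAffine (P := MorphismProperty.isomorphisms Scheme)).mpr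
      ⟨inferInstance, hiso2⟩

end Rank

section AllFibres

open Groth.Agent.H19.IrrCompTop

variable {T S : Scheme.{u}} (g : T ⟶ S) [LocallyQuasiFinite g] [LocallyOfFiniteType g]
  [QuasiCompact g] [IsSeparated g] [Flat g]

/-- If the fibres over the maximal points have rank at most one, so do all fibres. -/
theorem forall_fibre_of_maximal
    (h : ∀ s : S, (∀ t : S, t ⤳ s → t = s) →
      IsEmpty ↑(pullback g (S.fromSpecResidueField s)) ∨
        IsIso (pullback.snd g (S.fromSpecResidueField s))) (s : S) :
    IsEmpty ↑(pullback g (S.fromSpecResidueField s)) ∨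
      IsIso (pullback.snd g (S.fromSpecResidueField s)) := by
  obtain ⟨Z, hZ⟩ := exists_mem_component s
  have hsp : gp Z ⤳ s := (gp_spec Z).specializes hZ
  have hmax : ∀ t, t ⤳ gp Z → t = gp Z := fun t ht => eq_gp_of_specializes Z ht
  have h1 := finrank_le_one_of g (gp Z) (h _ hmax)
  have h2 := RankSemi.finrank_fibre_le_of_specializes g hsp
  haveI : IsFinite (pullback.snd g (S.fromSpecResidueField s)) :=
    inferInstanceAs (IsFinite (g.fiberToSpecResidueField s))
  exact of_finrank_le_one g s (h2.trans h1)

end AllFibres

section Iso

variable {T S : Scheme.{u}} (g : T ⟶ S) (t : T)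
  [hiso : IsIso (g.fiberToSpecResidueField (g t))]

theorem subsingleton_fiber : Subsingleton ↥(g.fiber (g t)) :=
  (g.fiberToSpecResidueField (g t)).homeomorph.subsingleton

theorem isReduced_fiber : IsReduced (g.fiber (g t)) :=
  isReduced_of_isOpenImmersion (g.fiberToSpecResidueField (g t))

theorem isIso_asFiberHom : IsIso (g.asFiberHom t) := by
  haveI := subsingleton_fiber g t
  haveI := isReduced_fiber g t
  haveI : IsClosedImmersion (g.asFiberHom t) :=
    IsClosedImmersion.of_isPreimmersion _ (isClosed_discrete _)
  haveI : Surjective (g.asFiberHom t) :=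
    ⟨fun p => ⟨IsLocalRing.closedPoint _, Subsingleton.elim _ _⟩⟩
  exact isIso_of_isClosedImmersion_of_surjective _

theorem bijective_residueFieldMap : Function.Bijective (g.residueFieldMap t).hom := by
  haveI := isIso_asFiberHom g t
  have h := g.asFiberHom_fiberToSpecResidueField t
  haveI : IsIso (Spec.map (g.residueFieldMap t)) := by rw [← h]; infer_instance
  exact isIso_SpecMap_iff.mp inferInstance

theorem eq_of_map_eq (t₂ : T) (h : g t₂ = g t) : t₂ = t := by
  haveI := subsingleton_fiber g t
  have h1 : t₂ ∈ Set.range (g.fiberι (g t)) := by rw [g.range_fiberι]; exact h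
  have h2 : t ∈ Set.range (g.fiberι (g t)) := by rw [g.range_fiberι]; rfl
  obtain ⟨a, rfl⟩ := h1
  obtain ⟨b, hb⟩ := h2
  rw [Subsingleton.elim a b, hb]

theorem map_maximalIdeal :
    Ideal.map (g.stalkMap t).hom (IsLocalRing.maximalIdeal (S.presheaf.stalk (g t))) =
      IsLocalRing.maximalIdeal (T.presheaf.stalk t) := by
  -- the stalk of the fibre is a field
  have hfield : IsField ((g.fiber (g t)).presheaf.stalk (g.asFiber t)) := by
    haveI : IsIso ((g.fiberToSpecResidueField (g t)).stalkMap (g.asFiber t)) := inferInstance
    let e := (asIso ((g.fiberToSpecResidueField (g t)).stalkMap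
      (g.asFiber t))).commRingCatIsoToRingEquiv
    have h0 : IsField ((Spec (S.residueField (g t))).presheaf.stalk
        ((g.fiberToSpecResidueField (g t)) (g.asFiber t))) :=
      IsLocalRing.isField_iff_maximalIdeal_eq.mpr
        (Groth.Agent.H49.FibreStalk.maximalIdeal_stalk_spec_field (S.residueField (g t)) _)
    exact e.symm.toMulEquiv.isField h0
  have hq : IsField (T.presheaf.stalk t ⧸ Groth.Agent.H49.FibreStalk.fibreIdeal g t) :=
    (Groth.Agent.H49.FibreStalk.quotientEquivStalkAsFiber g t).toMulEquiv.isField hfield
  have hmax : (Groth.Agent.H49.FibreStalk.fibreIdeal g t).IsMaximal :=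
    Ideal.Quotient.maximal_of_isField _ hq
  exact IsLocalRing.eq_maximalIdeal hmax

end Iso

end Groth.Agent.H22.QFRankOne
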