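import Mathlib

/-!
# Ramification length and residue degrees of local homomorphisms (helper22)

Local algebra behind Stacks 0F3D (the weighting `length(O_x/m_y O_x) · [κ(x):κ(y)]_i`).
-/

set_option autoImplicit false

namespace Groth.Agent.H22.RamWeight

open IsLocalRing TensorProduct

/-- The length of `B ⧸ I` is invariant under ring isomorphisms. -/
theorem length_quot_congr {B B' : Type*} [CommRing B] [CommRing B'] (β : B ≃+* B')
    (I : Ideal B) (I' : Ideal B') (h : I' = I.map (β : B →+* B')) :
    Module.length B (B ⧸ I) = Module.length B' (B' ⧸ I') := by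
  letI : Algebra B B' := (β : B →+* B').toAlgebra
  let βa : B ≃ₐ[B] B' := AlgEquiv.ofRingEquiv (f := β) (fun _ => rfl)
  have h' : I' = I.map (βa : B →+* B') := h
  let e : (B ⧸ I) ≃ₐ[B] (B' ⧸ I') := Ideal.quotientEquivAlg I I' βa h'
  rw [e.toLinearEquiv.length_eq]
  exact Module.length_eq_of_surjective (S := B) (R := B') (M := B' ⧸ I') β.surjective

section Defs

variable {A B : Type*} [CommRing A] [CommRing B] [IsLocalRing A] [IsLocalRing B]

/-- The ramification length `length_B (B ⧸ m_A B)` of a ring homomorphism of local rings. -/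
noncomputable def eL (φ : A →+* B) : ℕ∞ :=
  Module.length B (B ⧸ Ideal.map φ (maximalIdeal A))

/-- The residue degree. -/
noncomputable def fL (φ : A →+* B) [IsLocalHom φ] : ℕ :=
  letI := (ResidueField.map φ).toAlgebra
  Module.finrank (ResidueField A) (ResidueField B)

/-- The separable residue degree. -/
noncomputable def sL (φ : A →+* B) [IsLocalHom φ] : ℕ :=
  letI := (ResidueField.map φ).toAlgebra
  Field.finSepDegree (ResidueField A) (ResidueField B)

/-- The inseparable residue degree. -/
noncomputable def iL (φ : A →+* B) [IsLocalHom φ] : ℕ :=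
  letI := (ResidueField.map φ).toAlgebra
  Field.finInsepDegree (ResidueField A) (ResidueField B)

theorem sL_mul_iL (φ : A →+* B) [IsLocalHom φ] : sL φ * iL φ = fL φ := by
  letI := (ResidueField.map φ).toAlgebra
  exact Field.finSepDegree_mul_finInsepDegree (ResidueField A) (ResidueField B)

end Defs

section Congr

variable {A B A' B' : Type*} [CommRing A] [CommRing B] [IsLocalRing A] [IsLocalRing B]
  [CommRing A'] [CommRing B'] [IsLocalRing A'] [IsLocalRing B']

theorem map_maximalIdeal_ringEquiv (α : A ≃+* A') :
    (maximalIdeal A).map (α : A →+* A') = maximalIdeal A' := by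
  have : ((maximalIdeal A).map (α : A →+* A')).IsMaximal :=
    Ideal.map_isMaximal_of_equiv α
  exact IsLocalRing.eq_maximalIdeal this

theorem eL_congr (φ : A →+* B) (φ' : A' →+* B') (α : A ≃+* A') (β : B ≃+* B')
    (h : ∀ a, β (φ a) = φ' (α a)) : eL φ = eL φ' := by
  unfold eL
  apply length_quot_congr β
  rw [Ideal.map_map, ← map_maximalIdeal_ringEquiv α, Ideal.map_map]
  congr 1
  ext a
  exact (h a).symm

theorem fL_congr (φ : A →+* B) (φ' : A' →+* B') [IsLocalHom φ] [IsLocalHom φ'] (α : A ≃+* A')
    (β : B ≃+* B') (h : ∀ a, β (φ a) = φ' (α a)) : fL φ = fL φ' := by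
  unfold fL
  letI := (ResidueField.map φ).toAlgebra
  letI := (ResidueField.map φ').toAlgebra
  refine Algebra.finrank_eq_of_equiv_equiv (ResidueField.mapEquiv α) (ResidueField.mapEquiv β) ?_
  ext x
  obtain ⟨x, rfl⟩ := residue_surjective x
  simp only [RingHom.algebraMap_toAlgebra, RingHom.comp_apply]
  change ResidueField.map φ' (ResidueField.map (α : A →+* A') (residue A x)) =
    ResidueField.map (β : B →+* B') (ResidueField.map φ (residue A x))
  simp only [ResidueField.map_residue]
  congr 1
  exact (h x).symm

end Congr

section Comp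

variable {A B A' B' : Type*} [CommRing A] [CommRing B] [IsLocalRing A] [IsLocalRing B]
  [CommRing A'] [CommRing B'] [IsLocalRing A'] [IsLocalRing B']

theorem eL_comp_right (γ : A →+* A') (φ' : A' →+* B')
    (hγ : (maximalIdeal A).map γ = maximalIdeal A') : eL (φ'.comp γ) = eL φ' := by
  unfold eL
  rw [← Ideal.map_map, hγ]

theorem length_quot_maximalIdeal : Module.length B (B ⧸ maximalIdeal B) = 1 := by
  rw [Module.length_eq_one_iff, isSimpleModule_iff_isCoatom, ← Ideal.isMaximal_def]
  infer_instance

theorem eL_comp_left (φ : A →+* B) (β : B →+* B') [IsLocalHom β] (hflat : β.Flat)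
    (hβ : (maximalIdeal B).map β = maximalIdeal B') : eL (β.comp φ) = eL φ := by
  unfold eL
  letI : Algebra B B' := β.toAlgebra
  haveI : Module.Flat B B' := hflat
  haveI : IsLocalHom (algebraMap B B') := ‹IsLocalHom β›
  set J : Ideal B := Ideal.map φ (maximalIdeal A) with hJ
  have h1 : Ideal.map (β.comp φ) (maximalIdeal A) = J.map (algebraMap B B') := by
    rw [hJ, Ideal.map_map]; rfl
  rw [h1, (Algebra.TensorProduct.quotIdealMapEquivTensorQuot B' J).toLinearEquiv.length_eq,
    IsLocalRing.length_baseChange B B' (B ⧸ J)]
  have h2 : (maximalIdeal B).map (algebraMap B B') = maximalIdeal B' := hβ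
  rw [h2, length_quot_maximalIdeal, mul_one]

theorem iL_comp_right (γ : A →+* A') (φ' : A' →+* B') [IsLocalHom γ] [IsLocalHom φ']
    (hsep : letI := (ResidueField.map γ).toAlgebra
      Algebra.IsSeparable (ResidueField A) (ResidueField A')) :
    iL (φ'.comp γ) = iL φ' := by
  unfold iL
  letI a1 := (ResidueField.map γ).toAlgebra
  letI a2 := (ResidueField.map φ').toAlgebra
  letI a3 := (ResidueField.map (φ'.comp γ)).toAlgebra
  haveI : IsScalarTower (ResidueField A) (ResidueField A') (ResidueField B') :=
    IsScalarTower.of_algebraMap_eq' (by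
      simp only [RingHom.algebraMap_toAlgebra]
      exact (ResidueField.map_comp γ φ'))
  haveI : Algebra.IsSeparable (ResidueField A) (ResidueField A') := hsep
  rw [← Field.finInsepDegree_mul_finInsepDegree_of_isAlgebraic (ResidueField A) (ResidueField A')
    (ResidueField B'), Algebra.IsSeparable.finInsepDegree_eq, one_mul]

theorem iL_comp_left (φ : A →+* B) (β : B →+* B') [IsLocalHom φ] [IsLocalHom β]
    (halg : letI := (ResidueField.map φ).toAlgebra
      Algebra.IsAlgebraic (ResidueField A) (ResidueField B))
    (hsep : letI := (ResidueField.map β).toAlgebra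
      Algebra.IsSeparable (ResidueField B) (ResidueField B')) :
    iL (β.comp φ) = iL φ := by
  unfold iL
  letI a1 := (ResidueField.map φ).toAlgebra
  letI a2 := (ResidueField.map β).toAlgebra
  letI a3 := (ResidueField.map (β.comp φ)).toAlgebra
  haveI : IsScalarTower (ResidueField A) (ResidueField B) (ResidueField B') :=
    IsScalarTower.of_algebraMap_eq' (by
      simp only [RingHom.algebraMap_toAlgebra]
      exact (ResidueField.map_comp φ β))
  haveI : Algebra.IsSeparable (ResidueField B) (ResidueField B') := hsep
  haveI : Algebra.IsAlgebraic (ResidueField A) (ResidueField B) := halg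
  rw [← Field.finInsepDegree_mul_finInsepDegree_of_isAlgebraic (ResidueField A) (ResidueField B)
    (ResidueField B'),
    Algebra.IsSeparable.finInsepDegree_eq (F := ResidueField B) (E := ResidueField B'), mul_one]

end Comp

end Groth.Agent.H22.RamWeight
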