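import Groth.Agent.H22.RamWeight

/-!
# Ring-level sum formula `Σ e f = rank` in terms of `eL`, `fL` (helper22)
-/

set_option autoImplicit false

namespace Groth.Agent.H22.RamWeight

open IsLocalRing TensorProduct

variable {R S : Type*} [CommRing R] [CommRing S] [Algebra R S]

theorem map_localRingHom_maximalIdeal (p : Ideal R) [p.IsPrime] (q : Ideal S) [q.IsPrime]
    (h : p = q.comap (algebraMap R S)) :
    (maximalIdeal (Localization.AtPrime p)).map (Localization.localRingHom p q (algebraMap R S) h) =
      p.map (algebraMap R (Localization.AtPrime q)) := by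
  rw [← Localization.AtPrime.map_eq_maximalIdeal, Ideal.map_map]
  congr 1
  ext x
  simp only [RingHom.comp_apply, Localization.localRingHom_to_map]
  exact (IsScalarTower.algebraMap_apply R S (Localization.AtPrime q) x).symm

theorem eL_localRingHom (p : Ideal R) [p.IsPrime] (q : Ideal S) [q.IsPrime]
    (h : p = q.comap (algebraMap R S)) :
    (eL (Localization.localRingHom p q (algebraMap R S) h)).toNat = q.ramificationIdx R := by
  haveI : q.LiesOver p := ⟨h⟩
  rw [Ideal.ramificationIdx_eq p q, eL, map_localRingHom_maximalIdeal p q h]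

theorem fL_localRingHom (p : Ideal R) [p.IsPrime] (q : Ideal S) [q.IsPrime]
    (h : p = q.comap (algebraMap R S)) :
    fL (Localization.localRingHom p q (algebraMap R S) h) = q.inertiaDeg R := by
  haveI : q.LiesOver p := ⟨h⟩
  letI := Localization.AtPrime.algebraOfLiesOver p q
  rw [Ideal.inertiaDeg_eq p q]
  unfold fL
  letI a1 := (ResidueField.map (Localization.localRingHom p q (algebraMap R S) h)).toAlgebra
  have key : @Module.rank (ResidueField (Localization.AtPrime p))
      (ResidueField (Localization.AtPrime q)) _ _ a1.toModule =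
      Module.rank p.ResidueField q.ResidueField :=
    @rank_eq_of_equiv_equiv (ResidueField (Localization.AtPrime p)) p.ResidueField
      (ResidueField (Localization.AtPrime q)) q.ResidueField _ _ a1.toModule _ _ _
      id (AddEquiv.refl _) Function.bijective_id (fun r m => by
      obtain ⟨r, rfl⟩ := residue_surjective r
      obtain ⟨m, rfl⟩ := residue_surjective m
      rfl)
  exact congrArg Cardinal.toNat key

/-- The sum formula `Σ e f = rank` as a `finsum` over the set-theoretic fibre. -/
theorem finsum_ramificationIdx_mul_inertiaDeg [Module.Finite R S] [Module.Flat R S]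
    (p : PrimeSpectrum R) :
    ∑ᶠ q : {q : PrimeSpectrum S // PrimeSpectrum.comap (algebraMap R S) q = p},
      ((q.1.asIdeal.ramificationIdx R * q.1.asIdeal.inertiaDeg R : ℕ) : ℤ) =
      (Module.rankAtStalk S p : ℤ) := by
  haveI : Fintype (p.asIdeal.primesOver S) :=
    (Algebra.QuasiFinite.finite_primesOver p.asIdeal).fintype
  let e : {q : PrimeSpectrum S // PrimeSpectrum.comap (algebraMap R S) q = p} ≃
      p.asIdeal.primesOver S :=
    { toFun := fun q => ⟨q.1.asIdeal, q.1.isPrime, ⟨congr($(q.2.symm).asIdeal)⟩⟩
      invFun := fun q => ⟨⟨q.1, q.2.1⟩, PrimeSpectrum.ext q.2.2.over.symm⟩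
      left_inv := fun q => rfl
      right_inv := fun q => rfl }
  rw [← Ideal.finrank_fiber_eq_rankAtStalk p.asIdeal,
    ← Ideal.sum_ramification_inertia_eq_finrank_fiber p.asIdeal S,
    ← finsum_comp_equiv e.symm, finsum_eq_sum_of_fintype]
  push_cast
  rfl

open Ideal in
/-- Positivity of the ramification index for quasi-finite algebras (Mathlib has the finite
case). -/
theorem ramificationIdx_pos_of_quasiFinite [Algebra.QuasiFinite R S] (q : Ideal S) [q.IsPrime] :
    0 < q.ramificationIdx R := by
  let p := q.under R
  let Sq := Localization.AtPrime q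
  rw [ramificationIdx_def]
  apply ENat.toNat_pos
  · rw [← pos_iff_ne_zero, Module.length_pos_iff, Submodule.Quotient.nontrivial_iff,
      IsScalarTower.algebraMap_eq R S, ← Ideal.map_map, ← lt_top_iff_ne_top]
    grw [map_mono map_comap_le, Localization.AtPrime.map_eq_maximalIdeal]
    exact (IsLocalRing.maximalIdeal.isMaximal _).lt_top
  · let r := PrimeSpectrum.primesOverOrderIsoFiber R S p (primesOver.mk p q)
    have : q = r.1.comap Algebra.TensorProduct.includeRight := by
      rw [← PrimeSpectrum.coe_primesOverOrderIsoFiber_symm_apply, OrderIso.symm_apply_apply]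
    let := Localization.AtPrime.algebraOfLiesOver p (r.1.comap Algebra.TensorProduct.includeRight)
    have : IsArtinianRing (Sq ⧸ map (algebraMap R Sq) p) := by
      convert (Fiber.localizationAlgEquivQuotient p r.1).toRingEquiv.isArtinianRing
    rwa [Module.length_eq_of_surjective (R := Sq ⧸ p.map (algebraMap R Sq)) Quotient.mk_surjective,
      Module.length_ne_top_iff, ← isArtinianRing_iff_isFiniteLength]

end Groth.Agent.H22.RamWeight
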