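import Groth.Agent.H22.RamWeight2
import Groth.Agent.H7.WeightingOpen
import Groth.Agent.H7.PurelyInsepSplit
import Groth.Prelude.Def_MoreMor

/-!
# The weight `length(O_x/m_y O_x) · [κ(x):κ(y)]_i` of a morphism of schemes (helper22)
-/

set_option autoImplicit false
universe u

namespace Groth.Agent.H22.RamWeight

open AlgebraicGeometry CategoryTheory Limits IsLocalRing

/-- The weight of Stacks 0F3D. -/
noncomputable def wt {X Y : Scheme.{u}} (f : X ⟶ Y) (x : X) : ℤ :=
  ((eL (f.stalkMap x).hom).toNat : ℤ) * (iL (f.stalkMap x).hom : ℤ)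

theorem etale_stalkMap_flat {P X : Scheme.{u}} (a : P ⟶ X) [Etale a] (u : P) :
    (a.stalkMap u).hom.Flat := Flat.stalkMap a u

theorem etale_stalkMap_map_maximalIdeal {P X : Scheme.{u}} (a : P ⟶ X) [Etale a] (u : P) :
    (maximalIdeal (X.presheaf.stalk (a u))).map (a.stalkMap u).hom =
      maximalIdeal (P.presheaf.stalk u) := by
  algebraize [(a.stalkMap u).hom]
  have : IsLocalHom (algebraMap (X.presheaf.stalk (a u)) (P.presheaf.stalk u)) :=
    inferInstanceAs <| IsLocalHom (a.stalkMap u).hom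
  have : Algebra.EssFiniteType (X.presheaf.stalk (a u)) (P.presheaf.stalk u) := by
    rw [← RingHom.essFiniteType_algebraMap, RingHom.algebraMap_toAlgebra]
    exact LocallyOfFiniteType.stalkMap a u
  have : Algebra.FormallyUnramified (X.presheaf.stalk (a u)) (P.presheaf.stalk u) := by
    rw [← RingHom.formallyUnramified_algebraMap, RingHom.algebraMap_toAlgebra]
    exact FormallyUnramified.stalkMap a u
  exact Algebra.FormallyUnramified.map_maximalIdeal

theorem etale_isSeparable_residue {P X : Scheme.{u}} (a : P ⟶ X) [Etale a] (u : P) :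
    letI := (ResidueField.map (a.stalkMap u).hom).toAlgebra
    Algebra.IsSeparable (ResidueField (X.presheaf.stalk (a u)))
      (ResidueField (P.presheaf.stalk u)) := by
  letI := (a.residueFieldMap u).hom.toAlgebra
  exact inferInstanceAs <| Algebra.IsSeparable (X.residueField (a.base u)) (P.residueField u)

theorem lqf_isAlgebraic_residue {X Y : Scheme.{u}} (f : X ⟶ Y) [LocallyQuasiFinite f] (x : X) :
    letI := (ResidueField.map (f.stalkMap x).hom).toAlgebra
    Algebra.IsAlgebraic (ResidueField (Y.presheaf.stalk (f x)))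
      (ResidueField (X.presheaf.stalk x)) := by
  letI := (ResidueField.map (f.stalkMap x).hom).toAlgebra
  have h : (f.residueFieldMap x).hom.Finite :=
    Groth.Agent.H7.finite_residueFieldMap_of_quasiFiniteAt f x (f.quasiFiniteAt x)
  haveI : Module.Finite (ResidueField (Y.presheaf.stalk (f x)))
      (ResidueField (X.presheaf.stalk x)) := h
  exact Algebra.IsAlgebraic.of_finite _ _

theorem wt_comp_left {P X Y : Scheme.{u}} (a : P ⟶ X) [Etale a] (f : X ⟶ Y)
    [LocallyQuasiFinite f] (u : P) : wt (a ≫ f) u = wt f (a u) := by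
  have h : ((a ≫ f).stalkMap u).hom = (a.stalkMap u).hom.comp (f.stalkMap (a u)).hom := by
    rw [Scheme.Hom.stalkMap_comp]; rfl
  have h1 : eL ((a ≫ f).stalkMap u).hom = eL (f.stalkMap (a u)).hom := by
    rw [h]
    exact eL_comp_left _ _ (etale_stalkMap_flat a u) (etale_stalkMap_map_maximalIdeal a u)
  have h2 : ∀ (ψ : Y.presheaf.stalk (f (a u)) →+* P.presheaf.stalk u) [IsLocalHom ψ],
      ψ = (a.stalkMap u).hom.comp (f.stalkMap (a u)).hom → iL ψ = iL (f.stalkMap (a u)).hom := by
    intro ψ _ hψ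
    subst hψ
    exact iL_comp_left _ _ (lqf_isAlgebraic_residue f (a u)) (etale_isSeparable_residue a u)
  unfold wt
  rw [h1]
  congr 2
  exact @h2 _ (inferInstanceAs <| IsLocalHom ((a ≫ f).stalkMap u).hom) h

theorem wt_comp_right {P V Y : Scheme.{u}} (b : P ⟶ V) (g : V ⟶ Y) [Etale g] (u : P) :
    wt (b ≫ g) u = wt b u := by
  have h : ((b ≫ g).stalkMap u).hom = (b.stalkMap u).hom.comp (g.stalkMap (b u)).hom := by
    rw [Scheme.Hom.stalkMap_comp]; rfl
  have h1 : eL ((b ≫ g).stalkMap u).hom = eL (b.stalkMap u).hom := by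
    rw [h]
    exact eL_comp_right _ _ (etale_stalkMap_map_maximalIdeal g (b u))
  have h2 : ∀ (ψ : Y.presheaf.stalk (g (b u)) →+* P.presheaf.stalk u) [IsLocalHom ψ],
      ψ = (b.stalkMap u).hom.comp (g.stalkMap (b u)).hom → iL ψ = iL (b.stalkMap u).hom := by
    intro ψ _ hψ
    subst hψ
    exact iL_comp_right _ _ (etale_isSeparable_residue g (b u))
  unfold wt
  rw [h1]
  congr 2
  exact @h2 _ (inferInstanceAs <| IsLocalHom ((b ≫ g).stalkMap u).hom) h

/-- Étale invariance of the weight. -/
theorem wt_eq_of_etale {P X V Y : Scheme.{u}} (f : X ⟶ Y) [LocallyQuasiFinite f] (g : V ⟶ Y)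
    [Etale g] (a : P ⟶ X) [Etale a] (b : P ⟶ V) (h : a ≫ f = b ≫ g) (u : P) :
    wt b u = wt f (a u) := by
  rw [← wt_comp_right b g u, ← wt_comp_left a f u]
  congr 1
  exact h.symm

end Groth.Agent.H22.RamWeight
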