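import Groth.Agent.H22.RamWeight3

/-!
# The integral of the weight over a finite flat morphism is its rank (helper22)
-/

set_option autoImplicit false
universe u

namespace Groth.Agent.H22.RamWeight

open AlgebraicGeometry CategoryTheory Limits IsLocalRing

/-- `e · f` at a point. -/
noncomputable def ef {X Y : Scheme.{u}} (f : X ⟶ Y) (x : X) : ℕ :=
  (eL (f.stalkMap x).hom).toNat * fL (f.stalkMap x).hom

theorem wt_mul_sepDeg {X Y : Scheme.{u}} (f : X ⟶ Y) (x : X) :
    wt f x * (Groth.Agent.H7.sepDeg f x : ℤ) = (ef f x : ℤ) := by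
  have h : Groth.Agent.H7.sepDeg f x = sL (f.stalkMap x).hom := rfl
  rw [h, wt, ef, ← sL_mul_iL]
  push_cast
  ring

theorem ef_eq_of_arrowIso {X Y : Scheme.{u}} (f : X ⟶ Y) (x : X) {A' B' : Type u} [CommRing A']
    [CommRing B'] [IsLocalRing A'] [IsLocalRing B'] (φ' : A' →+* B') [IsLocalHom φ']
    (e : Arrow.mk (f.stalkMap x) ≅ Arrow.mk (CommRingCat.ofHom φ')) :
    ef f x = (eL φ').toNat * fL φ' := by
  let α : Y.presheaf.stalk (f x) ≃+* A' := (Arrow.leftFunc.mapIso e).commRingCatIsoToRingEquiv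
  let β : X.presheaf.stalk x ≃+* B' := (Arrow.rightFunc.mapIso e).commRingCatIsoToRingEquiv
  have h : ∀ a, β ((f.stalkMap x).hom a) = φ' (α a) := by
    intro a
    exact congr($(Arrow.w e.hom) a).symm
  rw [ef, eL_congr _ φ' α β h, fL_congr _ φ' α β h]

theorem ef_SpecMap {R S : CommRingCat.{u}} (φ : R ⟶ S) (q : Spec S) :
    letI := φ.hom.toAlgebra
    ef (Spec.map φ) q = q.asIdeal.ramificationIdx R * q.asIdeal.inertiaDeg R := by
  letI := φ.hom.toAlgebra
  rw [ef_eq_of_arrowIso (Spec.map φ) q _ (Scheme.arrowStalkMapSpecIso φ q)]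
  have h : (PrimeSpectrum.comap φ.hom q).asIdeal = q.asIdeal.comap (algebraMap R S) := rfl
  rw [← eL_localRingHom _ q.asIdeal h, ← fL_localRingHom _ q.asIdeal h]
  rfl

theorem fibreIntegral_wt_SpecMap {R S : CommRingCat.{u}} (φ : R ⟶ S) (hf₁ : φ.hom.Finite)
    (hf₂ : φ.hom.Flat) (p : Spec R) :
    MoreMor.fibreIntegral (Spec.map φ) (wt (Spec.map φ)) p = ((Spec.map φ).finrank p : ℤ) := by
  algebraize [φ.hom]
  rw [Groth.Agent.H7.fibreIntegral_eq_finsum_subtype, Scheme.Hom.finrank_SpecMap_eq_finrank hf₁ hf₂]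
  simp only [wt_mul_sepDeg, ef_SpecMap]
  exact finsum_ramificationIdx_mul_inertiaDeg (R := R) (S := S) p

/-- The integral of the weight over a finite flat morphism is the rank. -/
theorem fibreIntegral_wt_eq_finrank {U V : Scheme.{u}} (π : U ⟶ V) [IsFinite π] [Flat π] (v : V) :
    MoreMor.fibreIntegral π (wt π) v = (π.finrank v : ℤ) := by
  obtain ⟨V₀, hV₀, hv, -⟩ := exists_isAffineOpen_mem_and_subset (X := V) (x := v) (U := ⊤) trivial
  have hW : IsAffineOpen (π ⁻¹ᵁ V₀) := hV₀.preimage π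
  let φ := π.appLE V₀ (π ⁻¹ᵁ V₀) le_rfl
  have hcomm : Spec.map φ ≫ hV₀.fromSpec = hW.fromSpec ≫ π :=
    IsAffineOpen.SpecMap_appLE_fromSpec π hV₀ hW le_rfl
  have sq : IsPullback hW.fromSpec (Spec.map φ) π hV₀.fromSpec :=
    (IsOpenImmersion.isPullback (Spec.map φ) hW.fromSpec hV₀.fromSpec π hcomm.symm
      (by rw [hV₀.opensRange_fromSpec, hW.opensRange_fromSpec])).flip
  let p := hV₀.primeIdealOf ⟨v, hv⟩
  have hp : hV₀.fromSpec p = v := hV₀.fromSpec_primeIdealOf ⟨v, hv⟩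
  have hfin : ∀ v : V, (π ⁻¹' {v}).Finite := fun v => π.finite_preimage_singleton v
  have hφ₁ : φ.hom.Finite := by
    have : IsFinite (Spec.map φ) := MorphismProperty.of_isPullback sq ‹IsFinite π›
    exact (IsFinite.SpecMap_iff φ).mp this
  have hφ₂ : φ.hom.Flat := by
    have : Flat (Spec.map φ) := MorphismProperty.of_isPullback sq ‹Flat π›
    exact Flat.SpecMap_iff.mp this
  have h1 := Groth.Agent.H7.fibreIntegral_baseChange π hfin (Spec.map φ) hW.fromSpec hV₀.fromSpec sq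
    (wt π) p
  have h2 : (wt π ∘ ⇑hW.fromSpec) = wt (Spec.map φ) := by
    funext q
    exact (wt_eq_of_etale π hV₀.fromSpec hW.fromSpec (Spec.map φ) hcomm.symm q).symm
  rw [h2, hp] at h1
  rw [← h1, fibreIntegral_wt_SpecMap φ hφ₁ hφ₂ p,
    Scheme.Hom.finrank_of_isPullback _ _ _ _ sq p, hp]

end Groth.Agent.H22.RamWeight
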