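import Groth.Agent.H22.RamWeight4

/-!
# `wt` is a positive weighting (helper22), Stacks 0F3D
-/

set_option autoImplicit false
universe u

namespace Groth.Agent.H22.RamWeight

open AlgebraicGeometry CategoryTheory Limits IsLocalRing

theorem eL_eq_of_arrowIso {X Y : Scheme.{u}} (f : X ⟶ Y) (x : X) {A' B' : Type u} [CommRing A']
    [CommRing B'] [IsLocalRing A'] [IsLocalRing B'] (φ' : A' →+* B')
    (e : Arrow.mk (f.stalkMap x) ≅ Arrow.mk (CommRingCat.ofHom φ')) :
    eL (f.stalkMap x).hom = eL φ' := by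
  let α : Y.presheaf.stalk (f x) ≃+* A' := (Arrow.leftFunc.mapIso e).commRingCatIsoToRingEquiv
  let β : X.presheaf.stalk x ≃+* B' := (Arrow.rightFunc.mapIso e).commRingCatIsoToRingEquiv
  have h : ∀ a, β ((f.stalkMap x).hom a) = φ' (α a) := by
    intro a
    exact congr($(Arrow.w e.hom) a).symm
  exact eL_congr _ φ' α β h

theorem eL_toNat_pos {X Y : Scheme.{u}} (f : X ⟶ Y) [LocallyQuasiFinite f] (x : X) :
    0 < (eL (f.stalkMap x).hom).toNat := by
  obtain ⟨U, hU, hxU, -⟩ :=
    exists_isAffineOpen_mem_and_subset (X := Y) (x := f x) (U := ⊤) trivial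
  obtain ⟨V, hV, hxV, hVU⟩ :=
    exists_isAffineOpen_mem_and_subset (X := X) (x := x) (U := f ⁻¹ᵁ U) hxU
  have hq : (f.appLE U V hVU).hom.QuasiFinite := LocallyQuasiFinite.quasiFinite_appLE hU hV hVU
  letI := (f.appLE U V hVU).hom.toAlgebra
  haveI : Algebra.QuasiFinite Γ(Y, U) Γ(X, V) := hq
  rw [eL_eq_of_arrowIso f x _ (IsAffineOpen.arrowStalkMapIso f U hU V hV hVU hxV)]
  have h := eL_localRingHom (R := Γ(Y, U)) (S := Γ(X, V)) _ (hV.primeIdealOf ⟨x, hxV⟩).asIdeal
    congr($(IsAffineOpen.comap_primeIdealOf_appLE U hU V hV hVU hxV).1).symm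
  have h2 := ramificationIdx_pos_of_quasiFinite (R := Γ(Y, U)) (hV.primeIdealOf ⟨x, hxV⟩).asIdeal
  rw [← h] at h2
  exact h2

theorem iL_pos {X Y : Scheme.{u}} (f : X ⟶ Y) [LocallyQuasiFinite f] (x : X) :
    0 < iL (f.stalkMap x).hom := by
  unfold iL
  letI := (ResidueField.map (f.stalkMap x).hom).toAlgebra
  have h : (f.residueFieldMap x).hom.Finite :=
    Groth.Agent.H7.finite_residueFieldMap_of_quasiFiniteAt f x (f.quasiFiniteAt x)
  haveI : Module.Finite (ResidueField (Y.presheaf.stalk (f x)))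
      (ResidueField (X.presheaf.stalk x)) := h
  exact Module.finrank_pos

theorem wt_pos {X Y : Scheme.{u}} (f : X ⟶ Y) [LocallyQuasiFinite f] (x : X) : 0 < wt f x := by
  unfold wt
  have h1 := eL_toNat_pos f x
  have h2 := iL_pos f x
  positivity

/-- Stacks 0F3D: the weight is a weighting for flat, locally quasi-finite morphisms locally of finite
presentation. -/
theorem isWeighting_wt {X Y : Scheme.{u}} (f : X ⟶ Y) [LocallyQuasiFinite f] [Flat f]
    [LocallyOfFinitePresentation f] : MoreMor.IsWeighting f (wt f) := by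
  intro V g _ U hU
  haveI : IsFinite (U.ι ≫ pullback.snd f g) := hU
  have key : (MoreMor.fibreIntegral (U.ι ≫ pullback.snd f g)
      (fun u => wt f (pullback.fst f g (U.ι u)))) =
      fun v => ((U.ι ≫ pullback.snd f g).finrank v : ℤ) := by
    funext v
    rw [← fibreIntegral_wt_eq_finrank]
    congr 1
    funext u
    exact (wt_eq_of_etale f g (U.ι ≫ pullback.fst f g) (U.ι ≫ pullback.snd f g)
      (by rw [Category.assoc, Category.assoc, pullback.condition]) u).symm
  rw [key]
  exact (Scheme.Hom.isLocallyConstant_finrank (U.ι ≫ pullback.snd f g)).comp _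

end Groth.Agent.H22.RamWeight
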