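import Mathlib.AlgebraicGeometry.Birational.RationalMap

set_option autoImplicit false
universe u

namespace Groth.Agent.H22

open AlgebraicGeometry CategoryTheory TopologicalSpace Opposite Scheme

variable (S : Scheme.{u}) {X Y : Scheme.{u}} [X.Over S] [Y.Over S]

/-- The largest open on which some `S`-representative of `f` is defined. -/
def domS (f : X ⤏ Y) : X.Opens :=
  sSup {U | ∃ g : X.PartialMap Y, g.IsOver S ∧ g.toRationalMap = f ∧ g.domain = U}

theorem le_domS (f : X ⤏ Y) (g : X.PartialMap Y) (h1 : g.IsOver S) (h2 : g.toRationalMap = f) :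
    g.domain ≤ domS S f :=
  le_sSup ⟨g, h1, h2, rfl⟩

set_option backward.isDefEq.respectTransparency false in
/-- The open cover of `domS S f` by the domains of the `S`-representatives. -/
noncomputable def coverS (f : X ⤏ Y) : (domS S f).toScheme.OpenCover where
  I₀ := {g : X.PartialMap Y // g.IsOver S ∧ g.toRationalMap = f}
  X g := g.1.domain.toScheme
  f g := X.homOfLE (le_domS S f g.1 g.2.1 g.2.2)
  mem₀ := by
    rw [presieve₀_mem_precoverage_iff]
    refine ⟨fun x ↦ ?_, inferInstance⟩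
    obtain ⟨U, ⟨g, hg1, hg2, rfl⟩, hxU⟩ := TopologicalSpace.Opens.mem_sSup.mp x.2
    exact ⟨⟨g, hg1, hg2⟩, ⟨x.1, hxU⟩, Subtype.ext (by simp)⟩

set_option backward.isDefEq.respectTransparency false in
/-- The glued morphism on `domS S f`. -/
noncomputable def gluedS [IsReduced X] [IsSeparated (Y ↘ S)] (f : X ⤏ Y) :
    (domS S f).toScheme ⟶ Y := by
  refine (coverS S f).glueMorphisms (fun g => g.1.hom) ?_
  intro x y
  have := x.2.1
  have := y.2.1
  refine (cancel_epi (isPullback_opens_inf_le (le_domS S f x.1 x.2.1 x.2.2)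
    (le_domS S f y.1 y.2.1 y.2.2)).isoPullback.hom).mp ?_
  simp only [coverS, IsPullback.isoPullback_hom_fst_assoc, IsPullback.isoPullback_hom_snd_assoc]
  exact (PartialMap.equiv_iff_of_isSeparated (S := S) (f := x.1) (g := y.1)).mp
    (by rw [← PartialMap.toRationalMap_eq_iff, x.2.2, y.2.2])

theorem homOfLE_gluedS [IsReduced X] [IsSeparated (Y ↘ S)] (f : X ⤏ Y) (g : X.PartialMap Y)
    (h1 : g.IsOver S) (h2 : g.toRationalMap = f) :
    X.homOfLE (le_domS S f g h1 h2) ≫ gluedS S f = g.hom :=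
  (coverS S f).ι_glueMorphisms _ _ ⟨g, h1, h2⟩

theorem exists_largest_partialMap_over [IsReduced X] [IsSeparated (Y ↘ S)]
    (f : X ⤏ Y) [f.IsOver S] :
    ∃ g : X.PartialMap Y, g.IsOver S ∧ g.toRationalMap = f ∧
      ∀ h : X.PartialMap Y, h.IsOver S → h.toRationalMap = f →
        ∃ hle : h.domain ≤ g.domain, h = g.restrict h.domain h.dense_domain hle := by
  obtain ⟨f', hf', hf'f⟩ := RationalMap.exists_partialMap_over S f
  have hdense : Dense ((domS S f : X.Opens) : Set X) :=
    f'.dense_domain.mono (le_domS S f f' hf' hf'f)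
  let g : X.PartialMap Y := ⟨domS S f, hdense, gluedS S f⟩
  have hgover : g.IsOver S := by
    constructor
    have key : ∀ (i : X.PartialMap Y) (hi1 : i.IsOver S) (hi2 : i.toRationalMap = f),
        X.homOfLE (le_domS S f i hi1 hi2) ≫ gluedS S f ≫ (Y ↘ S) =
          X.homOfLE (le_domS S f i hi1 hi2) ≫ (domS S f).ι ≫ (X ↘ S) := by
      intro i hi1 hi2
      rw [← Category.assoc, homOfLE_gluedS S f i hi1 hi2, comp_over i.hom S,
        Scheme.homOfLE_ι_assoc]
      rfl
    apply (coverS S f).hom_ext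
    intro i
    exact key i.1 i.2.1 i.2.2
  have hrestrict : ∀ h : X.PartialMap Y, ∀ h1 : h.IsOver S, ∀ h2 : h.toRationalMap = f,
      h = g.restrict h.domain h.dense_domain (le_domS S f h h1 h2) := by
    intro h h1 h2
    have h3 := homOfLE_gluedS S f h h1 h2
    obtain ⟨U, hU, φ⟩ := h
    show PartialMap.mk U hU φ = PartialMap.mk U hU (X.homOfLE _ ≫ gluedS S f)
    congr 1
    exact h3.symm
  refine ⟨g, hgover, ?_, fun h h1 h2 => ⟨le_domS S f h h1 h2, hrestrict h h1 h2⟩⟩
  rw [← hf'f, hrestrict f' hf' hf'f, PartialMap.restrict_toRationalMap]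

end Groth.Agent.H22
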