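import Mathlib.AlgebraicGeometry.Morphisms.Separated
import Mathlib.AlgebraicGeometry.Morphisms.UniversallyOpen
import Mathlib.AlgebraicGeometry.PullbackCarrier

/-!
# Graph closures and universally open base change (helper22)

If a rational map `h : U → Y` becomes everywhere defined after pulling back along a universally
open `g : V' → X`, then the fibres of the graph closure over points in the image of `g` are
singletons.
-/

set_option autoImplicit false
universe u

namespace Groth.Agent.H22.RatMapPull

open AlgebraicGeometry CategoryTheory CategoryTheory.Limits TopologicalSpace Opposite Scheme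

variable {X V' Y S T : Scheme.{u}} (pX : X ⟶ S) (pY : Y ⟶ S)
  (U : X.Opens) (h : U.toScheme ⟶ Y) (hh : U.ι ≫ pX = h ≫ pY)
  (g : V' ⟶ X) (v' : V' ⟶ Y) (hv' : g ≫ pX = v' ≫ pY)
  (j : T ⟶ V') [IsOpenImmersion j] (k : T ⟶ U.toScheme) (hjk : j ≫ g = k ≫ U.ι)
  (hagree : j ≫ v' = k ≫ h) (hrange : g.base ⁻¹' (U : Set X) ⊆ Set.range j.base)

include hjk hagree hrange in
/-- Any morphism into `V'` landing in `g⁻¹(U)` sees `v'` as `h ∘ g`. -/
theorem comp_eq_of_factors {T₀ : Scheme.{u}} (t : T₀ ⟶ V') (a : T₀ ⟶ U.toScheme)
    (hta : t ≫ g = a ≫ U.ι) : t ≫ v' = a ≫ h := by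
  have hr : Set.range t.base ⊆ Set.range j.base := by
    rintro _ ⟨w, rfl⟩
    apply hrange
    change (t ≫ g).base w ∈ (U : Set X)
    rw [hta]
    exact (a.base w).2
  have h1 : IsOpenImmersion.lift j t hr ≫ k = a := by
    rw [← cancel_mono U.ι, Category.assoc, ← hjk, ← Category.assoc, IsOpenImmersion.lift_fac, hta]
  rw [← IsOpenImmersion.lift_fac j t hr, Category.assoc, hagree, ← Category.assoc, h1]

/-- The section of `V' ×_X (X ×_S Y) → V'` given by `(g, v')`. -/
noncomputable def sect : V' ⟶ pullback g (pullback.fst pX pY) :=
  pullback.lift (𝟙 V') (pullback.lift g v' hv') (by rw [Category.id_comp, pullback.lift_fst])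

lemma sect_fst : sect pX pY g v' hv' ≫ pullback.fst g (pullback.fst pX pY) = 𝟙 V' := by
  rw [sect, pullback.lift_fst]

lemma sect_snd : sect pX pY g v' hv' ≫ pullback.snd g (pullback.fst pX pY) =
    pullback.lift g v' hv' := by
  rw [sect, pullback.lift_snd]

instance [IsSeparated pY] : IsClosedImmersion (sect pX pY g v' hv') := by
  have : IsClosedImmersion (sect pX pY g v' hv' ≫ pullback.fst g (pullback.fst pX pY)) := by
    rw [sect_fst]; infer_instance
  exact IsClosedImmersion.of_comp _ (pullback.fst g (pullback.fst pX pY))

include hjk hagree hrange in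
/-- The preimage of the graph of `h` lies in the image of the section. -/
theorem preimage_range_graph_subset :
    (pullback.snd g (pullback.fst pX pY)).base ⁻¹' Set.range (pullback.lift U.ι h hh).base ⊆
      Set.range (sect pX pY g v' hv').base := by
  rw [← Scheme.Pullback.range_snd]
  rintro _ ⟨t, rfl⟩
  -- the two morphisms from the pullback agree
  have key : pullback.snd (pullback.lift U.ι h hh) (pullback.snd g (pullback.fst pX pY)) =
      pullback.snd (pullback.lift U.ι h hh) (pullback.snd g (pullback.fst pX pY)) ≫
        pullback.fst g (pullback.fst pX pY) ≫ sect pX pY g v' hv' := by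
    have hcond := pullback.condition (f := pullback.lift U.ι h hh)
      (g := pullback.snd g (pullback.fst pX pY))
    have hX1 : (pullback.snd (pullback.lift U.ι h hh) (pullback.snd g (pullback.fst pX pY)) ≫
        pullback.fst g (pullback.fst pX pY)) ≫ g =
        pullback.fst (pullback.lift U.ι h hh) (pullback.snd g (pullback.fst pX pY)) ≫ U.ι := by
      rw [Category.assoc, pullback.condition, ← Category.assoc, ← hcond, Category.assoc,
        pullback.lift_fst]
    apply pullback.hom_ext
    · rw [Category.assoc, Category.assoc, sect_fst, Category.comp_id]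
    · rw [Category.assoc, Category.assoc, sect_snd]
      apply pullback.hom_ext
      · simp only [Category.assoc, pullback.lift_fst, pullback.condition]
      · have e1 : pullback.snd (pullback.lift U.ι h hh) (pullback.snd g (pullback.fst pX pY)) ≫
            pullback.snd g (pullback.fst pX pY) ≫ pullback.snd pX pY =
            pullback.fst (pullback.lift U.ι h hh) (pullback.snd g (pullback.fst pX pY)) ≫ h := by
          rw [← Category.assoc, ← hcond, Category.assoc, pullback.lift_snd]
        have e2 := comp_eq_of_factors U h g v' j k hjk hagree hrange _ _ hX1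
        simp only [Category.assoc, pullback.lift_snd] at e2 ⊢
        rw [e1, e2]
  refine ⟨(pullback.snd (pullback.lift U.ι h hh) (pullback.snd g (pullback.fst pX pY)) ≫
    pullback.fst g (pullback.fst pX pY)).base t, ?_⟩
  conv_rhs => rw [key]
  rfl

include hjk hagree hrange in
/-- **Fibres of the graph closure are singletons over the image of a universally open morphism
along which the rational map becomes defined.** -/
theorem closure_graph_inter_fibre_subset [IsSeparated pY] [UniversallyOpen g] (x' : V') :
    closure (Set.range (pullback.lift U.ι h hh).base) ∩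
        (pullback.fst pX pY).base ⁻¹' {g.base x'} ⊆
      {(pullback.lift g v' hv').base x'} := by
  rintro z ⟨hzΓ, hzx⟩
  have hzx' : g.base x' = (pullback.fst pX pY).base z := hzx.symm
  obtain ⟨w, hw1, hw2⟩ := Scheme.Pullback.exists_preimage_pullback x' z hzx'
  have hopen : IsOpenMap (pullback.snd g (pullback.fst pX pY)).base :=
    (pullback.snd g (pullback.fst pX pY)).isOpenMap
  have hpre : w ∈ closure ((pullback.snd g (pullback.fst pX pY)).base ⁻¹'
      Set.range (pullback.lift U.ι h hh).base) := by
    rw [← hopen.preimage_closure_eq_closure_preimage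
      (pullback.snd g (pullback.fst pX pY)).continuous]
    change (pullback.snd g (pullback.fst pX pY)).base w ∈
      closure (Set.range (pullback.lift U.ι h hh).base)
    rw [hw2]; exact hzΓ
  have hclosed : IsClosed (Set.range (sect pX pY g v' hv').base) :=
    (sect pX pY g v' hv').isClosedEmbedding.isClosed_range
  have hw : w ∈ Set.range (sect pX pY g v' hv').base :=
    (closure_minimal (preimage_range_graph_subset pX pY U h hh g v' hv' j k hjk hagree hrange)
      hclosed) hpre
  obtain ⟨t, rfl⟩ := hw
  have ht : t = x' := by
    have := congrArg (fun φ => φ.base t) (sect_fst pX pY g v' hv')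
    simp only [Scheme.Hom.comp_base, TopCat.comp_app, Scheme.Hom.id_base, TopCat.id_app] at this
    rw [← this]; exact hw1
  subst ht
  rw [Set.mem_singleton_iff, ← hw2]
  have := congrArg (fun φ => φ.base t) (sect_snd pX pY g v' hv')
  simpa using this

omit [IsOpenImmersion j] in
include hjk hagree hrange in
/-- The point `(g, v')(x')` lies in the graph closure when `U` is dense and `g` is open. -/
theorem mem_closure_graph [UniversallyOpen g] (hU : Dense (U : Set X)) (x' : V') :
    (pullback.lift g v' hv').base x' ∈ closure (Set.range (pullback.lift U.ι h hh).base) := by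
  have hopen : IsOpenMap g.base := g.isOpenMap
  have hd : Dense (g.base ⁻¹' (U : Set X)) := hU.preimage hopen
  have hx' : x' ∈ closure (g.base ⁻¹' (U : Set X)) := hd x'
  have hsub : g.base ⁻¹' (U : Set X) ⊆
      (pullback.lift g v' hv').base ⁻¹' closure (Set.range (pullback.lift U.ι h hh).base) := by
    intro w hw
    obtain ⟨t, rfl⟩ := hrange hw
    apply subset_closure
    refine ⟨k.base t, ?_⟩
    have : k ≫ pullback.lift U.ι h hh = j ≫ pullback.lift g v' hv' := by
      apply pullback.hom_ext
      · rw [Category.assoc, Category.assoc, pullback.lift_fst, pullback.lift_fst, hjk]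
      · rw [Category.assoc, Category.assoc, pullback.lift_snd, pullback.lift_snd, hagree]
    have := congrArg (fun φ => φ.base t) this
    simpa using this
  have hcl : IsClosed ((pullback.lift g v' hv').base ⁻¹'
      closure (Set.range (pullback.lift U.ι h hh).base)) :=
    isClosed_closure.preimage (pullback.lift g v' hv').continuous
  exact (closure_minimal hsub hcl) hx'

end Groth.Agent.H22.RatMapPull
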