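import Mathlib.AlgebraicGeometry.FunctionField
import Mathlib.AlgebraicGeometry.Morphisms.QuasiFinite
import Mathlib.AlgebraicGeometry.SpreadingOut
import Groth.Agent.H22.ChartMaps
import Groth.Agent.H22.AlgZMT

/-!
# Zariski's main theorem for birational morphisms: local isomorphism at quasi-finite points over
normal points (helper22)
-/

set_option autoImplicit false
universe u

namespace Groth.Agent.H22.ZMTLocalIso

open AlgebraicGeometry CategoryTheory TopologicalSpace Opposite Scheme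

theorem germ_stalkMap_eq_appLE_germ {X Y : Scheme.{u}} (f : X ⟶ Y) (W₀ : Y.Opens) (V : X.Opens)
    (hVW : V ≤ f ⁻¹ᵁ W₀) (x : X) (hxV : x ∈ V) :
    Y.presheaf.germ W₀ (f x) (hVW hxV) ≫ f.stalkMap x =
      f.appLE W₀ V hVW ≫ X.presheaf.germ V x hxV := by
  rw [Scheme.Hom.germ_stalkMap, Scheme.Hom.appLE, Category.assoc, TopCat.Presheaf.germ_res]

set_option maxHeartbeats 800000 in
/-- **Zariski's main theorem, birational form.** Let `f : X ⟶ Y` be a birational morphism locally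
of finite type between integral schemes. If `f` is quasi-finite at `x` and the local ring of `Y`
at `f x` is integrally closed, then `𝒪_{Y, f x} ⟶ 𝒪_{X, x}` is bijective. -/
theorem bijective_stalkMap_of_quasiFiniteAt {X Y : Scheme.{u}} [IsIntegral X] [IsIntegral Y]
    (f : X ⟶ Y) [LocallyOfFiniteType f]
    (hgen : f (genericPoint X) = genericPoint Y) (hbir : IsIso (f.stalkMap (genericPoint X)))
    (x : X) (hx : f.QuasiFiniteAt x) (hn : IsIntegrallyClosed (Y.presheaf.stalk (f x))) :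
    Function.Bijective (f.stalkMap x).hom := by
  have hξx : genericPoint X ⤳ x := genericPoint_specializes x
  -- the `𝒪_{Y, f x}`-algebra structure on `K(X)`
  let α : Y.presheaf.stalk (f x) →+* X.functionField :=
    (f.stalkMap x ≫ X.presheaf.stalkSpecializes hξx).hom
  letI algAK : Algebra (Y.presheaf.stalk (f x)) X.functionField := α.toAlgebra
  -- the isomorphism `K(Y) ≅ K(X)`
  let ι₀ := Y.presheaf.stalkCongr (Inseparable.of_eq hgen.symm)
  let e₀ : Y.functionField ⟶ X.functionField := ι₀.hom ≫ f.stalkMap (genericPoint X)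
  have he₀ : IsIso e₀ := inferInstance
  have hcompat : (CommRingCat.ofHom (algebraMap (Y.presheaf.stalk (f x)) Y.functionField)) ≫ e₀ =
      f.stalkMap x ≫ X.presheaf.stalkSpecializes hξx := by
    have h1 : CommRingCat.ofHom (algebraMap (Y.presheaf.stalk (f x)) Y.functionField) =
        Y.presheaf.stalkSpecializes (genericPoint_specializes (f x)) := rfl
    have h2 : ι₀.hom = Y.presheaf.stalkSpecializes (Inseparable.of_eq hgen.symm).ge := rfl
    rw [h1]
    change _ ≫ (ι₀.hom ≫ _) = _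
    rw [h2, ← Category.assoc, TopCat.Presheaf.stalkSpecializes_comp]
    exact Scheme.Hom.stalkSpecializes_stalkMap f _ _ hξx
  have hbij : Function.Bijective e₀.hom := (ConcreteCategory.isIso_iff_bijective e₀).mp he₀
  let E : Y.functionField ≃ₐ[Y.presheaf.stalk (f x)] X.functionField :=
    AlgEquiv.ofRingEquiv (f := RingEquiv.ofBijective e₀.hom hbij) (fun a => by
      have := congr($hcompat a)
      exact this)
  haveI hfrac : IsFractionRing (Y.presheaf.stalk (f x)) X.functionField :=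
    IsLocalization.isLocalization_of_algEquiv _ E
  -- charts
  obtain ⟨W₀, hW₀, hyW₀, -⟩ := exists_isAffineOpen_mem_and_subset (x := f x) (U := ⊤) trivial
  obtain ⟨V, hV, hxV, hVW⟩ := exists_isAffineOpen_mem_and_subset (x := x) (U := f ⁻¹ᵁ W₀) hyW₀
  letI : Algebra Γ(Y, W₀) (Y.presheaf.stalk (f x)) := (Y.presheaf.germ W₀ (f x) hyW₀).hom.toAlgebra
  letI : Algebra Γ(Y, W₀) Γ(X, V) := (f.appLE W₀ V hVW).hom.toAlgebra
  letI : Algebra Γ(Y, W₀) X.functionField :=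
    ((algebraMap (Y.presheaf.stalk (f x)) X.functionField).comp
      (Y.presheaf.germ W₀ (f x) hyW₀).hom).toAlgebra
  haveI : IsScalarTower Γ(Y, W₀) (Y.presheaf.stalk (f x)) X.functionField :=
    IsScalarTower.of_algebraMap_eq (fun _ => rfl)
  haveI hloc : IsLocalization.AtPrime (Y.presheaf.stalk (f x))
      (hW₀.primeIdealOf ⟨f x, hyW₀⟩).asIdeal := hW₀.isLocalization_stalk ⟨f x, hyW₀⟩
  haveI hFT : Algebra.FiniteType Γ(Y, W₀) Γ(X, V) := f.finiteType_appLE hW₀ hV hVW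
  have hξV : genericPoint X ∈ V := hξx.mem_open V.2 hxV
  -- the map `Γ(X, V) ⟶ K(X)`
  have hc : ∀ a : Γ(Y, W₀), (X.presheaf.germ V (genericPoint X) hξV).hom
      (algebraMap Γ(Y, W₀) Γ(X, V) a) = algebraMap Γ(Y, W₀) X.functionField a := by
    intro a
    change _ = (X.presheaf.stalkSpecializes hξx).hom ((f.stalkMap x).hom
      ((Y.presheaf.germ W₀ (f x) hyW₀).hom a))
    have h1 : (f.stalkMap x).hom ((Y.presheaf.germ W₀ (f x) hyW₀).hom a) =
        (X.presheaf.germ V x hxV).hom ((f.appLE W₀ V hVW).hom a) :=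
      congr($(germ_stalkMap_eq_appLE_germ f W₀ V hVW x hxV) a)
    rw [h1]
    have h3 := TopCat.Presheaf.germ_stalkSpecializes_apply X.presheaf hxV hξx
      ((f.appLE W₀ V hVW).hom a)
    exact h3.symm
  let c : Γ(X, V) →ₐ[Γ(Y, W₀)] X.functionField :=
    { (X.presheaf.germ V (genericPoint X) hξV).hom with commutes' := hc }
  have hcinj : Function.Injective c := germ_injective_of_isIntegral X (genericPoint X) hξV
  haveI hnprime : (hV.primeIdealOf ⟨x, hxV⟩).asIdeal.IsPrime := (hV.primeIdealOf ⟨x, hxV⟩).isPrime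
  have hker : RingHom.ker c ≤ (hV.primeIdealOf ⟨x, hxV⟩).asIdeal := by
    intro s hs
    rw [RingHom.mem_ker] at hs
    have : s = 0 := hcinj (by rw [hs, map_zero])
    rw [this]
    exact Ideal.zero_mem _
  have hnp : (hV.primeIdealOf ⟨x, hxV⟩).asIdeal.comap (algebraMap Γ(Y, W₀) Γ(X, V)) =
      (hW₀.primeIdealOf ⟨f x, hyW₀⟩).asIdeal :=
    comap_appLE_primeIdealOf f hW₀ hV hVW x hxV (f x) hyW₀ rfl
  haveI hQF : Algebra.QuasiFiniteAt Γ(Y, W₀) (hV.primeIdealOf ⟨x, hxV⟩).asIdeal :=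
    hx.quasiFiniteAt hV hW₀ hVW hxV
  have hrange : ∀ t : Γ(X, V), c t ∈ (algebraMap (Y.presheaf.stalk (f x)) X.functionField).range :=
    fun t => mem_range_of_quasiFiniteAt (A := Y.presheaf.stalk (f x))
      (hW₀.primeIdealOf ⟨f x, hyW₀⟩).asIdeal c (hV.primeIdealOf ⟨x, hxV⟩).asIdeal hker hnp t
  -- injectivity of the specialization map on `X`
  have hspinj : Function.Injective (X.presheaf.stalkSpecializes hξx).hom :=
    IsFractionRing.injective (X.presheaf.stalk x) X.functionField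
  have hαinj : Function.Injective α := IsFractionRing.injective (Y.presheaf.stalk (f x)) _
  refine ⟨?_, ?_⟩
  · intro a b hab
    apply hαinj
    change (X.presheaf.stalkSpecializes hξx).hom ((f.stalkMap x).hom a) =
      (X.presheaf.stalkSpecializes hξx).hom ((f.stalkMap x).hom b)
    rw [hab]
  · -- surjectivity
    have hgermrange : ∀ t : Γ(X, V), ∃ a : Y.presheaf.stalk (f x),
        (f.stalkMap x).hom a = (X.presheaf.germ V x hxV).hom t := by
      intro t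
      obtain ⟨a, ha⟩ := hrange t
      refine ⟨a, hspinj ?_⟩
      have h3 := TopCat.Presheaf.germ_stalkSpecializes_apply X.presheaf hxV hξx t
      rw [h3]
      exact ha
    letI : Algebra Γ(X, V) (X.presheaf.stalk x) := (X.presheaf.germ V x hxV).hom.toAlgebra
    haveI hlocX : IsLocalization.AtPrime (X.presheaf.stalk x)
        (hV.primeIdealOf ⟨x, hxV⟩).asIdeal := hV.isLocalization_stalk ⟨x, hxV⟩
    intro z
    obtain ⟨⟨s, t⟩, hst⟩ := IsLocalization.surj (hV.primeIdealOf ⟨x, hxV⟩).asIdeal.primeCompl z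
    obtain ⟨a, ha⟩ := hgermrange s
    obtain ⟨b, hb⟩ := hgermrange t
    have htunit : IsUnit ((X.presheaf.germ V x hxV).hom t) :=
      IsLocalization.map_units (X.presheaf.stalk x) t
    have hbunit : IsUnit b := by
      have : IsUnit ((f.stalkMap x).hom b) := hb ▸ htunit
      exact (isUnit_map_iff (f.stalkMap x).hom b).mp this
    obtain ⟨ub, hub⟩ := hbunit
    refine ⟨a * ↑ub⁻¹, ?_⟩
    have hst' : z * (X.presheaf.germ V x hxV).hom t = (X.presheaf.germ V x hxV).hom s := hst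
    rw [map_mul, ha, ← hst', ← hb, ← hub, mul_assoc, ← map_mul]
    simp

/-- If `g ≫ r` is an open immersion `j`, `r` has a retraction `p` and `g = j ≫ p`, then `g` is an
open immersion. -/
theorem isOpenImmersion_of_retract {W U Z : Scheme.{u}} (g : W ⟶ U) (r : U ⟶ Z) (p : Z ⟶ U)
    (j : W ⟶ Z) [IsOpenImmersion j] (h1 : g ≫ r = j) (h2 : r ≫ p = 𝟙 U) (h3 : j ≫ p = g) :
    IsOpenImmersion g := by
  let U' : U.Opens := r ⁻¹ᵁ j.opensRange
  have hg : Set.range g ⊆ Set.range U'.ι := by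
    rintro _ ⟨w, rfl⟩
    rw [Scheme.Opens.range_ι]
    change r (g w) ∈ j.opensRange
    rw [← Scheme.Hom.comp_apply, h1]
    exact ⟨w, rfl⟩
  let a : W ⟶ U'.toScheme := IsOpenImmersion.lift U'.ι g hg
  have ha : a ≫ U'.ι = g := IsOpenImmersion.lift_fac _ _ _
  have hb0 : Set.range (U'.ι ≫ r) ⊆ Set.range j := by
    rintro _ ⟨u, rfl⟩
    exact u.2
  let b : U'.toScheme ⟶ W := IsOpenImmersion.lift j (U'.ι ≫ r) hb0
  have hb : b ≫ j = U'.ι ≫ r := IsOpenImmersion.lift_fac _ _ _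
  have hab : a ≫ b = 𝟙 _ := by
    rw [← cancel_mono j, Category.assoc, hb, ← Category.assoc, ha, h1, Category.id_comp]
  have hba : b ≫ a = 𝟙 _ := by
    rw [← cancel_mono U'.ι, Category.assoc, ha, ← h3, ← Category.assoc, hb, Category.assoc, h2,
      Category.comp_id, Category.id_comp]
  have : IsIso a := ⟨b, hab, hba⟩
  rw [← ha]
  infer_instance

/-- **Spreading out a bijective stalk map to a local section.** -/
theorem exists_section_of_bijective_stalkMap {X Y : Scheme.{u}} (f : X ⟶ Y)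
    [LocallyOfFiniteType f] (x : X) [X.IsGermInjectiveAt x] [Y.IsGermInjectiveAt (f x)]
    (h : Function.Bijective (f.stalkMap x).hom) :
    ∃ (U : Y.Opens) (hxU : x ∈ f ⁻¹ᵁ U) (s : U.toScheme ⟶ X) (W' : (f ⁻¹ᵁ U).toScheme.Opens),
      (⟨x, hxU⟩ : (f ⁻¹ᵁ U).toScheme) ∈ W' ∧ s ≫ f = U.ι ∧
        W'.ι ≫ (f ∣_ U) ≫ s = W'.ι ≫ (f ⁻¹ᵁ U).ι := by
  have hiso : IsIso (f.stalkMap x) := (ConcreteCategory.isIso_iff_bijective _).mpr h
  let φ : Spec (Y.presheaf.stalk (f x)) ⟶ X := Spec.map (inv (f.stalkMap x)) ≫ X.fromSpecStalk x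
  have hφ : φ ≫ f = Y.fromSpecStalk (f x) ≫ 𝟙 Y := by
    rw [Category.comp_id, Category.assoc, ← Scheme.SpecMap_stalkMap_fromSpecStalk,
      ← Spec.map_comp_assoc, IsIso.hom_inv_id, Spec.map_id, Category.id_comp]
  obtain ⟨U, hyU, s, hs1, hs2⟩ := spread_out_of_isGermInjective' (𝟙 Y) f φ hφ
  rw [Category.comp_id] at hs2
  have hxU : x ∈ f ⁻¹ᵁ U := hyU
  have hgi : (f ⁻¹ᵁ U).toScheme.IsGermInjectiveAt (⟨x, hxU⟩ : (f ⁻¹ᵁ U).toScheme) := by
    have h0 : X.IsGermInjectiveAt ((f ⁻¹ᵁ U).ι (⟨x, hxU⟩ : (f ⁻¹ᵁ U).toScheme)) :=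
      ‹X.IsGermInjectiveAt x›
    exact (isGermInjectiveAt_iff_of_isOpenImmersion (f := (f ⁻¹ᵁ U).ι)).mp h0
  have key : (f ⁻¹ᵁ U).fromSpecStalkOfMem x hxU ≫ (f ∣_ U) ≫ s =
      (f ⁻¹ᵁ U).fromSpecStalkOfMem x hxU ≫ (f ⁻¹ᵁ U).ι := by
    have h1 : (f ⁻¹ᵁ U).fromSpecStalkOfMem x hxU ≫ (f ∣_ U) =
        Spec.map (f.stalkMap x) ≫ U.fromSpecStalkOfMem (f x) hyU := by
      rw [← cancel_mono U.ι, Category.assoc, morphismRestrict_ι,
        Scheme.Opens.fromSpecStalkOfMem_ι_assoc, Category.assoc,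
        Scheme.Opens.fromSpecStalkOfMem_ι, Scheme.SpecMap_stalkMap_fromSpecStalk]
    rw [← Category.assoc, h1, Category.assoc, ← hs1, Scheme.Opens.fromSpecStalkOfMem_ι]
    change Spec.map (f.stalkMap x) ≫ Spec.map (inv (f.stalkMap x)) ≫ X.fromSpecStalk x = _
    rw [← Spec.map_comp_assoc, IsIso.inv_hom_id, Spec.map_id, Category.id_comp]
  have h3 : Spec.map ((f ⁻¹ᵁ U).ι.stalkMap (⟨x, hxU⟩ : (f ⁻¹ᵁ U).toScheme)) ≫
      Spec.map (inv ((f ⁻¹ᵁ U).ι.stalkMap (⟨x, hxU⟩ : (f ⁻¹ᵁ U).toScheme))) = 𝟙 _ := by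
    rw [← Spec.map_comp, IsIso.inv_hom_id, Spec.map_id]
  have h2 : (f ⁻¹ᵁ U).toScheme.fromSpecStalk (⟨x, hxU⟩ : (f ⁻¹ᵁ U).toScheme) =
      Spec.map ((f ⁻¹ᵁ U).ι.stalkMap (⟨x, hxU⟩ : (f ⁻¹ᵁ U).toScheme)) ≫
        (f ⁻¹ᵁ U).fromSpecStalkOfMem x hxU := by
    change _ = _ ≫ (Spec.map (inv _) ≫ _)
    rw [← Category.assoc, h3, Category.id_comp]
  obtain ⟨W', hxW', hW'⟩ := spread_out_unique_of_isGermInjective'
    (x := (⟨x, hxU⟩ : (f ⁻¹ᵁ U).toScheme))
    ((f ∣_ U) ≫ s) (f ⁻¹ᵁ U).ι (by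
      rw [h2, Category.assoc, Category.assoc]
      exact congrArg (_ ≫ ·) key)
  exact ⟨U, hxU, s, W', hxW', hs2, hW'⟩

/-- The lift of a local section `s` of `f` over `U` to `f ⁻¹ᵁ U`. -/
theorem exists_lift_section {X Y : Scheme.{u}} (f : X ⟶ Y) (U : Y.Opens) (s : U.toScheme ⟶ X)
    (hs : s ≫ f = U.ι) :
    ∃ s' : U.toScheme ⟶ (f ⁻¹ᵁ U).toScheme, s' ≫ (f ⁻¹ᵁ U).ι = s ∧ s' ≫ (f ∣_ U) = 𝟙 _ := by
  have hr : Set.range s ⊆ Set.range (f ⁻¹ᵁ U).ι := by
    rintro _ ⟨u, rfl⟩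
    rw [Scheme.Opens.range_ι]
    change f (s u) ∈ U
    rw [← Scheme.Hom.comp_apply, hs]
    exact u.2
  refine ⟨IsOpenImmersion.lift (f ⁻¹ᵁ U).ι s hr, IsOpenImmersion.lift_fac _ _ _, ?_⟩
  rw [← cancel_mono U.ι, Category.assoc, morphismRestrict_ι, IsOpenImmersion.lift_fac_assoc, hs,
    Category.id_comp]

/-- A morphism locally of finite type with bijective stalk map at `x` is an open immersion on a
neighbourhood of `x` (under germ-injectivity hypotheses). -/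
theorem exists_isOpenImmersion_of_bijective_stalkMap {X Y : Scheme.{u}} (f : X ⟶ Y)
    [LocallyOfFiniteType f] (x : X) [X.IsGermInjectiveAt x] [Y.IsGermInjectiveAt (f x)]
    (h : Function.Bijective (f.stalkMap x).hom) :
    ∃ W : X.Opens, x ∈ W ∧ IsOpenImmersion (W.ι ≫ f) := by
  obtain ⟨U, hyU, s, W', hxW', hs, hW'⟩ := exists_section_of_bijective_stalkMap f x h
  obtain ⟨s', hs'1, hs'2⟩ := exists_lift_section f U s hs
  have hg : IsOpenImmersion (W'.ι ≫ (f ∣_ U)) := by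
    refine isOpenImmersion_of_retract (W'.ι ≫ (f ∣_ U)) s' (f ∣_ U) W'.ι ?_ hs'2 rfl
    rw [← cancel_mono (f ⁻¹ᵁ U).ι, Category.assoc, Category.assoc, hs'1, hW']
  refine ⟨(f ⁻¹ᵁ U).ι ''ᵁ W', ⟨⟨x, hyU⟩, hxW', rfl⟩, ?_⟩
  have h1 : ((f ⁻¹ᵁ U).ι ''ᵁ W').ι ≫ f =
      ((f ⁻¹ᵁ U).ι.isoImage W').inv ≫ (W'.ι ≫ (f ∣_ U)) ≫ U.ι := by
    rw [Category.assoc, morphismRestrict_ι, ← Scheme.Hom.isoImage_inv_ι_assoc]
  rw [h1]
  infer_instance

/-- **Global form** for separated morphisms from integral schemes: `f` is an isomorphism over a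
neighbourhood of `f x`. -/
theorem exists_isIso_morphismRestrict_of_bijective_stalkMap {X Y : Scheme.{u}} [IsIntegral X]
    (f : X ⟶ Y) [LocallyOfFiniteType f] [IsSeparated f] (x : X) [Y.IsGermInjectiveAt (f x)]
    (h : Function.Bijective (f.stalkMap x).hom) :
    ∃ U : Y.Opens, f x ∈ U ∧ IsIso (f ∣_ U) := by
  obtain ⟨U, hyU, s, W', hxW', hs, hW'⟩ := exists_section_of_bijective_stalkMap f x h
  obtain ⟨s', hs'1, hs'2⟩ := exists_lift_section f U s hs
  refine ⟨U, hyU, ?_⟩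
  have hne : Nonempty (f ⁻¹ᵁ U) := ⟨⟨x, hyU⟩⟩
  have hdom : IsDominant W'.ι := by
    constructor
    rw [DenseRange, Scheme.Opens.range_ι]
    exact W'.2.dense ⟨_, hxW'⟩
  have heq : (f ∣_ U) ≫ s = (f ⁻¹ᵁ U).ι := by
    refine ext_of_isDominant_of_isSeparated f ?_ W'.ι hW'
    rw [Category.assoc, hs, morphismRestrict_ι]
  refine ⟨s', ?_, hs'2⟩
  rw [← cancel_mono (f ⁻¹ᵁ U).ι, Category.assoc, hs'1, heq, Category.id_comp]

end Groth.Agent.H22.ZMTLocalIso
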