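import Mathlib.AlgebraicGeometry.ValuativeCriterion
import Mathlib.AlgebraicGeometry.Morphisms.FormallyUnramified
import Mathlib.RingTheory.Unramified.LocalStructure
import Groth.Agent.H22.ZMTLocalIso
import Groth.Agent.H22.RedImm
import Groth.Agent.H22.GlueOpens
import Groth.Agent.H84.LocNoeth

/-!
# Rational sections of separated quasi-finite formally proper morphisms over normal bases extend
(helper22)

* `existence_comp`: the existence part of the valuative criterion is stable under composition.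
* `locallyQuasiFinite_of_unramified`.
* `exists_section_of_isIntegral`: integral base.
* `exists_section`: locally Noetherian normal base.
-/

set_option autoImplicit false
universe u

namespace Groth.Agent.H22.RatSection

open AlgebraicGeometry CategoryTheory CategoryTheory.Limits TopologicalSpace

/-- The existence part of the valuative criterion is stable under composition. -/
theorem existence_comp {X Y Z : Scheme.{u}} (f : X ⟶ Y) (g : Y ⟶ Z)
    (hf : ValuativeCriterion.Existence f) (hg : ValuativeCriterion.Existence g) :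
    ValuativeCriterion.Existence (f ≫ g) := by
  intro Sq
  let Sq' : ValuativeCommSq g :=
    { R := Sq.R, K := Sq.K, i₁ := Sq.i₁ ≫ f, i₂ := Sq.i₂
      commSq := ⟨by simpa [Category.assoc] using Sq.commSq.w⟩ }
  obtain ⟨l, hl₁, hl₂⟩ := (hg Sq').exists_lift
  let Sq'' : ValuativeCommSq f :=
    { R := Sq.R, K := Sq.K, i₁ := Sq.i₁, i₂ := l
      commSq := ⟨hl₁.symm⟩ }
  obtain ⟨l', hl'₁, hl'₂⟩ := (hf Sq'').exists_lift
  exact ⟨⟨⟨l', hl'₁, by rw [← Category.assoc, hl'₂, hl₂]⟩⟩⟩

theorem existence_of_universallyClosed {X Y : Scheme.{u}} (f : X ⟶ Y) [UniversallyClosed f] :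
    ValuativeCriterion.Existence f := by
  have : (ValuativeCriterion.Existence ⊓ @QuasiCompact) f := by
    rw [← UniversallyClosed.eq_valuativeCriterion]
    infer_instance
  exact this.1

theorem locallyQuasiFinite_of_unramified {X Y : Scheme.{u}} (f : X ⟶ Y) [LocallyOfFiniteType f]
    [FormallyUnramified f] : LocallyQuasiFinite f := by
  refine ⟨fun {U} hU {V} hV e => ?_⟩
  have h1 : (f.appLE U V e).hom.FiniteType := f.finiteType_appLE hU hV e
  have h2 : (f.appLE U V e).hom.FormallyUnramified := f.formallyUnramified_appLE hU hV e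
  algebraize [(f.appLE U V e).hom]
  have : Algebra.QuasiFinite Γ(Y, U) Γ(X, V) := inferInstance
  exact this

theorem irreducibleSpace_of_isInducing {A B : Type*} [TopologicalSpace A] [TopologicalSpace B]
    (i : A → B) (hi : Topology.IsInducing i) (h : IsIrreducible (Set.range i)) :
    IrreducibleSpace A := by
  have hne : Nonempty A := by
    obtain ⟨_, a, rfl⟩ := h.nonempty
    exact ⟨a⟩
  refine { isPreirreducible_univ := ?_, toNonempty := hne }
  rintro U₁ U₂ hU₁ hU₂ ⟨a₁, -, ha₁⟩ ⟨a₂, -, ha₂⟩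
  obtain ⟨W₁, hW₁, rfl⟩ := hi.isOpen_iff.mp hU₁
  obtain ⟨W₂, hW₂, rfl⟩ := hi.isOpen_iff.mp hU₂
  obtain ⟨_, ⟨a, rfl⟩, hb⟩ := h.isPreirreducible W₁ W₂ hW₁ hW₂ ⟨i a₁, ⟨a₁, rfl⟩, ha₁⟩
    ⟨i a₂, ⟨a₂, rfl⟩, ha₂⟩
  exact ⟨a, trivial, hb⟩

/-- **Integral case.** -/
theorem exists_section_of_isIntegral {Y T U' : Scheme.{u}} [IsIntegral T]
    (g : Y ⟶ T) [IsSeparated g] [LocallyQuasiFinite g] [LocallyOfFiniteType g]
    (hg : ValuativeCriterion.Existence g)
    (hT : ∀ t : T, IsIntegrallyClosed (T.presheaf.stalk t))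
    (a : U' ⟶ T) [IsOpenImmersion a] [Nonempty U'] (v : U' ⟶ Y) (hv : v ≫ g = a) :
    ∃ w : T ⟶ Y, w ≫ g = 𝟙 T ∧ a ≫ w = v := by
  haveI : IsIntegral U' := isIntegral_of_isOpenImmersion a
  haveI : IsImmersion (v ≫ g) := by rw [hv]; infer_instance
  haveI : IsImmersion v := IsImmersion.of_comp v g
  obtain ⟨Z', j, i, hj, hi, hred, hrange, hji⟩ := exists_factor_of_isImmersion_of_isReduced v
  haveI : IrreducibleSpace Z' := by
    apply irreducibleSpace_of_isInducing i i.isClosedEmbedding.isInducing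
    rw [hrange]
    apply IsIrreducible.closure
    have := (IrreducibleSpace.isIrreducible_univ U').image v v.continuous.continuousOn
    rwa [Set.image_univ] at this
  haveI : IsIntegral Z' := isIntegral_of_irreducibleSpace_of_isReduced Z'
  obtain ⟨g', hg'⟩ : ∃ g' : Z' ⟶ T, g' = i ≫ g := ⟨_, rfl⟩
  haveI : IsSeparated g' := by rw [hg']; infer_instance
  haveI : LocallyQuasiFinite g' := by rw [hg']; infer_instance
  haveI : LocallyOfFiniteType g' := by rw [hg']; infer_instance
  have hjg : j ≫ g' = a := by rw [hg', ← Category.assoc, hji, hv]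
  have hgen : g' (genericPoint Z') = genericPoint T := by
    rw [← genericPoint_eq_of_isOpenImmersion j, ← Scheme.Hom.comp_apply, hjg,
      genericPoint_eq_of_isOpenImmersion a]
  have hiso : ∀ u : U', IsIso (g'.stalkMap (j u)) := by
    intro u
    have h1 : (j ≫ g').stalkMap u = g'.stalkMap (j u) ≫ j.stalkMap u :=
      Scheme.Hom.stalkMap_comp j g' u
    haveI : IsOpenImmersion (j ≫ g') := by rw [hjg]; infer_instance
    have h2 : IsIso ((j ≫ g').stalkMap u) := inferInstance
    haveI : IsIso (g'.stalkMap (j u) ≫ j.stalkMap u) := by rw [← h1]; exact h2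
    exact IsIso.of_isIso_comp_right _ (j.stalkMap u)
  have hbir : IsIso (g'.stalkMap (genericPoint Z')) := by
    have e : j (genericPoint U') = genericPoint Z' := genericPoint_eq_of_isOpenImmersion j
    exact e ▸ hiso (genericPoint U')
  have hE : ValuativeCriterion.Existence g' := by
    rw [hg']
    exact existence_comp i g (existence_of_universallyClosed i) hg
  have hsurj : Function.Surjective g' := by
    intro t
    obtain ⟨z, -, hz⟩ := ValuativeCriterion.Existence.specializingMap g' hE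
      (show g' (genericPoint Z') ⤳ t by rw [hgen]; exact genericPoint_specializes t)
    exact ⟨z, hz⟩
  have hloc : ∀ z : Z', ∃ V : T.Opens, g' z ∈ V ∧ IsIso (g' ∣_ V) := by
    intro z
    have hb := ZMTLocalIso.bijective_stalkMap_of_quasiFiniteAt g' hgen hbir z
      (g'.quasiFiniteAt z) (hT _)
    exact ZMTLocalIso.exists_isIso_morphismRestrict_of_bijective_stalkMap g' z hb
  choose V hzV hV using hloc
  haveI : IsIso g' := by
    have hsup : ⨆ z, V z = ⊤ := by
      rw [eq_top_iff]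
      intro t _
      obtain ⟨z, rfl⟩ := hsurj t
      exact Opens.mem_iSup.mpr ⟨z, hzV z⟩
    exact (IsZariskiLocalAtTarget.iff_of_iSup_eq_top
      (P := MorphismProperty.isomorphisms Scheme) V hsup).mpr hV
  refine ⟨inv g' ≫ i, ?_, ?_⟩
  · rw [Category.assoc, ← hg']
    exact IsIso.inv_hom_id g'
  · rw [← hjg, Category.assoc, IsIso.hom_inv_id_assoc, hji]

/-- Gluing morphisms along an open cover indexed by the points. -/
theorem exists_glue_points {X Y : Scheme.{u}} (V : X → X.Opens) (hV : ∀ x, x ∈ V x)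
    (g : ∀ x, (V x : Scheme.{u}) ⟶ Y)
    (hg : ∀ x x', X.homOfLE (inf_le_left : V x ⊓ V x' ≤ V x) ≫ g x =
      X.homOfLE (inf_le_right : V x ⊓ V x' ≤ V x') ≫ g x') :
    ∃ r : X ⟶ Y, ∀ x, (V x).ι ≫ r = g x := by
  let 𝒰 : X.OpenCover := {
    I₀ := X, X i := (V i), f i := (V i).ι,
    mem₀ := by
      rw [Scheme.presieve₀_mem_precoverage_iff]
      refine ⟨fun x ↦ ⟨x, by simpa using hV x⟩, inferInstance⟩ }
  have hcompat : ∀ z z' : X, pullback.fst (𝒰.f z) (𝒰.f z') ≫ g z =
      pullback.snd (𝒰.f z) (𝒰.f z') ≫ g z' := by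
    intro z z'
    have hp := isPullback_opens_inf (V z) (V z')
    change pullback.fst (V z).ι (V z').ι ≫ g z = pullback.snd (V z).ι (V z').ι ≫ g z'
    rw [← hp.isoPullback_inv_fst, ← hp.isoPullback_inv_snd, Category.assoc, Category.assoc, hg]
  exact ⟨𝒰.glueMorphisms g hcompat, fun z => 𝒰.ι_glueMorphisms g hcompat z⟩

/-- **Rational sections extend**: `S` locally Noetherian and normal, `f : Z ⟶ S` separated, locally
quasi-finite, locally of finite type and satisfying the existence part of the valuative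
criterion. Then every section of `f` over a dense open extends uniquely to a section over `S`. -/
theorem exists_section {Z S : Scheme.{u}} (f : Z ⟶ S) [IsLocallyNoetherian S]
    (hS : ∀ s : S, IsDomain (S.presheaf.stalk s) ∧ IsIntegrallyClosed (S.presheaf.stalk s))
    [IsSeparated f] [LocallyQuasiFinite f] [LocallyOfFiniteType f]
    (hfp : ValuativeCriterion.Existence f) (U : S.Opens) (hU : Dense (U : Set S)) (v : ↑U ⟶ Z)
    (hv : v ≫ f = U.ι) :
    ∃ w : S ⟶ Z, w ≫ f = 𝟙 S ∧ U.ι ≫ w = v := by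
  haveI : IsReduced S := by
    haveI : ∀ s : S, _root_.IsReduced (S.presheaf.stalk s) := fun s => by
      haveI := (hS s).1
      infer_instance
    exact isReduced_of_isReduced_stalk S
  have hloc : ∀ s : S, ∃ (V : S.Opens) (σ : ↑V ⟶ Z), s ∈ V ∧ σ ≫ f = V.ι ∧
      S.homOfLE (inf_le_right : U ⊓ V ≤ V) ≫ σ = S.homOfLE (inf_le_left : U ⊓ V ≤ U) ≫ v := by
    intro s
    haveI := (hS s).1
    obtain ⟨V, hsV, hVint⟩ := Groth.Agent.H84.LocNoeth.exists_integral_nhd S s
    have hg : ValuativeCriterion.Existence (pullback.snd f V.ι) :=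
      MorphismProperty.pullback_snd _ _ hfp
    have hT : ∀ t : V.toScheme, IsIntegrallyClosed (V.toScheme.presheaf.stalk t) := by
      intro t
      have e : S.presheaf.stalk (V.ι t) ≅ V.toScheme.presheaf.stalk t := asIso (V.ι.stalkMap t)
      haveI := (hS (V.ι t)).2
      exact IsIntegrallyClosed.of_equiv e.commRingCatIsoToRingEquiv
    haveI : Nonempty ↑(U ⊓ V) := by
      obtain ⟨x, hxV, hxU⟩ := hU.inter_open_nonempty V V.isOpen ⟨s, hsV⟩
      exact ⟨⟨x, hxU, hxV⟩⟩
    obtain ⟨w, hw1, hw2⟩ := exists_section_of_isIntegral (pullback.snd f V.ι) hg hT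
      (S.homOfLE (inf_le_right : U ⊓ V ≤ V))
      (pullback.lift (S.homOfLE (inf_le_left : U ⊓ V ≤ U) ≫ v) (S.homOfLE inf_le_right)
        (by rw [Category.assoc, hv, S.homOfLE_ι, S.homOfLE_ι]))
      (pullback.lift_snd _ _ _)
    refine ⟨V, w ≫ pullback.fst f V.ι, hsV, ?_, ?_⟩
    · rw [Category.assoc, pullback.condition, ← Category.assoc, hw1, Category.id_comp]
    · rw [← Category.assoc, hw2, pullback.lift_fst]
  choose V σ hsV hσ1 hσ2 using hloc
  have hcompat : ∀ s t, S.homOfLE (inf_le_left : V s ⊓ V t ≤ V s) ≫ σ s =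
      S.homOfLE (inf_le_right : V s ⊓ V t ≤ V t) ≫ σ t := by
    intro s t
    haveI : IsDominant (S.homOfLE (inf_le_right : U ⊓ (V s ⊓ V t) ≤ V s ⊓ V t)) := by
      constructor
      rw [DenseRange, dense_iff_inter_open]
      rintro O hO ⟨x, hx⟩
      obtain ⟨O', hO', rfl⟩ := isOpen_induced_iff.mp hO
      obtain ⟨y, hyO, hyU⟩ := hU.inter_open_nonempty (O' ∩ (V s ⊓ V t : S.Opens))
        (hO'.inter (V s ⊓ V t).isOpen) ⟨x.1, hx, x.2⟩
      exact ⟨⟨y, hyO.2⟩, hyO.1, ⟨⟨y, hyU, hyO.2⟩, Scheme.homOfLE_apply' _ _ _⟩⟩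
    have key : ∀ (r : S) (hr : V s ⊓ V t ≤ V r),
        S.homOfLE (inf_le_right : U ⊓ (V s ⊓ V t) ≤ V s ⊓ V t) ≫ S.homOfLE hr ≫ σ r =
          S.homOfLE (inf_le_left : U ⊓ (V s ⊓ V t) ≤ U) ≫ v := by
      intro r hr
      have h1 : S.homOfLE (inf_le_right : U ⊓ (V s ⊓ V t) ≤ V s ⊓ V t) ≫ S.homOfLE hr =
          S.homOfLE (inf_le_inf_left U hr : U ⊓ (V s ⊓ V t) ≤ U ⊓ V r) ≫
            S.homOfLE inf_le_right := by
        simp only [Scheme.homOfLE_homOfLE]
      rw [← Category.assoc, h1, Category.assoc, hσ2, ← Category.assoc, Scheme.homOfLE_homOfLE]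
    refine ext_of_isDominant_of_isSeparated f ?_
      (S.homOfLE (inf_le_right : U ⊓ (V s ⊓ V t) ≤ V s ⊓ V t)) ?_
    · rw [Category.assoc, Category.assoc, hσ1, hσ1, S.homOfLE_ι, S.homOfLE_ι]
    · rw [key s inf_le_left, key t inf_le_right]
  obtain ⟨w, hw⟩ := exists_glue_points V hsV σ hcompat
  refine ⟨w, ?_, ?_⟩
  · refine hom_ext_of_jointly_surjective (fun s => (V s).toScheme) (fun s => (V s).ι)
      (fun t => ⟨t, by simpa using hsV t⟩) _ _ ?_
    intro s
    rw [← Category.assoc, hw, hσ1, Category.comp_id]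
  · refine hom_ext_of_jointly_surjective (fun s => ((U ⊓ V s : S.Opens)).toScheme)
      (fun s => S.homOfLE (inf_le_left : U ⊓ V s ≤ U)) ?_ _ _ ?_
    · intro u
      exact ⟨u.1, ⟨⟨u.1, u.2, hsV u.1⟩, Scheme.homOfLE_apply' _ _ _⟩⟩
    · intro s
      rw [← Category.assoc, S.homOfLE_ι, ← S.homOfLE_ι (inf_le_right : U ⊓ V s ≤ V s),
        Category.assoc, hw, hσ2]

end Groth.Agent.H22.RatSection
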