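import Mathlib.AlgebraicGeometry.Morphisms.Separated
import Mathlib.AlgebraicGeometry.Morphisms.Immersion
import Mathlib.AlgebraicGeometry.PullbackCarrier
import Groth.Agent.H22.RedImm

set_option autoImplicit false
universe u
open CategoryTheory CategoryTheory.Limits AlgebraicGeometry TopologicalSpace

namespace Groth.Agent.H22.SepCriteria

/-- A morphism is separated as soon as its diagonal has closed range. -/
theorem isSeparated_of_isClosed_range_diagonal {X S : Scheme.{u}} (f : X ⟶ S)
    (h : IsClosed (Set.range (pullback.diagonal f))) : IsSeparated f :=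
  ⟨IsClosedImmersion.of_isPreimmersion _ h⟩

/-- If morphisms from reduced schemes into `X` over `S` are determined by their restriction to
a dense open, then `X` is separated over `S`. -/
theorem isSeparated_of_ext_of_dense {X S : Scheme.{u}} (f : X ⟶ S)
    (H : ∀ (T : Scheme.{u}) [IsReduced T] (g₁ g₂ : T ⟶ X) (U : T.Opens), g₁ ≫ f = g₂ ≫ f →
      Dense (U : Set T) → U.ι ≫ g₁ = U.ι ≫ g₂ → g₁ = g₂) : IsSeparated f := by
  let Tc : Closeds X := ⊤
  let I := Scheme.IdealSheafData.vanishingIdeal Tc
  have hR : IsReduced I.subscheme := Groth.Agent.H22.isReduced_subscheme_vanishingIdeal Tc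
  let r : I.subscheme ⟶ X := I.subschemeι
  have hrrange : Set.range r = Set.univ := by
    rw [Scheme.IdealSheafData.range_subschemeι]
    simp [I, Tc]
  let h : I.subscheme ⟶ pullback f f := r ≫ pullback.diagonal f
  obtain ⟨W, j, i, hj, hi, hW, hrange, hji⟩ :=
    Groth.Agent.H22.exists_factor_of_isImmersion_of_isReduced h
  have hhrange : Set.range h = Set.range (pullback.diagonal f) := by
    simp only [h, Scheme.Hom.comp_base, TopCat.coe_comp, Set.range_comp, hrrange, Set.image_univ]
  have hdense : Dense (j.opensRange : Set W) := by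
    rw [dense_iff_closure_eq]
    have h1 : i '' closure (Set.range j) = i '' Set.univ := by
      rw [← i.isClosedEmbedding.closure_image_eq, ← Set.range_comp, Set.image_univ, hrange,
        ← hji]
      rfl
    exact (Set.image_eq_image i.isClosedEmbedding.injective).mp h1
  have key : i ≫ pullback.fst f f = i ≫ pullback.snd f f := by
    refine H W _ _ j.opensRange (by simp [pullback.condition]) hdense ?_
    have e1 : j.opensRange.ι ≫ i ≫ pullback.fst f f = j.isoOpensRange.inv ≫ r := by
      rw [← j.isoOpensRange_inv_comp, Category.assoc, reassoc_of% hji]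
      simp only [h, Category.assoc, pullback.diagonal_fst, Category.comp_id]
    have e2 : j.opensRange.ι ≫ i ≫ pullback.snd f f = j.isoOpensRange.inv ≫ r := by
      rw [← j.isoOpensRange_inv_comp, Category.assoc, reassoc_of% hji]
      simp only [h, Category.assoc, pullback.diagonal_snd, Category.comp_id]
    exact e1.trans e2.symm
  have hi' : i = (i ≫ pullback.fst f f) ≫ pullback.diagonal f := by
    apply pullback.hom_ext
    · simp
    · simp [key]
  apply isSeparated_of_isClosed_range_diagonal
  rw [← closure_subset_iff_isClosed, ← hhrange, ← hrange]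
  rintro _ ⟨w, rfl⟩
  rw [hhrange]
  refine ⟨(i ≫ pullback.fst f f) w, ?_⟩
  rw [← Scheme.Hom.comp_apply, ← hi']


/-- Separatedness can be checked on opens containing any two given points of a fibre. -/
theorem isSeparated_of_local {X S : Scheme.{u}} (f : X ⟶ S)
    (H : ∀ x₁ x₂ : X, f x₁ = f x₂ →
      ∃ V : X.Opens, x₁ ∈ V ∧ x₂ ∈ V ∧ IsSeparated (V.ι ≫ f)) : IsSeparated f := by
  apply isSeparated_of_isClosed_range_diagonal
  rw [← closure_subset_iff_isClosed]
  intro z hz
  have hcond : f (pullback.fst f f z) = f (pullback.snd f f z) := by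
    rw [← Scheme.Hom.comp_apply, ← Scheme.Hom.comp_apply, pullback.condition]
  obtain ⟨V, h1, h2, hV⟩ := H _ _ hcond
  let m : pullback (V.ι ≫ f) (V.ι ≫ f) ⟶ pullback f f :=
    pullback.map _ _ _ _ V.ι V.ι (𝟙 S) (by simp) (by simp)
  have hm : IsOpenImmersion m := inferInstance
  have hzm : z ∈ Set.range m := by
    rw [Scheme.Pullback.range_map]
    refine ⟨?_, ?_⟩
    · show pullback.fst f f z ∈ Set.range V.ι
      rw [Scheme.Opens.range_ι]; exact h1
    · show pullback.snd f f z ∈ Set.range V.ι
      rw [Scheme.Opens.range_ι]; exact h2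
  obtain ⟨w, rfl⟩ := hzm
  have hmfst : m ≫ pullback.fst f f = pullback.fst (V.ι ≫ f) (V.ι ≫ f) ≫ V.ι :=
    pullback.lift_fst _ _ _
  have hmsnd : m ≫ pullback.snd f f = pullback.snd (V.ι ≫ f) (V.ι ≫ f) ≫ V.ι :=
    pullback.lift_snd _ _ _
  have hΔ : pullback.diagonal (V.ι ≫ f) ≫ m = V.ι ≫ pullback.diagonal f := by
    apply pullback.hom_ext
    · rw [Category.assoc, hmfst]; simp
    · rw [Category.assoc, hmsnd]; simp
  have hpre : ∀ o : ↑(pullback (V.ι ≫ f) (V.ι ≫ f)), m o ∈ Set.range (pullback.diagonal f) →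
      o ∈ Set.range (pullback.diagonal (V.ι ≫ f)) := by
    rintro o ⟨x, hx⟩
    refine ⟨pullback.fst (V.ι ≫ f) (V.ι ≫ f) o, ?_⟩
    apply m.isOpenEmbedding.injective
    rw [← Scheme.Hom.comp_apply, hΔ, Scheme.Hom.comp_apply, ← hx]
    congr 1
    have : V.ι (pullback.fst (V.ι ≫ f) (V.ι ≫ f) o) = pullback.fst f f (m o) := by
      rw [← Scheme.Hom.comp_apply, ← Scheme.Hom.comp_apply, hmfst]
    rw [this, ← hx, ← Scheme.Hom.comp_apply, pullback.diagonal_fst]
    rfl
  have hw : w ∈ closure (Set.range (pullback.diagonal (V.ι ≫ f))) := by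
    rw [mem_closure_iff]
    intro O hO hwO
    have hmO : IsOpen (m '' O) := m.isOpenEmbedding.isOpenMap O hO
    obtain ⟨_, ⟨o, hoO, rfl⟩, hmem⟩ := mem_closure_iff.mp hz _ hmO ⟨w, hwO, rfl⟩
    exact ⟨o, hoO, hpre o hmem⟩
  have hcl : IsClosed (Set.range (pullback.diagonal (V.ι ≫ f))) :=
    (pullback.diagonal (V.ι ≫ f)).isClosedEmbedding.isClosed_range
  rw [hcl.closure_eq] at hw
  obtain ⟨v, rfl⟩ := hw
  refine ⟨V.ι v, ?_⟩
  rw [← Scheme.Hom.comp_apply, ← hΔ, Scheme.Hom.comp_apply]

end Groth.Agent.H22.SepCriteria
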