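import Mathlib
import Groth.Agent.H4.ClosedLift

/-!
# Étale-local lifting of morphisms to smooth schemes along closed immersions (helper22)
-/

set_option autoImplicit false
universe u

namespace Groth.Agent.H22.SmoothLift

open AlgebraicGeometry CategoryTheory Limits

/-- Lifting the coordinates. -/
theorem exists_lift_mvPolynomial {R A A₀ B : Type u} [CommRing R] [CommRing A] [CommRing A₀]
    [CommRing B] {n : ℕ} (α : R →+* A) (π : A →+* A₀) (hπ : Function.Surjective π) (ψ : R →+* B)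
    (θ₀ : B →+* A₀) (h : θ₀.comp ψ = π.comp α) (g : MvPolynomial (Fin n) R →+* B)
    (hg : g.comp MvPolynomial.C = ψ) :
    ∃ τ : MvPolynomial (Fin n) R →+* A, τ.comp MvPolynomial.C = α ∧ π.comp τ = θ₀.comp g := by
  choose a ha using fun i : Fin n => hπ (θ₀ (g (MvPolynomial.X i)))
  refine ⟨MvPolynomial.eval₂Hom α a, ?_, ?_⟩
  · ext r
    simp
  · apply MvPolynomial.ringHom_ext
    · intro r
      simp only [RingHom.comp_apply, MvPolynomial.eval₂Hom_C]
      have h1 := congr($h r)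
      have h2 := congr($hg r)
      simp only [RingHom.comp_apply] at h1 h2
      rw [← h1, ← h2]
    · intro i
      simp only [RingHom.comp_apply, MvPolynomial.eval₂Hom_X', ha]

/-- The affine core of the lifting construction. -/
theorem affine_core {A A₀ B P : CommRingCat.{u}} (π : A ⟶ A₀) (hπ : Function.Surjective π.hom)
    (τ : P ⟶ A) (g : P ⟶ B) (hg : g.hom.Etale) (θ₀ : B ⟶ A₀) (h : τ ≫ π = g ≫ θ₀) :
    ∃ (U : Scheme.{u}) (e : U ⟶ Spec A) (f : U ⟶ Spec B) (σ : Spec A₀ ⟶ U), Etale e ∧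
      e ≫ Spec.map τ = f ≫ Spec.map g ∧ IsPullback σ (𝟙 _) e (Spec.map π) ∧
      σ ≫ f = Spec.map θ₀ := by
  haveI : Etale (Spec.map g) := by
    rw [HasRingHomProperty.Spec_iff (P := @Etale)]
    exact hg
  haveI : IsClosedImmersion (Spec.map π) := IsClosedImmersion.spec_of_surjective π hπ
  let Ub := pullback (Spec.map τ) (Spec.map g)
  let fb : Ub ⟶ Spec A := pullback.fst _ _
  let sb : Ub ⟶ Spec B := pullback.snd _ _
  let σ₀ : Spec A₀ ⟶ Ub := pullback.lift (Spec.map π) (Spec.map θ₀) (by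
    rw [← Spec.map_comp, ← Spec.map_comp, h])
  have hσ₀f : σ₀ ≫ fb = Spec.map π := pullback.lift_fst _ _ _
  have hσ₀s : σ₀ ≫ sb = Spec.map θ₀ := pullback.lift_snd _ _ _
  let Q := pullback fb (Spec.map π)
  let k : Q ⟶ Ub := pullback.fst _ _
  let r : Q ⟶ Spec A₀ := pullback.snd _ _
  let s : Spec A₀ ⟶ Q := pullback.lift σ₀ (𝟙 _) (by rw [hσ₀f, Category.id_comp])
  have hsk : s ≫ k = σ₀ := pullback.lift_fst _ _ _
  have hsr : s ≫ r = 𝟙 _ := pullback.lift_snd _ _ _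
  haveI : IsOpenImmersion s := Groth.Agent.H4.ClosedLift.isOpenImmersion_of_section r s hsr
  haveI : IsClosedImmersion s := by
    have : IsClosedImmersion (s ≫ r) := by rw [hsr]; infer_instance
    exact IsClosedImmersion.of_comp s r
  have hZ : IsClosed (k '' (Set.range s)ᶜ) :=
    k.isClosedMap _ (s.isOpenEmbedding.isOpen_range.isClosed_compl)
  let U : Ub.Opens := ⟨(k '' (Set.range s)ᶜ)ᶜ, hZ.isOpen_compl⟩
  have hσ₀U : Set.range σ₀ ⊆ (U.ι).opensRange := by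
    rintro _ ⟨z, rfl⟩
    rw [Scheme.Opens.opensRange_ι]
    rintro ⟨w, hw, hwz⟩
    apply hw
    have : k w = k (s z) := by rw [hwz, ← Scheme.Hom.comp_apply, hsk]
    exact ⟨z, (k.injective this).symm⟩
  let σ : Spec A₀ ⟶ U := IsOpenImmersion.lift U.ι σ₀ hσ₀U
  have hσ : σ ≫ U.ι = σ₀ := IsOpenImmersion.lift_fac _ _ _
  refine ⟨U, U.ι ≫ fb, U.ι ≫ sb, σ, inferInstance, ?_, ?_, ?_⟩
  · rw [Category.assoc, Category.assoc, pullback.condition]
  · refine IsPullback.of_isLimit' ⟨by rw [← Category.assoc, hσ, hσ₀f, Category.id_comp]⟩ ?_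
    refine PullbackCone.IsLimit.mk _ (fun c => c.snd) ?_ ?_ ?_
    · intro c
      -- `c.fst : c.pt ⟶ U`, `c.snd : c.pt ⟶ Spec A₀`
      rw [← cancel_mono U.ι, Category.assoc, hσ]
      have hc : (c.fst ≫ U.ι) ≫ fb = c.snd ≫ Spec.map π := by
        rw [Category.assoc]; exact c.condition
      let t : c.pt ⟶ Q := pullback.lift (c.fst ≫ U.ι) c.snd hc
      have htk : t ≫ k = c.fst ≫ U.ι := pullback.lift_fst _ _ _
      have htr : t ≫ r = c.snd := pullback.lift_snd _ _ _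
      have htrange : Set.range t ⊆ s.opensRange := by
        rintro _ ⟨x, rfl⟩
        by_contra hx
        have h1 : k (t x) ∈ k '' (Set.range s)ᶜ := ⟨t x, hx, rfl⟩
        have h2 : k (t x) ∈ (U : Set Ub) := by
          rw [← Scheme.Hom.comp_apply, htk, Scheme.Hom.comp_apply]
          exact (c.fst x).2
        exact h2 h1
      let t' : c.pt ⟶ Spec A₀ := IsOpenImmersion.lift s t htrange
      have ht' : t' ≫ s = t := IsOpenImmersion.lift_fac _ _ _
      have ht'c : t' = c.snd := by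
        rw [← htr, ← ht', Category.assoc, hsr, Category.comp_id]
      rw [← htk, ← ht', ht'c, Category.assoc, hsk]
    · intro c
      exact Category.comp_id _
    · intro c m _ hm
      rw [← hm, Category.comp_id]
  · rw [← Category.assoc, hσ, hσ₀s]

theorem appLE_congr_hom {X Y : Scheme.{u}} {m m' : X ⟶ Y} (h : m = m') (U : Y.Opens)
    (V : X.Opens) (e : V ≤ m ⁻¹ᵁ U) (e' : V ≤ m' ⁻¹ᵁ U) : m.appLE U V e = m'.appLE U V e' := by
  subst h; rfl

/-- EGA IV 17 / SGA 1 III: étale-local lifting of morphisms to a smooth scheme along a closed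
immersion of the base. -/
theorem exists_etale_lift_smooth {S S₀ X Y : Scheme.{u}} (i : S₀ ⟶ S) [IsClosedImmersion i]
    (p : X ⟶ S) (q : Y ⟶ S) [Smooth q] (f₀ : pullback p i ⟶ Y)
    (hf₀ : f₀ ≫ q = pullback.fst p i ≫ p) (x₀ : ↥(pullback p i)) :
    ∃ (U : Scheme.{u}) (e : U ⟶ X) (f : U ⟶ Y) (σ : Scheme.{u}) (j₀ : σ ⟶ pullback p i)
      (σU : σ ⟶ U), Etale e ∧ f ≫ q = e ≫ p ∧ IsOpenImmersion j₀ ∧ x₀ ∈ Set.range j₀ ∧
      IsPullback σU j₀ e (pullback.fst p i) ∧ j₀ ≫ f₀ = σU ≫ f := by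
  let fX := pullback.fst p i
  obtain ⟨US, hUS, VY, hVY, hy₀, hVU, hstd⟩ := Smooth.exists_isStandardSmooth q (f₀ x₀)
  -- an open of `X` whose preimage is `f₀⁻¹ VY`
  have hemb : Topology.IsEmbedding fX := fX.isEmbedding
  obtain ⟨W', hW'o, hW'⟩ := hemb.isInducing.isOpen_iff.mp (f₀ ⁻¹ᵁ VY).2
  have hx₀W' : fX x₀ ∈ W' := by
    have : x₀ ∈ fX ⁻¹' W' := by rw [hW']; exact hy₀
    exact this
  have hx₀US : fX x₀ ∈ p ⁻¹ᵁ US := by
    change p (fX x₀) ∈ US
    rw [← Scheme.Hom.comp_apply, ← hf₀, Scheme.Hom.comp_apply]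
    exact hVU hy₀
  obtain ⟨W, hW, hx₀W, hWsub⟩ := exists_isAffineOpen_mem_and_subset (X := X) (x := fX x₀)
    (U := (⟨W', hW'o⟩ : X.Opens) ⊓ p ⁻¹ᵁ US) ⟨hx₀W', hx₀US⟩
  have hWU : W ≤ p ⁻¹ᵁ US := fun z hz => (hWsub hz).2
  have hW₀ : IsAffineOpen (fX ⁻¹ᵁ W) := hW.preimage fX
  have hW₀V : fX ⁻¹ᵁ W ≤ f₀ ⁻¹ᵁ VY := by
    intro z hz
    have h1 : fX z ∈ W' := (hWsub hz).1
    have h2 : z ∈ fX ⁻¹' W' := h1
    rw [hW'] at h2
    exact h2
  -- rings
  let ψ := q.appLE US VY hVU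
  let α := p.appLE US W hWU
  let π := fX.app W
  let θ₀ := f₀.appLE VY (fX ⁻¹ᵁ W) hW₀V
  have hπ : Function.Surjective π.hom := fX.app_surjective W hW
  have hcomm : ψ ≫ θ₀ = α ≫ π := by
    change q.appLE US VY hVU ≫ f₀.appLE VY (fX ⁻¹ᵁ W) hW₀V = p.appLE US W hWU ≫ fX.app W
    rw [Scheme.Hom.appLE_comp_appLE, Scheme.Hom.app_eq_appLE, Scheme.Hom.appLE_comp_appLE]
    exact appLE_congr_hom hf₀ _ _ _ _
  obtain ⟨n, g, hgC, hget⟩ := RingHom.IsStandardSmooth.exists_etale_mvPolynomial hstd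
  obtain ⟨τ, hτC, hτ⟩ := exists_lift_mvPolynomial α.hom π.hom hπ ψ.hom θ₀.hom
    (by rw [← CommRingCat.hom_comp, ← CommRingCat.hom_comp, hcomm]) g hgC
  obtain ⟨U, e, f, σ, he, hef, hpb, hσf⟩ := affine_core π hπ (CommRingCat.ofHom τ)
    (CommRingCat.ofHom g) hget θ₀ (by ext1; exact hτ)
  -- the squares with `fromSpec`
  have sqX : IsPullback (Spec.map π) hW₀.fromSpec hW.fromSpec fX :=
    Groth.Agent.H4.ClosedLift.isPullback_fromSpec fX hW hW₀
  have hθ₀ : Spec.map θ₀ ≫ hVY.fromSpec = hW₀.fromSpec ≫ f₀ :=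
    IsAffineOpen.SpecMap_appLE_fromSpec f₀ hVY hW₀ hW₀V
  have hψ : Spec.map ψ ≫ hUS.fromSpec = hVY.fromSpec ≫ q :=
    IsAffineOpen.SpecMap_appLE_fromSpec q hUS hVY hVU
  have hα : Spec.map α ≫ hUS.fromSpec = hW.fromSpec ≫ p :=
    IsAffineOpen.SpecMap_appLE_fromSpec p hUS hW hWU
  have hψ' : ψ = CommRingCat.ofHom MvPolynomial.C ≫ CommRingCat.ofHom g := by
    ext1; exact hgC.symm
  have hα' : α = CommRingCat.ofHom MvPolynomial.C ≫ CommRingCat.ofHom τ := by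
    ext1; exact hτC.symm
  refine ⟨U, e ≫ hW.fromSpec, f ≫ hVY.fromSpec, _, hW₀.fromSpec, σ, inferInstance, ?_,
    inferInstance, ?_, ?_, ?_⟩
  · rw [Category.assoc, Category.assoc, ← hψ, ← hα, hψ', hα', Spec.map_comp, Spec.map_comp,
      Category.assoc, Category.assoc, ← Category.assoc f, ← hef, Category.assoc]
  · rw [hW₀.range_fromSpec]
    exact hx₀W
  · have := hpb.paste_vert sqX
    rwa [Category.id_comp] at this
  · rw [← hθ₀, ← Category.assoc, hσf]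

end Groth.Agent.H22.SmoothLift
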