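import Mathlib.RingTheory.Noetherian.Basic
import Mathlib.RingTheory.Finiteness.Ideal
import Mathlib.RingTheory.Ideal.Maps
import Mathlib.RingTheory.Ideal.Quotient.Noetherian
import Groth.Agent.H20.ComplNoeth

/-!
# Limits of systems of thickenings (helper22), EGA 0_I 7.2.7 / Bourbaki AC III §2 no. 11

`Groth.Agent.H22.ThickSys.core`: complete separated filtered ring, a finite family `a` such that
`Fil (n+1) ≤ Fil n * (a) ⊔ Fil (n+2)` for all `n` ⇒ `Fil (m+1) ≤ Fil m * (a)`.
-/

set_option autoImplicit false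

namespace Groth.Agent.H22.ThickSys

section Core

variable {A : Type*} [CommRing A]

lemma mem_mul_span_range_iff {ι : Type*} [Fintype ι] (I : Ideal A) (a : ι → A) (x : A) :
    x ∈ I * Ideal.span (Set.range a) ↔ ∃ c : ι → A, (∀ i, c i ∈ I) ∧ ∑ i, c i * a i = x := by
  have h := Submodule.mem_ideal_smul_span_iff_exists_sum I a x
  constructor
  · intro hx
    obtain ⟨c, hc, rfl⟩ := h.mp hx
    refine ⟨c, hc, ?_⟩
    rw [Finsupp.sum_fintype _ _ (fun i => by simp)]
    rfl
  · rintro ⟨c, hc, rfl⟩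
    exact Ideal.sum_mem _ fun i _ => Ideal.mul_mem_mul (hc i) (Ideal.subset_span ⟨i, rfl⟩)

theorem core (Fil : ℕ → Ideal A) (hanti : Antitone Fil)
    (hcomplete : ∀ (S : ℕ → A) (m : ℕ), (∀ k, S (k + 1) - S k ∈ Fil (m + k)) →
      ∃ L, ∀ k, L - S k ∈ Fil (m + k))
    (hsep : ∀ x, (∀ k, x ∈ Fil k) → x = 0)
    {ι : Type*} [Fintype ι] (a : ι → A)
    (happrox : ∀ n, Fil (n + 1) ≤ Fil n * Ideal.span (Set.range a) ⊔ Fil (n + 2)) (m : ℕ) :
    Fil (m + 1) ≤ Fil m * Ideal.span (Set.range a) := by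
  intro x hx
  -- the recursion
  let P : ℕ → (ι → A) → Prop := fun k S => x - ∑ i, S i * a i ∈ Fil (m + 1 + k)
  have step : ∀ (k : ℕ) (S : {S : ι → A // P k S}),
      ∃ S' : {S' : ι → A // P (k + 1) S'}, ∀ i, S'.1 i - S.1 i ∈ Fil (m + k) := by
    rintro k ⟨S, hS⟩
    have h1 := happrox (m + k) (by simpa [P, add_right_comm] using hS)
    obtain ⟨y, hy, z, hz, hyz⟩ := Submodule.mem_sup.mp h1
    obtain ⟨c, hc, rfl⟩ := (mem_mul_span_range_iff _ _ _).mp hy
    refine ⟨⟨fun i => S i + c i, ?_⟩, fun i => by simpa using hc i⟩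
    simp only [P]
    have : x - ∑ i, (S i + c i) * a i = z := by
      simp only [add_mul, Finset.sum_add_distrib]
      have := eq_sub_of_add_eq' hyz
      rw [this]; ring
    rw [this]
    convert hz using 2
    omega
  choose next hnext using step
  let seq : ∀ k, {S : ι → A // P k S} := fun k =>
    Nat.rec ⟨0, by simpa [P] using hx⟩ (fun k Sk => next k Sk) k
  have hseq : ∀ k i, (seq (k + 1)).1 i - (seq k).1 i ∈ Fil (m + k) := fun k i => hnext k (seq k) i
  have hlim : ∀ i, ∃ L, ∀ k, L - (seq k).1 i ∈ Fil (m + k) :=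
    fun i => hcomplete (fun k => (seq k).1 i) m (fun k => hseq k i)
  choose L hL using hlim
  have hL0 : ∀ i, L i ∈ Fil m := by
    intro i
    have := hL i 0
    simpa [seq] using this
  refine (mem_mul_span_range_iff _ _ _).mpr ⟨L, hL0, ?_⟩
  symm
  rw [← sub_eq_zero]
  apply hsep
  intro k
  have h1 : x - ∑ i, L i * a i = (x - ∑ i, (seq k).1 i * a i) - ∑ i, (L i - (seq k).1 i) * a i := by
    simp only [sub_mul, Finset.sum_sub_distrib]; ring
  rw [h1]
  refine Ideal.sub_mem _ (hanti (by omega) (seq k).2) (Ideal.sum_mem _ fun i _ => ?_)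
  exact Ideal.mul_mem_right _ _ (hanti (by omega) (hL i k))

end Core

section System

universe u

variable (B : ℕ → Type u) [∀ n, CommRing (B n)]
  (u : ∀ n, B (n + 1) →+* B n) (hu : ∀ n, Function.Surjective (u n))
  (v : ∀ n, B n →+* B 0) (hv0 : v 0 = RingHom.id (B 0)) (hv : ∀ n, (v n).comp (u n) = v (n + 1))
  (hker : ∀ n, RingHom.ker (u n) = RingHom.ker (v (n + 1)) ^ (n + 1))
  (A : Type u) [CommRing A] (p : ∀ n, A →+* B n)
  (hp : ∀ n, (u n).comp (p (n + 1)) = p n)
  (hinj : ∀ x : A, (∀ n, p n x = 0) → x = 0)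
  (hlift : ∀ y : (∀ n, B n), (∀ n, u n (y (n + 1)) = y n) → ∃ x : A, ∀ n, p n x = y n)

/-- transition maps `B n → B k` for `k ≤ n`. -/
noncomputable def tr (k : ℕ) (n : ℕ) (h : k ≤ n) : B n →+* B k :=
  Nat.leRecOn (C := fun n => B n →+* B k) h (fun {m} f => f.comp (u m)) (RingHom.id _)

lemma tr_self (k : ℕ) : tr B u k k le_rfl = RingHom.id _ := Nat.leRecOn_self _

lemma tr_succ (k n : ℕ) (h : k ≤ n) :
    tr B u k (n + 1) (Nat.le_succ_of_le h) = (tr B u k n h).comp (u n) :=
  Nat.leRecOn_succ h _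

lemma u_comp_tr (k n : ℕ) (h : k + 1 ≤ n) :
    (u k).comp (tr B u (k + 1) n h) = tr B u k n (Nat.le_of_succ_le h) := by
  induction n, h using Nat.le_induction with
  | base => rw [tr_self, tr_succ B u k k le_rfl, tr_self]; rfl
  | succ n h ih =>
    rw [tr_succ B u (k + 1) n h, ← RingHom.comp_assoc, ih, ← tr_succ]

include hu hlift in
lemma p_surjective (n : ℕ) : Function.Surjective (p n) := by
  intro b
  let y : ∀ k, B k := fun k => Nat.rec (tr B u 0 n (Nat.zero_le n) b)
    (fun k yk => if h : k + 1 ≤ n then tr B u (k + 1) n h b else (hu k yk).choose) k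
  have hy_le : ∀ k (h : k ≤ n), y k = tr B u k n h b := by
    intro k h
    cases k with
    | zero => rfl
    | succ k => simp only [y, dif_pos h]
  have hy : ∀ k, u k (y (k + 1)) = y k := by
    intro k
    by_cases h : k + 1 ≤ n
    · rw [hy_le (k + 1) h, hy_le k (Nat.le_of_succ_le h), ← u_comp_tr B u k n h]
      rfl
    · have : y (k + 1) = (hu k (y k)).choose := by simp only [y, dif_neg h]
      rw [this]
      exact (hu k (y k)).choose_spec
  obtain ⟨x, hx⟩ := hlift y hy
  refine ⟨x, ?_⟩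
  rw [hx n, hy_le n le_rfl, tr_self]
  rfl

include hv0 hv hp in
lemma v_comp_p (n : ℕ) : (v n).comp (p n) = p 0 := by
  induction n with
  | zero => rw [hv0]; rfl
  | succ n ih => rw [← hv n, RingHom.comp_assoc, hp n, ih]

/-- The filtration: `Fil 0 = ⊤`, `Fil (n+1) = ker (p n)`. -/
def Fil : ℕ → Ideal A
  | 0 => ⊤
  | n + 1 => RingHom.ker (p n)

include hp in
lemma ker_p_succ_le (n : ℕ) : RingHom.ker (p (n + 1)) ≤ RingHom.ker (p n) := by
  intro x hx
  rw [RingHom.mem_ker] at hx ⊢
  rw [← hp n, RingHom.comp_apply, hx, map_zero]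

include hp in
lemma Fil_antitone : Antitone (Fil B A p) := by
  apply antitone_nat_of_succ_le
  intro n
  cases n with
  | zero => exact le_top
  | succ n => exact ker_p_succ_le B u A p hp n

include hu hv0 hv hp hlift in
lemma map_ker_p0 (n : ℕ) : Ideal.map (p n) (RingHom.ker (p 0)) = RingHom.ker (v n) := by
  have h1 : RingHom.ker (p 0) = Ideal.comap (p n) (RingHom.ker (v n)) := by
    rw [RingHom.comap_ker, v_comp_p B u v hv0 hv A p hp n]
  rw [h1, Ideal.map_comap_of_surjective _ (p_surjective B u hu A p hlift n)]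

include hu hv in
lemma map_ker_v_succ (n : ℕ) : Ideal.map (u n) (RingHom.ker (v (n + 1))) = RingHom.ker (v n) := by
  have h1 : RingHom.ker (v (n + 1)) = Ideal.comap (u n) (RingHom.ker (v n)) := by
    rw [RingHom.comap_ker, hv n]
  rw [h1, Ideal.map_comap_of_surjective _ (hu n)]

include hu hv hker in
lemma ker_v_pow (n : ℕ) : RingHom.ker (v n) ^ (n + 1) = ⊥ := by
  rw [← map_ker_v_succ B u hu v hv n, ← Ideal.map_pow, ← hker n, Ideal.map_eq_bot_iff_le_ker]

include hu hv0 hv hker hp hlift in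
lemma pow_le_Fil (m : ℕ) : RingHom.ker (p 0) ^ m ≤ Fil B A p m := by
  cases m with
  | zero => exact le_top
  | succ n =>
    change _ ≤ RingHom.ker (p n)
    rw [← Ideal.map_eq_bot_iff_le_ker, Ideal.map_pow, map_ker_p0 B u hu v hv0 hv A p hp hlift n,
      ker_v_pow B u hu v hv hker n]

include hu hv0 hv hker hp hlift in
lemma Fil_le_pow_sup (m : ℕ) : Fil B A p m ≤ RingHom.ker (p 0) ^ m ⊔ Fil B A p (m + 1) := by
  cases m with
  | zero => simp
  | succ n =>
    intro x hx
    change x ∈ RingHom.ker (p n) at hx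
    have h1 : p (n + 1) x ∈ RingHom.ker (u n) := by
      rw [RingHom.mem_ker, ← RingHom.comp_apply, hp n]; exact hx
    rw [hker n, ← map_ker_p0 B u hu v hv0 hv A p hp hlift (n + 1), ← Ideal.map_pow] at h1
    obtain ⟨y, hy, hyx⟩ := (Ideal.mem_map_iff_of_surjective _
      (p_surjective B u hu A p hlift (n + 1))).mp h1
    refine Submodule.mem_sup.mpr ⟨y, hy, x - y, ?_, by ring⟩
    change x - y ∈ RingHom.ker (p (n + 1))
    rw [RingHom.mem_ker, map_sub, hyx, sub_self]

include hu hv0 hv hker hp hlift in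
lemma Fil_le_pow_sup_add (i N : ℕ) :
    Fil B A p i ≤ RingHom.ker (p 0) ^ i ⊔ Fil B A p (i + N) := by
  induction N with
  | zero => exact le_sup_right
  | succ N ih =>
    refine ih.trans (sup_le le_sup_left ?_)
    refine (Fil_le_pow_sup B u hu v hv0 hv hker A p hp hlift (i + N)).trans
      (sup_le ?_ le_sup_right)
    exact (Ideal.pow_le_pow_right (Nat.le_add_right i N)).trans le_sup_left

include hu hv0 hv hker hp hlift in
lemma Fil_mul_le (i j : ℕ) : Fil B A p i * Fil B A p j ≤ Fil B A p (i + j) := by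
  have hi := Fil_le_pow_sup_add B u hu v hv0 hv hker A p hp hlift i j
  have hj := Fil_le_pow_sup_add B u hu v hv0 hv hker A p hp hlift j i
  rw [add_comm j i] at hj
  refine (Ideal.mul_mono hi hj).trans ?_
  rw [Ideal.sup_mul, Ideal.mul_sup]
  refine sup_le (sup_le ?_ Ideal.mul_le_right) Ideal.mul_le_left
  rw [← pow_add]
  exact pow_le_Fil B u hu v hv0 hv hker A p hp hlift (i + j)

include hp hlift in
lemma Fil_complete (S : ℕ → A) (m : ℕ) (hS : ∀ k, S (k + 1) - S k ∈ Fil B A p (m + k)) :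
    ∃ L, ∀ k, L - S k ∈ Fil B A p (m + k) := by
  have hanti := Fil_antitone B u A p hp
  have hd : ∀ k d, S (k + d) - S k ∈ Fil B A p (m + k) := by
    intro k d
    induction d with
    | zero => simp
    | succ d ih =>
      have : S (k + (d + 1)) - S k = (S (k + d + 1) - S (k + d)) + (S (k + d) - S k) := by
        rw [← add_assoc]; ring
      rw [this]
      exact Ideal.add_mem _ (hanti (by omega) (hS (k + d))) ih
  obtain ⟨L, hL⟩ := hlift (fun n => p n (S (n + 1))) (by
    intro n
    rw [← RingHom.comp_apply, hp n]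
    have h1 : S (n + 1 + 1) - S (n + 1) ∈ RingHom.ker (p n) :=
      hanti (by omega : n + 1 ≤ m + (n + 1)) (hS (n + 1))
    rw [RingHom.mem_ker, map_sub, sub_eq_zero] at h1
    exact h1)
  refine ⟨L, fun k => ?_⟩
  rcases Nat.eq_zero_or_pos (m + k) with h0 | hpos
  · rw [h0]; exact Submodule.mem_top
  · obtain ⟨j, hj⟩ : ∃ j, m + k = j + 1 := ⟨m + k - 1, by omega⟩
    rw [hj]
    change L - S k ∈ RingHom.ker (p j)
    rw [RingHom.mem_ker, map_sub, hL j, ← map_sub, ← RingHom.mem_ker]
    have := hd k m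
    rw [show k + m = j + 1 by omega, hj] at this
    exact this

include hu hv0 hv hker hp hinj hlift in
/-- EGA 0_I 7.2.7 (Noetherian part): the limit of a system of thickenings of a Noetherian ring
with `ker(B_1 → B_0)` finitely generated is Noetherian. -/
theorem isNoetherianRing_limit (hfg : (RingHom.ker (v 1)).FG) [IsNoetherianRing (B 0)] :
    IsNoetherianRing A := by
  classical
  set K := RingHom.ker (p 0) with hK
  obtain ⟨r, b, hb⟩ := Submodule.fg_iff_exists_fin_generating_family.mp hfg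
  have hps := p_surjective B u hu A p hlift
  choose a ha using fun i => hps 1 (b i)
  have haK : ∀ i, a i ∈ K := by
    intro i
    rw [hK, RingHom.mem_ker, ← v_comp_p B u v hv0 hv A p hp 1, RingHom.comp_apply, ha i,
      ← RingHom.mem_ker]
    rw [← hb]
    exact Submodule.subset_span ⟨i, rfl⟩
  set J := Ideal.span (Set.range a) with hJ
  have hJK : J ≤ K := Ideal.span_le.mpr (by rintro _ ⟨i, rfl⟩; exact haK i)
  have hKJ : K ≤ J ⊔ Fil B A p 2 := by
    intro x hx
    have h1 : p 1 x ∈ Ideal.map (p 1) J := by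
      rw [hJ, Ideal.map_span, ← Set.range_comp]
      have : (p 1) ∘ a = b := funext ha
      rw [this]
      change p 1 x ∈ Submodule.span (B 1) (Set.range b)
      rw [hb]
      change p 1 x ∈ RingHom.ker (v 1)
      rw [← map_ker_p0 B u hu v hv0 hv A p hp hlift 1]
      exact Ideal.mem_map_of_mem _ hx
    obtain ⟨y, hy, hyx⟩ := (Ideal.mem_map_iff_of_surjective _ (hps 1)).mp h1
    refine Submodule.mem_sup.mpr ⟨y, hy, x - y, ?_, by ring⟩
    change x - y ∈ RingHom.ker (p 1)
    rw [RingHom.mem_ker, map_sub, hyx, sub_self]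
  have happrox : ∀ n, Fil B A p (n + 1) ≤ Fil B A p n * J ⊔ Fil B A p (n + 2) := by
    intro n
    refine (Fil_le_pow_sup B u hu v hv0 hv hker A p hp hlift (n + 1)).trans
      (sup_le ?_ le_sup_right)
    rw [pow_succ]
    refine (Ideal.mul_mono (pow_le_Fil B u hu v hv0 hv hker A p hp hlift n) hKJ).trans ?_
    rw [Ideal.mul_sup]
    exact sup_le_sup le_rfl (Fil_mul_le B u hu v hv0 hv hker A p hp hlift n 2)
  have hsep : ∀ x, (∀ k, x ∈ Fil B A p k) → x = 0 := fun x hx => hinj x fun n => hx (n + 1)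
  have hcore := core (Fil B A p) (Fil_antitone B u A p hp) (Fil_complete B u A p hp hlift)
    hsep a happrox
  have hFilK : ∀ m, Fil B A p m ≤ K ^ m := by
    intro m
    induction m with
    | zero => simp
    | succ m ih =>
      refine (hcore m).trans ?_
      rw [pow_succ]
      exact Ideal.mul_mono ih hJK
  have hFil_eq : ∀ m, Fil B A p m = K ^ m := fun m =>
    le_antisymm (hFilK m) (pow_le_Fil B u hu v hv0 hv hker A p hp hlift m)
  have hKeqJ : K = J := by
    refine le_antisymm ?_ hJK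
    have := hcore 0
    simpa [Fil] using this
  have hKfg : K.FG := by
    rw [hKeqJ]
    exact Submodule.fg_span (Set.finite_range a)
  have : IsHausdorff K A := ⟨fun x hx => hinj x fun n => by
    have := hx (n + 1)
    rw [SModEq.zero, smul_eq_mul, Ideal.mul_top] at this
    exact pow_le_Fil B u hu v hv0 hv hker A p hp hlift (n + 1) this⟩
  have : IsPrecomplete K A := ⟨fun f hf => by
    obtain ⟨L, hL⟩ := Fil_complete B u A p hp hlift f 0 (fun k => by
      have := hf (Nat.le_succ k)
      rw [SModEq.sub_mem, smul_eq_mul, Ideal.mul_top] at this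
      rw [zero_add, hFil_eq]
      have := neg_mem this
      simpa using this)
    refine ⟨L, fun n => ?_⟩
    rw [SModEq.sub_mem, smul_eq_mul, Ideal.mul_top, ← hFil_eq]
    have := hL n
    rw [zero_add] at this
    have := neg_mem this
    simpa using this⟩
  have : IsNoetherianRing (A ⧸ K) :=
    isNoetherianRing_of_ringEquiv (B 0) (RingHom.quotientKerEquivOfSurjective (hps 0)).symm
  exact Groth.Agent.H20.ComplNoeth.isNoetherianRing_of_isAdicComplete K hKfg

end System

end Groth.Agent.H22.ThickSys
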