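import Groth.Agent.H22.FieldInFG
import Mathlib.AlgebraicGeometry.Morphisms.FiniteType
import Mathlib.AlgebraicGeometry.Properties

/-!
# Global functions coming from a field are integral over any base field of finite type
-/

set_option autoImplicit false
set_option linter.style.haveILetI false
universe u

namespace Groth.Agent.H22.TwoFields

open AlgebraicGeometry CategoryTheory Opposite TopologicalSpace Polynomial

variable {X : Scheme.{u}} {k : Type u} [Field k]

/-- local integrality on affine opens -/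
theorem exists_monic_res_eq_zero (b : X ⟶ Spec (CommRingCat.of k)) [LocallyOfFiniteType b]
    {K : Type*} [Field K] (α : K →+* Γ(X, ⊤)) (l : K) (U : X.Opens) (hU : IsAffineOpen U) :
    ∃ G : k[X], G.Monic ∧
      (X.presheaf.map (homOfLE (le_top : U ≤ ⊤)).op).hom
        (eval₂ (b.appTop.hom.comp (Scheme.ΓSpecIso (CommRingCat.of k)).inv.hom) (α l) G) = 0 := by
  set β : k →+* Γ(X, ⊤) := b.appTop.hom.comp (Scheme.ΓSpecIso (CommRingCat.of k)).inv.hom with hβ
  let res : Γ(X, ⊤) →+* Γ(X, U) := (X.presheaf.map (homOfLE (le_top : U ≤ ⊤)).op).hom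
  have hft := b.finiteType_appLE (isAffineOpen_top (Spec (CommRingCat.of k))) hU
    (show U ≤ b ⁻¹ᵁ ⊤ from le_top)
  have hcomp : (res.comp β) = (b.appLE ⊤ U le_top).hom.comp
      (Scheme.ΓSpecIso (CommRingCat.of k)).inv.hom := by
    rw [hβ, ← RingHom.comp_assoc]
    congr 1
  have hft2 : (res.comp β).FiniteType := by
    rw [hcomp]
    refine hft.comp (RingHom.FiniteType.of_surjective _ ?_)
    exact (ConcreteCategory.bijective_of_isIso (Scheme.ΓSpecIso (CommRingCat.of k)).inv).2
  letI : Algebra k Γ(X, U) := (res.comp β).toAlgebra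
  haveI : Algebra.FiniteType k Γ(X, U) := hft2
  obtain ⟨G, hG, hG0⟩ := Groth.Agent.H22.FieldInFG.isIntegral_of_field_hom (k := k)
    (B := Γ(X, U)) (res.comp α) l
  refine ⟨G, hG, ?_⟩
  change res (eval₂ β (α l) G) = 0
  rw [Polynomial.hom_eval₂]
  exact hG0

/-- **Key theorem**: on a connected reduced scheme locally of finite type over a field `k`,
any global function in the image of a field is integral over `k`. -/
theorem isIntegralElem_of_field [IsReduced X] [ConnectedSpace X]
    (b : X ⟶ Spec (CommRingCat.of k)) [LocallyOfFiniteType b]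
    {K : Type*} [Field K] (α : K →+* Γ(X, ⊤)) (l : K) :
    (b.appTop.hom.comp (Scheme.ΓSpecIso (CommRingCat.of k)).inv.hom).IsIntegralElem (α l) := by
  set β : k →+* Γ(X, ⊤) := b.appTop.hom.comp (Scheme.ΓSpecIso (CommRingCat.of k)).inv.hom with hβ
  set t : Γ(X, ⊤) := α l with ht
  let ev : k[X] →+* Γ(X, ⊤) := Polynomial.eval₂RingHom β t
  have hev : ∀ Q, ev Q = eval₂ β t Q := fun _ => rfl
  -- local data
  have hloc : ∀ y : X, ∃ (U : X.Opens) (G : k[X]), y ∈ U ∧ G ≠ 0 ∧
      U ⊓ X.basicOpen (ev G) = ⊥ := by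
    intro y
    obtain ⟨_, ⟨U, hU, rfl⟩, hyU, -⟩ := X.isBasis_affineOpens.exists_subset_of_mem_open
      (Set.mem_univ y) isOpen_univ
    obtain ⟨G, hG, hG0⟩ := exists_monic_res_eq_zero b α l U hU
    refine ⟨U, G, hyU, hG.ne_zero, ?_⟩
    have h1 := Scheme.basicOpen_res (X := X) (ev G) (homOfLE (le_top : U ≤ ⊤)).op
    have : (X.presheaf.map (homOfLE (le_top : U ≤ ⊤)).op).hom (ev G) = 0 := hG0
    rw [← h1]
    change X.basicOpen ((X.presheaf.map (homOfLE (le_top : U ≤ ⊤)).op).hom (ev G)) = ⊥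
    rw [this, Scheme.basicOpen_zero]
  -- an irreducible polynomial vanishing at a point
  obtain ⟨y₀⟩ : Nonempty X := inferInstance
  have hirr : ∃ P : k[X], Irreducible P ∧ y₀ ∉ X.basicOpen (ev P) := by
    obtain ⟨U, G, hyU, hG0, hUG⟩ := hloc y₀
    have hy₀ : y₀ ∉ X.basicOpen (ev G) := fun h => by
      have : y₀ ∈ U ⊓ X.basicOpen (ev G) := ⟨hyU, h⟩
      rw [hUG] at this
      exact this
    revert hG0 hy₀
    refine WfDvdMonoid.induction_on_irreducible
      (motive := fun G => G ≠ 0 → y₀ ∉ X.basicOpen (ev G) →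
        ∃ P : k[X], Irreducible P ∧ y₀ ∉ X.basicOpen (ev P)) G ?_ ?_ ?_
    · intro h; exact absurd rfl h
    · intro u hu _ hy
      exfalso; apply hy
      rw [Scheme.basicOpen_of_isUnit _ (hu.map ev)]
      trivial
    · intro a i ha hi ih _ hy
      rw [map_mul, Scheme.basicOpen_mul] at hy
      by_cases h1 : y₀ ∈ X.basicOpen (ev i)
      · exact ih ha (fun h2 => hy ⟨h1, h2⟩)
      · exact ⟨i, hi, h1⟩
  obtain ⟨P, hP, hPy⟩ := hirr
  -- the vanishing locus of `P(t)` is clopen
  have hopen : IsOpen ((X.basicOpen (ev P) : Set X)ᶜ) := by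
    rw [isOpen_iff_forall_mem_open]
    intro y hy
    obtain ⟨U, G, hyU, hG0, hUG⟩ := hloc y
    obtain ⟨e, R, hPR, hG⟩ := WfDvdMonoid.max_power_factor hG0 hP
    obtain ⟨c, d, hcd⟩ := hP.coprime_iff_not_dvd.mpr hPR
    have hone : ev c * ev P + ev d * ev R = 1 := by
      rw [← map_mul, ← map_mul, ← map_add, hcd, map_one]
    have hcover : ∀ z : X, z ∈ X.basicOpen (ev P) ∨ z ∈ X.basicOpen (ev R) := by
      intro z
      have h1 : z ∈ X.basicOpen (ev c * ev P + ev d * ev R) := by
        rw [hone, Scheme.basicOpen_one]; trivial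
      rw [Scheme.mem_basicOpen_top] at h1
      rw [map_add] at h1
      rcases IsLocalRing.isUnit_or_isUnit_of_isUnit_add h1 with h2 | h2
      · left
        rw [Scheme.mem_basicOpen_top]
        rw [map_mul] at h2
        exact isUnit_of_mul_isUnit_right h2
      · right
        rw [Scheme.mem_basicOpen_top]
        rw [map_mul] at h2
        exact isUnit_of_mul_isUnit_right h2
    have hdisj : ∀ z : X, z ∈ U → z ∈ X.basicOpen (ev P) → z ∈ X.basicOpen (ev R) → False := by
      intro z hzU hzP hzR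
      have : z ∈ U ⊓ X.basicOpen (ev G) := by
        refine ⟨hzU, ?_⟩
        rw [hG, map_mul, map_pow, Scheme.basicOpen_mul]
        refine ⟨?_, hzR⟩
        change z ∈ X.basicOpen (ev P ^ e)
        rw [Scheme.mem_basicOpen_top, map_pow]
        exact ((Scheme.mem_basicOpen_top _ _ _).mp hzP).pow e
      rw [hUG] at this
      exact this
    refine ⟨(U ⊓ X.basicOpen (ev R) : X.Opens), ?_, (U ⊓ X.basicOpen (ev R)).isOpen, ?_⟩
    · intro z hz hzP
      exact hdisj z hz.1 hzP hz.2
    · refine ⟨hyU, ?_⟩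
      rcases hcover y with h | h
      · exact absurd h hy
      · exact h
  have hclopen : IsClopen ((X.basicOpen (ev P) : Set X)ᶜ) :=
    ⟨(X.basicOpen (ev P)).isOpen.isClosed_compl, hopen⟩
  have huniv := hclopen.eq_univ ⟨y₀, hPy⟩
  have hbot : X.basicOpen (ev P) = ⊥ := by
    ext z
    simp only [Opens.coe_bot, Set.mem_empty_iff_false, iff_false, SetLike.mem_coe]
    intro hz
    have : z ∈ ((X.basicOpen (ev P) : Set X)ᶜ) := by rw [huniv]; trivial
    exact this hz
  have hzero : ev P = 0 := (basicOpen_eq_bot_iff _).mp hbot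
  refine ⟨P * C P.leadingCoeff⁻¹, Polynomial.monic_mul_leadingCoeff_inv hP.ne_zero, ?_⟩
  rw [← hev, map_mul, hzero, zero_mul]

end Groth.Agent.H22.TwoFields

namespace Groth.Agent.H22.TwoFields

open AlgebraicGeometry CategoryTheory Opposite TopologicalSpace Polynomial

/-- On a connected reduced scheme locally of finite type over `k₂`, with a morphism to the
spectrum of another field `k₁`: a global function integral over `k₁` is integral over `k₂`. -/
theorem isIntegralElem_of_isIntegralElem {X : Scheme.{u}} [IsReduced X] [ConnectedSpace X]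
    {k₁ k₂ : Type u} [Field k₁] [Field k₂]
    (a : X ⟶ Spec (CommRingCat.of k₁)) (b : X ⟶ Spec (CommRingCat.of k₂))
    [LocallyOfFiniteType b] (x : Γ(X, ⊤))
    (hx : (a.appTop.hom.comp (Scheme.ΓSpecIso (CommRingCat.of k₁)).inv.hom).IsIntegralElem x) :
    (b.appTop.hom.comp (Scheme.ΓSpecIso (CommRingCat.of k₂)).inv.hom).IsIntegralElem x := by
  set α : k₁ →+* Γ(X, ⊤) := a.appTop.hom.comp (Scheme.ΓSpecIso (CommRingCat.of k₁)).inv.hom
  set β : k₂ →+* Γ(X, ⊤) := b.appTop.hom.comp (Scheme.ΓSpecIso (CommRingCat.of k₂)).inv.hom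
  letI : Algebra k₂ Γ(X, ⊤) := β.toAlgebra
  let S := integralClosure k₂ Γ(X, ⊤)
  have hmem : ∀ l : k₁, α l ∈ S := fun l => isIntegralElem_of_field b α l
  let α' : k₁ →+* S := α.codRestrict S.toSubring hmem
  obtain ⟨P, hP, hP0⟩ := hx
  have h1 : IsIntegral S x := by
    refine ⟨P.map α', hP.map α', ?_⟩
    rw [eval₂_map]
    exact hP0
  exact isIntegral_trans (R := k₂) x h1

end Groth.Agent.H22.TwoFields
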