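import Mathlib.AlgebraicGeometry.Morphisms.UniversallyInjective
import Mathlib.AlgebraicGeometry.Morphisms.Flat
import Mathlib.AlgebraicGeometry.Morphisms.UniversallyOpen
import Mathlib.AlgebraicGeometry.Morphisms.Separated
import Groth.Agent.H22.InjGeneric

set_option autoImplicit false
universe u
open CategoryTheory CategoryTheory.Limits AlgebraicGeometry

namespace Groth.Agent.H22.UnivInjGeneric

open Groth.Agent.H22.InjGeneric

/-- The image of a maximal point under a generalizing map is maximal. -/
theorem isMaxPt_apply_of_generalizingMap {P X : Type*} [TopologicalSpace P] [TopologicalSpace X]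
    {g : P → X} (hg : GeneralizingMap g) (z : P) (h : IsMaxPt z) : IsMaxPt (g z) := by
  intro η hη
  obtain ⟨w, hw1, hw2⟩ := hg hη
  rw [← hw2, h w hw1]

set_option backward.isDefEq.respectTransparency.types false in
set_option backward.defeqAttrib.useBackward true in
/-- Two `K`-points of `X` with the same image point and the same composite to `Y` agree as soon
as the residue field extension at the image point is trivial. -/
theorem eq_of_comp_eq_of_surjective_residueFieldMap {X Y : Scheme.{u}} (f : X ⟶ Y) {K : Type u}
    [Field K] (g₁ g₂ : Spec (.of K) ⟶ X) (hg : g₁ ≫ f = g₂ ≫ f)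
    (e : g₁ (IsLocalRing.closedPoint K) = g₂ (IsLocalRing.closedPoint K))
    (hs : Function.Surjective (f.residueFieldMap (g₁ (IsLocalRing.closedPoint K))).hom) :
    g₁ = g₂ := by
  obtain ⟨e', h⟩ := Scheme.SpecToEquivOfField_eq_iff.mp congr((Y.SpecToEquivOfField K) $(hg))
  apply (X.SpecToEquivOfField K).injective
  dsimp at e' h
  simp only [Scheme.descResidueField_stalkClosedPointTo_comp] at e' h
  rw [← f.residueFieldMap_congr'_assoc e, CommRingCat.hom_ext_iff] at h
  rw [Scheme.SpecToEquivOfField_eq_iff]
  refine ⟨e, CommRingCat.hom_ext ?_⟩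
  apply RingHom.ext
  intro a
  obtain ⟨b, rfl⟩ := hs a
  exact congr($h b)


set_option backward.isDefEq.respectTransparency.types false in
set_option backward.defeqAttrib.useBackward true in
/-- A flat separated morphism which is injective on maximal points and induces trivial residue
field extensions at them is universally injective. -/
theorem universallyInjective_of_flat_of_isSeparated {X Y : Scheme.{u}} (f : X ⟶ Y) [Flat f]
    [IsSeparated f]
    (h2 : ∀ ξ : X, IsMaxPt ξ → Function.Surjective (f.residueFieldMap ξ).hom)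
    (h3 : ∀ ξ ξ' : X, IsMaxPt ξ → IsMaxPt ξ' → f ξ = f ξ' → ξ = ξ') :
    UniversallyInjective f := by
  rw [UniversallyInjective.iff_diagonal]
  refine ⟨fun ζ => ?_⟩
  obtain ⟨ζ₀, hmax, hsp⟩ := exists_isMaxPt_specializes ζ
  have hcl : IsClosed (Set.range (pullback.diagonal f)) :=
    (pullback.diagonal f).isClosedEmbedding.isClosed_range
  suffices ζ₀ ∈ Set.range (pullback.diagonal f) from hsp.mem_closed hcl this
  let φ := (pullback f f).fromSpecResidueField ζ₀
  have h1max : IsMaxPt (pullback.fst f f ζ₀) :=
    isMaxPt_apply_of_generalizingMap (Flat.generalizingMap _) ζ₀ hmax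
  have h2max : IsMaxPt (pullback.snd f f ζ₀) :=
    isMaxPt_apply_of_generalizingMap (Flat.generalizingMap _) ζ₀ hmax
  have hpt : pullback.fst f f ζ₀ = pullback.snd f f ζ₀ := by
    refine h3 _ _ h1max h2max ?_
    rw [← Scheme.Hom.comp_apply, pullback.condition]
    rfl
  have hφpt : φ (IsLocalRing.closedPoint _) = ζ₀ := Scheme.fromSpecResidueField_apply _ _
  have hφ₁ : φ ≫ pullback.fst f f = φ ≫ pullback.snd f f := by
    refine eq_of_comp_eq_of_surjective_residueFieldMap (K := (pullback f f).residueField ζ₀) f
      (φ ≫ pullback.fst f f) (φ ≫ pullback.snd f f) (by simp [pullback.condition]) ?_ ?_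
    · rw [Scheme.Hom.comp_apply, Scheme.Hom.comp_apply, hφpt]
      exact hpt
    · have : (φ ≫ pullback.fst f f) (IsLocalRing.closedPoint _) = pullback.fst f f ζ₀ := by
        rw [Scheme.Hom.comp_apply, hφpt]
      rw [this]
      exact h2 _ h1max
  have hφ₂ : φ = (φ ≫ pullback.fst f f) ≫ pullback.diagonal f := by
    apply pullback.hom_ext
    · simp
    · simp [hφ₁]
  refine ⟨(φ ≫ pullback.fst f f) (IsLocalRing.closedPoint _), ?_⟩
  rw [← Scheme.Hom.comp_apply, ← hφ₂]
  exact hφpt

end Groth.Agent.H22.UnivInjGeneric
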