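import Mathlib.AlgebraicGeometry.ValuativeCriterion

set_option autoImplicit false
universe u
open CategoryTheory CategoryTheory.Limits AlgebraicGeometry

namespace Groth.Agent.H22

set_option backward.isDefEq.respectTransparency false in
theorem section_extends_of_valuationRing (A : Type u) [CommRing A] [IsDomain A]
    [ValuationRing A] (K : Type u) [Field K] [Algebra A K] [IsFractionRing A K] (X : Scheme.{u})
    (f : X ⟶ Spec (CommRingCat.of A)) [IsSeparated f] (hf : IsClosedMap f.base)
    (x : Spec (CommRingCat.of K) ⟶ X) (hx : x ≫ f = Spec.map (CommRingCat.ofHom (algebraMap A K))) :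
    ∃! s : Spec (CommRingCat.of A) ⟶ X, s ≫ f = 𝟙 _ ∧ Spec.map (CommRingCat.ofHom (algebraMap A K)) ≫ s = x := by
  classical
  have hloc : IsLocalRing A := inferInstance
  have H : SpecializingMap f.base := hf.specializingMap
  -- existence
  have hex : ∃ s : Spec (CommRingCat.of A) ⟶ X,
      s ≫ f = 𝟙 _ ∧ Spec.map (CommRingCat.ofHom (algebraMap A K)) ≫ s = x := by
    obtain ⟨z, h₁, h₂⟩ := @H (x.base (IsLocalRing.closedPoint K)) _
      (IsLocalRing.specializes_closedPoint (R := A) _)
    let e : CommRingCat.of A ≅ (Spec (CommRingCat.of A)).presheaf.stalk (f.base z) :=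
      (stalkClosedPointIso (.of A)).symm ≪≫
        (Spec (CommRingCat.of A)).presheaf.stalkCongr (.of_eq h₂.symm)
    let α := e.hom ≫ f.stalkMap z
    have : IsLocalHom e.hom.hom := isLocalHom_of_isIso e.hom
    have : IsLocalHom α.hom := inferInstanceAs
      (IsLocalHom ((f.stalkMap z).hom.comp e.hom.hom))
    let β := X.presheaf.stalkSpecializes h₁ ≫ Scheme.stalkClosedPointTo x
    have hαβ : α ≫ β = CommRingCat.ofHom (algebraMap A K) := by
      simp only [CommRingCat.coe_of, Iso.trans_hom, Iso.symm_hom, TopCat.Presheaf.stalkCongr_hom,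
        Category.assoc, α, e, β, stalkClosedPointIso_inv, StructureSheaf.toStalk]
      change (Scheme.ΓSpecIso (.of A)).inv ≫ (Spec <| .of A).presheaf.germ _ _ _ ≫ _ = _
      simp only [TopCat.Presheaf.germ_stalkSpecializes_assoc, Scheme.Hom.germ_stalkMap_assoc]
      simp only [TopologicalSpace.Opens.map_top]
      rw [Scheme.germ_stalkClosedPointTo x ⊤ trivial]
      erw [← Scheme.Hom.comp_app_assoc x f]
      rw [hx]
      simp
    have hbij := (bijective_rangeRestrict_comp_of_valuationRing (R := A) (K := K) α.hom β.hom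
      (CommRingCat.hom_ext_iff.mp hαβ))
    let φ : X.presheaf.stalk z ⟶ CommRingCat.of A := CommRingCat.ofHom <|
      (RingEquiv.ofBijective _ hbij).symm.toRingHom.comp β.hom.rangeRestrict
    have hαφ : α ≫ φ = 𝟙 _ := by ext x; exact (RingEquiv.ofBijective _ hbij).symm_apply_apply x
    have hαφ' : f.stalkMap z ≫ φ = e.inv := by
      rw [← cancel_epi e.hom, ← Category.assoc, hαφ, e.hom_inv_id]
    have hφβ : φ ≫ CommRingCat.ofHom (algebraMap A K) = β :=
      hαβ ▸ CommRingCat.hom_ext (RingHom.ext fun x ↦ congr_arg Subtype.val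
        ((RingEquiv.ofBijective _ hbij).apply_symm_apply (β.hom.rangeRestrict x)))
    refine ⟨Spec.map φ ≫ X.fromSpecStalk z, ?_, ?_⟩
    · simp only [Category.assoc]
      rw [← Scheme.SpecMap_stalkMap_fromSpecStalk, ← Spec.map_comp_assoc, hαφ']
      simp only [Iso.trans_inv, TopCat.Presheaf.stalkCongr_inv, Iso.symm_inv, Spec.map_comp,
        Category.assoc, Scheme.SpecMap_stalkSpecializes_fromSpecStalk, e]
      rw [← Spec_stalkClosedPointIso, ← Spec.map_comp,
        Iso.inv_hom_id, Spec.map_id]
    · simp only [← Spec.map_comp_assoc, hφβ]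
      simp only [Spec.map_comp, Category.assoc, Scheme.SpecMap_stalkSpecializes_fromSpecStalk, β]
      rw [Scheme.Spec_stalkClosedPointTo_fromSpecStalk]
  obtain ⟨s, hs₁, hs₂⟩ := hex
  refine ⟨s, ⟨hs₁, hs₂⟩, ?_⟩
  rintro s' ⟨hs'₁, hs'₂⟩
  -- uniqueness via the valuative criterion for separated morphisms
  have huniq := IsSeparated.valuativeCriterion f
  let S : ValuativeCommSq f :=
    { R := A, K := K, i₁ := x, i₂ := 𝟙 _, commSq := ⟨by rw [hx, Category.comp_id]⟩ }
  have hsub : Subsingleton S.commSq.LiftStruct := huniq S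
  let L : S.commSq.LiftStruct := ⟨s, hs₂, hs₁⟩
  let L' : S.commSq.LiftStruct := ⟨s', hs'₂, hs'₁⟩
  have : L' = L := Subsingleton.elim _ _
  exact congrArg CommSq.LiftStruct.l this



end Groth.Agent.H22
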