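import Mathlib.RingTheory.GradedAlgebra.Basic
import Mathlib.RingTheory.Noetherian.Basic
import Mathlib.RingTheory.Ideal.Maps

set_option autoImplicit false
universe u

namespace Groth.Agent.H22

open DirectSum

section

variable {R A : Type u} [CommRing R] [CommRing A] [Algebra R A]
variable (𝒜 : ℕ → Submodule R A) [GradedAlgebra 𝒜]
variable (d : ℕ)

/-- Projection of `A` onto the sum of the components of degree divisible by `d`. -/
noncomputable def verProj : A →+ A :=
  (DirectSum.toAddMonoid fun n => if d ∣ n then (𝒜 n).subtype.toAddMonoidHom else 0).comp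
    (DirectSum.decomposeAddEquiv 𝒜).toAddMonoidHom

theorem verProj_of_mem_of_dvd {n : ℕ} {x : A} (hx : x ∈ 𝒜 n) (hn : d ∣ n) : verProj 𝒜 d x = x := by
  change DirectSum.toAddMonoid _ (DirectSum.decompose 𝒜 x) = x
  rw [DirectSum.decompose_of_mem 𝒜 hx, DirectSum.toAddMonoid_of, if_pos hn]
  rfl

theorem verProj_of_mem_of_not_dvd {n : ℕ} {x : A} (hx : x ∈ 𝒜 n) (hn : ¬ d ∣ n) :
    verProj 𝒜 d x = 0 := by
  change DirectSum.toAddMonoid _ (DirectSum.decompose 𝒜 x) = 0
  rw [DirectSum.decompose_of_mem 𝒜 hx, DirectSum.toAddMonoid_of, if_neg hn]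
  rfl

theorem verProj_one : verProj 𝒜 d 1 = 1 :=
  verProj_of_mem_of_dvd 𝒜 d (SetLike.GradedOne.one_mem (A := 𝒜)) (dvd_zero d)

theorem verProj_mul_of_mem {k : ℕ} {c : A} (hc : c ∈ 𝒜 (k * d)) (a : A) :
    verProj 𝒜 d (c * a) = c * verProj 𝒜 d a := by
  classical
  induction a using DirectSum.Decomposition.inductionOn 𝒜 with
  | zero => simp
  | homogeneous a =>
    rename_i n
    have hca : c * (a : A) ∈ 𝒜 (k * d + n) := SetLike.mul_mem_graded hc a.2
    by_cases hn : d ∣ n
    · rw [verProj_of_mem_of_dvd 𝒜 d hca ((Nat.dvd_add_right (dvd_mul_left d k)).mpr hn),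
        verProj_of_mem_of_dvd 𝒜 d a.2 hn]
    · rw [verProj_of_mem_of_not_dvd 𝒜 d hca (fun h => hn ((Nat.dvd_add_right (dvd_mul_left d k)).mp h)),
        verProj_of_mem_of_not_dvd 𝒜 d a.2 hn, mul_zero]
  | add a b ha hb => rw [mul_add, map_add, ha, hb, map_add, mul_add]

variable {B : Type u} [CommRing B] [Algebra R B] (ℬ : ℕ → Submodule R B) [GradedAlgebra ℬ]
variable (φ : B →ₐ[R] A) (hdeg : ∀ n : ℕ, Submodule.map φ.toLinearMap (ℬ n) = 𝒜 (n * d))

include hdeg in
theorem verProj_map_mul (b : B) (a : A) : verProj 𝒜 d (φ b * a) = φ b * verProj 𝒜 d a := by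
  classical
  induction b using DirectSum.Decomposition.inductionOn ℬ with
  | zero => simp
  | homogeneous b =>
    rename_i k
    have hb : φ (b : B) ∈ 𝒜 (k * d) := by
      rw [← hdeg]
      exact Submodule.mem_map_of_mem b.2
    exact verProj_mul_of_mem 𝒜 d hb a
  | add b b' hb hb' => rw [map_add, add_mul, map_add, hb, hb', add_mul]

include hdeg in
theorem verProj_mem_range (a : A) : verProj 𝒜 d a ∈ Set.range φ := by
  classical
  induction a using DirectSum.Decomposition.inductionOn 𝒜 with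
  | zero => exact ⟨0, by simp⟩
  | homogeneous a =>
    rename_i n
    by_cases hn : d ∣ n
    · rw [verProj_of_mem_of_dvd 𝒜 d a.2 hn]
      obtain ⟨k, rfl⟩ := hn
      have ha : (a : A) ∈ 𝒜 (k * d) := by rw [mul_comm]; exact a.2
      rw [← hdeg] at ha
      obtain ⟨b, -, hb⟩ := ha
      exact ⟨b, hb⟩
    · rw [verProj_of_mem_of_not_dvd 𝒜 d a.2 hn]
      exact ⟨0, by simp⟩
  | add a b ha hb =>
    obtain ⟨x, hx⟩ := ha
    obtain ⟨y, hy⟩ := hb
    exact ⟨x + y, by rw [map_add, map_add, hx, hy]⟩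

include hdeg in
/-- Ideals of the Veronese subring are contracted from `A`. -/
theorem comap_map_eq_self_of_veronese (hφ : Function.Injective φ) (I : Ideal B) :
    (I.map (φ : B →+* A)).comap (φ : B →+* A) = I := by
  refine le_antisymm ?_ Ideal.le_comap_map
  intro x hx
  rw [Ideal.mem_comap] at hx
  have key : ∀ y ∈ I.map (φ : B →+* A), ∀ a : A, verProj 𝒜 d (a * y) ∈ (φ : B →+* A) '' (I : Set B) := by
    intro y hy
    refine Submodule.span_induction ?_ ?_ ?_ ?_ hy
    · rintro _ ⟨i, hi, rfl⟩ a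
      obtain ⟨b, hb⟩ := verProj_mem_range 𝒜 d ℬ φ hdeg a
      refine ⟨i * b, I.mul_mem_right b hi, ?_⟩
      change φ (i * b) = verProj 𝒜 d (a * φ i)
      rw [mul_comm a, verProj_map_mul 𝒜 d ℬ φ hdeg, map_mul, hb]
    · intro a
      exact ⟨0, I.zero_mem, by simp⟩
    · intro y z _ _ hy hz a
      obtain ⟨i, hi, hi'⟩ := hy a
      obtain ⟨j, hj, hj'⟩ := hz a
      exact ⟨i + j, I.add_mem hi hj, by rw [mul_add, map_add, map_add, hi', hj']⟩
    · intro c y _ hy a
      rw [smul_eq_mul, ← mul_assoc]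
      exact hy (a * c)
  obtain ⟨i, hi, hi'⟩ := key _ hx 1
  rw [one_mul] at hi'
  have h1 : verProj 𝒜 d (φ x) = φ x := by
    have := verProj_map_mul 𝒜 d ℬ φ hdeg x 1
    rwa [mul_one, verProj_one, mul_one] at this
  have : φ i = φ x := by
    rw [← h1]
    exact hi'
  rw [← hφ this]
  exact hi

include hdeg in
theorem isNoetherianRing_of_veronese [IsNoetherianRing A] (hφ : Function.Injective φ) :
    IsNoetherianRing B := by
  have hmono : StrictMono (fun I : Ideal B => I.map (φ : B →+* A)) := by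
    apply Monotone.strictMono_of_injective
    · intro I J h
      exact Ideal.map_mono h
    · intro I J h
      have := congrArg (Ideal.comap (φ : B →+* A)) h
      simpa only [comap_map_eq_self_of_veronese 𝒜 d ℬ φ hdeg hφ] using this
  have : WellFoundedGT (Ideal A) := (isNoetherian_iff' (R := A) (M := A)).mp inferInstance
  exact (isNoetherian_iff' (R := B) (M := B)).mpr hmono.wellFoundedGT

end

end Groth.Agent.H22
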