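import Groth.Agent.H22.Veronese
import Groth.Agent.H22.Graded
import Mathlib.RingTheory.IntegralClosure.IsIntegralClosure.Basic

set_option autoImplicit false
universe u

namespace Groth.Agent.H22

open DirectSum Polynomial

section

variable {R A : Type u} [CommRing R] [CommRing A] [Algebra R A]
variable (𝒜 : ℕ → Submodule R A) [GradedAlgebra 𝒜]
variable (d : ℕ)
variable {B : Type u} [CommRing B] [Algebra R B] (ℬ : ℕ → Submodule R B) [GradedAlgebra ℬ]
variable (φ : B →ₐ[R] A) (hdeg : ∀ n : ℕ, Submodule.map φ.toLinearMap (ℬ n) = 𝒜 (n * d))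

include hdeg in
theorem veronese_isIntegral (hd : 0 < d) : (φ : B →+* A).IsIntegral := by
  classical
  intro a
  induction a using DirectSum.Decomposition.inductionOn 𝒜 with
  | zero => exact RingHom.isIntegralElem_zero _
  | homogeneous a =>
    rename_i n
    have ha : (a : A) ^ d ∈ 𝒜 (n * d) := by
      have := SetLike.pow_mem_graded d a.2
      rwa [smul_eq_mul, mul_comm] at this
    rw [← hdeg] at ha
    obtain ⟨b, -, hb⟩ := ha
    refine ⟨X ^ d - C b, monic_X_pow_sub_C b hd.ne', ?_⟩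
    rw [eval₂_sub, eval₂_pow, eval₂_X, eval₂_C]
    change (a : A) ^ d - φ b = 0
    change φ b = (a : A) ^ d at hb
    rw [hb, sub_self]
  | add a b ha hb => exact RingHom.IsIntegralElem.add _ ha hb

include hdeg in
theorem veronese_finiteType [Algebra.FiniteType (𝒜 0) A] : (φ : B →+* A).FiniteType := by
  letI := (φ : B →+* A).toAlgebra
  obtain ⟨s, hs⟩ := (inferInstance : Algebra.FiniteType (𝒜 0) A).out
  change Algebra.FiniteType B A
  refine ⟨⟨s, ?_⟩⟩
  rw [eq_top_iff]
  intro x hx0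
  have hx : x ∈ Algebra.adjoin (𝒜 0) (s : Set A) := hs ▸ Algebra.mem_top
  clear hx0
  induction hx using Algebra.adjoin_induction with
  | mem y hy => exact Algebra.subset_adjoin hy
  | algebraMap r =>
    have hr : (r : A) ∈ 𝒜 (0 * d) := by rw [zero_mul]; exact r.2
    rw [← hdeg] at hr
    obtain ⟨b, -, hb⟩ := hr
    have : algebraMap (𝒜 0) A r = algebraMap B A b := hb.symm
    rw [this]
    exact Subalgebra.algebraMap_mem _ b
  | add x y _ _ hx hy => exact Subalgebra.add_mem _ hx hy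
  | mul x y _ _ hx hy => exact Subalgebra.mul_mem _ hx hy

include hdeg in
theorem veronese_finite [Algebra.FiniteType (𝒜 0) A] (hd : 0 < d) : (φ : B →+* A).Finite :=
  RingHom.IsIntegral.to_finite (veronese_isIntegral 𝒜 d ℬ φ hdeg hd) (veronese_finiteType 𝒜 d ℬ φ hdeg)

theorem verProj_mem_irrelevant {a : A} (ha : a ∈ (HomogeneousIdeal.irrelevant 𝒜).toIdeal) :
    verProj 𝒜 d a ∈ (HomogeneousIdeal.irrelevant 𝒜).toIdeal := by
  have ha' : a ∈ (HomogeneousIdeal.irrelevant 𝒜).toAddSubmonoid := ha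
  rw [HomogeneousIdeal.irrelevant_eq_closure] at ha'
  clear ha
  induction ha' using AddSubmonoid.closure_induction with
  | mem x hx =>
    obtain ⟨i, hxi⟩ := Set.mem_iUnion.mp hx
    obtain ⟨hi, hxi⟩ := Set.mem_iUnion.mp hxi
    by_cases hdi : d ∣ i
    · rw [verProj_of_mem_of_dvd 𝒜 d hxi hdi]
      exact HomogeneousIdeal.mem_irrelevant_of_mem 𝒜 hi hxi
    · rw [verProj_of_mem_of_not_dvd 𝒜 d hxi hdi]
      exact Ideal.zero_mem _
  | zero => rw [map_zero]; exact Ideal.zero_mem _
  | add x y _ _ hx hy => rw [map_add]; exact Ideal.add_mem _ hx hy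

include hdeg in
theorem map_mem_irrelevant_of_mem (hd : 0 < d) {b : B} (hb : b ∈ (HomogeneousIdeal.irrelevant ℬ).toIdeal) :
    φ b ∈ (HomogeneousIdeal.irrelevant 𝒜).toIdeal := by
  have hb' : b ∈ (HomogeneousIdeal.irrelevant ℬ).toAddSubmonoid := hb
  rw [HomogeneousIdeal.irrelevant_eq_closure] at hb'
  clear hb
  induction hb' using AddSubmonoid.closure_induction with
  | mem x hx =>
    obtain ⟨i, hxi⟩ := Set.mem_iUnion.mp hx
    obtain ⟨hi, hxi⟩ := Set.mem_iUnion.mp hxi
    have : φ x ∈ 𝒜 (i * d) := by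
      rw [← hdeg]
      exact Submodule.mem_map_of_mem hxi
    exact HomogeneousIdeal.mem_irrelevant_of_mem 𝒜 (Nat.mul_pos hi hd) this
  | zero => rw [map_zero]; exact Ideal.zero_mem _
  | add x y _ _ hx hy => rw [map_add]; exact Ideal.add_mem _ hx hy

include hdeg in
theorem mem_irrelevant_of_map_mem (hd : 0 < d) (hφ : Function.Injective φ) {b : B}
    (hb : φ b ∈ (HomogeneousIdeal.irrelevant 𝒜).toIdeal) :
    b ∈ (HomogeneousIdeal.irrelevant ℬ).toIdeal := by
  classical
  -- split off the degree zero component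
  set b0 : B := (decompose ℬ b 0 : B) with hb0
  have hb0mem : b0 ∈ ℬ 0 := Subtype.prop _
  have hb' : b - b0 ∈ (HomogeneousIdeal.irrelevant ℬ).toIdeal := by
    change b - b0 ∈ HomogeneousIdeal.irrelevant ℬ
    rw [HomogeneousIdeal.mem_irrelevant_iff, GradedRing.proj_apply, decompose_sub, DFinsupp.sub_apply,
      Submodule.coe_sub, decompose_of_mem_same ℬ hb0mem, sub_self]
  have h1 : φ b0 ∈ (HomogeneousIdeal.irrelevant 𝒜).toIdeal := by
    have := Ideal.sub_mem _ hb (map_mem_irrelevant_of_mem 𝒜 d ℬ φ hdeg hd hb')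
    rwa [← map_sub, sub_sub_cancel] at this
  have h2 : φ b0 ∈ 𝒜 0 := by
    have : φ b0 ∈ 𝒜 (0 * d) := by
      rw [← hdeg]
      exact Submodule.mem_map_of_mem hb0mem
    rwa [zero_mul] at this
  have h3 : φ b0 = 0 := by
    change φ b0 ∈ HomogeneousIdeal.irrelevant 𝒜 at h1
    rw [HomogeneousIdeal.mem_irrelevant_iff, GradedRing.proj_apply, decompose_of_mem_same 𝒜 h2] at h1
    exact h1
  have h4 : b0 = 0 := hφ (by rw [h3, map_zero])
  rw [h4, sub_zero] at hb'
  exact hb'

include hdeg in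
/-- The irrelevant ideal of the Veronese subring of a finite type graded ring is finitely generated. -/
theorem irrelevant_fg_of_veronese [Algebra.FiniteType (𝒜 0) A] (hd : 0 < d)
    (hφ : Function.Injective φ) : (HomogeneousIdeal.irrelevant ℬ).toIdeal.FG := by
  let _ := (φ : B →+* A).toAlgebra
  have hfin : Module.Finite B A := veronese_finite 𝒜 d ℬ φ hdeg hd
  have hfgA : (HomogeneousIdeal.irrelevant 𝒜).toIdeal.FG :=
    (irrelevant_fg_iff_finiteType 𝒜).mpr inferInstance
  have hfgA' : (((HomogeneousIdeal.irrelevant 𝒜).toIdeal).restrictScalars B).FG :=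
    Submodule.FG.restrictScalars hfgA
  let πL : A →ₗ[B] A :=
    { verProj 𝒜 d with
      map_smul' := fun b a => by
        change verProj 𝒜 d (φ b * a) = φ b * verProj 𝒜 d a
        exact verProj_map_mul 𝒜 d ℬ φ hdeg b a }
  have hN : (Submodule.map πL (((HomogeneousIdeal.irrelevant 𝒜).toIdeal).restrictScalars B)).FG :=
    hfgA'.map πL
  let φL : B →ₗ[B] A := Algebra.linearMap B A
  have hφL : Function.Injective φL := hφ
  have hmap : Submodule.map φL (HomogeneousIdeal.irrelevant ℬ).toIdeal =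
      Submodule.map πL (((HomogeneousIdeal.irrelevant 𝒜).toIdeal).restrictScalars B) := by
    ext y
    constructor
    · rintro ⟨b, hb, rfl⟩
      refine ⟨φ b, map_mem_irrelevant_of_mem 𝒜 d ℬ φ hdeg hd hb, ?_⟩
      change verProj 𝒜 d (φ b) = φ b
      have := verProj_map_mul 𝒜 d ℬ φ hdeg b 1
      rwa [mul_one, verProj_one, mul_one] at this
    · rintro ⟨a, ha, rfl⟩
      obtain ⟨b, hb⟩ := verProj_mem_range 𝒜 d ℬ φ hdeg a
      refine ⟨b, mem_irrelevant_of_map_mem 𝒜 d ℬ φ hdeg hd hφ ?_, hb⟩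
      rw [hb]
      exact verProj_mem_irrelevant 𝒜 d ha
  rw [← hmap] at hN
  exact Submodule.fg_of_fg_map_injective φL hφL hN

end

end Groth.Agent.H22
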