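import Groth.Agent.H22.PointwisePI
import Groth.Agent.H48.FieldDim2
import Groth.Agent.H99.FibDimStrat
import Groth.Agent.H99.FieldDim3

/-!
# Well-intersection with itself implies generically radicial
-/

set_option autoImplicit false
set_option linter.style.haveILetI false
universe u

namespace Groth.Agent.H22.WellInt

open AlgebraicGeometry CategoryTheory CategoryTheory.Limits TopologicalSpace

theorem generically_radicial (k : Type u) [Field k] (X S : Scheme.{u})
    (q : S ⟶ Spec (CommRingCat.of k)) (f : X ⟶ S)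
    [LocallyOfFiniteType q] [CompactSpace S] [IsSeparated q] [LocallyOfFiniteType f]
    [CompactSpace X] [IsSeparated f]
    (Y : Set X) (hYc : IsClosed Y) (hYi : IsIrreducible Y)
    (hWI : topologicalKrullDim {p : ↥(pullback f f) | pullback.fst f f p ∈ Y ∧
      pullback.snd f f p ∈ Y ∧ p ∉ Set.range (pullback.diagonal f)} + topologicalKrullDim S ≤
        topologicalKrullDim Y + topologicalKrullDim Y)
    (hYS : topologicalKrullDim Y < topologicalKrullDim S) :
    ∃ V : Set X, IsOpen V ∧ (V ∩ Y).Nonempty ∧ Set.InjOn f.base (V ∩ Y) ∧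
      ∀ x ∈ V ∩ Y, (f.residueFieldMap x).hom.IsPurelyInseparable := by
  classical
  let pX : X ⟶ Spec (CommRingCat.of k) := f ≫ q
  let pP : pullback f f ⟶ Spec (CommRingCat.of k) := pullback.fst f f ≫ pX
  haveI : LocallyOfFiniteType pX := inferInstanceAs (LocallyOfFiniteType (f ≫ q))
  haveI : LocallyOfFiniteType pP := inferInstanceAs (LocallyOfFiniteType (pullback.fst f f ≫ pX))
  set W : Set ↥(pullback f f) := {p | pullback.fst f f p ∈ Y ∧ pullback.snd f f p ∈ Y ∧
    p ∉ Set.range (pullback.diagonal f)} with hW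
  have hΔ : IsClosed (Set.range (pullback.diagonal f)) :=
    (pullback.diagonal f).isClosedEmbedding.isClosed_range
  have hWlc : IsLocallyClosed W := by
    have : W = ((pullback.fst f f) ⁻¹' Y ∩ (pullback.snd f f) ⁻¹' Y) ∩
        (Set.range (pullback.diagonal f))ᶜ := by
      ext p
      simp only [hW, Set.mem_setOf_eq, Set.mem_inter_iff, Set.mem_preimage, Set.mem_compl_iff,
        and_assoc]
    rw [this]
    exact ((hYc.preimage (pullback.fst f f).continuous).inter
      (hYc.preimage (pullback.snd f f).continuous)).isLocallyClosed.inter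
      hΔ.isOpen_compl.isLocallyClosed
  -- the generic point of `Y`
  set η := hYi.genericPoint with hηdef
  have hη : IsGenericPoint η Y := hYi.isGenericPoint_genericPoint hYc
  have hηY : η ∈ Y := hη.mem
  set m : ℕ := (Groth.Agent.H48.FieldDim.δ pX η).toNat with hm
  have hdimY : topologicalKrullDim ↥Y = (m : WithBot ℕ∞) := by
    have := Groth.Agent.H48.FieldDim.topologicalKrullDim_closure_eq pX η
    rw [hη.def] at this
    exact_mod_cast this
  have hWdim : ∀ w ∈ W, (((Groth.Agent.H48.FieldDim.δ pP w).toNat : ℕ) : WithBot ℕ∞) ≤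
      topologicalKrullDim ↥W := by
    intro w hw
    rw [Groth.Agent.H48.FieldDim2.topologicalKrullDim_eq_iSup_of_isLocallyClosed pP W hWlc]
    have := le_iSup (fun z : W => (((Groth.Agent.H48.FieldDim.δ pP z.1).toNat : ℕ∞) : WithBot ℕ∞))
      ⟨w, hw⟩
    exact_mod_cast this
  have hlt : topologicalKrullDim ↥W < (m : WithBot ℕ∞) := by
    by_contra hcon
    rw [not_lt] at hcon
    have h1 : (m : WithBot ℕ∞) + topologicalKrullDim S ≤ (m : WithBot ℕ∞) + (m : WithBot ℕ∞) := by
      calc (m : WithBot ℕ∞) + topologicalKrullDim S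
          ≤ topologicalKrullDim ↥W + topologicalKrullDim S := by gcongr
        _ ≤ _ := by rw [← hdimY]; exact hWI
    have h2 := Groth.Agent.H17.Chev.le_of_natCast_add_le_natCast_add h1
    rw [hdimY] at hYS
    exact absurd h2 (not_le.mpr hYS)
  have hδ : ∀ t : ↥(pullback f f), Groth.Agent.H48.FieldDim.δ pX (pullback.fst f f t) ≤
      Groth.Agent.H48.FieldDim.δ pP t := by
    intro t
    obtain ⟨n, -, hn⟩ := Groth.Agent.H99.FieldDim.deltaCompat_comp (pullback.fst f f) pX t
    rw [Groth.Agent.H99.FieldDim.delta_eq_delta48, Groth.Agent.H99.FieldDim.delta_eq_delta48] at hn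
    change Groth.Agent.H48.FieldDim.δ pP t = _ at hn
    omega
  -- the bad closed set
  set K : Set X := closure ((pullback.fst f f) '' W) with hK
  have hηK : η ∉ K := by
    intro hηK
    haveI : QuasiSober ↥W := Groth.Agent.H48.FieldDim2.quasiSober_of_isLocallyClosed hWlc
    haveI : IsLocallyNoetherian (pullback f f) := LocallyOfFiniteType.isLocallyNoetherian pP
    haveI : QuasiSeparatedSpace S := quasiSeparatedSpace_of_quasiSeparated q
    haveI : QuasiCompact f := inferInstance
    haveI : CompactSpace ↥(pullback f f) := inferInstance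
    haveI : IsNoetherian (pullback f f) := {}
    haveI : NoetherianSpace ↥(pullback f f) := inferInstance
    have himg : (fun w : W => pullback.fst f f w.1) '' Set.univ = (pullback.fst f f) '' W := by
      ext x
      simp only [Set.image_univ, Set.mem_range, Subtype.exists, Set.mem_image]
      constructor
      · rintro ⟨w, hw, rfl⟩; exact ⟨w, hw, rfl⟩
      · rintro ⟨w, hw, rfl⟩; exact ⟨w, hw, rfl⟩
    obtain ⟨w, -, hwη⟩ := Groth.Agent.H99.FibDimStrat.exists_map_specializes_of_mem_closure_image
      (fun w : W => pullback.fst f f w.1)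
      ((pullback.fst f f).continuous.comp continuous_subtype_val) Set.univ isClosed_univ η
      (by rw [himg]; exact hηK)
    have hwY : pullback.fst f f w.1 ∈ Y := w.2.1
    have heq : pullback.fst f f w.1 = η := (hwη.antisymm (hη.specializes hwY)).eq
    have h1 := hWdim w.1 w.2
    have h2 := hδ w.1
    rw [heq] at h2
    have h3 : m ≤ (Groth.Agent.H48.FieldDim.δ pP w.1).toNat := by
      rw [hm]; omega
    have h4 : (m : WithBot ℕ∞) ≤ topologicalKrullDim ↥W := le_trans (by exact_mod_cast h3) h1
    exact absurd h4 (not_le.mpr hlt)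
  refine ⟨Kᶜ, isClosed_closure.isOpen_compl, ⟨η, hηK, hηY⟩, ?_, ?_⟩
  · intro y₁ hy₁ y₂ hy₂ h12
    by_contra hne
    obtain ⟨w, hw1, hw2⟩ := Scheme.Pullback.exists_preimage_pullback (f := f) (g := f) y₁ y₂ h12
    have hwW : w ∈ W := by
      refine ⟨hw1 ▸ hy₁.2, hw2 ▸ hy₂.2, ?_⟩
      rintro ⟨x, rfl⟩
      apply hne
      rw [← hw1, ← hw2, ← Scheme.Hom.comp_apply, ← Scheme.Hom.comp_apply, pullback.diagonal_fst,
        pullback.diagonal_snd]
    exact hy₁.1 (subset_closure ⟨w, hwW, hw1⟩)
  · intro x hx
    apply Groth.Agent.H22.PointwisePI.isPurelyInseparable_residueFieldMap f x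
    intro z hz1 hz2
    by_contra hz
    have hzW : z ∈ W := ⟨hz1 ▸ hx.2, hz2 ▸ hx.2, hz⟩
    exact hx.1 (subset_closure ⟨z, hzW, hz1⟩)

end Groth.Agent.H22.WellInt
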