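import Mathlib
import Groth.Agent.H48.RelDelta
import Groth.Agent.H49.FibreDimBC
import Groth.Agent.H99.WellMeet

/-!
# Dimension of preimages under morphisms with fibres of constant dimension (helper22; for S14485)
-/

set_option autoImplicit false
set_option linter.unusedSectionVars false
set_option linter.style.haveILetI false
universe u

open AlgebraicGeometry CategoryTheory CategoryTheory.Limits TopologicalSpace

namespace Groth.Agent.H22.WellIntBC

open Groth.Agent.H48

section DimPreimage

variable {k : Type u} [Field k] {W W' : Scheme.{u}} (q : W ⟶ Spec (CommRingCat.of k))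
  [LocallyOfFiniteType q] (ρ : W' ⟶ W) [LocallyOfFiniteType ρ]

include q in
/-- If all fibres of `ρ` over the locally closed set `T` have dimension `d`,
`dim ρ⁻¹(T) = dim T + d`. -/
theorem topologicalKrullDim_preimage_eq_add (T : Set W) (hT : IsLocallyClosed T) (d : ℕ)
    (hd : ∀ t ∈ T, topologicalKrullDim (ρ.fiber t) = d) :
    topologicalKrullDim ↥(ρ ⁻¹' T) = topologicalKrullDim ↥T + d := by
  have hδX := FieldDim.isDimFun (ρ ≫ q)
  have hδ := RelDelta.deltaCompat_comp q ρ
  have hfib : ∀ t ∈ T, (d : WithBot ℕ∞) = ⨆ s : ρ.fiber t,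
      ((((FieldDim.δ (ρ ≫ q) (ρ.fiberι t s)) - FieldDim.δ q t).toNat : ℕ∞) : WithBot ℕ∞) := by
    intro t ht
    rw [← hd t ht]
    exact RelDelta.topologicalKrullDim_fiber ρ _ _ hδX hδ t
  rw [FieldDim2.topologicalKrullDim_eq_iSup_of_isLocallyClosed (ρ ≫ q) _ (hT.preimage ρ.continuous),
    FieldDim2.topologicalKrullDim_eq_iSup_of_isLocallyClosed q T hT]
  apply le_antisymm
  · refine iSup_le fun z => ?_
    have ht : ρ z.1 ∈ T := z.2
    have h1 := hfib _ ht
    have h2 : ((((FieldDim.δ (ρ ≫ q) z.1) - FieldDim.δ q (ρ z.1)).toNat : ℕ∞) : WithBot ℕ∞) ≤ d := by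
      rw [h1]
      have := le_iSup (fun s : ρ.fiber (ρ z.1) =>
        ((((FieldDim.δ (ρ ≫ q) (ρ.fiberι (ρ z.1) s)) - FieldDim.δ q (ρ z.1)).toNat : ℕ∞) :
          WithBot ℕ∞)) (ρ.asFiber z.1)
      rwa [ρ.fiberι_asFiber] at this
    have h3 : (FieldDim.δ (ρ ≫ q) z.1).toNat ≤ (FieldDim.δ q (ρ z.1)).toNat + d := by
      have : (FieldDim.δ (ρ ≫ q) z.1 - FieldDim.δ q (ρ z.1)).toNat ≤ d := by exact_mod_cast h2
      omega
    calc (((FieldDim.δ (ρ ≫ q) z.1).toNat : ℕ∞) : WithBot ℕ∞)
        ≤ (((FieldDim.δ q (ρ z.1)).toNat : ℕ∞) : WithBot ℕ∞) + d := by exact_mod_cast h3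
      _ ≤ _ := add_le_add_left (le_iSup (fun t : T =>
          (((FieldDim.δ q t.1).toNat : ℕ∞) : WithBot ℕ∞)) ⟨ρ z.1, ht⟩) _
  · refine ProdDim.iSup_add_le' _ _ _ fun t => ?_
    obtain ⟨s, hs⟩ := RelDelta.exists_le_of_le_iSup _ d (hfib t.1 t.2).le
    have hmem : ρ.fiberι t.1 s ∈ ρ ⁻¹' T := by
      rw [Set.mem_preimage, CycFib.map_fiberι]
      exact t.2
    refine le_trans ?_ (le_iSup (fun z : ↥(ρ ⁻¹' T) =>
      (((FieldDim.δ (ρ ≫ q) z.1).toNat : ℕ∞) : WithBot ℕ∞)) ⟨ρ.fiberι t.1 s, hmem⟩)
    have : (FieldDim.δ q t.1).toNat + d ≤ (FieldDim.δ (ρ ≫ q) (ρ.fiberι t.1 s)).toNat := by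
      have := FieldDim.delta_nonneg q t.1
      have hs' : d ≤ (FieldDim.δ (ρ ≫ q) (ρ.fiberι t.1 s) - FieldDim.δ q t.1).toNat := hs
      obtain ⟨n, -, hn⟩ := hδ (ρ.fiberι t.1 s)
      rw [CycFib.map_fiberι] at hn
      omega
    exact_mod_cast this

end DimPreimage



section Cat

variable {C : Type*} [Category C] [HasPullbacks C] {X S S' : C} (f : X ⟶ S) (g : S' ⟶ S)

/-- The canonical map `X' ×_{S'} X' ⟶ X ×_S X` for `X' = X ×_S S'`. -/
noncomputable def ρ : pullback (pullback.snd f g) (pullback.snd f g) ⟶ pullback f f :=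
  pullback.map (pullback.snd f g) (pullback.snd f g) f f (pullback.fst f g) (pullback.fst f g) g
    pullback.condition.symm pullback.condition.symm

@[reassoc (attr := simp)]
theorem ρ_fst : ρ f g ≫ pullback.fst f f =
    pullback.fst (pullback.snd f g) (pullback.snd f g) ≫ pullback.fst f g :=
  pullback.lift_fst _ _ _

@[reassoc (attr := simp)]
theorem ρ_snd : ρ f g ≫ pullback.snd f f =
    pullback.snd (pullback.snd f g) (pullback.snd f g) ≫ pullback.fst f g :=
  pullback.lift_snd _ _ _

theorem isPullback_ρ_fst : IsPullback (ρ f g)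
    (pullback.fst (pullback.snd f g) (pullback.snd f g)) (pullback.fst f f) (pullback.fst f g) := by
  have h1 := (IsPullback.of_hasPullback (pullback.snd f g) (pullback.snd f g)).flip
  have h2 := IsPullback.of_hasPullback f g
  have h3 := h1.paste_horiz h2
  have h4 := (IsPullback.of_hasPullback f f).flip
  refine IsPullback.of_right ?_ (ρ_fst f g) h4
  rw [ρ_snd, pullback.condition]
  exact h3

theorem isPullback_ρ : IsPullback (ρ f g)
    (pullback.fst (pullback.snd f g) (pullback.snd f g) ≫ pullback.snd f g)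
    (pullback.fst f f ≫ f) g :=
  (isPullback_ρ_fst f g).paste_vert (IsPullback.of_hasPullback f g)

theorem isPullback_diagonal : IsPullback (pullback.diagonal (pullback.snd f g))
    (pullback.fst f g) (ρ f g) (pullback.diagonal f) := by
  refine IsPullback.of_right ?_ ?_ (isPullback_ρ_fst f g).flip
  · rw [pullback.diagonal_fst, pullback.diagonal_fst]
    exact IsPullback.id_horiz _
  · apply pullback.hom_ext <;> simp

end Cat

section Arith

theorem add_le_add_iff_natCast (d : ℕ) (a s y z : WithBot ℕ∞) :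
    (a + d) + (s + d) ≤ (y + d) + (z + d) ↔ a + s ≤ y + z := by
  have e1 : (a + d) + (s + d) = ((d + d : ℕ) : WithBot ℕ∞) + (a + s) := by
    push_cast; abel
  have e2 : (y + d) + (z + d) = ((d + d : ℕ) : WithBot ℕ∞) + (y + z) := by
    push_cast; abel
  rw [e1, e2]
  exact ⟨Groth.Agent.H99.WellMeet.le_of_natCast_add_le_natCast_add _, fun h => add_le_add_right h _⟩

end Arith

section Main

variable {k : Type u} [Field k] {X S S' : Scheme.{u}}
  (q : S ⟶ Spec (CommRingCat.of k)) (f : X ⟶ S) (g : S' ⟶ S)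
  [LocallyOfFiniteType q] [LocallyOfFiniteType f] [IsSeparated f] [LocallyOfFiniteType g]

instance : LocallyOfFiniteType (ρ f g) :=
  MorphismProperty.of_isPullback (isPullback_ρ f g).flip inferInstance

theorem fiber_ρ (d : ℕ) (hd : ∀ s : S, topologicalKrullDim (g.fiber s) = d)
    (p : ↥(pullback f f)) : topologicalKrullDim ((ρ f g).fiber p) = d := by
  rw [Groth.Agent.H49.FibreDimBC.topologicalKrullDim_fiber_eq g (pullback.fst f f ≫ f) (ρ f g) _
    (isPullback_ρ f g).flip p]
  exact hd _

theorem fiber_fst (d : ℕ) (hd : ∀ s : S, topologicalKrullDim (g.fiber s) = d)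
    (x : X) : topologicalKrullDim ((pullback.fst f g).fiber x) = d := by
  rw [Groth.Agent.H49.FibreDimBC.topologicalKrullDim_fiber_eq g f (pullback.fst f g) _
    (IsPullback.of_hasPullback f g).flip x]
  exact hd _

theorem preimage_ρ (Y Z : Set X) :
    {p : ↥(pullback (pullback.snd f g) (pullback.snd f g)) |
      pullback.fst (pullback.snd f g) (pullback.snd f g) p ∈ ((pullback.fst f g) ⁻¹' Y) ∧
      pullback.snd (pullback.snd f g) (pullback.snd f g) p ∈ ((pullback.fst f g) ⁻¹' Z) ∧
      p ∉ Set.range (pullback.diagonal (pullback.snd f g))} =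
    (ρ f g) ⁻¹' {p : ↥(pullback f f) | pullback.fst f f p ∈ Y ∧ pullback.snd f f p ∈ Z ∧
      p ∉ Set.range (pullback.diagonal f)} := by
  ext p
  have h1 : pullback.fst f f (ρ f g p) =
      pullback.fst f g (pullback.fst (pullback.snd f g) (pullback.snd f g) p) := by
    rw [← Scheme.Hom.comp_apply, ρ_fst, Scheme.Hom.comp_apply]
  have h2 : pullback.snd f f (ρ f g p) =
      pullback.fst f g (pullback.snd (pullback.snd f g) (pullback.snd f g) p) := by
    rw [← Scheme.Hom.comp_apply, ρ_snd, Scheme.Hom.comp_apply]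
  have h3 : p ∈ Set.range (pullback.diagonal (pullback.snd f g)) ↔
      ρ f g p ∈ Set.range (pullback.diagonal f) := by
    constructor
    · rintro ⟨x, rfl⟩
      refine ⟨pullback.fst f g x, ?_⟩
      rw [← Scheme.Hom.comp_apply, ← (isPullback_diagonal f g).w, Scheme.Hom.comp_apply]
    · rintro ⟨x, hx⟩
      obtain ⟨x', hx1, -⟩ := Scheme.exists_preimage_of_isPullback
        (isPullback_diagonal f g) p x hx.symm
      exact ⟨x', hx1⟩
  simp only [Set.mem_ofPred_eq, Set.mem_preimage, h1, h2, h3]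

include q in
theorem main (d : ℕ) (hd : ∀ s : S, topologicalKrullDim (g.fiber s) = d)
    (Y Z : Set X) (hYc : IsClosed Y) (hZc : IsClosed Z) :
    (topologicalKrullDim {p : ↥(pullback f f) | pullback.fst f f p ∈ Y ∧ pullback.snd f f p ∈ Z ∧
        p ∉ Set.range (pullback.diagonal f)} + topologicalKrullDim S ≤
        topologicalKrullDim Y + topologicalKrullDim Z) ↔
      (topologicalKrullDim {p : ↥(pullback (pullback.snd f g) (pullback.snd f g)) |
        pullback.fst (pullback.snd f g) (pullback.snd f g) p ∈ ((pullback.fst f g) ⁻¹' Y) ∧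
        pullback.snd (pullback.snd f g) (pullback.snd f g) p ∈ ((pullback.fst f g) ⁻¹' Z) ∧
        p ∉ Set.range (pullback.diagonal (pullback.snd f g))} + topologicalKrullDim S' ≤
        topologicalKrullDim ((pullback.fst f g) ⁻¹' Y) +
        topologicalKrullDim ((pullback.fst f g) ⁻¹' Z)) := by
  rw [preimage_ρ f g Y Z]
  have hE : IsLocallyClosed {p : ↥(pullback f f) | pullback.fst f f p ∈ Y ∧
      pullback.snd f f p ∈ Z ∧ p ∉ Set.range (pullback.diagonal f)} := by
    have e : {p : ↥(pullback f f) | pullback.fst f f p ∈ Y ∧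
        pullback.snd f f p ∈ Z ∧ p ∉ Set.range (pullback.diagonal f)} =
        ((pullback.fst f f) ⁻¹' Y ∩ (pullback.snd f f) ⁻¹' Z) ∩
          (Set.range (pullback.diagonal f))ᶜ := by
      ext p
      simp only [Set.mem_ofPred_eq, Set.mem_inter_iff, Set.mem_preimage, Set.mem_compl_iff]
      tauto
    rw [e]
    refine IsLocallyClosed.inter (IsClosed.isLocallyClosed ?_) (IsOpen.isLocallyClosed ?_)
    · exact (hYc.preimage (pullback.fst f f).continuous).inter
        (hZc.preimage (pullback.snd f f).continuous)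
    · exact (pullback.diagonal f).isClosedEmbedding.isClosed_range.isOpen_compl
  have dE := topologicalKrullDim_preimage_eq_add ((pullback.fst f f ≫ f) ≫ q) (ρ f g) _ hE d
    (fun p _ => fiber_ρ f g d hd p)
  have dY := topologicalKrullDim_preimage_eq_add (f ≫ q) (pullback.fst f g) Y hYc.isLocallyClosed d
    (fun x _ => fiber_fst f g d hd x)
  have dZ := topologicalKrullDim_preimage_eq_add (f ≫ q) (pullback.fst f g) Z hZc.isLocallyClosed d
    (fun x _ => fiber_fst f g d hd x)
  have dS : topologicalKrullDim S' = topologicalKrullDim S + d := by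
    have h := topologicalKrullDim_preimage_eq_add q g Set.univ isClosed_univ.isLocallyClosed d
      (fun s _ => hd s)
    rw [Set.preimage_univ, (Homeomorph.Set.univ S').isHomeomorph.topologicalKrullDim_eq,
      (Homeomorph.Set.univ S).isHomeomorph.topologicalKrullDim_eq] at h
    exact h
  rw [dE, dY, dZ, dS]
  exact (add_le_add_iff_natCast d _ _ _ _).symm

end Main

end Groth.Agent.H22.WellIntBC
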