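import Mathlib.RingTheory.ZariskisMainTheorem
import Mathlib.RingTheory.Spectrum.Prime.Jacobson
import Mathlib.RingTheory.Jacobson.Ring
import Mathlib.RingTheory.IntegralClosure.IntegrallyClosed

/-!
# Consequences of the algebraic Zariski main theorem (helper22)
-/

set_option autoImplicit false

namespace Groth.Agent.H22

open Algebra

/-- A maximal ideal `n` of a finite type `A`-algebra `B` lying over a maximal ideal of `A` and minimal
among the primes of its fibre is (weakly) quasi-finite. -/
theorem weaklyQuasiFiniteAt_of_isMaximal_of_minimal {A B : Type*} [CommRing A] [CommRing B]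
    [Algebra A B] [Algebra.FiniteType A B] (n : Ideal B) [n.IsMaximal]
    (hm : (n.under A).IsMaximal)
    (hmin : ∀ q : Ideal B, q.IsPrime → q.under A = n.under A → q ≤ n → q = n) :
    Algebra.WeaklyQuasiFiniteAt A n := by
  set m := n.under A with hmdef
  let κ := A ⧸ m
  let C := B ⧸ m.map (algebraMap A B)
  let π : B →+* C := Ideal.Quotient.mk _
  have hπ : Function.Surjective π := Ideal.Quotient.mk_surjective
  have hker : RingHom.ker π ≤ n := by
    rw [Ideal.mk_ker]
    exact Ideal.map_le_iff_le_comap.mpr le_rfl
  set q' : Ideal C := n.map π with hq'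
  have hcomap : q'.comap π = n := by
    rw [hq', Ideal.comap_map_of_surjective π hπ, sup_eq_left]
    exact hker
  have hq'max : q'.IsMaximal := Ideal.IsMaximal.map_of_surjective_of_ker_le hπ hker
  letI : Field κ := Ideal.Quotient.field m
  have hft : Algebra.FiniteType κ C := by
    have : Algebra.FiniteType A C :=
      Algebra.FiniteType.of_surjective (Ideal.Quotient.mkₐ A _) Ideal.Quotient.mk_surjective
    exact Algebra.FiniteType.of_restrictScalars_finiteType A κ C
  have hnoeth : IsNoetherianRing C := Algebra.FiniteType.isNoetherianRing κ C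
  have hjac : IsJacobsonRing C := isJacobsonRing_of_finiteType (A := κ)
  have hopen : IsOpen ({⟨q', hq'max.isPrime⟩} : Set (PrimeSpectrum C)) := by
    rw [(PrimeSpectrum.isOpen_singleton_tfae_of_isNoetherian_of_isJacobsonRing _).out 0 2 rfl rfl]
    refine ⟨?_, ?_⟩
    · rw [PrimeSpectrum.isClosed_singleton_iff_isMaximal]
      exact hq'max
    · rw [PrimeSpectrum.stableUnderGeneralization_singleton]
      refine ⟨⟨hq'max.isPrime, bot_le⟩, ?_⟩
      rintro Q ⟨hQ, -⟩ hQle
      have hQn : Q.comap π ≤ n := hcomap ▸ Ideal.comap_mono hQle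
      have hQp : (Q.comap π).IsPrime := Ideal.comap_isPrime π Q
      have hunder : (Q.comap π).under A = m := by
        have h1 : m ≤ (Q.comap π).under A := by
          intro a ha
          rw [Ideal.under_def, Ideal.mem_comap, Ideal.mem_comap]
          have : π (algebraMap A B a) = 0 :=
            Ideal.Quotient.eq_zero_iff_mem.mpr (Ideal.mem_map_of_mem _ ha)
          rw [this]
          exact Q.zero_mem
        exact (hm.eq_of_le (Ideal.IsPrime.ne_top (Ideal.comap_isPrime _ _)) h1).symm
      have := hmin (Q.comap π) hQp hunder hQn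
      change q' ≤ Q
      rw [hq', ← this, Ideal.map_comap_of_surjective π hπ]
  have h1 : Algebra.QuasiFiniteAt κ q' :=
    Algebra.QuasiFiniteAt.of_isOpen_singleton ⟨q', hq'max.isPrime⟩ hopen
  exact Algebra.QuasiFinite.trans A κ (Localization.AtPrime q')

/-- EGA III 4.4.8-type statement: a birational finite type extension of an integrally closed local
domain with an isolated closed point in the closed fibre is trivial. -/
theorem bijective_of_birational_isolated {A B K : Type*} [CommRing A]
    [IsDomain A] [IsLocalRing A] [IsIntegrallyClosed A] [CommRing B] [IsDomain B]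
    [Field K] [Algebra A B] [Algebra B K] [Algebra A K] [IsScalarTower A B K] [IsFractionRing A K]
    [IsFractionRing B K] [Algebra.FiniteType A B] (n : Ideal B) [n.IsMaximal]
    (hn : n.comap (algebraMap A B) = IsLocalRing.maximalIdeal A)
    (hmin : ∀ q : Ideal B, q.IsPrime → q.comap (algebraMap A B) = IsLocalRing.maximalIdeal A →
      q ≤ n → q = n) :
    Function.Bijective (algebraMap A B) := by
  have hinjA : Function.Injective (algebraMap A K) := IsFractionRing.injective A K
  have hinjB : Function.Injective (algebraMap B K) := IsFractionRing.injective B K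
  have hinj : Function.Injective (algebraMap A B) := by
    intro x y h
    apply hinjA
    rw [IsScalarTower.algebraMap_apply A B K, h, ← IsScalarTower.algebraMap_apply]
  refine ⟨hinj, ?_⟩
  have hW : Algebra.WeaklyQuasiFiniteAt A n :=
    weaklyQuasiFiniteAt_of_isMaximal_of_minimal n
      (by rw [Ideal.under_def, hn]; infer_instance)
      (fun q hq h1 h2 => hmin q hq (by rw [← Ideal.under_def, h1, Ideal.under_def, hn]) h2)
  have hZ := Algebra.ZariskisMainProperty.of_finiteType_of_weaklyQuasiFiniteAt (R := A) n
  obtain ⟨r, hrn, hrint, hr⟩ := Algebra.zariskisMainProperty_iff.mp hZ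
  have key : ∀ b : B, IsIntegral A b → ∃ a : A, algebraMap A B a = b := by
    intro b hb
    have h1 : IsIntegral A (algebraMap B K b) := hb.map (IsScalarTower.toAlgHom A B K)
    obtain ⟨a, ha⟩ := IsIntegrallyClosed.isIntegral_iff.mp h1
    exact ⟨a, hinjB (by rw [← IsScalarTower.algebraMap_apply, ha])⟩
  obtain ⟨r', hr'⟩ := key r hrint
  have hr'unit : IsUnit r' := by
    by_contra h
    have : r' ∈ IsLocalRing.maximalIdeal A := (IsLocalRing.mem_maximalIdeal _).mpr h
    rw [← hn, Ideal.mem_comap, hr'] at this
    exact hrn this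
  intro x
  obtain ⟨m, hm⟩ := hr x
  obtain ⟨y, hy⟩ := key _ hm
  obtain ⟨u, hu⟩ := hr'unit
  refine ⟨↑(u⁻¹ ^ m) * y, ?_⟩
  have hrne : r ^ m ≠ 0 := pow_ne_zero _ (by rintro rfl; exact hrn n.zero_mem)
  apply mul_left_cancel₀ hrne
  rw [← hy, map_mul, ← mul_assoc, ← hr', ← map_pow, ← map_mul, ← hu, ← Units.val_pow_eq_pow_val,
    ← Units.val_mul]
  simp

end Groth.Agent.H22
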