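import Mathlib.AlgebraicGeometry.Morphisms.QuasiFinite
import Groth.Agent.H22.ChartMaps
import Groth.Agent.H22.AlgZMT

/-!
# Zariski's main theorem on a chart, from an isolated point of the fibre (helper22)
-/

set_option autoImplicit false
universe u

namespace Groth.Agent.H22

open AlgebraicGeometry CategoryTheory TopologicalSpace Opposite Scheme

set_option maxHeartbeats 800000 in
/-- Let `q : P ⟶ X` be locally of finite type, `x` a normal point of `X` with an integral affine
chart `W₀`, `K` the fraction field of `𝒪_{X,x}`, `V` an affine chart of `P` over `W₀` and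
`c : Γ(P, V) ⟶ K` a ring map over `Γ(X, W₀)` (a `K`-point `ξ` of `V` over the generic point).
If `z ∈ V` lies over `x`, is a specialization of `ξ` and is isolated among such points, then `c`
takes values in `𝒪_{X,x}`. -/
theorem mem_range_of_isolated_chart {X P : Scheme.{u}} (q : P ⟶ X) [LocallyOfFiniteType q]
    (x : X) [IsDomain (X.presheaf.stalk x)] [IsIntegrallyClosed (X.presheaf.stalk x)]
    {W₀ : X.Opens} (hW₀ : IsAffineOpen W₀) (hxW₀ : x ∈ W₀)
    (K : Type u) [Field K] [Algebra (X.presheaf.stalk x) K]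
    [IsFractionRing (X.presheaf.stalk x) K]
    {V : P.Opens} (hV : IsAffineOpen V) (hVW : V ≤ q ⁻¹ᵁ W₀)
    (c : Γ(P, V) ⟶ CommRingCat.of K)
    (hcomm : q.appLE W₀ V hVW ≫ c =
      X.presheaf.germ W₀ x hxW₀ ≫ CommRingCat.ofHom (algebraMap (X.presheaf.stalk x) K))
    (z : P) (hzV : z ∈ V) (hzx : q z = x)
    (hker : RingHom.ker c.hom ≤ (hV.primeIdealOf ⟨z, hzV⟩).asIdeal)
    (Wiso : P.Opens) (hzW : z ∈ Wiso)
    (hiso : ∀ y (hyV : y ∈ V), y ∈ Wiso → q y = x →
      RingHom.ker c.hom ≤ (hV.primeIdealOf ⟨y, hyV⟩).asIdeal → y = z)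
    (t : Γ(P, V)) : c.hom t ∈ (algebraMap (X.presheaf.stalk x) K).range := by
  letI : Algebra Γ(X, W₀) (X.presheaf.stalk x) := (X.presheaf.germ W₀ x hxW₀).hom.toAlgebra
  letI : Algebra Γ(X, W₀) Γ(P, V) := (q.appLE W₀ V hVW).hom.toAlgebra
  letI : Algebra Γ(X, W₀) K :=
    ((algebraMap (X.presheaf.stalk x) K).comp (X.presheaf.germ W₀ x hxW₀).hom).toAlgebra
  haveI : IsScalarTower Γ(X, W₀) (X.presheaf.stalk x) K :=
    IsScalarTower.of_algebraMap_eq (fun _ => rfl)
  haveI hloc : IsLocalization.AtPrime (X.presheaf.stalk x)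
      (hW₀.primeIdealOf ⟨x, hxW₀⟩).asIdeal := hW₀.isLocalization_stalk ⟨x, hxW₀⟩
  haveI hFT : Algebra.FiniteType Γ(X, W₀) Γ(P, V) := q.finiteType_appLE hW₀ hV hVW
  let cA : Γ(P, V) →ₐ[Γ(X, W₀)] K :=
    { c.hom with commutes' := fun a => congr($hcomm a) }
  let cr : Γ(P, V) →ₐ[Γ(X, W₀)] cA.range := cA.rangeRestrict
  have hcr : Function.Surjective cr := cA.rangeRestrict_surjective
  have hkercr : ∀ s, cr s = 0 → c.hom s = 0 := by
    intro s hs
    exact congrArg Subtype.val hs
  have hkercr' : ∀ s, c.hom s = 0 → cr s = 0 := by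
    intro s hs
    apply Subtype.ext
    exact hs
  obtain ⟨n, hndef⟩ : ∃ n : Ideal Γ(P, V), n = (hV.primeIdealOf ⟨z, hzV⟩).asIdeal := ⟨_, rfl⟩
  have hnprime : n.IsPrime := hndef ▸ (hV.primeIdealOf ⟨z, hzV⟩).isPrime
  have hkern : RingHom.ker cr ≤ n := by
    intro s hs
    rw [hndef]
    exact hker ((RingHom.mem_ker).mpr (hkercr s ((RingHom.mem_ker).mp hs)))
  have hn''prime : (n.map cr).IsPrime := Ideal.map_isPrime_of_surjective hcr hkern
  have hcomap : (n.map cr).comap cr = n := by
    rw [Ideal.comap_map_of_surjective cr hcr]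
    exact sup_eq_left.mpr (by simpa [RingHom.ker] using hkern)
  have hFT'' : Algebra.FiniteType Γ(X, W₀) cA.range := Algebra.FiniteType.of_surjective cr hcr
  have hnp : n.comap (algebraMap Γ(X, W₀) Γ(P, V)) = (hW₀.primeIdealOf ⟨x, hxW₀⟩).asIdeal := by
    rw [hndef]
    exact comap_appLE_primeIdealOf q hW₀ hV hVW z hzV x hxW₀ hzx
  have hcomp : ∀ I : Ideal cA.range, I.comap (algebraMap Γ(X, W₀) cA.range) =
      (I.comap cr).comap (algebraMap Γ(X, W₀) Γ(P, V)) := by
    intro I
    ext a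
    simp only [Ideal.mem_comap]
    rw [cr.commutes]
  have hn'' : (n.map cr).comap (algebraMap Γ(X, W₀) cA.range) =
      (hW₀.primeIdealOf ⟨x, hxW₀⟩).asIdeal := by
    rw [hcomp, hcomap, hnp]
  haveI hQF : Algebra.QuasiFiniteAt Γ(X, W₀) (n.map cr) := by
    refine Algebra.QuasiFiniteAt.of_isOpen_singleton_fiber ⟨n.map cr, hn''prime⟩ ?_
    let Φ : (PrimeSpectrum.comap (algebraMap Γ(X, W₀) cA.range) ⁻¹'
        {PrimeSpectrum.comap (algebraMap Γ(X, W₀) cA.range) ⟨n.map cr, hn''prime⟩}) → P :=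
      fun Q => hV.fromSpec (PrimeSpectrum.comap cr.toRingHom Q.1)
    have hΦc : Continuous Φ :=
      hV.fromSpec.continuous.comp
        ((PrimeSpectrum.continuous_comap cr.toRingHom).comp continuous_subtype_val)
    have hΦinj : Function.Injective Φ := by
      intro Q₁ Q₂ h12
      apply Subtype.ext
      apply PrimeSpectrum.comap_injective_of_surjective cr.toRingHom hcr
      exact hV.fromSpec.isOpenEmbedding.injective h12
    have hΦz : Φ ⟨⟨n.map cr, hn''prime⟩, rfl⟩ = z := by
      have : PrimeSpectrum.comap cr.toRingHom ⟨n.map cr, hn''prime⟩ =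
          hV.primeIdealOf ⟨z, hzV⟩ := by
        apply PrimeSpectrum.ext
        change (n.map cr).comap cr = _
        rw [hcomap, hndef]
      change hV.fromSpec _ = z
      rw [this]
      exact hV.fromSpec_primeIdealOf ⟨z, hzV⟩
    have hset : ({⟨⟨n.map cr, hn''prime⟩, rfl⟩} : Set _) = Φ ⁻¹' (Wiso : Set P) := by
      ext Q
      constructor
      · intro hQ
        rw [Set.mem_singleton_iff] at hQ
        rw [hQ]
        change Φ _ ∈ Wiso
        rw [hΦz]
        exact hzW
      · intro hQ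
        rw [Set.mem_singleton_iff]
        apply hΦinj
        rw [hΦz]
        have hyV : Φ Q ∈ V := by
          have : Φ Q ∈ Set.range hV.fromSpec := ⟨_, rfl⟩
          rwa [hV.range_fromSpec] at this
        have hprime : hV.primeIdealOf ⟨Φ Q, hyV⟩ = PrimeSpectrum.comap cr.toRingHom Q.1 := by
          apply hV.fromSpec.isOpenEmbedding.injective
          rw [hV.fromSpec_primeIdealOf ⟨Φ Q, hyV⟩]
        refine hiso (Φ Q) hyV hQ ?_ ?_
        · -- `q (Φ Q) = x`
          have h1 : q (Φ Q) = hW₀.fromSpec (Spec.map (q.appLE W₀ V hVW)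
              (PrimeSpectrum.comap cr.toRingHom Q.1)) := by
            have h0 := congrArg
              (fun f : Spec Γ(P, V) ⟶ X => f (PrimeSpectrum.comap cr.toRingHom Q.1))
              (IsAffineOpen.SpecMap_appLE_fromSpec q hW₀ hV hVW)
            exact h0.symm
          have h2 : Spec.map (q.appLE W₀ V hVW) (PrimeSpectrum.comap cr.toRingHom Q.1) =
              hW₀.primeIdealOf ⟨x, hxW₀⟩ := by
            apply PrimeSpectrum.ext
            change (Q.1.asIdeal.comap cr).comap (algebraMap Γ(X, W₀) Γ(P, V)) = _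
            rw [← hcomp, ← hn'']
            exact congrArg PrimeSpectrum.asIdeal Q.2
          rw [h1, h2]
          exact hW₀.fromSpec_primeIdealOf ⟨x, hxW₀⟩
        · rw [hprime]
          intro s hs
          change cr s ∈ Q.1.asIdeal
          rw [hkercr' s ((RingHom.mem_ker).mp hs)]
          exact Ideal.zero_mem _
    rw [hset]
    exact Wiso.2.preimage hΦc
  have hfin := mem_range_of_quasiFiniteAt_subalgebra (A := X.presheaf.stalk x)
    (hW₀.primeIdealOf ⟨x, hxW₀⟩).asIdeal cA.range (n.map cr) hn'' (cr t)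
  exact hfin

end Groth.Agent.H22
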