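import Groth.Agent.H17.Chev.DimTotal
import Groth.Agent.H99.FieldDim

/-!
# A proper morphism of irreducible varieties with a zero-dimensional fibre
-/

set_option autoImplicit false
set_option linter.style.haveILetI false
universe u

namespace Groth.Agent.H22.ZeroFibre

open AlgebraicGeometry CategoryTheory TopologicalSpace

/-- the local dimension is at most the dimension -/
lemma localDim_le {T : Type*} [TopologicalSpace T] (t : T) :
    FlatMor.localDim T t ≤ topologicalKrullDim T := by
  unfold FlatMor.localDim
  exact (iInf_le _ (⟨⊤, trivial⟩ : {U : Opens T // t ∈ U})).trans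
    (topologicalKrullDim_subspace_le T _)

lemma fibreDimAt_le {X Y : Scheme.{u}} (f : X ⟶ Y) (x : X) :
    FlatMor.fibreDimAt f x ≤ topologicalKrullDim ↥(f.fiber (f.base x)) :=
  localDim_le _

/-- a space of dimension zero is nonempty -/
lemma nonempty_of_topologicalKrullDim_eq_zero {T : Type*} [TopologicalSpace T]
    (h : topologicalKrullDim T = 0) : Nonempty T := by
  by_contra hne
  rw [not_nonempty_iff] at hne
  have : IsEmpty (IrreducibleCloseds T) := ⟨fun Z => hne.elim Z.isIrreducible'.nonempty.some⟩
  have h2 : topologicalKrullDim T = ⊥ := Order.krullDim_eq_bot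
  rw [h2] at h
  exact absurd h (by simp)

/-- the fibres of `f` and of `f.toImage` over corresponding points have the same dimension -/
lemma topologicalKrullDim_fiber_toImage {X Y : Scheme.{u}} (f : X ⟶ Y) (x : X) :
    topologicalKrullDim ↥(f.toImage.fiber (f.toImage x)) =
      topologicalKrullDim ↥(f.fiber (f x)) := by
  have hset : (f.toImage ⁻¹' {f.toImage x} : Set X) = f ⁻¹' {f x} := by
    ext z
    simp only [Set.mem_preimage, Set.mem_singleton_iff]
    constructor
    · intro h
      have := congrArg f.imageι h
      rwa [← Scheme.Hom.comp_apply, ← Scheme.Hom.comp_apply, f.toImage_imageι] at this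
    · intro h
      apply f.imageι.isClosedEmbedding.injective
      rwa [← Scheme.Hom.comp_apply, ← Scheme.Hom.comp_apply, f.toImage_imageι]
  rw [← (f.toImage.fiberHomeo (f.toImage x)).symm.isHomeomorph.topologicalKrullDim_eq,
    ← (f.fiberHomeo (f x)).symm.isHomeomorph.topologicalKrullDim_eq, hset]

/-- A proper morphism from an irreducible proper variety to an irreducible separated variety of
no larger dimension which has a zero-dimensional fibre is surjective, and the dimensions agree. -/
theorem surjective_and_dim_eq (k : Type u) [Field k] {X Y : Scheme.{u}}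
    (p : X ⟶ Spec (CommRingCat.of k)) (q : Y ⟶ Spec (CommRingCat.of k)) [IsProper p]
    [IsSeparated q] [LocallyOfFiniteType q]
    [IrreducibleSpace X] [IrreducibleSpace Y]
    (hdim : topologicalKrullDim Y ≤ topologicalKrullDim X)
    (f : X ⟶ Y) (hf : f ≫ q = p) (y : Y) (hy : topologicalKrullDim ↥(f.fiber y) = 0) :
    Function.Surjective f ∧ topologicalKrullDim X = topologicalKrullDim Y := by
  have hpf : IsProper (f ≫ q) := hf ▸ inferInstance
  have hfp : IsProper f := IsProper.of_comp f q
  -- the scheme-theoretic image
  have hfac : f.toImage ≫ f.imageι = f := f.toImage_imageι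
  have hdom : IsDominant f.toImage := inferInstance
  have hlft1 : LocallyOfFiniteType (f.toImage ≫ f.imageι) := by rw [hfac]; infer_instance
  have hlft2 : LocallyOfFiniteType f.toImage := locallyOfFiniteType_of_comp f.toImage f.imageι
  have hlft3 : LocallyOfFiniteType (f.imageι ≫ q) := inferInstance
  have hnoeth : IsLocallyNoetherian f.image :=
    LocallyOfFiniteType.isLocallyNoetherian (f.imageι ≫ q)
  have hprop' : IsProper (f.toImage ≫ f.imageι) := by rw [hfac]; exact hfp
  have hprop : IsProper f.toImage := IsProper.of_comp f.toImage f.imageι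
  have hsurj' : Function.Surjective f.toImage :=
    (surjective_of_isDominant_of_isClosed_range f.toImage
      f.toImage.isClosedMap.isClosed_range).surj
  have hirr : IrreducibleSpace f.image := by
    have h1 : IsIrreducible (Set.univ : Set f.image) := by
      rw [← hsurj'.range_eq, ← Set.image_univ]
      exact (IrreducibleSpace.isIrreducible_univ X).image _ f.toImage.continuous.continuousOn
    exact (irreducibleSpace_def _).mpr h1
  -- a point of the fibre
  obtain ⟨t⟩ := nonempty_of_topologicalKrullDim_eq_zero hy
  have hx₀y : f (f.fiberι y t) = y := Groth.Agent.H48.CycFib.map_fiberι f y t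
  generalize f.fiberι y t = x₀ at hx₀y
  subst hx₀y
  -- the generic fibre of `f.toImage` has dimension `≤ 0`
  have h1 := Groth.Agent.H17.Chev.dim_genericFiber_le_fibreDimAt f.toImage x₀
  have h2 := fibreDimAt_le f.toImage x₀
  have h3 := topologicalKrullDim_fiber_toImage f x₀
  have hgen : topologicalKrullDim ↥(f.toImage.fiber (genericPoint f.image)) ≤ 0 :=
    h1.trans (h2.trans (h3.trans hy).le)
  have h5 := Groth.Agent.H17.Chev.topologicalKrullDim_le_add f.toImage
  have h6 : topologicalKrullDim X ≤ topologicalKrullDim f.image := by
    refine h5.trans ?_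
    have := add_le_add_right hgen (topologicalKrullDim f.image)
    rwa [add_zero] at this
  -- the image as a closed irreducible subset
  set ξ := genericPoint X with hξ
  set η := genericPoint Y with hη
  have hrange : Set.range f.imageι = closure {f ξ} := by
    have e1 : Set.range f.imageι = Set.range f := by
      conv_rhs => rw [← hfac]
      rw [Scheme.Hom.comp_base, TopCat.coe_comp, Set.range_comp, hsurj'.range_eq, Set.image_univ]
    rw [e1, ← Set.image_univ, ← (genericPoint_spec X).def,
      ← f.isClosedMap.closure_image_eq_of_continuous f.continuous, Set.image_singleton]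
  have h7 : topologicalKrullDim f.image = topologicalKrullDim ↥(closure ({f ξ} : Set Y)) := by
    rw [← hrange]
    exact f.imageι.isClosedEmbedding.isEmbedding.toHomeomorph.isHomeomorph.topologicalKrullDim_eq
  have h8 := Groth.Agent.H99.FieldDim.topologicalKrullDim_closure q (f ξ)
  have h9 := Groth.Agent.H99.FieldDim.topologicalKrullDim_closure q η
  have h10 : topologicalKrullDim ↥(closure ({η} : Set Y)) = topologicalKrullDim Y := by
    rw [(genericPoint_spec Y).def]
    exact (Homeomorph.Set.univ Y).isHomeomorph.topologicalKrullDim_eq
  have hle : (Groth.Agent.H99.FieldDim.delta q η).toNat ≤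
      (Groth.Agent.H99.FieldDim.delta q (f ξ)).toNat := by
    have : topologicalKrullDim Y ≤ topologicalKrullDim ↥(closure ({f ξ} : Set Y)) :=
      hdim.trans (h6.trans h7.le)
    rw [← h10, h9, h8] at this
    exact_mod_cast this
  have heq : η = f ξ := by
    by_contra hne
    have hsp : η ⤳ f ξ := (genericPoint_spec Y).specializes (Set.mem_univ _)
    have hlt := (Groth.Agent.H99.FieldDim.isDimFun q η (f ξ) hsp hne).1
    have hnn := Groth.Agent.H99.FieldDim.delta_nonneg' q (f ξ)
    omega
  have hrange' : Set.range f = Set.univ := by
    have e1 : Set.range f.imageι = Set.range f := by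
      conv_rhs => rw [← hfac]
      rw [Scheme.Hom.comp_base, TopCat.coe_comp, Set.range_comp, hsurj'.range_eq, Set.image_univ]
    rw [← e1, hrange, ← heq, (genericPoint_spec Y).def]
  refine ⟨Set.range_eq_univ.mp hrange', le_antisymm ?_ hdim⟩
  calc topologicalKrullDim X ≤ topologicalKrullDim f.image := h6
    _ = topologicalKrullDim ↥(closure ({f ξ} : Set Y)) := h7
    _ = topologicalKrullDim ↥(closure ({η} : Set Y)) := by rw [heq]
    _ = topologicalKrullDim Y := h10

end Groth.Agent.H22.ZeroFibre
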